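import Cfsg.Agent.Helper17.Basic

/-!
# Strongly `p`-embedded subgroups exclude normal `p`-subgroups (helper27)
-/

set_option autoImplicit false

namespace Cfsg.Agent.Helper27

open Cfsg

/-- a group with a strongly `p`-embedded subgroup has no nontrivial normal `p`-subgroup -/
theorem spe_no_normal_p {X : Type*} [Group X] [Finite X] {p : ℕ} [Fact p.Prime] {E : Subgroup X}
    (hE : IsStronglyPEmbedded p E) {R : Subgroup X} (hRn : R.Normal) (hR : IsPGroup p R) :
    R = ⊥ := by
  by_contra hne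
  haveI := hRn
  obtain ⟨P, hPE, -, hP⟩ := Cfsg.Agent.Helper17.spe_exists_sylow hE
  obtain ⟨g, hg⟩ := Cfsg.Agent.Helper17.exists_le_cj_sylow hR P
  have h1 : R ≤ P := by
    have h2 := Cfsg.Agent.Helper17.le_cj_iff.mp hg
    rwa [Cfsg.Agent.Helper17.cj_eq_of_normal] at h2
  have h3 := hP R h1 hne
  rw [Subgroup.normalizer_eq_top] at h3
  exact hE.2.1 (top_le_iff.mp h3)

end Cfsg.Agent.Helper27
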