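import Mathlib
import Cfsg.Agent.Helper1.AutP
import Cfsg.Agent.Helper27.FusAutSys
import Cfsg.Agent.Helper27.SpeNormal
import Cfsg.Agent.Helper27.FusAlperin

set_option autoImplicit false

namespace Cfsg.Agent.Helper27

open Cfsg Cfsg.FusionSystem

/-- an endomorphism of `p`-power order sending an element `q` of order `p` into `⟨q⟩` fixes `q` -/
theorem hom_fix_of_mem_zpowers {G : Type*} [Group G] {p : ℕ} [Fact p.Prime] (f : G →* G) {a : ℕ}
    (hf : ∀ x, f^[p ^ a] x = x) {q : G} (hq : q ^ p = 1) (h : f q ∈ Subgroup.zpowers q) :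
    f q = q := by
  have hp := (Fact.out : p.Prime)
  by_cases hq1 : q = 1
  · rw [hq1, map_one]
  obtain ⟨k, hk⟩ := Subgroup.mem_zpowers_iff.mp h
  have hord : orderOf q = p := orderOf_eq_prime hq hq1
  have hind : ∀ m : ℕ, f^[m] q = q ^ (k ^ m) := by
    intro m
    induction m with
    | zero => simp
    | succ m ih =>
      rw [Function.iterate_succ_apply', ih, map_zpow, ← hk, ← zpow_mul, pow_succ']
  have h2 := hind (p ^ a)
  rw [hf] at h2
  have h3 : q ^ (k ^ p ^ a - 1) = 1 := by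
    rw [zpow_sub, zpow_one, ← h2, mul_inv_cancel]
  have h4 : ((orderOf q : ℕ) : ℤ) ∣ k ^ p ^ a - 1 := orderOf_dvd_iff_zpow_eq_one.mpr h3
  rw [hord] at h4
  have h5 : ((k ^ p ^ a - 1 : ℤ) : ZMod p) = 0 := (ZMod.intCast_zmod_eq_zero_iff_dvd _ p).mpr h4
  have h6 : ((k : ℤ) : ZMod p) = 1 := by
    have h7 : ((k : ℤ) : ZMod p) ^ p ^ a = ((k : ℤ) : ZMod p) := ZMod.pow_card_pow _
    push_cast at h5
    rw [h7] at h5
    exact sub_eq_zero.mp h5
  have h8 : (p : ℤ) ∣ k - 1 := by
    rw [← ZMod.intCast_zmod_eq_zero_iff_dvd]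
    push_cast
    rw [h6, sub_self]
  have h9 : q ^ (k - 1) = 1 := by
    apply orderOf_dvd_iff_zpow_eq_one.mp
    rw [hord]
    exact h8
  rw [← hk]
  have h10 : q ^ k = q ^ (k - 1) * q := by
    rw [← zpow_add_one]
    congr 1
    ring
  rw [h10, h9, one_mul]

/-- an automorphism of `p`-power order acts trivially on an invariant factor of order `p` -/
theorem aut_trivial_on_factor {H : Type*} [Group H] {p : ℕ} [Fact p.Prime] (u : MulAut H)
    {a : ℕ} (hu : u ^ p ^ a = 1) (K L : Subgroup H) (hKL : K ≤ L)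
    (hKn : ∀ l ∈ L, ∀ k ∈ K, l * k * l⁻¹ ∈ K) (huK : ∀ x ∈ K, u x ∈ K) (huL : ∀ x ∈ L, u x ∈ L)
    (hidx : K.relIndex L ∣ p) : ∀ x ∈ L, x⁻¹ * u x ∈ K := by
  have hp := (Fact.out : p.Prime)
  rcases (Nat.dvd_prime hp).mp hidx with h1 | h1
  · intro x hx
    have hLK : L ≤ K := Subgroup.relIndex_eq_one.mp h1
    exact K.mul_mem (K.inv_mem (hLK hx)) (huK x (hLK hx))
  · haveI hN : (K.subgroupOf L).Normal := by
      constructor
      intro n hn g
      rw [Subgroup.mem_subgroupOf] at hn ⊢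
      exact hKn g g.2 n hn
    have hcard : Nat.card (L ⧸ K.subgroupOf L) = p := by
      rw [← Subgroup.index_eq_card]
      exact h1
    let uL : L →* L :=
      { toFun := fun x => ⟨u x, huL x x.2⟩
        map_one' := Subtype.ext (map_one u)
        map_mul' := fun x y => Subtype.ext (map_mul u (x : H) (y : H)) }
    have hcomap : K.subgroupOf L ≤ (K.subgroupOf L).comap uL := by
      intro x hx
      rw [Subgroup.mem_comap, Subgroup.mem_subgroupOf]
      rw [Subgroup.mem_subgroupOf] at hx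
      exact huK x hx
    obtain ⟨ū, hū⟩ : ∃ ū : (L ⧸ K.subgroupOf L) →* (L ⧸ K.subgroupOf L),
        ū = QuotientGroup.map (K.subgroupOf L) (K.subgroupOf L) uL hcomap := ⟨_, rfl⟩
    have hūmk : ∀ x : L, ū (QuotientGroup.mk x) = QuotientGroup.mk (uL x) := by
      intro x
      rw [hū]
      rfl
    have hiter : ∀ (m : ℕ) (x : L), ū^[m] (QuotientGroup.mk x) =
        QuotientGroup.mk (⟨(u ^ m) x, by
          have hm : ∀ m : ℕ, ∀ y ∈ L, (u ^ m) y ∈ L := by
            intro m
            induction m with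
            | zero => intro y hy; simpa using hy
            | succ m ih =>
              intro y hy
              rw [pow_succ', MulAut.mul_apply]
              exact huL _ (ih y hy)
          exact hm m x x.2⟩ : L) := by
      intro m
      induction m with
      | zero => intro x; rfl
      | succ m ih =>
        intro x
        rw [Function.iterate_succ_apply', ih, hūmk]
        congr 1
        apply Subtype.ext
        show u ((u ^ m) x) = (u ^ (m + 1)) x
        rw [pow_succ', MulAut.mul_apply]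
    have hfix : ∀ q : L ⧸ K.subgroupOf L, ū^[p ^ a] q = q := by
      intro q
      induction q using QuotientGroup.induction_on with
      | H x =>
        rw [hiter]
        congr 1
        apply Subtype.ext
        show (u ^ p ^ a) x = x
        rw [hu]
        rfl
    intro x hx
    have hq : (QuotientGroup.mk (⟨x, hx⟩ : L) : L ⧸ K.subgroupOf L) ^ p = 1 := by
      rw [← hcard]
      exact pow_card_eq_one'
    have hmem : ū (QuotientGroup.mk (⟨x, hx⟩ : L)) ∈
        Subgroup.zpowers (QuotientGroup.mk (⟨x, hx⟩ : L) : L ⧸ K.subgroupOf L) := by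
      by_cases hx1 : (QuotientGroup.mk (⟨x, hx⟩ : L) : L ⧸ K.subgroupOf L) = 1
      · rw [hx1, map_one]
        exact Subgroup.one_mem _
      · exact mem_zpowers_of_prime_card hcard hx1
    have h2 := hom_fix_of_mem_zpowers ū hfix hq hmem
    rw [hūmk] at h2
    have h3 := QuotientGroup.eq.mp h2.symm
    rw [Subgroup.mem_subgroupOf] at h3
    exact h3

/-- a `p'`-automorphism stabilizing a chain of subgroups of a `p`-group is trivial -/
theorem aut_eq_one_of_chain {G : Type*} [Group G] [Finite G] {p : ℕ} (hG : IsPGroup p G)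
    (α : MulAut G) (hα : (orderOf α).Coprime p) (n : ℕ) (D : ℕ → Subgroup G) (h0 : D 0 = ⊥)
    (hn : D n = ⊤) (hinv : ∀ i, ∀ x ∈ D i, α x ∈ D i)
    (hstab : ∀ i, ∀ x ∈ D (i + 1), x⁻¹ * α x ∈ D i) : α = 1 := by
  have hstep : ∀ W : Subgroup G, (∀ x ∈ W, α x ∈ W) →
      (∀ x ∈ W, α (x⁻¹ * α x) = x⁻¹ * α x) → ∀ x ∈ W, α x = x := by
    intro W hinvW hfix x hx
    have h1 := Helper1.aut_eq_one_of_fixes (hG.to_subgroup W) (Helper1.restrictAut α W hinvW)
      (Helper1.restrictAut_coprime α W hinvW hα) (fun y => Subtype.ext (by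
        rw [Helper1.restrictAut_apply]
        exact hfix y y.2))
    have h4 := Helper1.restrictAut_apply α W hinvW ⟨x, hx⟩
    rw [h1] at h4
    exact h4.symm
  have key : ∀ i, ∀ x ∈ D i, α x = x := by
    intro i
    induction i with
    | zero =>
      intro x hx
      rw [h0, Subgroup.mem_bot] at hx
      rw [hx, map_one]
    | succ i ih =>
      intro x hx
      exact hstep (D (i + 1)) (hinv (i + 1)) (fun y hy => ih _ (hstab i y hy)) x hx
  ext x
  exact key n x (by rw [hn]; exact Subgroup.mem_top x)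

variable {Ω : Type*} [Group Ω] {S : Subgroup Ω}

/-- the stabilizer in `Aut_F(H)` of a chain -/
def chainStab (F : FusionSystem S) (H : Subgroup Ω) (D : ℕ → Subgroup H)
    (hinv : ∀ i, ∀ α ∈ F.autGroup H, ∀ x ∈ D i, α x ∈ D i) : Subgroup (MulAut H) where
  carrier := {α | α ∈ F.autGroup H ∧ ∀ i, ∀ x ∈ D (i + 1), x⁻¹ * α x ∈ D i}
  one_mem' := by
    refine ⟨one_mem _, fun i x _ => ?_⟩
    show x⁻¹ * x ∈ D i
    rw [inv_mul_cancel]
    exact (D i).one_mem
  mul_mem' := by
    rintro α β ⟨hα, hα'⟩ ⟨hβ, hβ'⟩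
    refine ⟨mul_mem hα hβ, fun i x hx => ?_⟩
    have e : x⁻¹ * (α * β) x = (x⁻¹ * α x) * α (x⁻¹ * β x) := by
      rw [MulAut.mul_apply, map_mul, map_inv]
      group
    rw [e]
    exact (D i).mul_mem (hα' i x hx) (hinv i α hα _ (hβ' i x hx))
  inv_mem' := by
    rintro α ⟨hα, hα'⟩
    refine ⟨inv_mem hα, fun i x hx => ?_⟩
    have e : x⁻¹ * α⁻¹ x = ((α⁻¹ x)⁻¹ * α (α⁻¹ x))⁻¹ := by
      rw [MulAut.apply_inv_self]
      group
    rw [e]
    exact (D i).inv_mem (hα' i _ (hinv (i + 1) α⁻¹ (inv_mem hα) x hx))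

/-- an essential subgroup has no chain of `Aut_F`-invariant subgroups with factors of order dividing `p` -/
theorem essential_no_chain [Finite S] {p : ℕ} [Fact p.Prime] (hS : IsPGroup p S)
    {F : FusionSystem S} {H : Subgroup Ω} (hH : F.IsEssential p H) (n : ℕ) (D : ℕ → Subgroup H)
    (h0 : D 0 = ⊥) (hn : D n = ⊤) (hmono : ∀ i, D i ≤ D (i + 1))
    (hnorm : ∀ i, ∀ l ∈ D (i + 1), ∀ k ∈ D i, l * k * l⁻¹ ∈ D i)
    (hinv : ∀ i, ∀ α ∈ F.autGroup H, ∀ x ∈ D i, α x ∈ D i)
    (hidx : ∀ i, (D i).relIndex (D (i + 1)) ∣ p) : False := by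
  obtain ⟨hc, hfn, hnormal, E, hE⟩ := hH
  have hHS : H ≤ S := hfn.1
  haveI : Finite H := finite_of_le hHS
  have hHp : IsPGroup p H := hS.to_le hHS
  obtain ⟨N, hN⟩ : ∃ N, N = chainStab F H D hinv := ⟨_, rfl⟩
  have hNn : (N.subgroupOf (F.autGroup H)).Normal := by
    constructor
    intro k hk a
    rw [Subgroup.mem_subgroupOf, hN] at hk ⊢
    obtain ⟨hA, hk'⟩ := hk
    refine ⟨(a * k * a⁻¹).2, fun i x hx => ?_⟩
    have e : x⁻¹ * ((a : MulAut H) ((k : MulAut H) ((a : MulAut H)⁻¹ x))) =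
        (a : MulAut H) (((a : MulAut H)⁻¹ x)⁻¹ * (k : MulAut H) ((a : MulAut H)⁻¹ x)) := by
      rw [map_mul, map_inv, MulAut.apply_inv_self]
    show x⁻¹ * ((a : MulAut H) ((k : MulAut H) ((a : MulAut H)⁻¹ x))) ∈ D i
    rw [e]
    exact hinv i _ a.2 _ (hk' i _ (hinv (i + 1) _ (inv_mem a.2) x hx))
  have hNp : IsPGroup p (N.subgroupOf (F.autGroup H)) := by
    apply isPGroup_of_coprime_trivial p
    intro g hg
    obtain ⟨γ, hγ⟩ : ∃ γ : MulAut H, γ = ((g : F.autGroup H) : MulAut H) := ⟨_, rfl⟩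
    have hγN : γ ∈ N := by rw [hγ]; exact Subgroup.mem_subgroupOf.mp g.2
    rw [hN] at hγN
    obtain ⟨hγA, hγ'⟩ := hγN
    have hord : orderOf γ = orderOf g := by
      rw [hγ, Subgroup.orderOf_coe, Subgroup.orderOf_coe]
    have hcop : Nat.Coprime (orderOf γ) p := by rw [hord]; exact hg
    have hγ1 : γ = 1 :=
      aut_eq_one_of_chain hHp γ hcop n D h0 hn (fun i x hx => hinv i γ hγA x hx) hγ'
    apply Subtype.ext
    apply Subtype.ext
    rw [← hγ, hγ1]
    rfl
  haveI := hnormal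
  have h1 : (N.subgroupOf (F.autGroup H)).map
      (QuotientGroup.mk' ((Inn H).subgroupOf (F.autGroup H))) = ⊥ :=
    spe_no_normal_p hE (hNn.map _ (QuotientGroup.mk'_surjective _)) (hNp.map _)
  have h2 : N.subgroupOf (F.autGroup H) ≤ (Inn H).subgroupOf (F.autGroup H) := by
    have h3 := (Subgroup.map_eq_bot_iff _).mp h1
    rwa [QuotientGroup.ker_mk'] at h3
  obtain ⟨P⟩ : Nonempty (Sylow p (F.autGroup H)) := inferInstance
  have hPN : (P : Subgroup (F.autGroup H)) ≤ N.subgroupOf (F.autGroup H) := by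
    intro u hu
    rw [Subgroup.mem_subgroupOf, hN]
    refine ⟨u.2, fun i x hx => ?_⟩
    obtain ⟨a, ha⟩ := P.isPGroup' ⟨u, hu⟩
    have ha' : (u : MulAut H) ^ p ^ a = 1 := by
      have h4 := congrArg (fun t : (P : Subgroup (F.autGroup H)) => ((t : F.autGroup H) : MulAut H)) ha
      simpa using h4
    exact aut_trivial_on_factor (u : MulAut H) ha' (D i) (D (i + 1)) (hmono i) (hnorm i)
      (fun y hy => hinv i _ u.2 y hy) (fun y hy => hinv (i + 1) _ u.2 y hy) (hidx i) x hx
  have h5 : ((Inn H).subgroupOf (F.autGroup H)).index ∣ (P : Subgroup (F.autGroup H)).index :=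
    Subgroup.index_dvd_of_le (hPN.trans h2)
  have h6 : p ∣ ((Inn H).subgroupOf (F.autGroup H)).index := by
    rw [Subgroup.index_eq_card]
    exact hE.1
  exact P.not_dvd_index (h6.trans h5)

end Cfsg.Agent.Helper27
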