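import Mathlib
import Cfsg.Agent.S0012
import Cfsg.Agent.Helper1.AutP
import Cfsg.Agent.Helper27.EssChain

set_option autoImplicit false

namespace Cfsg.Agent.Helper27

open Cfsg

section burnside

variable {G : Type*} [Group G] [Finite G]

theorem frattini_aut_mem_gen (α : MulAut G) {x : G} (hx : x ∈ frattini G) : α x ∈ frattini G := by
  have h1 := Subgroup.characteristic_iff_map_le.mp (frattini_characteristic (G := G)) α
  exact h1 (Subgroup.mem_map_of_mem _ hx)

theorem pow_stab_frattini (α : MulAut G) (h : ∀ x : G, x⁻¹ * α x ∈ frattini G) (i : ℕ) (x : G) :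
    x⁻¹ * (α ^ i) x ∈ frattini G := by
  induction i with
  | zero => simp
  | succ i ih =>
    have e : x⁻¹ * (α ^ (i + 1)) x = (x⁻¹ * α x) * α (x⁻¹ * (α ^ i) x) := by
      rw [pow_succ', MulAut.mul_apply, map_mul, map_inv]
      group
    rw [e]
    exact Subgroup.mul_mem _ (h x) (frattini_aut_mem_gen α ih)

theorem end_pow_apply {X : Type*} (f : Function.End X) (k : ℕ) (x : X) : (f ^ k) x = f^[k] x :=
  rfl

theorem aut_iterate_apply {H : Type*} [Group H] (t : MulAut H) (k : ℕ) (x : H) :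
    (⇑t)^[k] x = (t ^ k) x := by
  induction k generalizing x with
  | zero => rfl
  | succ k ih =>
    rw [Function.iterate_succ_apply, ih, pow_succ, MulAut.mul_apply]

/-- Burnside's theorem for an automorphism of prime order `q ≠ p` -/
theorem burnside_prime {p q : ℕ} [Fact p.Prime] [Fact q.Prime] (hqp : q ≠ p) (hG : IsPGroup p G)
    (α : MulAut G) (hα : α ^ q = 1) (h : ∀ x : G, x⁻¹ * α x ∈ frattini G) : α = 1 := by
  classical
  have hC : MonoidHom.eqLocus α.toMonoidHom (MonoidHom.id G) ⊔ frattini G = ⊤ := by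
    rw [eq_top_iff]
    intro x _
    obtain ⟨X, hX⟩ : ∃ X : Set G, X = {y : G | x⁻¹ * y ∈ frattini G} := ⟨_, rfl⟩
    have hXm : ∀ y : G, y ∈ X ↔ x⁻¹ * y ∈ frattini G := by
      intro y; rw [hX]; rfl
    have : Fintype X := Fintype.ofFinite X
    let f : Function.End X := fun y => ⟨α y.1, by
      rw [hXm]
      have e : x⁻¹ * α y.1 = (x⁻¹ * y.1) * (y.1⁻¹ * α y.1) := by group
      rw [e]
      exact Subgroup.mul_mem _ ((hXm _).mp y.2) (h y.1)⟩
    have hfk : ∀ (k : ℕ) (y : X), ((f ^ k) y).1 = (α ^ k) y.1 := by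
      intro k
      induction k with
      | zero => intro y; rfl
      | succ k ih =>
        intro y
        rw [pow_succ', pow_succ', MulAut.mul_apply, ← ih]
        rfl
    have hf : f ^ q ^ 1 = 1 := by
      rw [pow_one]
      funext y
      apply Subtype.ext
      rw [hfk, hα]
      rfl
    have hmod := Equiv.Perm.card_fixedPoints_modEq (p := q) (n := 1) hf
    rw [← Nat.card_eq_fintype_card, ← Nat.card_eq_fintype_card] at hmod
    have hcard : Nat.card X = Nat.card (frattini G) := by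
      exact Nat.card_congr
        { toFun := fun y => ⟨x⁻¹ * y.1, (hXm _).mp y.2⟩
          invFun := fun z => ⟨x * z.1, by rw [hXm, inv_mul_cancel_left]; exact z.2⟩
          left_inv := fun y => by apply Subtype.ext; simp
          right_inv := fun z => by apply Subtype.ext; simp }
    obtain ⟨k, hk⟩ := (hG.to_subgroup (frattini G)).exists_card_eq
    have hne : (Function.fixedPoints f).Nonempty := by
      by_contra hemp
      rw [Set.not_nonempty_iff_eq_empty] at hemp
      have h0 : Nat.card (Function.fixedPoints f) = 0 :=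
        Nat.card_eq_zero.mpr (Or.inl ⟨fun ⟨z, hz⟩ => by
          rw [hemp] at hz
          exact hz⟩)
      rw [h0, hcard, hk] at hmod
      have h1 : q ∣ p ^ k := (Nat.modEq_zero_iff_dvd).mp hmod
      have h2 := (Nat.prime_dvd_prime_iff_eq (Fact.out : q.Prime) (Fact.out : p.Prime)).mp
        ((Fact.out : q.Prime).dvd_of_dvd_pow h1)
      exact hqp h2
    obtain ⟨y, hy⟩ := hne
    have hy' : α y.1 = y.1 := congrArg Subtype.val hy
    have e : x = y.1 * (x⁻¹ * y.1)⁻¹ := by group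
    rw [e]
    exact Subgroup.mul_mem _ (Subgroup.mem_sup_left hy')
      (Subgroup.mem_sup_right (Subgroup.inv_mem _ ((hXm _).mp y.2)))
  have hC' := frattini_nongenerating hC
  ext x
  have h1 : x ∈ MonoidHom.eqLocus α.toMonoidHom (MonoidHom.id G) := by
    rw [hC']; exact Subgroup.mem_top x
  exact h1

/-- Burnside: a `p'`-automorphism of a finite `p`-group acting trivially on the Frattini quotient is trivial -/
theorem burnside_frattini {p : ℕ} [Fact p.Prime] (hG : IsPGroup p G) (α : MulAut G)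
    (hα : (orderOf α).Coprime p) (h : ∀ x : G, x⁻¹ * α x ∈ frattini G) : α = 1 := by
  by_contra hne
  have hord : orderOf α ≠ 1 := fun h1 => hne (orderOf_eq_one_iff.mp h1)
  obtain ⟨q, hq, hqd⟩ := Nat.exists_prime_and_dvd hord
  have : Fact q.Prime := ⟨hq⟩
  have hqp : q ≠ p := by
    rintro rfl
    exact (Nat.Prime.coprime_iff_not_dvd hq).mp hα.symm hqd
  obtain ⟨m, hm⟩ := hqd
  have hβ : (α ^ m) ^ q = 1 := by rw [← pow_mul, mul_comm, ← hm, pow_orderOf_eq_one]
  have h1 := burnside_prime hqp hG (α ^ m) hβ (fun x => pow_stab_frattini α h m x)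
  have h2 : orderOf α ∣ m := orderOf_dvd_of_pow_eq_one h1
  rw [hm] at h2
  have hm0 : m ≠ 0 := by
    rintro rfl
    rw [mul_zero] at hm
    exact (orderOf_pos α).ne' hm
  have h3 : q * m ≤ m := Nat.le_of_dvd (Nat.pos_of_ne_zero hm0) h2
  nlinarith [hq.two_le, Nat.pos_of_ne_zero hm0]

end burnside

/-- the action of automorphisms on the Frattini quotient -/
noncomputable def frattiniAct (Q : Type*) [Group Q] : MulAut Q →* MulAut (Q ⧸ frattini Q) where
  toFun e := QuotientGroup.congr (frattini Q) (frattini Q) e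
    (Subgroup.characteristic_iff_map_eq.mp (frattini_characteristic (G := Q)) e)
  map_one' := by
    ext x
    induction x using QuotientGroup.induction_on with
    | H x => rfl
  map_mul' a b := by
    ext x
    induction x using QuotientGroup.induction_on with
    | H x => rfl

theorem frattiniAct_mk (Q : Type*) [Group Q] (e : MulAut Q) (x : Q) :
    frattiniAct Q e (x : Q ⧸ frattini Q) = ((e x : Q) : Q ⧸ frattini Q) := rfl

section plane

variable {V : Type*} [Group V] [Finite V] {p : ℕ} [Fact p.Prime]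

theorem comm_of_card_dvd_sq (hV : Nat.card V ∣ p ^ 2) (a b : V) : a * b = b * a := by
  have hp := (Fact.out : p.Prime)
  obtain ⟨k, hk, hc⟩ := (Nat.dvd_prime_pow hp).mp hV
  interval_cases k
  · rw [pow_zero] at hc
    have := (Nat.card_eq_one_iff_unique.mp hc).1
    exact Subsingleton.elim _ _
  · rw [pow_one] at hc
    have := isCyclic_of_prime_card hc
    let _ := IsCyclic.commGroup (α := V)
    exact mul_comm a b
  · exact IsPGroup.commutative_of_card_eq_prime_sq hc a b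

/-- a nontrivial automorphism of `p`-power order of a group of order dividing `p²` has exactly `p` fixed points -/
theorem fix_card (hV : Nat.card V ∣ p ^ 2) (t : MulAut V) {n : ℕ} (ht : t ^ p ^ n = 1) (h1 : t ≠ 1) :
    Nat.card (MonoidHom.eqLocus t.toMonoidHom (MonoidHom.id V)) = p ∧ Nat.card V = p ^ 2 := by
  classical
  have hp := (Fact.out : p.Prime)
  obtain ⟨ℓ, hℓ⟩ : ∃ ℓ : Subgroup V, ℓ = MonoidHom.eqLocus t.toMonoidHom (MonoidHom.id V) := ⟨_, rfl⟩
  have hℓm : ∀ x : V, x ∈ ℓ ↔ t x = x := by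
    intro x; rw [hℓ]; rfl
  rw [← hℓ]
  have hℓne : ℓ ≠ ⊤ := by
    intro h
    apply h1
    ext x
    exact (hℓm x).mp (by rw [h]; exact Subgroup.mem_top x)
  have : Fintype V := Fintype.ofFinite V
  obtain ⟨f, hf⟩ : ∃ f : Function.End V, f = ⇑t := ⟨_, rfl⟩
  have hfp : f ^ p ^ n = 1 := by
    funext x
    rw [end_pow_apply, hf, aut_iterate_apply, ht]
    rfl
  have hmod := Equiv.Perm.card_fixedPoints_modEq (p := p) (n := n) hfp
  rw [← Nat.card_eq_fintype_card, ← Nat.card_eq_fintype_card] at hmod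
  have hcard : Nat.card (Function.fixedPoints f) = Nat.card ℓ := by
    apply Nat.card_congr
    refine Equiv.subtypeEquivRight (fun x => ?_)
    rw [hℓm, hf]
    rfl
  rw [hcard] at hmod
  obtain ⟨k, hk, hc⟩ := (Nat.dvd_prime_pow hp).mp hV
  obtain ⟨j, hj, hcj⟩ := (Nat.dvd_prime_pow hp).mp ((Subgroup.card_subgroup_dvd_card ℓ).trans hV)
  have hjk : j < k := by
    have h2 : Nat.card ℓ ≤ Nat.card V := Subgroup.card_le_card_group ℓ
    rw [hc, hcj] at h2
    have h3 : j ≤ k := (Nat.pow_le_pow_iff_right hp.one_lt).mp h2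
    rcases Nat.lt_or_eq_of_le h3 with h4 | h4
    · exact h4
    · exfalso
      apply hℓne
      apply Subgroup.eq_top_of_card_eq
      rw [hc, hcj, h4]
  have hj1 : 1 ≤ j := by
    by_contra hj0
    have hj0' : j = 0 := by omega
    rw [hc, hcj, hj0', pow_zero] at hmod
    have h5 : p ∣ p ^ k := dvd_pow_self p (by omega)
    have h6 : (p ^ k) % p = 0 := Nat.mod_eq_zero_of_dvd h5
    unfold Nat.ModEq at hmod
    rw [h6, Nat.mod_eq_of_lt hp.one_lt] at hmod
    exact absurd hmod (by norm_num)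
  have hj' : j = 1 := by omega
  have hk' : k = 2 := by omega
  rw [hcj, hj', pow_one, hc, hk']
  exact ⟨rfl, rfl⟩

/-- a `p`-automorphism of a group of order dividing `p²` is unipotent of class two -/
theorem fix_sq (hV : Nat.card V ∣ p ^ 2) (t : MulAut V) {n : ℕ} (ht : t ^ p ^ n = 1) (v : V) :
    t (v⁻¹ * t v) = v⁻¹ * t v := by
  have hp := (Fact.out : p.Prime)
  by_cases h1 : t = 1
  · rw [h1]; rfl
  obtain ⟨hc1, hc2⟩ := fix_card hV t ht h1
  obtain ⟨ℓ, hℓ⟩ : ∃ ℓ : Subgroup V, ℓ = MonoidHom.eqLocus t.toMonoidHom (MonoidHom.id V) := ⟨_, rfl⟩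
  have hℓm : ∀ x : V, x ∈ ℓ ↔ t x = x := by
    intro x; rw [hℓ]; rfl
  rw [← hℓ] at hc1
  have hcomm := comm_of_card_dvd_sq hV
  have hidx : ℓ.relIndex ⊤ ∣ p := by
    rw [Subgroup.relIndex_top_right]
    have h2 := Subgroup.card_mul_index ℓ
    rw [hc1, hc2, pow_two] at h2
    have h3 : ℓ.index = p := Nat.eq_of_mul_eq_mul_left hp.pos h2
    rw [h3]
  have h4 := aut_trivial_on_factor t ht ℓ ⊤ le_top
    (fun l _ k hk => by rw [hcomm l k, mul_inv_cancel_right]; exact hk)
    (fun x hx => by rw [hℓm] at hx ⊢; rw [hx, hx])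
    (fun x _ => Subgroup.mem_top _) hidx v (Subgroup.mem_top v)
  exact (hℓm _).mp h4

/-- two `p`-automorphisms of a plane with different axes generate an element inverting the plane -/
theorem exists_inverting_word (hV : Nat.card V ∣ p ^ 2) (hexp : ∀ v : V, v ^ p = 1) (t g : MulAut V)
    {n : ℕ} (ht : t ^ p ^ n = 1) (v : V) (hv : t v = v) (hgv : t (g v) ≠ g v) :
    ∃ j : ℕ, ∀ u : V, ((t * (g * t * g⁻¹) ^ j * t) ^ 2) u = u⁻¹ := by
  have hp := (Fact.out : p.Prime)
  have hcomm := comm_of_card_dvd_sq hV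
  obtain ⟨t', ht'def⟩ : ∃ t' : MulAut V, t' = g * t * g⁻¹ := ⟨_, rfl⟩
  have ht' : t' ^ p ^ n = 1 := by
    rw [ht'def, conj_pow, ht, mul_one, mul_inv_cancel]
  obtain ⟨e₂, he₂⟩ : ∃ e₂ : V, e₂ = g v := ⟨_, rfl⟩
  rw [← he₂] at hgv
  have ht1 : t ≠ 1 := by
    rintro rfl
    exact hgv rfl
  have ht'1 : t' ≠ 1 := by
    intro h
    apply ht1
    rw [ht'def] at h
    have h2 : t = g⁻¹ * (g * t * g⁻¹) * g := by group
    rw [h2, h]
    group
  have ht'e₂ : t' e₂ = e₂ := by
    rw [ht'def, he₂]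
    show g (t (g⁻¹ (g v))) = g v
    rw [MulAut.inv_apply_self, hv]
  have he₂1 : e₂ ≠ 1 := by
    rintro rfl
    exact hgv (map_one t)
  obtain ⟨e₁, he₁⟩ : ∃ e₁ : V, e₁ = e₂⁻¹ * t e₂ := ⟨_, rfl⟩
  have hte₁ : t e₁ = e₁ := by rw [he₁]; exact fix_sq hV t ht e₂
  have hte₂ : t e₂ = e₂ * e₁ := by rw [he₁, mul_inv_cancel_left]
  have he₁1 : e₁ ≠ 1 := by
    intro h
    rw [h, mul_one] at hte₂
    exact hgv hte₂
  -- fixed subgroups
  obtain ⟨hc1, hc2⟩ := fix_card hV t ht ht1
  obtain ⟨hc1', -⟩ := fix_card hV t' ht' ht'1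
  have hord : ∀ e : V, e ≠ 1 → Nat.card (Subgroup.zpowers e) = p := by
    intro e he
    rw [Nat.card_zpowers]
    exact orderOf_eq_prime (hexp e) he
  have hℓ : MonoidHom.eqLocus t.toMonoidHom (MonoidHom.id V) = Subgroup.zpowers e₁ := by
    symm
    apply Subgroup.eq_of_le_of_card_ge
    · rw [Subgroup.zpowers_le]
      exact hte₁
    · rw [hc1, hord e₁ he₁1]
  have hℓ' : MonoidHom.eqLocus t'.toMonoidHom (MonoidHom.id V) = Subgroup.zpowers e₂ := by
    symm
    apply Subgroup.eq_of_le_of_card_ge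
    · rw [Subgroup.zpowers_le]
      exact ht'e₂
    · rw [hc1', hord e₂ he₂1]
  have hiter : ∀ x : V, (⇑t.toMonoidHom)^[p ^ n] x = x := by
    intro x
    have h1 := aut_iterate_apply t (p ^ n) x
    rw [ht] at h1
    exact h1
  have ht'e₁ : t' e₁ ≠ e₁ := by
    intro h
    have h1 : e₁ ∈ MonoidHom.eqLocus t'.toMonoidHom (MonoidHom.id V) := h
    rw [hℓ'] at h1
    have h2 : t e₂ ∈ Subgroup.zpowers e₂ := by
      rw [hte₂]
      exact Subgroup.mul_mem _ (Subgroup.mem_zpowers e₂) h1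
    exact hgv (hom_fix_of_mem_zpowers t.toMonoidHom hiter (hexp e₂) h2)
  obtain ⟨n₁, hn₁⟩ : ∃ n₁ : V, n₁ = e₁⁻¹ * t' e₁ := ⟨_, rfl⟩
  have ht'n₁ : t' n₁ = n₁ := by rw [hn₁]; exact fix_sq hV t' ht' e₁
  have ht'e₁' : t' e₁ = e₁ * n₁ := by rw [hn₁, mul_inv_cancel_left]
  have hn₁1 : n₁ ≠ 1 := by
    intro h
    rw [h, mul_one] at ht'e₁'
    exact ht'e₁ ht'e₁'
  have hn₁mem : n₁ ∈ Subgroup.zpowers e₂ := by
    rw [← hℓ']
    exact ht'n₁
  rw [← mem_powers_iff_mem_zpowers] at hn₁mem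
  obtain ⟨b, hb⟩ := hn₁mem
  have hb' : e₂ ^ b = n₁ := hb
  have hpb : ¬ p ∣ b := by
    rintro ⟨c, rfl⟩
    rw [pow_mul, hexp, one_pow] at hb'
    exact hn₁1 hb'.symm
  have hcop : Nat.Coprime b p := ((Nat.Prime.coprime_iff_not_dvd hp).mpr hpb).symm
  obtain ⟨j₀, -, hj₀⟩ := Nat.exists_mul_mod_eq_one_of_coprime hcop hp.one_lt
  have hpowmod : ∀ m : ℕ, e₂ ^ m = e₂ ^ (m % p) := by
    intro m
    conv_lhs => rw [← Nat.mod_add_div m p, pow_add, pow_mul, hexp, one_pow, mul_one]
  have hkey : n₁ ^ (j₀ * (p - 1)) = e₂⁻¹ := by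
    rw [← hb', ← pow_mul, ← mul_assoc, pow_mul, hpowmod (b * j₀), hj₀, pow_one]
    apply eq_inv_of_mul_eq_one_left
    rw [← pow_succ, Nat.sub_add_cancel hp.one_lt.le, hexp]
  have hpow1 : ∀ k : ℕ, (t' ^ k) e₁ = e₁ * n₁ ^ k := by
    intro k
    induction k with
    | zero => simp
    | succ k ih =>
      rw [pow_succ', MulAut.mul_apply, ih, map_mul, map_pow, ht'n₁, ht'e₁', pow_succ', mul_assoc]
  have hpow2 : ∀ k : ℕ, (t' ^ k) e₂ = e₂ := by
    intro k
    induction k with
    | zero => simp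
    | succ k ih => rw [pow_succ', MulAut.mul_apply, ih, ht'e₂]
  refine ⟨j₀ * (p - 1), ?_⟩
  rw [← ht'def]
  obtain ⟨w₀, hw₀⟩ : ∃ w₀ : MulAut V, w₀ = t * t' ^ (j₀ * (p - 1)) * t := ⟨_, rfl⟩
  rw [← hw₀]
  have hw₀e₁ : w₀ e₁ = e₂⁻¹ := by
    rw [hw₀]
    show t ((t' ^ (j₀ * (p - 1))) (t e₁)) = e₂⁻¹
    rw [hte₁, hpow1, hkey, map_mul, map_inv, hte₁, hte₂, mul_inv_rev, mul_inv_cancel_left]
  have hw₀e₂ : w₀ e₂ = e₁ := by
    rw [hw₀]
    show t ((t' ^ (j₀ * (p - 1))) (t e₂)) = e₁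
    rw [hte₂, map_mul, hpow2, hpow1, hkey, hcomm e₁, ← mul_assoc, mul_inv_cancel, one_mul, hte₁]
  let W : Subgroup V :=
    { carrier := {u | (w₀ ^ 2) u = u⁻¹}
      one_mem' := by simp
      mul_mem' := by
        intro a b ha hb
        show (w₀ ^ 2) (a * b) = (a * b)⁻¹
        have ha' : (w₀ ^ 2) a = a⁻¹ := ha
        have hb' : (w₀ ^ 2) b = b⁻¹ := hb
        rw [map_mul, ha', hb', mul_inv_rev, hcomm]
      inv_mem' := by
        intro a ha
        show (w₀ ^ 2) a⁻¹ = a⁻¹⁻¹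
        have ha' : (w₀ ^ 2) a = a⁻¹ := ha
        rw [map_inv, ha'] }
  have hWe₁ : e₁ ∈ W := by
    show (w₀ ^ 2) e₁ = e₁⁻¹
    rw [pow_two, MulAut.mul_apply, hw₀e₁, map_inv, hw₀e₂]
  have hWe₂ : e₂ ∈ W := by
    show (w₀ ^ 2) e₂ = e₂⁻¹
    rw [pow_two, MulAut.mul_apply, hw₀e₂, hw₀e₁]
  have hWtop : W = ⊤ := by
    have hle : Subgroup.zpowers e₁ ≤ W := by
      rw [Subgroup.zpowers_le]; exact hWe₁
    obtain ⟨k, hk, hc⟩ := (Nat.dvd_prime_pow hp).mp ((Subgroup.card_subgroup_dvd_card W).trans hV)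
    have h1 : p ≤ Nat.card W := by
      rw [← hord e₁ he₁1]
      exact Subgroup.card_le_of_le hle
    have hne : Nat.card W ≠ p := by
      intro h
      have h2 : Subgroup.zpowers e₁ = W :=
        Subgroup.eq_of_le_of_card_ge hle (by rw [h, hord e₁ he₁1])
      have h3 : e₂ ∈ Subgroup.zpowers e₁ := by rw [h2]; exact hWe₂
      rw [← hℓ] at h3
      exact hgv h3
    apply Subgroup.eq_top_of_card_eq
    rw [hc2, hc]
    rw [hc] at h1 hne
    interval_cases k
    · rw [pow_zero] at h1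
      exact absurd h1 (by have := hp.one_lt; omega)
    · rw [pow_one] at hne
      exact absurd rfl hne
    · rfl
  intro u
  have hu : u ∈ W := by rw [hWtop]; exact Subgroup.mem_top u
  exact hu

end plane

/-- power of a product in a group of class two -/
theorem pow_mul_of_comm {G : Type*} [Group G] (v d n : G) (hn : d * v = v * n * d)
    (hnd : d * n = n * d) (hnv : v * n = n * v) (k : ℕ) :
    (v * d) ^ k = v ^ k * n ^ (∑ i ∈ Finset.range k, i) * d ^ k := by
  have hdk : ∀ k : ℕ, d ^ k * v = v * n ^ k * d ^ k := by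
    intro k
    induction k with
    | zero => simp
    | succ k ih =>
      have hdn : ∀ m : ℕ, d * n ^ m = n ^ m * d := by
        intro m
        induction m with
        | zero => simp
        | succ m ihm => rw [pow_succ, ← mul_assoc, ihm, mul_assoc, hnd, ← mul_assoc]
      calc d ^ (k + 1) * v = d * (d ^ k * v) := by rw [pow_succ']; group
        _ = d * (v * n ^ k * d ^ k) := by rw [ih]
        _ = (d * v) * n ^ k * d ^ k := by group
        _ = v * n * (d * n ^ k) * d ^ k := by rw [hn]; group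
        _ = v * n * (n ^ k * d) * d ^ k := by rw [hdn]
        _ = v * n ^ (k + 1) * d ^ (k + 1) := by rw [pow_succ' n, pow_succ' d]; group
  have hvn : ∀ m : ℕ, v * n ^ m = n ^ m * v := by
    intro m
    induction m with
    | zero => simp
    | succ m ihm => rw [pow_succ, ← mul_assoc, ihm, mul_assoc, hnv, ← mul_assoc]
  induction k with
  | zero => simp
  | succ k ih =>
    rw [pow_succ, ih, Finset.sum_range_succ]
    calc v ^ k * n ^ (∑ i ∈ Finset.range k, i) * d ^ k * (v * d)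
        = v ^ k * n ^ (∑ i ∈ Finset.range k, i) * (d ^ k * v) * d := by group
      _ = v ^ k * n ^ (∑ i ∈ Finset.range k, i) * (v * n ^ k * d ^ k) * d := by rw [hdk]
      _ = v ^ k * (n ^ (∑ i ∈ Finset.range k, i) * v) * n ^ k * d ^ k * d := by group
      _ = v ^ k * (v * n ^ (∑ i ∈ Finset.range k, i)) * n ^ k * d ^ k * d := by rw [hvn]
      _ = v ^ (k + 1) * n ^ (∑ i ∈ Finset.range k, i + k) * d ^ (k + 1) := by
        rw [pow_succ v, pow_succ d, pow_add]; group

end Cfsg.Agent.Helper27
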