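import Cfsg.Prelude.Def_OddOrderLocal
import Cfsg.Agent.Helper27.BurnsideGL
import Cfsg.Agent.Helper27.FusSolv

set_option autoImplicit false

namespace Cfsg.Agent.Helper27

open Cfsg

theorem metacyclic_of_injective {G H : Type*} [Group G] [Group H] (h : Cfsg.IsMetacyclic G)
    (f : H →* G) (hf : Function.Injective f) : Cfsg.IsMetacyclic H := by
  obtain ⟨N, hN, hNc, hQc⟩ := h
  refine ⟨N.comap f, inferInstance, ?_, ?_⟩
  · exact isCyclic_of_injective (f.subgroupComap N) (fun a b hab =>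
      Subtype.ext (hf (congrArg Subtype.val hab)))
  · refine isCyclic_of_injective (QuotientGroup.map (N.comap f) N f le_rfl) ?_
    rw [injective_iff_map_eq_one]
    intro x hx
    obtain ⟨y, rfl⟩ := QuotientGroup.mk_surjective x
    rw [QuotientGroup.map_mk, QuotientGroup.eq_one_iff] at hx
    rw [QuotientGroup.eq_one_iff]
    exact hx

theorem metacyclic_of_surjective {G H : Type*} [Group G] [Group H] (h : Cfsg.IsMetacyclic G)
    (f : G →* H) (hf : Function.Surjective f) : Cfsg.IsMetacyclic H := by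
  obtain ⟨N, hN, hNc, hQc⟩ := h
  have hN' : (N.map f).Normal := hN.map f hf
  refine ⟨N.map f, hN', ?_, ?_⟩
  · exact isCyclic_of_surjective (f.subgroupMap N) (f.subgroupMap_surjective N)
  · refine isCyclic_of_surjective (QuotientGroup.map N (N.map f) f (Subgroup.le_comap_map f N)) ?_
    intro y
    obtain ⟨y', rfl⟩ := QuotientGroup.mk_surjective y
    obtain ⟨x, rfl⟩ := hf y'
    exact ⟨(x : G ⧸ N), rfl⟩

theorem metacyclic_card_dvd_sq {G : Type*} [Group G] [Finite G] {p : ℕ} (h : Cfsg.IsMetacyclic G)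
    (hexp : ∀ g : G, g ^ p = 1) : Nat.card G ∣ p ^ 2 := by
  obtain ⟨N, hN, hNc, hQc⟩ := h
  have h1 : Nat.card N ∣ p := by
    obtain ⟨g, hg⟩ := IsCyclic.exists_generator (α := N)
    rw [← orderOf_eq_card_of_forall_mem_zpowers hg]
    apply orderOf_dvd_of_pow_eq_one
    apply Subtype.ext
    simpa using hexp g
  have h2 : Nat.card (G ⧸ N) ∣ p := by
    obtain ⟨g, hg⟩ := IsCyclic.exists_generator (α := G ⧸ N)
    rw [← orderOf_eq_card_of_forall_mem_zpowers hg]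
    apply orderOf_dvd_of_pow_eq_one
    obtain ⟨g', rfl⟩ := QuotientGroup.mk_surjective g
    rw [← QuotientGroup.mk_pow, hexp]
    rfl
  rw [Subgroup.card_eq_card_quotient_mul_card_subgroup N, pow_two]
  exact Nat.mul_dvd_mul h2 h1

/-- in a plane normalized by an element of order `p` (odd), products have `p`-th power one -/
theorem pow_eq_one_of_plane {G : Type*} [Group G] {p : ℕ} [Fact p.Prime] (hp2 : p ≠ 2)
    (V : Subgroup G) [Finite V] (hV : Nat.card V ∣ p ^ 2) (hexp : ∀ v ∈ V, v ^ p = 1)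
    (d : G) (hd : ∀ v ∈ V, d * v * d⁻¹ ∈ V) (hdp : d ^ p = 1) (v : G) (hv : v ∈ V) :
    (v * d) ^ p = 1 := by
  have hp := (Fact.out : p.Prime)
  have hk : ∀ k : ℕ, ∀ v ∈ V, d ^ k * v * (d ^ k)⁻¹ ∈ V := by
    intro k
    induction k with
    | zero => intro v hv; simpa using hv
    | succ k ih =>
      intro v hv
      have e : d ^ (k + 1) * v * (d ^ (k + 1))⁻¹ = d * (d ^ k * v * (d ^ k)⁻¹) * d⁻¹ := by
        rw [pow_succ']; group
      rw [e]
      exact hd _ (ih v hv)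
  have hdinv : d⁻¹ = d ^ (p - 1) := by
    apply inv_eq_of_mul_eq_one_left
    rw [← pow_succ, Nat.sub_add_cancel hp.one_lt.le, hdp]
  have hd' : ∀ v ∈ V, d⁻¹ * v * d ∈ V := by
    intro v hv
    have h1 := hk (p - 1) v hv
    rw [← hdinv, inv_inv] at h1
    exact h1
  let t : MulAut V :=
    { toFun := fun x => ⟨d * x * d⁻¹, hd x x.2⟩
      invFun := fun x => ⟨d⁻¹ * x * d, hd' x x.2⟩
      left_inv := fun x => by apply Subtype.ext; show d⁻¹ * (d * x * d⁻¹) * d = x; group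
      right_inv := fun x => by apply Subtype.ext; show d * (d⁻¹ * x * d) * d⁻¹ = x; group
      map_mul' := fun a b => by
        apply Subtype.ext
        show d * (a * b) * d⁻¹ = d * a * d⁻¹ * (d * b * d⁻¹)
        group }
  have htk : ∀ (k : ℕ) (x : V), (((t ^ k) x : V) : G) = d ^ k * x * (d ^ k)⁻¹ := by
    intro k
    induction k with
    | zero => intro x; simp
    | succ k ih =>
      intro x
      rw [pow_succ', MulAut.mul_apply]
      show d * (((t ^ k) x : V) : G) * d⁻¹ = _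
      rw [ih, pow_succ']
      group
  have ht : t ^ p ^ 1 = 1 := by
    rw [pow_one]
    ext x
    rw [htk, hdp]
    simp
  have h1 := fix_sq hV t ht ⟨v, hv⟩
  obtain ⟨n, hn⟩ : ∃ n : G, n = v⁻¹ * (d * v * d⁻¹) := ⟨_, rfl⟩
  have hnV : n ∈ V := by
    rw [hn]
    exact V.mul_mem (V.inv_mem hv) (hd v hv)
  have h2 : d * n * d⁻¹ = n := by
    rw [hn]
    exact congrArg Subtype.val h1
  have hnd : d * n = n * d := by
    calc d * n = (d * n * d⁻¹) * d := by group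
      _ = n * d := by rw [h2]
  have hnv : v * n = n * v := by
    have h3 := comm_of_card_dvd_sq hV (⟨v, hv⟩ : V) ⟨n, hnV⟩
    exact congrArg (fun y : V => (y : G)) h3
  have hdv : d * v = v * n * d := by rw [hn]; group
  rw [pow_mul_of_comm v d n hdv hnd hnv p, hexp v hv, hdp, one_mul, mul_one]
  rcases hp.eq_two_or_odd' with h2' | ⟨m, hm⟩
  · exact absurd h2' hp2
  have h4 : (∑ i ∈ Finset.range p, i) = p * m := by
    have h5 := Finset.sum_range_id_mul_two p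
    have h6 : p - 1 = 2 * m := by omega
    rw [h6] at h5
    have h7 : (∑ i ∈ Finset.range p, i) * 2 = (p * m) * 2 := by rw [h5]; ring
    exact Nat.eq_of_mul_eq_mul_right (by norm_num) h7
  rw [h4, pow_mul, hexp n hnV, one_pow]

/-- the metacyclic endgame: an automorphism-like map inverting `Q/Φ` and fixing `x` modulo `Q` forces `x` to
centralize `Q/Φ` -/
theorem meta_end {Ω : Type*} [Group Ω] {p : ℕ} [Fact p.Prime] (hp2 : p ≠ 2) (P : Subgroup Ω) [Finite P]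
    (hm : Cfsg.IsMetacyclic ↥P) (Q Φ : Subgroup Ω) (hQP : Q ≤ P) (hΦQ : Φ ≤ Q)
    (hpow : ∀ a ∈ Q, a ^ p ∈ Φ) (hcomm : ∀ a ∈ Q, ∀ b ∈ Q, a * b * a⁻¹ * b⁻¹ ∈ Φ)
    (x : Ω) (hxP : x ∈ P) (hxQ : ∀ a ∈ Q, x * a * x⁻¹ ∈ Q) (hxΦ : ∀ z ∈ Φ, x * z * x⁻¹ ∈ Φ)
    (hxp : x ^ p ∈ Q) (σ : Ω → Ω)
    (hσmul : ∀ a ∈ Q ⊔ Subgroup.zpowers x, ∀ b ∈ Q ⊔ Subgroup.zpowers x, σ (a * b) = σ a * σ b)
    (hσinv : ∀ a ∈ Q, a * σ a ∈ Φ) (q₀ : Ω) (hq₀ : q₀ ∈ Q) (hσx : σ x = x * q₀) :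
    ∀ a ∈ Q, x * a * x⁻¹ * a⁻¹ ∈ Φ := by
  have hp := (Fact.out : p.Prime)
  obtain ⟨T, hT⟩ : ∃ T : Subgroup Ω, T = Q ⊔ Subgroup.zpowers x := ⟨_, rfl⟩
  rw [← hT] at hσmul
  have hQT : Q ≤ T := hT ▸ le_sup_left
  have hxT : x ∈ T := hT ▸ (le_sup_right : Subgroup.zpowers x ≤ _) (Subgroup.mem_zpowers x)
  have hTP : T ≤ P := by
    rw [hT]
    exact sup_le hQP ((Subgroup.zpowers_le).mpr hxP)
  have hΦT : Φ ≤ T := hΦQ.trans hQT
  have : Finite T := Finite.of_injective (Subgroup.inclusion hTP) (Subgroup.inclusion_injective hTP)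
  have : Finite Q := Finite.of_injective (Subgroup.inclusion hQT) (Subgroup.inclusion_injective hQT)
  have : Finite Φ := Finite.of_injective (Subgroup.inclusion hΦQ) (Subgroup.inclusion_injective hΦQ)
  -- Φ is normal in T
  have hTn : T ≤ Subgroup.normalizer (Φ : Set Ω) := by
    rw [hT]
    apply sup_le
    · intro a ha
      apply mem_normalizer_of_forall
      intro z hz
      have e : a * z * a⁻¹ = (a * z * a⁻¹ * z⁻¹) * z := by group
      rw [e]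
      exact Φ.mul_mem (hcomm a ha z (hΦQ hz)) hz
    · rw [Subgroup.zpowers_le]
      exact mem_normalizer_of_forall hxΦ
  have hΦconj : ∀ g ∈ T, ∀ z ∈ Φ, g * z * g⁻¹ ∈ Φ := fun g hg z hz =>
    (Subgroup.mem_normalizer_iff.mp (hTn hg) z).mp hz
  have hnorm : (Φ.subgroupOf T).Normal := by
    constructor
    intro n hn g
    rw [Subgroup.mem_subgroupOf] at hn ⊢
    exact hΦconj g g.2 n hn
  obtain ⟨θ, hθ⟩ : ∃ θ : T →* (T ⧸ Φ.subgroupOf T), θ = QuotientGroup.mk' (Φ.subgroupOf T) := ⟨_, rfl⟩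
  have hθsurj : Function.Surjective θ := by
    rw [hθ]; exact QuotientGroup.mk'_surjective _
  have hθ1 : ∀ g ∈ T, (afn θ g = 1 ↔ g ∈ Φ) := by
    intro g hg
    rw [afn_of_mem θ hg, hθ, QuotientGroup.mk'_apply, QuotientGroup.eq_one_iff, Subgroup.mem_subgroupOf]
  have hmT : Cfsg.IsMetacyclic T :=
    metacyclic_of_injective hm (Subgroup.inclusion hTP) (Subgroup.inclusion_injective hTP)
  have hmG : Cfsg.IsMetacyclic (T ⧸ Φ.subgroupOf T) := metacyclic_of_surjective hmT θ hθsurj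
  -- σ maps T to T
  have hσ1 : σ 1 = 1 := by
    have h1 := hσmul 1 T.one_mem 1 T.one_mem
    rw [mul_one] at h1
    exact (mul_eq_left.mp h1.symm)
  have hσQ : ∀ a ∈ Q, σ a ∈ Q := by
    intro a ha
    have e : σ a = a⁻¹ * (a * σ a) := by group
    rw [e]
    exact Q.mul_mem (Q.inv_mem ha) (hΦQ (hσinv a ha))
  have hσT : ∀ g ∈ T, σ g ∈ T := by
    let M : Subgroup Ω :=
      { carrier := {g | g ∈ T ∧ σ g ∈ T}
        one_mem' := ⟨T.one_mem, by rw [hσ1]; exact T.one_mem⟩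
        mul_mem' := by
          rintro a b ⟨ha, ha'⟩ ⟨hb, hb'⟩
          exact ⟨T.mul_mem ha hb, by rw [hσmul a ha b hb]; exact T.mul_mem ha' hb'⟩
        inv_mem' := by
          rintro a ⟨ha, ha'⟩
          refine ⟨T.inv_mem ha, ?_⟩
          have h1 := hσmul a ha a⁻¹ (T.inv_mem ha)
          rw [mul_inv_cancel, hσ1] at h1
          have h2 : σ a⁻¹ = (σ a)⁻¹ := (inv_eq_of_mul_eq_one_right h1.symm).symm
          rw [h2]
          exact T.inv_mem ha' }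
    have hM : T ≤ M := by
      rw [hT]
      apply sup_le
      · intro a ha
        exact ⟨hQT ha, hQT (hσQ a ha)⟩
      · rw [Subgroup.zpowers_le]
        refine ⟨hxT, ?_⟩
        rw [hσx]
        exact T.mul_mem hxT (hQT hq₀)
    intro g hg
    exact (hM hg).2
  obtain ⟨σT, hσTdef⟩ : ∃ σT : T →* T, ∀ g : T, ((σT g : T) : Ω) = σ g :=
    ⟨MonoidHom.mk' (fun g => ⟨σ g, hσT g g.2⟩) (fun a b => Subtype.ext (hσmul a a.2 b b.2)),
      fun _ => rfl⟩
  obtain ⟨σ', hσ'⟩ : ∃ σ' : T →* (T ⧸ Φ.subgroupOf T), σ' = θ.comp σT := ⟨_, rfl⟩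
  have hσ'a : ∀ g ∈ T, afn σ' g = afn θ (σ g) := by
    intro g hg
    rw [afn_of_mem σ' hg, afn_of_mem θ (hσT g hg), hσ']
    show θ (σT ⟨g, hg⟩) = θ ⟨σ g, hσT g hg⟩
    congr 1
    exact Subtype.ext (hσTdef ⟨g, hg⟩)
  -- basic facts in the quotient
  have hbarinv : ∀ a ∈ Q, afn σ' a = (afn θ a)⁻¹ := by
    intro a ha
    rw [hσ'a a (hQT ha)]
    apply eq_inv_of_mul_eq_one_right
    rw [← afn_mul θ (hQT ha) (hQT (hσQ a ha))]
    exact (hθ1 _ (T.mul_mem (hQT ha) (hQT (hσQ a ha)))).mpr (hσinv a ha)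
  have hbarpow : ∀ a ∈ Q, afn θ a ^ p = 1 := by
    intro a ha
    rw [← afn_pow θ (hQT ha)]
    exact (hθ1 _ (T.pow_mem (hQT ha) p)).mpr (hpow a ha)
  obtain ⟨k, hk⟩ : ∃ k : ℕ, 2 * k = p + 1 := by
    rcases hp.eq_two_or_odd' with h2' | ⟨m, hm⟩
    · exact absurd h2' hp2
    · exact ⟨m + 1, by omega⟩
  obtain ⟨c, hc⟩ : ∃ c : Ω, c = x * q₀ ^ k := ⟨_, rfl⟩
  have hq₀kQ : q₀ ^ k ∈ Q := Q.pow_mem hq₀ k
  have hcT : c ∈ T := by
    rw [hc]; exact T.mul_mem hxT (hQT hq₀kQ)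
  have hcQ : ∀ a ∈ Q, c * a * c⁻¹ ∈ Q := by
    intro a ha
    have e : c * a * c⁻¹ = x * (q₀ ^ k * a * (q₀ ^ k)⁻¹) * x⁻¹ := by rw [hc]; group
    rw [e]
    exact hxQ _ (Q.mul_mem (Q.mul_mem hq₀kQ ha) (Q.inv_mem hq₀kQ))
  -- σ' fixes the image of c
  have hσ'c : afn σ' c = afn θ c := by
    rw [hc, afn_mul σ' hxT (hQT hq₀kQ), afn_mul θ hxT (hQT hq₀kQ), afn_pow σ' (hQT hq₀),
      afn_pow θ (hQT hq₀), hbarinv q₀ hq₀, hσ'a x hxT, hσx, afn_mul θ hxT (hQT hq₀), mul_assoc]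
    congr 1
    have h1 : afn θ q₀ ^ (2 * k) = afn θ q₀ := by
      rw [hk, pow_succ, hbarpow q₀ hq₀, one_mul]
    rw [inv_pow]
    apply mul_inv_eq_of_eq_mul
    rw [← pow_add, ← two_mul, h1]
  -- c ^ p lies in Q
  have hcpow : ∀ n : ℕ, ∃ q' ∈ Q, c ^ n = q' * x ^ n := by
    intro n
    induction n with
    | zero => exact ⟨1, Q.one_mem, by simp⟩
    | succ n ih =>
      obtain ⟨q', hq', e⟩ := ih
      refine ⟨x * (q₀ ^ k * q') * x⁻¹, hxQ _ (Q.mul_mem hq₀kQ hq'), ?_⟩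
      rw [pow_succ', e, hc, pow_succ']
      group
  have hcpQ : c ^ p ∈ Q := by
    obtain ⟨q', hq', e⟩ := hcpow p
    rw [e]
    exact Q.mul_mem hq' hxp
  have hcbar : afn θ c ^ p = 1 := by
    obtain ⟨z, hz⟩ : ∃ z, z = afn θ (c ^ p) := ⟨_, rfl⟩
    have h1 : afn σ' (c ^ p) = z⁻¹ := by rw [hz]; exact hbarinv _ hcpQ
    have h2 : afn σ' (c ^ p) = z := by
      rw [afn_pow σ' hcT, hσ'c, hz, afn_pow θ hcT]
    have h3 : z ^ 2 = 1 := by
      rw [pow_two]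
      nth_rewrite 1 [← h2]
      rw [h1, inv_mul_cancel]
    have h4 : z ^ p = 1 := by rw [hz]; exact hbarpow _ hcpQ
    have h5 : z ^ (2 * k) = 1 := by rw [pow_mul, h3, one_pow]
    rw [hk, pow_succ, h4, one_mul] at h5
    rw [← afn_pow θ hcT, ← hz]
    exact h5
  -- the plane
  obtain ⟨V, hVdef⟩ : ∃ V : Subgroup (T ⧸ Φ.subgroupOf T), V = (Q.subgroupOf T).map θ := ⟨_, rfl⟩
  have hVmem : ∀ y, y ∈ V ↔ ∃ a ∈ Q, afn θ a = y := by
    intro y
    rw [hVdef]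
    constructor
    · rintro ⟨u, hu, rfl⟩
      exact ⟨u, Subgroup.mem_subgroupOf.mp hu, afn_of_mem θ u.2⟩
    · rintro ⟨a, ha, rfl⟩
      exact ⟨⟨a, hQT ha⟩, Subgroup.mem_subgroupOf.mpr ha, (afn_of_mem θ (hQT ha)).symm⟩
  have : Finite (T ⧸ Φ.subgroupOf T) := inferInstance
  have hVexp : ∀ v ∈ V, v ^ p = 1 := by
    intro v hv
    obtain ⟨a, ha, rfl⟩ := (hVmem v).mp hv
    exact hbarpow a ha
  have hVcard : Nat.card V ∣ p ^ 2 := by
    apply metacyclic_card_dvd_sq (metacyclic_of_injective hmG V.subtype V.subtype_injective)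
    intro g
    apply Subtype.ext
    simpa using hVexp g g.2
  obtain ⟨cb, hcb⟩ : ∃ cb, cb = afn θ c := ⟨_, rfl⟩
  rw [← hcb] at hcbar
  have hcbV : ∀ v ∈ V, cb * v * cb⁻¹ ∈ V := by
    intro v hv
    obtain ⟨a, ha, rfl⟩ := (hVmem v).mp hv
    rw [hcb, ← afn_conj θ hcT (hQT ha)]
    exact (hVmem _).mpr ⟨_, hcQ a ha, rfl⟩
  obtain ⟨Y, hY⟩ : ∃ Y : Subgroup (T ⧸ Φ.subgroupOf T), Y = Subgroup.zpowers cb ⊔ V := ⟨_, rfl⟩
  have hzV : ∀ r ∈ Subgroup.zpowers cb, ∀ v ∈ V, r * v * r⁻¹ ∈ V := by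
    have hle : Subgroup.zpowers cb ≤ Subgroup.normalizer (V : Set (T ⧸ Φ.subgroupOf T)) := by
      rw [Subgroup.zpowers_le]
      exact mem_normalizer_of_forall hcbV
    intro r hr v hv
    exact (Subgroup.mem_normalizer_iff.mp (hle hr) v).mp hv
  have hYexp : ∀ y ∈ Y, y ^ p = 1 := by
    intro y hy
    rw [hY] at hy
    obtain ⟨r, hr, v, hv, rfl⟩ := exists_mul_of_mem_sup hzV hy
    have e : r * v = (r * v * r⁻¹) * r := by group
    rw [e]
    refine pow_eq_one_of_plane hp2 V hVcard hVexp r (hzV r hr) ?_ _ (hzV r hr v hv)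
    obtain ⟨i, rfl⟩ := Subgroup.mem_zpowers_iff.mp hr
    rw [← zpow_natCast, ← zpow_mul, mul_comm, zpow_mul, zpow_natCast, hcbar, one_zpow]
  have hYcard : Nat.card Y ∣ p ^ 2 := by
    apply metacyclic_card_dvd_sq (metacyclic_of_injective hmG Y.subtype Y.subtype_injective)
    intro g
    apply Subtype.ext
    simpa using hYexp g g.2
  have hVY : V ≤ Y := hY ▸ le_sup_right
  have hcbY : cb ∈ Y := hY ▸ (le_sup_left : Subgroup.zpowers cb ≤ _) (Subgroup.mem_zpowers cb)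
  have hxbY : afn θ x ∈ Y := by
    have e : afn θ x = cb * (afn θ (q₀ ^ k))⁻¹ := by
      rw [hcb, hc, afn_mul θ hxT (hQT hq₀kQ), mul_inv_cancel_right]
    rw [e]
    exact Y.mul_mem hcbY (Y.inv_mem (hVY ((hVmem _).mpr ⟨_, hq₀kQ, rfl⟩)))
  intro a ha
  have haY : afn θ a ∈ Y := hVY ((hVmem _).mpr ⟨a, ha, rfl⟩)
  have h1 := comm_of_card_dvd_sq hYcard (⟨afn θ x, hxbY⟩ : Y) ⟨afn θ a, haY⟩
  have h2 : afn θ x * afn θ a = afn θ a * afn θ x := congrArg (fun y : Y => (y : T ⧸ Φ.subgroupOf T)) h1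
  have hmem : x * a * x⁻¹ * a⁻¹ ∈ T :=
    T.mul_mem (T.mul_mem (T.mul_mem hxT (hQT ha)) (T.inv_mem hxT)) (T.inv_mem (hQT ha))
  rw [← hθ1 _ hmem, afn_mul θ (T.mul_mem (T.mul_mem hxT (hQT ha)) (T.inv_mem hxT)) (T.inv_mem (hQT ha)),
    afn_conj θ hxT (hQT ha), afn_inv θ (hQT ha), h2]
  group

end Cfsg.Agent.Helper27
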