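import Cfsg.Agent.Helper27.MetaSuper

set_option autoImplicit false

namespace Cfsg.Agent.Helper27

open Cfsg
open Cfsg.Agent.Helper9 (zpw hf qt)

theorem cyclic_aut_two {X : Type*} [Group X] [Finite X] (hX : IsPGroup 2 X) (hc : IsCyclic X) :
    IsPGroup 2 (MulAut X) := by
  obtain ⟨e, he⟩ := IsPGroup.iff_card.mp hX
  have h1 : Nat.card (MulAut X) = Nat.totient (Nat.card X) := IsCyclic.card_mulAut X
  rw [he] at h1
  rcases Nat.eq_zero_or_pos e with h0 | h0
  · rw [h0, pow_zero, Nat.totient_one] at h1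
    exact IsPGroup.of_card (n := 0) (by rw [h1, pow_zero])
  · rw [Nat.totient_prime_pow Nat.prime_two h0] at h1
    exact IsPGroup.of_card (n := e - 1) (by rw [h1]; norm_num)

theorem exists_odd_aut {X : Type*} [Group X] [Finite X] (hA : ¬ IsPGroup 2 (MulAut X)) :
    ∃ β : MulAut X, Odd (orderOf β) ∧ β ≠ 1 := by
  unfold IsPGroup at hA
  push Not at hA
  obtain ⟨α, hα⟩ := hA
  have hpos : orderOf α ≠ 0 := (orderOf_pos α).ne'
  obtain ⟨k, m, hmodd, hkm⟩ := Nat.exists_eq_two_pow_mul_odd hpos
  refine ⟨α ^ 2 ^ k, ?_, hα k⟩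
  have h1 : (α ^ 2 ^ k) ^ m = 1 := by rw [← pow_mul, ← hkm, pow_orderOf_eq_one]
  exact hmodd.of_dvd_nat (orderOf_dvd_of_pow_eq_one h1)

/-- a `2`-group `⟨x⟩ ∪ ⟨x⟩y` with `x` of order `2^n` whose elements outside `⟨x⟩` have order less than `2^n`
has no nontrivial automorphism of odd order -/
theorem odd_aut_trivial {G : Type*} [Group G] [Finite G] (hG : IsPGroup 2 G)
    (hm : Cfsg.IsMetacyclic G) {n : ℕ} (hn : 2 ≤ n) (x y : G) (hx : orderOf x = 2 ^ n)
    (hcard : Nat.card G = 2 ^ (n + 1))
    (hcases : ∀ g : G, g ∈ Subgroup.zpowers x ∨ g * y⁻¹ ∈ Subgroup.zpowers x)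
    (hout : ∀ g : G, g ∉ Subgroup.zpowers x → g ^ 2 ^ (n - 1) = 1)
    (β : MulAut G) (hodd : Odd (orderOf β)) : β = 1 := by
  by_contra hβ
  have hlt : 2 ^ (n - 1) < 2 ^ n := Nat.pow_lt_pow_right (by norm_num) (by omega)
  have hxne : x ^ 2 ^ (n - 1) ≠ 1 := by
    intro h2
    have h3 := orderOf_dvd_of_pow_eq_one h2
    rw [hx] at h3
    have := Nat.le_of_dvd (by positivity) h3
    omega
  have hβx : β x ∈ Subgroup.zpowers x := by
    by_contra hnot
    have h1 := hout (β x) hnot
    rw [← map_pow] at h1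
    exact hxne (β.injective (h1.trans (map_one β).symm))
  obtain ⟨k, hk⟩ := hβx
  have hk' : x ^ k = β x := hk
  have hxΦ' : x⁻¹ * β x ∈ frattini G := by
    obtain ⟨s, hs | hs⟩ := Int.even_or_odd' k
    · exfalso
      apply hxne
      apply β.injective
      rw [map_pow, map_one, ← hk', hs, ← zpow_natCast, ← zpow_mul]
      have e : (2 : ℤ) * s * ((2 ^ (n - 1) : ℕ) : ℤ) = ((2 ^ n : ℕ) : ℤ) * s := by
        have h2 : (2 : ℕ) ^ n = 2 * 2 ^ (n - 1) := by
          rw [← pow_succ']; congr 1; omega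
        rw [h2]; push_cast; ring
      rw [e, zpow_mul, zpow_natCast, ← hx, pow_orderOf_eq_one, one_zpow]
    · have e : x⁻¹ * β x = (x ^ s) ^ 2 := by
        rw [← hk', hs, ← zpow_natCast, ← zpow_mul, zpow_add, zpow_one]
        have e2 : x ^ (s * ((2 : ℕ) : ℤ)) = x ^ (2 * s) := by congr 1; push_cast; ring
        rw [e2]
        have hc : Commute (x ^ (2 * s)) x := (Commute.refl x).zpow_left _
        rw [hc.eq]
        group
      rw [e]
      exact (Cfsg.Agent.S0012.result 2 hG).2 (x ^ s)
  have hVexp : ∀ v : G ⧸ frattini G, v ^ 2 = 1 := by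
    intro v
    obtain ⟨g, rfl⟩ := QuotientGroup.mk_surjective v
    rw [← QuotientGroup.mk_pow, QuotientGroup.eq_one_iff]
    exact (Cfsg.Agent.S0012.result 2 hG).2 g
  have hVcard : Nat.card (G ⧸ frattini G) ∣ 2 ^ 2 :=
    metacyclic_card_dvd_sq (metacyclic_of_surjective hm (QuotientGroup.mk' _)
      (QuotientGroup.mk'_surjective _)) hVexp
  have hcop : (orderOf β).Coprime 2 := Nat.coprime_two_right.mpr hodd
  have hρ1 : frattiniAct G β ≠ 1 := by
    intro h
    apply hβ
    apply burnside_frattini hG β hcop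
    intro g
    have h1 := frattiniAct_mk G β g
    rw [h, MulAut.one_apply] at h1
    exact QuotientGroup.eq.mp h1
  have hρodd : Odd (orderOf (frattiniAct G β)) := hodd.of_dvd_nat (orderOf_map_dvd _ β)
  have hfix : frattiniAct G β (x : G ⧸ frattini G) = (x : G ⧸ frattini G) := by
    rw [frattiniAct_mk]
    exact (QuotientGroup.eq.mpr hxΦ').symm
  have hx1 := no_fixed_of_odd hVcard hVexp _ hρodd hρ1 _ hfix
  have hxΦ : x ∈ frattini G := (QuotientGroup.eq_one_iff x).mp hx1
  have hzΦ : Subgroup.zpowers x ≤ Subgroup.zpowers y ⊔ frattini G :=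
    (Subgroup.zpowers_le.mpr hxΦ).trans le_sup_right
  have htop : Subgroup.zpowers y ⊔ frattini G = ⊤ := by
    rw [eq_top_iff]
    intro g _
    rcases hcases g with h | h
    · exact hzΦ h
    · have e : g = (g * y⁻¹) * y := by group
      rw [e]
      exact Subgroup.mul_mem _ (hzΦ h) (le_sup_left (a := Subgroup.zpowers y)
        (Subgroup.mem_zpowers y))
  have hy : Subgroup.zpowers y = ⊤ := frattini_nongenerating htop
  have hynot : y ∉ Subgroup.zpowers x := by
    intro h
    have htop' : Subgroup.zpowers x = ⊤ := by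
      rw [eq_top_iff]
      intro g _
      rcases hcases g with h' | h'
      · exact h'
      · have e : g = (g * y⁻¹) * y := by group
        rw [e]
        exact Subgroup.mul_mem _ h' h
    have hc := Nat.card_zpowers x
    rw [htop', Subgroup.card_top, hcard, hx, pow_succ] at hc
    have : 0 < 2 ^ n := by positivity
    omega
  have h1 := hout y hynot
  have h2 : orderOf y ∣ 2 ^ (n - 1) := orderOf_dvd_of_pow_eq_one h1
  have h3 : Nat.card G = orderOf y := by rw [← Nat.card_zpowers, hy, Subgroup.card_top]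
  rw [hcard] at h3
  rw [← h3] at h2
  have h4 := Nat.le_of_dvd (by positivity) h2
  have h5 : 2 ^ n < 2 ^ (n + 1) := Nat.pow_lt_pow_right (by norm_num) (by omega)
  omega

/-- the split metacyclic version -/
theorem mc_odd_aut_trivial {G : Type*} [Group G] [Finite G] (hG : IsPGroup 2 G)
    (hm : Cfsg.IsMetacyclic G) {n : ℕ} (hn : 2 ≤ n) {e : ZMod (2 ^ n)} {x y : G}
    (m : Helper9.MC (2 ^ n) e x y)
    (hsq : ∀ i : ZMod (2 ^ n), (zpw (2 ^ n) x i * y) ^ 2 ^ (n - 1) = 1)
    (β : MulAut G) (hodd : Odd (orderOf β)) : β = 1 := by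
  refine odd_aut_trivial hG hm hn x y m.ox ?_ ?_ ?_ β hodd
  · rw [m.card, pow_succ, mul_comm]
  · intro g
    rcases m.cases g with ⟨i, rfl⟩ | ⟨i, rfl⟩
    · exact Or.inl (Helper9.zpw_mem_zpowers i)
    · right
      have e1 : zpw (2 ^ n) x i * y * y⁻¹ = zpw (2 ^ n) x i := by group
      rw [e1]
      exact Helper9.zpw_mem_zpowers i
  · intro g hg
    rcases m.cases g with ⟨i, rfl⟩ | ⟨i, rfl⟩
    · exact absurd (Helper9.zpw_mem_zpowers i) hg
    · exact hsq i

/-- the dihedral group of order `4` is `C₂ × C₂` -/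
def d2Prod : DihedralGroup 2 → Multiplicative (ZMod 2) × Multiplicative (ZMod 2)
  | .r i => (Multiplicative.ofAdd i, Multiplicative.ofAdd 0)
  | .sr i => (Multiplicative.ofAdd i, Multiplicative.ofAdd 1)

/-- the inverse map -/
def d2ProdInv (p : Multiplicative (ZMod 2) × Multiplicative (ZMod 2)) : DihedralGroup 2 :=
  if Multiplicative.toAdd p.2 = 0 then .r (Multiplicative.toAdd p.1)
  else .sr (Multiplicative.toAdd p.1)

theorem d2_equiv :
    Nonempty (DihedralGroup 2 ≃* Multiplicative (ZMod 2) × Multiplicative (ZMod 2)) :=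
  ⟨{ toFun := d2Prod
     invFun := d2ProdInv
     left_inv := by decide
     right_inv := by decide
     map_mul' := by decide }⟩

/-- a metacyclic `2`-group whose automorphism group is not a `2`-group is `Q₈` or homocyclic of rank two -/
theorem metacyclic_two_aut {X : Type*} [Group X] [Finite X] (hX : IsPGroup 2 X)
    (hm : Cfsg.IsMetacyclic X) (hA : ¬ IsPGroup 2 (MulAut X)) :
    Nonempty (X ≃* QuaternionGroup 2) ∨
      ∃ n : ℕ, Nonempty (X ≃* Multiplicative (ZMod (2 ^ n)) × Multiplicative (ZMod (2 ^ n))) := by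
  by_cases hc : IsCyclic X
  · exact absurd (cyclic_aut_two hX hc) hA
  obtain ⟨β, hodd, hβ⟩ := exists_odd_aut hA
  by_contra hcon
  have transport : ∀ {G' : Type} [Group G'] (φ : X ≃* G'),
      Odd (orderOf (MulAut.congr φ β)) ∧ MulAut.congr φ β ≠ 1 := by
    intro G' _ φ
    refine ⟨by rw [MulEquiv.orderOf_eq]; exact hodd, ?_⟩
    intro h
    apply hβ
    apply (MulAut.congr φ).injective
    rw [h, map_one]
  rcases metacyclic_odd_aut hX hm β hodd hβ with h | ⟨k, ⟨φ⟩⟩ | ⟨k, ⟨φ⟩⟩ | hqd
  · exact not_fin_homocyclic hm hc (fun ⟨n, _, h'⟩ => hcon (Or.inr ⟨n, h'⟩)) h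
  · obtain ⟨K, hK⟩ := IsPGroup.iff_card.mp hX
    rw [Nat.card_congr φ.toEquiv, DihedralGroup.nat_card] at hK
    obtain ⟨j, rfl, -⟩ := exists_pow_of_two_mul hK
    haveI : Finite (DihedralGroup (2 ^ j)) := Finite.of_equiv X φ.toEquiv
    rcases Nat.lt_or_ge j 2 with hj | hj
    · interval_cases j
      · apply hc
        haveI : Fact (Nat.Prime 2) := ⟨Nat.prime_two⟩
        exact isCyclic_of_prime_card (p := 2) (by
          rw [Nat.card_congr φ.toEquiv, DihedralGroup.nat_card, pow_zero, mul_one])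
      · obtain ⟨e⟩ := d2_equiv
        exact hcon (Or.inr ⟨1, ⟨φ.trans e⟩⟩)
    · obtain ⟨ho, hne⟩ := transport φ
      apply hne
      refine mc_odd_aut_trivial (hX.of_equiv φ)
        (metacyclic_of_injective hm φ.symm.toMonoidHom φ.symm.injective) hj
        (Helper9.dihedral_mc_h9 (2 ^ j) (by positivity)) ?_ _ ho
      intro i
      have h1 := (Helper9.dihedral_mc_h9 (2 ^ j) (by positivity)).sq_s i
      rw [show (1 + (-1 : ZMod (2 ^ j))) * i = 0 by ring, Helper9.zpw_zero] at h1
      have h2 : (2 : ℕ) ^ (j - 1) = 2 * 2 ^ (j - 2) := by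
        rw [← pow_succ']; congr 1; omega
      rw [h2, pow_mul, pow_two, h1, one_pow]
  · rcases Nat.eq_zero_or_pos k with hk0 | hk0
    · subst hk0
      have hcard : Nat.card X = 0 := by
        rw [Nat.card_congr (φ.trans
          QuaternionGroup.quaternionGroupZeroEquivDihedralGroupZero).toEquiv,
          DihedralGroup.nat_card]
      have := Nat.card_pos (α := X)
      omega
    · haveI : NeZero k := ⟨by omega⟩
      obtain ⟨K, hK⟩ := IsPGroup.iff_card.mp hX
      rw [Nat.card_congr φ.toEquiv, Nat.card_eq_fintype_card, QuaternionGroup.card] at hK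
      obtain ⟨n₁, h1, -⟩ := exists_pow_of_two_mul (show 2 * (2 * k) = 2 ^ K by rw [← hK]; ring)
      obtain ⟨j, rfl, -⟩ := exists_pow_of_two_mul h1
      rcases Nat.lt_or_ge j 2 with hj | hj
      · interval_cases j
        · apply hc
          haveI := QuaternionGroup.quaternionGroup_one_isCyclic
          exact isCyclic_of_surjective φ.symm.toMonoidHom φ.symm.surjective
        · exact hcon (Or.inl ⟨φ⟩)
      · obtain ⟨ho, hne⟩ := transport φ
        apply hne
        refine odd_aut_trivial (hX.of_equiv φ)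
          (metacyclic_of_injective hm φ.symm.toMonoidHom φ.symm.injective) (n := j + 1)
          (by omega) (QuaternionGroup.a 1) (QuaternionGroup.xa 0) ?_ ?_ ?_ ?_ _ ho
        · rw [QuaternionGroup.orderOf_a_one, pow_succ, mul_comm]
        · rw [Nat.card_eq_fintype_card, QuaternionGroup.card, pow_succ, pow_succ]; ring
        · intro g
          rcases g with i | i
          · left
            refine ⟨(i.val : ℤ), ?_⟩
            show QuaternionGroup.a 1 ^ (i.val : ℤ) = QuaternionGroup.a i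
            rw [zpow_natCast, QuaternionGroup.a_one_pow, ZMod.natCast_zmod_val]
          · right
            refine ⟨((-i).val : ℤ), ?_⟩
            show QuaternionGroup.a 1 ^ ((-i).val : ℤ) = QuaternionGroup.xa i * (QuaternionGroup.xa 0)⁻¹
            rw [zpow_natCast, QuaternionGroup.a_one_pow, ZMod.natCast_zmod_val,
              eq_mul_inv_iff_mul_eq, QuaternionGroup.a_mul_xa, sub_neg_eq_add, zero_add]
        · intro g hg
          rcases g with i | i
          · exfalso
            apply hg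
            refine ⟨(i.val : ℤ), ?_⟩
            show QuaternionGroup.a 1 ^ (i.val : ℤ) = QuaternionGroup.a i
            rw [zpow_natCast, QuaternionGroup.a_one_pow, ZMod.natCast_zmod_val]
          · have h2 : (2 : ℕ) ^ (j + 1 - 1) = 4 * 2 ^ (j - 2) := by
              rw [Nat.add_sub_cancel]
              have : j = 2 + (j - 2) := by omega
              conv_lhs => rw [this, pow_add]
              norm_num
            rw [h2, pow_mul, QuaternionGroup.xa_pow_four, one_pow]
  · obtain ⟨n, x, y, hn, m⟩ := Helper9.exists_mc_of_qd hqd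
    apply hβ
    refine mc_odd_aut_trivial hX hm (by omega) m ?_ β hodd
    intro i
    have h1 := m.sq_s i
    have h2 : (zpw (2 ^ n) x i * y) ^ 4 = 1 := by
      have e4 : (zpw (2 ^ n) x i * y) ^ 4 =
          ((zpw (2 ^ n) x i * y) * (zpw (2 ^ n) x i * y)) *
            ((zpw (2 ^ n) x i * y) * (zpw (2 ^ n) x i * y)) := by
        rw [show (4 : ℕ) = 2 + 2 from rfl, pow_add, pow_two]
      rw [e4, h1, m.sq_r]
      have h3 := Helper9.two_hf (show 1 ≤ n by omega)
      have e5 : 2 * ((1 + (hf n - 1)) * i) = 0 := by linear_combination i * h3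
      rw [e5, Helper9.zpw_zero]
    have h4 : (2 : ℕ) ^ (n - 1) = 4 * 2 ^ (n - 3) := by
      have : n - 1 = 2 + (n - 3) := by omega
      rw [this, pow_add]
      norm_num
    rw [h4, pow_mul, h2, one_pow]

end Cfsg.Agent.Helper27
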