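import Cfsg.Agent.Helper27.MetaTwo
import Cfsg.Agent.Helper9.Recog
import Cfsg.Prelude.Def_CaseTheorems

set_option autoImplicit false

namespace Cfsg.Agent.Helper27

/-- A finite 2-group with a cyclic subgroup `⟨a⟩` of index two (generated together with `h`, `h² ∈ ⟨a⟩`, `h`
normalizing `⟨a⟩`) on which `h` does not act by a power `≡ 1 (mod 4)` is dihedral, generalized quaternion or
quasi-dihedral. -/
theorem max_class_of_index_two {D : Type*} [Group D] [Finite D] (hD : IsPGroup 2 D) (a h : D)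
    (hnorm : h * a * h⁻¹ ∈ Subgroup.zpowers a)
    (hh : h ∉ Subgroup.zpowers a) (hh2 : h ^ 2 ∈ Subgroup.zpowers a)
    (hgen : ∀ g : D, ∃ n ∈ Subgroup.zpowers a, ∃ j : ℕ, g = n * h ^ j)
    (hkey : ∀ u : ℕ, h * a * h⁻¹ = a ^ u → u % 4 ≠ 1) :
    (∃ m, Nonempty (D ≃* DihedralGroup m)) ∨ (∃ m, Nonempty (D ≃* QuaternionGroup m)) ∨
      Cfsg.IsQuasiDihedral D := by
  classical
  have ha1 : a ≠ 1 := by
    intro ha
    refine hkey 1 ?_ rfl
    rw [ha]; group
  obtain ⟨e, he⟩ := hD a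
  obtain ⟨k, hk, hok⟩ := (Nat.dvd_prime_pow Nat.prime_two).mp (orderOf_dvd_of_pow_eq_one he)
  have hk0 : k ≠ 0 := by
    rintro rfl
    rw [pow_zero] at hok
    exact ha1 (orderOf_eq_one_iff.mp hok)
  obtain ⟨k', rfl⟩ := Nat.exists_eq_succ_of_ne_zero hk0
  have hak : a ^ 2 ^ (k' + 1) = 1 := by rw [← hok]; exact pow_orderOf_eq_one a
  obtain ⟨z, hz⟩ : ∃ z, z = a ^ 2 ^ k' := ⟨_, rfl⟩
  have hz2 : z ^ 2 = 1 := by rw [hz, ← pow_mul, ← pow_succ]; exact hak
  have hz1 : z ≠ 1 := by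
    intro h1
    rw [hz] at h1
    have h4 := orderOf_dvd_of_pow_eq_one h1
    rw [hok] at h4
    have h5 := Nat.le_of_dvd (by positivity) h4
    have h6 : 2 ^ k' < 2 ^ (k' + 1) := Nat.pow_lt_pow_right (by norm_num) (Nat.lt_succ_self k')
    omega
  have hza : Commute z a := by rw [hz]; exact (Commute.refl a).pow_left _
  -- the index
  have hhj : ∀ i : ℕ, h ^ (2 * i) ∈ Subgroup.zpowers a := fun i => by
    rw [pow_mul]; exact Subgroup.pow_mem _ hh2 i
  have hindex : (Subgroup.zpowers a).index = 2 := by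
    rw [Subgroup.index_eq_two_iff]
    refine ⟨h, fun b => ?_⟩
    obtain ⟨n, hn, j, rfl⟩ := hgen b
    rcases Nat.even_or_odd' j with ⟨i, hi | hi⟩
    · right
      refine ⟨?_, ?_⟩
      · rw [hi]; exact Subgroup.mul_mem _ hn (hhj i)
      · intro hc
        apply hh
        have e : h = (n * h ^ j)⁻¹ * (n * h ^ j * h) := by group
        rw [e]
        exact Subgroup.mul_mem _
          (Subgroup.inv_mem _ (by rw [hi]; exact Subgroup.mul_mem _ hn (hhj i))) hc
    · left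
      refine ⟨?_, ?_⟩
      · have e : n * h ^ j * h = n * h ^ (2 * (i + 1)) := by
          rw [hi, mul_assoc, ← pow_succ]
          congr 2
        rw [e]; exact Subgroup.mul_mem _ hn (hhj _)
      · intro hc
        apply hh
        have e : h = (n * h ^ (2 * i))⁻¹ * (n * h ^ j) := by
          rw [hi, pow_succ]; group
        rw [e]
        exact Subgroup.mul_mem _ (Subgroup.inv_mem _ (Subgroup.mul_mem _ hn (hhj i))) hc
  have hcard : Nat.card D = 2 * 2 ^ (k' + 1) := by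
    rw [← Subgroup.card_mul_index (Subgroup.zpowers a), hindex, Nat.card_zpowers, hok, mul_comm]
  -- the action exponent
  obtain ⟨u, hu⟩ := exists_npow_of_mem_zpowers he hnorm
  have hu4 := hkey u hu
  have huodd : Odd u := by
    by_contra hev
    rw [Nat.not_odd_iff_even] at hev
    obtain ⟨r', hr'⟩ := hev
    have h1 : (h * a * h⁻¹) ^ 2 ^ k' = 1 := by
      rw [hu, hr', ← pow_mul]
      have e3 : (r' + r') * 2 ^ k' = 2 ^ (k' + 1) * r' := by ring
      rw [e3, pow_mul, hak, one_pow]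
    rw [conj_pow] at h1
    have h2 : a ^ 2 ^ k' = 1 := by
      have h3 : a ^ 2 ^ k' = h⁻¹ * (h * a ^ 2 ^ k' * h⁻¹) * h := by group
      rw [h3, h1]; group
    exact hz1 (hz ▸ h2)
  obtain ⟨v, hv⟩ : ∃ v, u = 4 * v + 3 := by
    obtain ⟨m, hm⟩ := huodd
    refine ⟨u / 4, ?_⟩
    omega
  have hconj : ∀ n ∈ Subgroup.zpowers a, h * n * h⁻¹ = n ^ u := by
    intro n hn
    obtain ⟨i, rfl⟩ := Subgroup.mem_zpowers_iff.mp hn
    rw [← conj_zpow, hu, ← zpow_natCast, ← zpow_mul, mul_comm, zpow_mul, zpow_natCast]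
  have hcopv : ∀ c : ℕ, Nat.Coprime (2 ^ c) (2 * v + 1) := by
    intro c
    apply Nat.Coprime.pow_left
    rw [Nat.coprime_two_left]
    exact ⟨v, rfl⟩
  -- `h ^ 2` is an involution or trivial
  have htu : (h ^ 2) ^ u = h ^ 2 := by
    rw [← hconj _ hh2]; group
  have ht2 : (h ^ 2) ^ 2 = 1 := by
    have h1 : (h ^ 2) ^ (2 * (2 * v + 1)) = 1 := by
      have e : (h ^ 2) ^ (2 * (2 * v + 1)) * h ^ 2 = (h ^ 2) ^ u := by
        rw [← pow_succ, hv]
        congr 1
        ring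
      have h' : (h ^ 2) ^ (2 * (2 * v + 1)) * h ^ 2 = 1 * h ^ 2 := by
        rw [one_mul]; exact e.trans htu
      exact mul_right_cancel h'
    obtain ⟨e2, he2⟩ := hD (h ^ 2)
    have hd1 := orderOf_dvd_of_pow_eq_one h1
    have hd2 := orderOf_dvd_of_pow_eq_one he2
    obtain ⟨c, hc, hoc⟩ := (Nat.dvd_prime_pow Nat.prime_two).mp hd2
    rw [hoc] at hd1
    have hd3 : 2 ^ c ∣ 2 := (hcopv c).dvd_of_dvd_mul_right hd1
    apply orderOf_dvd_iff_pow_eq_one.mp
    rw [hoc]; exact hd3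
  have ht : h ^ 2 = 1 ∨ h ^ 2 = z := by
    obtain ⟨s, hs⟩ := exists_npow_of_mem_zpowers he hh2
    have h1 : a ^ (s * 2) = 1 := by rw [pow_mul, ← hs]; exact ht2
    have h2 := orderOf_dvd_of_pow_eq_one h1
    rw [hok, pow_succ] at h2
    have h3 : 2 ^ k' ∣ s := Nat.dvd_of_mul_dvd_mul_right (by norm_num) h2
    obtain ⟨w, hw⟩ := h3
    rw [hs, hw, pow_mul, ← hz]
    rcases Nat.even_or_odd' w with ⟨i, hi | hi⟩
    · left; rw [hi, pow_mul, hz2, one_pow]
    · right; rw [hi, pow_succ, pow_mul, hz2, one_pow, one_mul]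
  have hact : h * a * h⁻¹ = a⁻¹ ∨ h * a * h⁻¹ = z * a⁻¹ := by
    have h1 : a ^ (u * u) = a := by
      have e1 : h ^ 2 * a * (h ^ 2)⁻¹ = a ^ (u * u) := by
        have e2 : h ^ 2 * a * (h ^ 2)⁻¹ = h * (h * a * h⁻¹) * h⁻¹ := by rw [pow_two]; group
        rw [e2, hu, hconj _ (Subgroup.pow_mem _ (Subgroup.mem_zpowers a) u), ← pow_mul]
      rw [← e1]
      obtain ⟨i, hi⟩ := Subgroup.mem_zpowers_iff.mp hh2
      rw [← hi]
      have hcm : Commute (a ^ i) a := (Commute.refl a).zpow_left i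
      rw [hcm.eq, mul_inv_cancel_right]
    have h2 : u * u ≡ 1 [MOD orderOf a] := by
      rw [← pow_eq_pow_iff_modEq, pow_one]; exact h1
    rw [hok] at h2
    have hupos : 1 ≤ u * u := Nat.mul_pos (by omega) (by omega)
    have h3 : 2 ^ (k' + 1) ∣ u * u - 1 := (Nat.modEq_iff_dvd' hupos).mp h2.symm
    have h4 : u * u - 1 = (2 * (4 * (v + 1))) * (2 * v + 1) := by
      have h5 : u * u = (2 * (4 * (v + 1))) * (2 * v + 1) + 1 := by rw [hv]; ring
      rw [h5, Nat.add_sub_cancel]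
    rw [h4] at h3
    have h5 : 2 ^ (k' + 1) ∣ 2 * (4 * (v + 1)) := (hcopv _).dvd_of_dvd_mul_right h3
    rw [pow_succ, mul_comm] at h5
    have h6 : 2 ^ k' ∣ 4 * (v + 1) := Nat.dvd_of_mul_dvd_mul_left (by norm_num) h5
    obtain ⟨w, hw⟩ := h6
    have h7 : h * a * h⁻¹ = z ^ w * a⁻¹ := by
      have h8 : u + 1 = 4 * (v + 1) := by omega
      rw [hu, hz, ← pow_mul, ← hw, eq_mul_inv_iff_mul_eq, ← pow_succ, h8]
    rcases Nat.even_or_odd' w with ⟨i, hi | hi⟩
    · left; rw [h7, hi, pow_mul, hz2, one_pow, one_mul]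
    · right; rw [h7, hi, pow_succ, pow_mul, hz2, one_pow, one_mul]
  have hcard4 : Nat.card D = 4 * 2 ^ k' := by rw [hcard, pow_succ]; ring
  have hhh : h * h = h ^ 2 := (pow_two h).symm
  rcases hact with hinv | hinvz
  · rcases ht with ht1 | htz
    · left
      have : NeZero (2 ^ (k' + 1)) := ⟨by positivity⟩
      exact ⟨2 ^ (k' + 1), Cfsg.Agent.Helper9.dihedral_equiv_of (2 ^ (k' + 1)) a h hok
        (by rw [hhh, ht1]) hinv hh hcard⟩
    · right; left
      have : NeZero (2 ^ k') := ⟨by positivity⟩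
      exact ⟨2 ^ k', Cfsg.Agent.Helper9.quaternion_equiv_of (2 ^ k') a h
        (by rw [hok, pow_succ, mul_comm]) (by rw [hhh, htz, hz]) hinv hh hcard4⟩
  · right; right
    have hk3 : 2 ≤ k' := by
      by_contra hlt
      push Not at hlt
      interval_cases k'
      · rw [hz] at hinvz
        apply ha1
        have e : a = h⁻¹ * (h * a * h⁻¹) * h := by group
        rw [e, hinvz]; group
      · refine hkey 1 ?_ rfl
        rw [hinvz, hz]; group
    have hpow' : z * a⁻¹ = a ^ (2 ^ (k' + 1 - 1) - 1) := by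
      rw [Nat.add_sub_cancel, hz, eq_comm, eq_mul_inv_iff_mul_eq, ← pow_succ,
        Nat.sub_add_cancel Nat.one_le_two_pow]
    have hcard' : Nat.card D = 2 ^ (k' + 1 + 1) := by
      rw [hcard, pow_succ _ (k' + 1), mul_comm]
    rcases ht with ht1 | htz
    · refine ⟨k' + 1, by omega, hcard', a, h, hok, ?_, by rw [hinvz, hpow']⟩
      exact orderOf_eq_prime ht1 (fun h1 => hh (h1 ▸ Subgroup.one_mem _))
    · have hy2 : (a * h) ^ 2 = 1 := by
        have e : (a * h) ^ 2 = a * (h * a * h⁻¹) * h ^ 2 := by rw [pow_two, pow_two]; group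
        rw [e, hinvz, htz, ← mul_assoc, ← hza.eq, mul_inv_cancel_right, ← pow_two, hz2]
      refine ⟨k' + 1, by omega, hcard', a, a * h, hok, orderOf_eq_prime hy2 ?_, ?_⟩
      · intro h1
        apply hh
        have e : h = a⁻¹ := eq_inv_of_mul_eq_one_right h1
        rw [e]; exact Subgroup.inv_mem _ (Subgroup.mem_zpowers a)
      · have e : a * h * a * (a * h)⁻¹ = a * (h * a * h⁻¹) * a⁻¹ := by group
        rw [e, hinvz, ← hpow', ← mul_assoc, ← hza.eq, mul_inv_cancel_right]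

end Cfsg.Agent.Helper27
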