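import Cfsg.Agent.Helper27.CycFactor
import Cfsg.Agent.Helper27.FusAbelian

set_option autoImplicit false

namespace Cfsg.Agent.Helper27

/-- a `p'`-automorphism of an abelian `p`-group fixing all elements of order dividing `p` is trivial -/
theorem aut_eq_one_of_fix_socle {G : Type*} [Group G] [Finite G] (hcomm : ∀ a b : G, a * b = b * a)
    {p : ℕ} [Fact p.Prime] (hG : IsPGroup p G) (α : MulAut G) (hα : (orderOf α).Coprime p)
    (hfix : ∀ x : G, x ^ p = 1 → α x = x) : α = 1 := by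
  have hp := (Fact.out : p.Prime)
  obtain ⟨A, hA⟩ : ∃ A, A = Subgroup.zpowers α := ⟨_, rfl⟩
  have hAc : (Nat.card A).Coprime p := by rw [hA, Nat.card_zpowers]; exact hα
  obtain ⟨h1, h2⟩ := coprime_abelian_decomp hcomm hG A hAc
  have hfixA : ∀ x : G, x ^ p = 1 → x ∈ fixedPts A := by
    intro x hx
    rw [mem_fixedPts]
    intro β hβ
    have hle : Subgroup.zpowers α ≤ MulAction.stabilizer (MulAut G) x := by
      rw [Subgroup.zpowers_le, MulAction.mem_stabilizer_iff]
      exact hfix x hx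
    rw [hA] at hβ
    exact MulAction.mem_stabilizer_iff.mp (hle hβ)
  have hcs : commSub A = ⊥ := by
    by_contra hne
    have hdvd : p ∣ Nat.card (commSub A) := by
      obtain ⟨k, hk⟩ := IsPGroup.iff_card.mp (hG.to_subgroup (commSub A))
      rw [hk]
      rcases Nat.eq_zero_or_pos k with h0 | h0
      · rw [h0, pow_zero] at hk
        exact absurd (Subgroup.card_eq_one.mp hk) hne
      · exact dvd_pow_self p h0.ne'
    obtain ⟨z, hz⟩ := exists_prime_orderOf_dvd_card' p hdvd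
    have hz1 : (z : G) ^ p = 1 := by
      have h3 : z ^ p = 1 := by rw [← hz]; exact pow_orderOf_eq_one z
      exact congrArg Subtype.val h3
    have hmem : (z : G) ∈ fixedPts A ⊓ commSub A := ⟨hfixA _ hz1, z.2⟩
    rw [h1, Subgroup.mem_bot] at hmem
    have h4 : z = 1 := Subtype.ext hmem
    rw [h4, orderOf_one] at hz
    exact hp.one_lt.ne hz
  rw [hcs, sup_bot_eq] at h2
  ext x
  have h5 : x ∈ fixedPts A := by rw [h2]; trivial
  exact h5 α (by rw [hA]; exact Subgroup.mem_zpowers α)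

/-- a `p'`-automorphism acting trivially on the factors of a descending chain fixes its top term -/
theorem fix_of_desc_chain {G : Type*} [Group G] [Finite G] {p : ℕ} (hG : IsPGroup p G)
    (α : MulAut G) (hα : (orderOf α).Coprime p) (N : ℕ) (V : ℕ → Subgroup G) (hN : V N = ⊥)
    (hinv : ∀ j, ∀ x ∈ V j, α x ∈ V j) (hstab : ∀ j, ∀ x ∈ V j, x⁻¹ * α x ∈ V (j + 1)) :
    ∀ x ∈ V 0, α x = x := by
  have hstep : ∀ W : Subgroup G, (∀ x ∈ W, α x ∈ W) →
      (∀ x ∈ W, α (x⁻¹ * α x) = x⁻¹ * α x) → ∀ x ∈ W, α x = x := by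
    intro W hinvW hfix x hx
    have h1 := Helper1.aut_eq_one_of_fixes (hG.to_subgroup W) (Helper1.restrictAut α W hinvW)
      (Helper1.restrictAut_coprime α W hinvW hα) (fun y => Subtype.ext (by
        rw [Helper1.restrictAut_apply]
        exact hfix y y.2))
    have h4 := Helper1.restrictAut_apply α W hinvW ⟨x, hx⟩
    rw [h1] at h4
    exact h4.symm
  have key : ∀ i j, i + j = N → ∀ x ∈ V j, α x = x := by
    intro i
    induction i with
    | zero =>
      intro j hj x hx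
      have hjN : j = N := by omega
      rw [hjN, hN, Subgroup.mem_bot] at hx
      rw [hx, map_one]
    | succ i ih =>
      intro j hj x hx
      exact hstep (V j) (hinv j) (fun y hy => ih (j + 1) (by omega) _ (hstab j y hy)) x hx
  exact key N 0 (by omega)

/-- `Ω₁(G) ∩ ℧^j(G)` for a commutative group -/
def soc (p : ℕ) (G : Type*) [CommGroup G] (j : ℕ) : Subgroup G where
  carrier := {x | x ^ p = 1 ∧ ∃ y, y ^ (p ^ j) = x}
  one_mem' := ⟨one_pow _, 1, one_pow _⟩
  mul_mem' := by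
    rintro a b ⟨ha, y, rfl⟩ ⟨hb, z, rfl⟩
    exact ⟨by rw [mul_pow, ha, hb, one_mul], y * z, mul_pow _ _ _⟩
  inv_mem' := by
    rintro a ⟨ha, y, rfl⟩
    exact ⟨by rw [inv_pow, ha, inv_one], y⁻¹, inv_pow _ _⟩

theorem mem_soc {p : ℕ} {G : Type*} [CommGroup G] {j : ℕ} {x : G} :
    x ∈ soc p G j ↔ x ^ p = 1 ∧ ∃ y, y ^ (p ^ j) = x := Iff.rfl

/-- if the socle filtration has cyclic factors, `p'`-groups of automorphisms are abelian of exponent dividing
`p - 1` -/
theorem pprime_abelian_of_soc_cyclic {G : Type*} [CommGroup G] [Finite G] {p : ℕ} [Fact p.Prime]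
    (hG : IsPGroup p G)
    (hcyc : ∀ j, IsCyclic (↥(soc p G j) ⧸ (soc p G (j + 1)).subgroupOf (soc p G j)))
    (H : Subgroup (MulAut G)) (hH : (Nat.card H).Coprime p) :
    (∀ a ∈ H, ∀ b ∈ H, a * b = b * a) ∧ ∀ h ∈ H, h ^ (p - 1) = 1 := by
  have hchar : ∀ j, ∀ b ∈ H, ∀ x ∈ soc p G j, b x ∈ soc p G j := by
    rintro j b - x ⟨hx, y, rfl⟩
    exact ⟨by rw [← map_pow, hx, map_one], b y, (map_pow b y _).symm⟩
  obtain ⟨N, hN⟩ := IsPGroup.iff_card.mp hG
  have hVN : soc p G N = ⊥ := by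
    rw [eq_bot_iff]
    rintro x ⟨-, y, rfl⟩
    rw [Subgroup.mem_bot, ← hN]
    exact pow_card_eq_one'
  have hord : ∀ γ ∈ H, (orderOf γ).Coprime p := by
    intro γ hγ
    have h1 : orderOf γ ∣ Nat.card H := by
      have := orderOf_dvd_natCard (⟨γ, hγ⟩ : H)
      rwa [Subgroup.orderOf_mk] at this
    exact Nat.Coprime.coprime_dvd_left h1 hH
  have key : ∀ γ ∈ H, (∀ j, ∀ x ∈ soc p G j, x⁻¹ * γ x ∈ soc p G (j + 1)) → γ = 1 := by
    intro γ hγ hstab
    apply aut_eq_one_of_fix_socle (fun a b => mul_comm a b) hG γ (hord γ hγ)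
    intro x hx
    exact fix_of_desc_chain hG γ (hord γ hγ) N (soc p G) hVN (fun j => hchar j γ hγ) hstab x
      ⟨hx, x, by rw [pow_zero, pow_one]⟩
  refine ⟨fun a ha b hb => ?_, fun h hh => ?_⟩
  · have h1 : a * b * a⁻¹ * b⁻¹ = 1 := by
      apply key _ (H.mul_mem (H.mul_mem (H.mul_mem ha hb) (H.inv_mem ha)) (H.inv_mem hb))
      intro j x hx
      have := hcyc j
      exact comm_mem_of_cyclic_factor H (soc p G (j + 1)) (soc p G j) (hchar (j + 1)) (hchar j)
        ha hb x hx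
    calc a * b = (a * b * a⁻¹ * b⁻¹) * (b * a) := by group
      _ = b * a := by rw [h1, one_mul]
  · apply key _ (H.pow_mem hh _)
    intro j x hx
    have := hcyc j
    exact pow_mem_of_cyclic_factor H (soc p G (j + 1)) (soc p G j) (hG.to_subgroup _)
      (hchar (j + 1)) (hchar j) hh (hord h hh) x hx

/-- the property transports along isomorphisms -/
theorem pprime_transport {G G' : Type*} [Group G] [Group G'] (φ : G ≃* G') {p : ℕ}
    (h : ∀ H' : Subgroup (MulAut G'), (Nat.card H').Coprime p →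
      (∀ a ∈ H', ∀ b ∈ H', a * b = b * a) ∧ ∀ h ∈ H', h ^ (p - 1) = 1)
    (H : Subgroup (MulAut G)) (hH : (Nat.card H).Coprime p) :
    (∀ a ∈ H, ∀ b ∈ H, a * b = b * a) ∧ ∀ h ∈ H, h ^ (p - 1) = 1 := by
  obtain ⟨ψ, -⟩ : ∃ ψ : MulAut G ≃* MulAut G', True := ⟨MulAut.congr φ, trivial⟩
  have hcard : Nat.card (H.map ψ.toMonoidHom) = Nat.card H :=
    Subgroup.card_map_of_injective ψ.injective
  obtain ⟨h1, h2⟩ := h (H.map ψ.toMonoidHom) (by rw [hcard]; exact hH)
  refine ⟨fun a ha b hb => ?_, fun x hx => ?_⟩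
  · apply ψ.injective
    rw [map_mul, map_mul]
    exact h1 _ ⟨a, ha, rfl⟩ _ ⟨b, hb, rfl⟩
  · apply ψ.injective
    rw [map_pow, map_one]
    exact h2 _ ⟨x, hx, rfl⟩

end Cfsg.Agent.Helper27
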