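import Cfsg.Agent.Helper27.AbSuperA

set_option autoImplicit false

namespace Cfsg.Agent.Helper27

/-- divisibility in `ZMod (p ^ e)` -/
theorem zmod_ppow_div {p : ℕ} [Fact p.Prime] (e j : ℕ) (hej : e ≠ j + 1) (a : ZMod (p ^ e))
    (ha : p ^ (j + 1) • a = 0) : ∃ b : ZMod (p ^ e), p ^ (j + 1) • b = p ^ j • a := by
  have hp := (Fact.out : p.Prime)
  rcases Nat.lt_or_ge e (j + 1) with h | h
  · refine ⟨0, ?_⟩
    rw [smul_zero]
    have h1 : e ≤ j := by omega
    obtain ⟨d, rfl⟩ := Nat.exists_eq_add_of_le h1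
    rw [nsmul_eq_mul, pow_add, Nat.cast_mul, ZMod.natCast_self, zero_mul, zero_mul]
  · have h2 : j + 2 ≤ e := by omega
    obtain ⟨d, rfl⟩ := Nat.exists_eq_add_of_le h2
    haveI : NeZero (p ^ (j + 2 + d)) := ⟨pow_ne_zero _ hp.ne_zero⟩
    have hv : ((a.val : ℕ) : ZMod (p ^ (j + 2 + d))) = a := ZMod.natCast_zmod_val a
    rw [← hv, nsmul_eq_mul, ← Nat.cast_mul, ZMod.natCast_eq_zero_iff] at ha
    have e1 : p ^ (j + 2 + d) = p ^ (j + 1) * p ^ (d + 1) := by rw [← pow_add]; congr 1; omega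
    have ha' : p ^ (j + 1) * p ^ (d + 1) ∣ p ^ (j + 1) * a.val := e1 ▸ ha
    have h3 : p ^ (d + 1) ∣ a.val := Nat.dvd_of_mul_dvd_mul_left (pow_pos hp.pos _) ha'
    obtain ⟨b, hb⟩ := h3
    refine ⟨((p ^ d * b : ℕ) : ZMod (p ^ (j + 2 + d))), ?_⟩
    rw [← hv, hb]
    simp only [nsmul_eq_mul]
    push_cast
    ring

/-- a factor `L/K` embedding in a cyclic group is cyclic -/
theorem isCyclic_quot_of_hom {G : Type*} [CommGroup G] (K L : Subgroup G) {Z : Type*} [Group Z]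
    [IsCyclic Z] (f : G →* Z) (h : ∀ x ∈ L, f x = 1 → x ∈ K) :
    IsCyclic (↥L ⧸ K.subgroupOf L) := by
  obtain ⟨f', hf'⟩ : ∃ f' : L →* Z, f' = f.comp L.subtype := ⟨_, rfl⟩
  have hker : f'.ker ≤ (K.subgroupOf L).comap (MonoidHom.id L) := by
    intro x hx
    rw [MonoidHom.mem_ker, hf'] at hx
    exact Subgroup.mem_subgroupOf.mpr (h x x.2 hx)
  have h1 : IsCyclic (L ⧸ f'.ker) :=
    isCyclic_of_surjective (QuotientGroup.quotientKerEquivRange f').symm
      (QuotientGroup.quotientKerEquivRange f').symm.surjective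
  have h2 : Function.Surjective (QuotientGroup.map f'.ker (K.subgroupOf L) (MonoidHom.id L) hker) := by
    intro v
    obtain ⟨x, rfl⟩ := QuotientGroup.mk_surjective v
    exact ⟨QuotientGroup.mk x, rfl⟩
  exact isCyclic_of_surjective _ h2

variable {p : ℕ} [Fact p.Prime] {ι : Type} (e : ι → ℕ)

/-- lifting one more step in the coordinates whose exponent is not `j + 1` -/
theorem soc_coord (j : ℕ) (x : ∀ k, Multiplicative (ZMod (p ^ e k)))
    (hx : x ∈ soc p (∀ k, Multiplicative (ZMod (p ^ e k))) j) (k : ι) (hk : e k ≠ j + 1) :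
    ∃ w : Multiplicative (ZMod (p ^ e k)), w ^ (p ^ (j + 1)) = x k := by
  obtain ⟨hx1, y, rfl⟩ := hx
  have h1 : ((y k) ^ (p ^ j)) ^ p = 1 := congrFun hx1 k
  have h2 : p ^ (j + 1) • Multiplicative.toAdd (y k) = 0 := by
    rw [pow_succ, mul_nsmul]
    exact congrArg Multiplicative.toAdd h1
  obtain ⟨b, hb⟩ := zmod_ppow_div (e k) j hk (Multiplicative.toAdd (y k)) h2
  refine ⟨Multiplicative.ofAdd b, ?_⟩
  show Multiplicative.ofAdd (p ^ (j + 1) • b) = (y k) ^ (p ^ j)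
  rw [hb]
  rfl

theorem soc_succ_of (j : ℕ) (x : ∀ k, Multiplicative (ZMod (p ^ e k)))
    (hx : x ∈ soc p (∀ k, Multiplicative (ZMod (p ^ e k))) j)
    (h1 : ∀ k, e k = j + 1 → x k = 1) :
    x ∈ soc p (∀ k, Multiplicative (ZMod (p ^ e k))) (j + 1) := by
  refine ⟨hx.1, ?_⟩
  have h2 : ∀ k, ∃ w : Multiplicative (ZMod (p ^ e k)), w ^ (p ^ (j + 1)) = x k := by
    intro k
    by_cases hk : e k = j + 1
    · exact ⟨1, by rw [one_pow, h1 k hk]⟩
    · exact soc_coord e j x hx k hk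
  choose w hw using h2
  exact ⟨w, funext hw⟩

/-- with distinct invariants the socle filtration has cyclic factors -/
theorem soc_cyclic_of_injective (he : Function.Injective e) (j : ℕ) :
    IsCyclic (↥(soc p (∀ k, Multiplicative (ZMod (p ^ e k))) j) ⧸
      (soc p (∀ k, Multiplicative (ZMod (p ^ e k))) (j + 1)).subgroupOf
        (soc p (∀ k, Multiplicative (ZMod (p ^ e k))) j)) := by
  by_cases hex : ∃ i₀, e i₀ = j + 1
  · obtain ⟨i₀, hi₀⟩ := hex
    apply isCyclic_quot_of_hom _ _ (Pi.evalMonoidHom (fun k => Multiplicative (ZMod (p ^ e k))) i₀)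
    intro x hx hx1
    apply soc_succ_of e j x hx
    intro k hk
    have hki : k = i₀ := he (hk.trans hi₀.symm)
    rw [hki]
    exact hx1
  · apply isCyclic_quot_of_hom _ _
      (1 : (∀ k, Multiplicative (ZMod (p ^ e k))) →* Multiplicative (ZMod 1))
    intro x hx _
    apply soc_succ_of e j x hx
    intro k hk
    exact absurd ⟨k, hk⟩ hex

end Cfsg.Agent.Helper27
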