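import Cfsg.Agent.Helper27.AbSuperB

set_option autoImplicit false

namespace Cfsg.Agent.Helper27

/-- splitting off two coordinates of a product -/
theorem nonempty_piSplitTwo {ι : Type*} (M : ι → Type*) [∀ k, CommGroup (M k)] {i j : ι}
    (hij : i ≠ j) :
    Nonempty ((∀ k, M k) ≃* (M i × M j) × (∀ k : {k // k ≠ i ∧ k ≠ j}, M k)) := by
  classical
  refine ⟨{ toFun := fun f => ((f i, f j), fun k => f k.1)
            invFun := fun x k => if h : k = i then h ▸ x.1.1 else
              if h' : k = j then h' ▸ x.1.2 else x.2 ⟨k, h, h'⟩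
            left_inv := ?_
            right_inv := ?_
            map_mul' := fun f g => rfl }⟩
  · intro f
    funext k
    by_cases h : k = i
    · subst h; simp
    · by_cases h' : k = j
      · subst h'; simp [h]
      · simp [h, h']
  · rintro ⟨⟨a, b⟩, g⟩
    refine Prod.ext (Prod.ext ?_ ?_) ?_
    · simp
    · simp [hij.symm]
    · funext k
      simp [k.2.1, k.2.2]

universe u

/-- an abelian `p`-group without repeated invariant has only abelian `p'`-groups of automorphisms, of exponent
dividing `p - 1` -/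
theorem pprime_abelian_of_norep {G : Type u} [Group G] [Finite G]
    (hcomm : ∀ a b : G, a * b = b * a) {p : ℕ} [Fact p.Prime] (hG : IsPGroup p G)
    (hno : ¬ ∃ (n : ℕ) (H : Type) (_ : CommGroup H), 0 < n ∧
      Nonempty (G ≃* (Multiplicative (ZMod (p ^ n)) × Multiplicative (ZMod (p ^ n))) × H))
    (H : Subgroup (MulAut G)) (hH : (Nat.card H).Coprime p) :
    (∀ a ∈ H, ∀ b ∈ H, a * b = b * a) ∧ ∀ h ∈ H, h ^ (p - 1) = 1 := by
  have hp := (Fact.out : p.Prime)
  letI : CommGroup G := { (inferInstance : Group G) with mul_comm := hcomm }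
  obtain ⟨ι, _, n, hn, ⟨φ⟩⟩ := CommGroup.equiv_prod_multiplicative_zmod_of_finite G
  have hpow : ∀ k, ∃ m, n k = p ^ m := by
    intro k
    obtain ⟨N, hN⟩ := IsPGroup.iff_card.mp hG
    have h1 : Nat.card (∀ i, Multiplicative (ZMod (n i))) = p ^ N := by
      rw [← hN]; exact (Nat.card_congr φ.toEquiv).symm
    rw [Nat.card_pi] at h1
    have h2 : Nat.card (Multiplicative (ZMod (n k))) ∣ p ^ N := by
      rw [← h1]; exact Finset.dvd_prod_of_mem _ (Finset.mem_univ k)
    have h3 : Nat.card (Multiplicative (ZMod (n k))) = n k := Nat.card_zmod (n k)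
    rw [h3] at h2
    obtain ⟨m, -, hm⟩ := (Nat.dvd_prime_pow hp).mp h2
    exact ⟨m, hm⟩
  choose e he using hpow
  have hne : n = fun k => p ^ e k := funext he
  subst hne
  haveI : Finite (∀ k, Multiplicative (ZMod (p ^ e k))) := Finite.of_equiv G φ.toEquiv
  by_cases hinj : Function.Injective e
  · exact pprime_transport φ (fun H' hH' => pprime_abelian_of_soc_cyclic (hG.of_equiv φ)
      (soc_cyclic_of_injective e hinj) H' hH') H hH
  · exfalso
    rw [Function.Injective] at hinj
    push Not at hinj
    obtain ⟨i, j, hij, hne⟩ := hinj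
    obtain ⟨ψ⟩ := nonempty_piSplitTwo (fun k => Multiplicative (ZMod (p ^ e k))) hne
    apply hno
    refine ⟨e i, (∀ k : {k // k ≠ i ∧ k ≠ j}, Multiplicative (ZMod (p ^ e k))), inferInstance,
      ?_, ?_⟩
    · have h1 : 1 < p ^ e i := hn i
      by_contra h0
      have h2 : e i = 0 := by omega
      rw [h2, pow_zero] at h1
      exact lt_irrefl _ h1
    · have key : ∀ m, m = e j → Nonempty (G ≃* (Multiplicative (ZMod (p ^ e i)) ×
          Multiplicative (ZMod (p ^ m))) ×
            (∀ k : {k // k ≠ i ∧ k ≠ j}, Multiplicative (ZMod (p ^ e k)))) := by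
        rintro m rfl
        exact ⟨φ.trans ψ⟩
      exact key (e i) hij

end Cfsg.Agent.Helper27
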