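import Cfsg.Agent.Helper27.AbSuperC

set_option autoImplicit false

namespace Cfsg.Agent.Helper27

/-- two involutions whose product has order dividing `4` lie in a common `2`-subgroup -/
theorem two_invol_pgroup {G : Type*} [Group G] (σ δ : G) (hσ : σ ^ 2 = 1) (hδ : δ ^ 2 = 1)
    (h4 : (σ * δ) ^ 4 = 1) : ∃ K : Subgroup G, IsPGroup 2 K ∧ σ ∈ K ∧ δ ∈ K := by
  have hσσ : σ * σ = 1 := by rw [← pow_two]; exact hσ
  have hδδ : δ * δ = 1 := by rw [← pow_two]; exact hδ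
  have hσi : σ⁻¹ = σ := inv_eq_of_mul_eq_one_left hσσ
  have hδi : δ⁻¹ = δ := inv_eq_of_mul_eq_one_left hδδ
  obtain ⟨ρ, hρ⟩ : ∃ ρ, ρ = σ * δ := ⟨_, rfl⟩
  have hconj : σ * ρ * σ⁻¹ = ρ⁻¹ := by
    rw [hρ, mul_inv_rev, hσi, hδi, ← mul_assoc, hσσ, one_mul]
  have h1 : IsPGroup 2 (Subgroup.zpowers σ) := by
    rintro ⟨x, hx⟩
    obtain ⟨k, rfl⟩ := Subgroup.mem_zpowers_iff.mp hx
    refine ⟨1, Subtype.ext ?_⟩
    show (σ ^ k) ^ 2 ^ 1 = 1
    rw [pow_one, ← zpow_natCast, ← zpow_mul, mul_comm, zpow_mul, zpow_natCast, hσ, one_zpow]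
  have h2 : IsPGroup 2 (Subgroup.zpowers ρ) := by
    rintro ⟨x, hx⟩
    obtain ⟨k, rfl⟩ := Subgroup.mem_zpowers_iff.mp hx
    refine ⟨2, Subtype.ext ?_⟩
    show (ρ ^ k) ^ 2 ^ 2 = 1
    have e4 : (2 : ℕ) ^ 2 = 4 := by norm_num
    rw [e4, ← zpow_natCast, ← zpow_mul, mul_comm, zpow_mul, zpow_natCast, hρ, h4, one_zpow]
  have hfwd : ∀ h ∈ Subgroup.zpowers ρ, σ * h * σ⁻¹ ∈ Subgroup.zpowers ρ := by
    intro h hh
    obtain ⟨k, rfl⟩ := Subgroup.mem_zpowers_iff.mp hh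
    have e1 : σ * ρ ^ k * σ⁻¹ = (ρ⁻¹) ^ k := by
      rw [← hconj, conj_zpow]
    rw [e1]
    exact zpow_mem (inv_mem (Subgroup.mem_zpowers ρ)) k
  have hle : Subgroup.zpowers σ ≤ Subgroup.normalizer (Subgroup.zpowers ρ : Set G) := by
    rw [Subgroup.zpowers_le, Subgroup.mem_normalizer_iff]
    intro h
    refine ⟨hfwd h, fun hh => ?_⟩
    have e2 : h = σ * (σ * h * σ⁻¹) * σ⁻¹ := by
      rw [hσi]
      calc h = (σ * σ) * h * (σ * σ) := by rw [hσσ, one_mul, mul_one]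
        _ = σ * (σ * h * σ) * σ := by group
    rw [e2]
    exact hfwd _ hh
  refine ⟨Subgroup.zpowers σ ⊔ Subgroup.zpowers ρ, IsPGroup.to_sup_of_normal_right' h1 h2 hle,
    ?_, ?_⟩
  · exact (le_sup_left : Subgroup.zpowers σ ≤ _) (Subgroup.mem_zpowers σ)
  · have e3 : δ = σ⁻¹ * ρ := by rw [hρ, inv_mul_cancel_left]
    rw [e3]
    exact mul_mem (inv_mem ((le_sup_left : Subgroup.zpowers σ ≤ _) (Subgroup.mem_zpowers σ)))
      ((le_sup_right : Subgroup.zpowers ρ ≤ _) (Subgroup.mem_zpowers ρ))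

/-- the coordinate swap -/
def swapAut (C : Type*) [CommGroup C] : MulAut (C × C) := MulEquiv.prodComm

/-- inversion of the first coordinate -/
def invAut (C : Type*) [CommGroup C] : MulAut (C × C) :=
  MulEquiv.prodCongr (MulEquiv.inv C) (MulEquiv.refl C)

/-- an automorphism of order three -/
def rotAut (C : Type*) [CommGroup C] : MulAut (C × C) where
  toFun x := (x.2⁻¹, x.1 * x.2⁻¹)
  invFun x := (x.1⁻¹ * x.2, x.1⁻¹)
  left_inv x := by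
    apply Prod.ext
    · show (x.2⁻¹)⁻¹ * (x.1 * x.2⁻¹) = x.1
      rw [inv_inv, mul_comm x.1, mul_inv_cancel_left]
    · show (x.2⁻¹)⁻¹ = x.2
      rw [inv_inv]
  right_inv x := by
    apply Prod.ext
    · show (x.1⁻¹)⁻¹ = x.1
      rw [inv_inv]
    · show x.1⁻¹ * x.2 * (x.1⁻¹)⁻¹ = x.2
      rw [inv_inv, mul_comm x.1⁻¹ x.2, mul_assoc, inv_mul_cancel, mul_one]
  map_mul' x y := by
    apply Prod.ext
    · show (x.2 * y.2)⁻¹ = x.2⁻¹ * y.2⁻¹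
      rw [mul_inv]
    · show x.1 * y.1 * (x.2 * y.2)⁻¹ = x.1 * x.2⁻¹ * (y.1 * y.2⁻¹)
      rw [mul_inv, mul_mul_mul_comm]

theorem swapAut_apply (C : Type*) [CommGroup C] (x y : C) : swapAut C (x, y) = (y, x) := rfl
theorem invAut_apply (C : Type*) [CommGroup C] (x y : C) : invAut C (x, y) = (x⁻¹, y) := rfl
theorem rotAut_apply (C : Type*) [CommGroup C] (x y : C) : rotAut C (x, y) = (y⁻¹, x * y⁻¹) := rfl

theorem swapAut_sq (C : Type*) [CommGroup C] : swapAut C ^ 2 = 1 := by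
  ext ⟨x, y⟩ <;> rfl

theorem invAut_sq (C : Type*) [CommGroup C] : invAut C ^ 2 = 1 := by
  apply MulEquiv.ext
  rintro ⟨x, y⟩
  rw [pow_two, MulAut.mul_apply, invAut_apply, invAut_apply, inv_inv]
  rfl

theorem swap_inv_pow_four (C : Type*) [CommGroup C] : (swapAut C * invAut C) ^ 4 = 1 := by
  obtain ⟨ρ, hρ⟩ : ∃ ρ, ρ = swapAut C * invAut C := ⟨_, rfl⟩
  rw [← hρ]
  have h : ∀ x y : C, ρ (x, y) = (y, x⁻¹) := by
    intro x y
    rw [hρ]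
    rfl
  have h2 : ∀ x y : C, (ρ ^ 2) (x, y) = (x⁻¹, y⁻¹) := by
    intro x y
    rw [pow_two, MulAut.mul_apply, h, h]
  apply MulEquiv.ext
  rintro ⟨x, y⟩
  have e4 : (4 : ℕ) = 2 + 2 := rfl
  rw [e4, pow_add, MulAut.mul_apply, h2, h2, inv_inv, inv_inv]
  rfl

theorem rotAut_cube (C : Type*) [CommGroup C] : rotAut C ^ 3 = 1 := by
  apply MulEquiv.ext
  rintro ⟨x, y⟩
  have e3 : (3 : ℕ) = 2 + 1 := rfl
  rw [e3, pow_add, pow_two, pow_one, MulAut.mul_apply, MulAut.mul_apply, rotAut_apply,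
    rotAut_apply, rotAut_apply]
  have e1 : (y⁻¹ * (x * y⁻¹)⁻¹)⁻¹ = x := by
    rw [mul_inv_rev, inv_inv, inv_inv, inv_mul_cancel_right]
  apply Prod.ext
  · exact e1
  · show (x * y⁻¹)⁻¹ * (y⁻¹ * (x * y⁻¹)⁻¹)⁻¹ = y
    rw [e1, mul_inv_rev, inv_inv, inv_mul_cancel_right]

end Cfsg.Agent.Helper27
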