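import Cfsg.Agent.Helper27.AbSuperD

set_option autoImplicit false

namespace Cfsg.Agent.Helper27

/-- automorphisms of a direct factor extend to the group -/
def prodAutHom {G A B : Type*} [Group G] [Group A] [Group B] (e : G ≃* A × B) :
    MulAut A →* MulAut G where
  toFun α := e.trans ((MulEquiv.prodCongr α (MulEquiv.refl B)).trans e.symm)
  map_one' := by
    apply MulEquiv.ext
    intro x
    show e.symm ((e x).1, (e x).2) = x
    exact e.symm_apply_apply x
  map_mul' := by
    intro α β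
    apply MulEquiv.ext
    intro x
    show e.symm (α (β (e x).1), (e x).2) =
      e.symm (α (e (e.symm (β (e x).1, (e x).2))).1, (e (e.symm (β (e x).1, (e x).2))).2)
    rw [e.apply_symm_apply]

theorem prodAutHom_apply {G A B : Type*} [Group G] [Group A] [Group B] (e : G ≃* A × B)
    (α : MulAut A) (x : G) : prodAutHom e α x = e.symm (α (e x).1, (e x).2) := rfl

theorem prodAutHom_injective {G A B : Type*} [Group G] [Group A] [Group B] (e : G ≃* A × B) :
    Function.Injective (prodAutHom e) := by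
  intro α β h
  apply MulEquiv.ext
  intro c
  have h1 := congrArg (fun γ : MulAut G => γ (e.symm (c, 1))) h
  simp only [prodAutHom_apply, MulEquiv.apply_symm_apply] at h1
  have h2 := e.symm.injective h1
  exact congrArg Prod.fst h2

/-- `C × C` has a `p'`-group of automorphisms which is not abelian of exponent dividing `p - 1` -/
theorem exists_bad_pprime_prod {p : ℕ} [Fact p.Prime] (C : Type*) [CommGroup C] [Finite C] (g : C)
    (hg : g ≠ 1) (hg2 : p ≠ 2 → g ^ 2 ≠ 1) :
    ∃ K : Subgroup (MulAut (C × C)), (Nat.card K).Coprime p ∧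
      ¬ ((∀ a ∈ K, ∀ b ∈ K, a * b = b * a) ∧ ∀ h ∈ K, h ^ (p - 1) = 1) := by
  have hp := (Fact.out : p.Prime)
  by_cases hp2 : p = 2
  · refine ⟨Subgroup.zpowers (rotAut C), ?_, ?_⟩
    · rw [Nat.card_zpowers, hp2]
      exact Nat.Coprime.coprime_dvd_left (orderOf_dvd_of_pow_eq_one (rotAut_cube C)) (by norm_num)
    · rintro ⟨-, h⟩
      have h1 := h _ (Subgroup.mem_zpowers (rotAut C))
      rw [hp2] at h1
      have h2 : rotAut C = 1 := by
        have e1 : rotAut C ^ (2 - 1) = rotAut C := pow_one _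
        rw [← e1, h1]
      have h3 : rotAut C (g, 1) = (g, 1) := by rw [h2]; rfl
      rw [rotAut_apply] at h3
      have h4 : (1 : C)⁻¹ = g := congrArg Prod.fst h3
      apply hg
      rw [← h4, inv_one]
  · obtain ⟨K, hK, hσ, hδ⟩ := two_invol_pgroup (swapAut C) (invAut C) (swapAut_sq C) (invAut_sq C)
      (swap_inv_pow_four C)
    refine ⟨K, ?_, ?_⟩
    · have : Fact (Nat.Prime 2) := ⟨Nat.prime_two⟩
      obtain ⟨k, hk⟩ := IsPGroup.iff_card.mp hK
      rw [hk]
      apply Nat.Coprime.pow_left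
      rw [Nat.coprime_primes Nat.prime_two hp]
      exact fun h => hp2 h.symm
    · rintro ⟨h, -⟩
      have h1 := h _ hσ _ hδ
      have h2 := congrArg (fun α : MulAut (C × C) => α (g, 1)) h1
      simp only [MulAut.mul_apply, swapAut_apply, invAut_apply] at h2
      have h3 : g⁻¹ = g := by
        have := congrArg Prod.snd h2
        simpa using this
      apply hg2 hp2
      rw [pow_two]
      nth_rewrite 1 [← h3]
      exact inv_mul_cancel g

/-- a group with a repeated invariant has a `p'`-group of automorphisms which is not abelian of exponent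
dividing `p - 1` -/
theorem exists_bad_pprime {G : Type*} [Group G] {p : ℕ} [Fact p.Prime] {n : ℕ}
    (hn : 0 < n) {H₁ : Type*} [CommGroup H₁]
    (φ : G ≃* (Multiplicative (ZMod (p ^ n)) × Multiplicative (ZMod (p ^ n))) × H₁) :
    ∃ K : Subgroup (MulAut G), (Nat.card K).Coprime p ∧
      ¬ ((∀ a ∈ K, ∀ b ∈ K, a * b = b * a) ∧ ∀ h ∈ K, h ^ (p - 1) = 1) := by
  have hp := (Fact.out : p.Prime)
  have : NeZero (p ^ n) := ⟨pow_ne_zero _ hp.ne_zero⟩
  have hg : (Multiplicative.ofAdd (1 : ZMod (p ^ n))) ≠ 1 := by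
    intro h
    have h1 : ((1 : ℕ) : ZMod (p ^ n)) = 0 := by
      rw [Nat.cast_one]
      exact congrArg Multiplicative.toAdd h
    rw [ZMod.natCast_eq_zero_iff] at h1
    have h2 : p ∣ 1 := (dvd_pow_self p hn.ne').trans h1
    exact hp.one_lt.ne' (Nat.dvd_one.mp h2)
  have hg2 : p ≠ 2 → (Multiplicative.ofAdd (1 : ZMod (p ^ n))) ^ 2 ≠ 1 := by
    intro hp2 h
    have h1 : ((2 : ℕ) : ZMod (p ^ n)) = 0 := by
      have h0 : (2 : ℕ) • (1 : ZMod (p ^ n)) = 0 := congrArg Multiplicative.toAdd h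
      rw [nsmul_eq_mul, mul_one] at h0
      exact h0
    rw [ZMod.natCast_eq_zero_iff] at h1
    have h2 : p ∣ 2 := (dvd_pow_self p hn.ne').trans h1
    exact hp2 ((Nat.prime_dvd_prime_iff_eq hp Nat.prime_two).mp h2)
  obtain ⟨K₀, hK₀, hbad⟩ := exists_bad_pprime_prod (p := p) (Multiplicative (ZMod (p ^ n)))
    (Multiplicative.ofAdd 1) hg hg2
  have hinj := prodAutHom_injective φ
  refine ⟨K₀.map (prodAutHom φ), ?_, ?_⟩
  · rw [Subgroup.card_map_of_injective hinj]
    exact hK₀
  · rintro ⟨h1, h2⟩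
    apply hbad
    refine ⟨fun a ha b hb => ?_, fun x hx => ?_⟩
    · apply hinj
      rw [map_mul, map_mul]
      exact h1 _ ⟨a, ha, rfl⟩ _ ⟨b, hb, rfl⟩
    · apply hinj
      rw [map_pow, map_one]
      exact h2 _ ⟨x, hx, rfl⟩

end Cfsg.Agent.Helper27
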