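import Cfsg.Agent.Helper27.BurnsideGL
import Cfsg.Agent.Helper27.FusAutSys

set_option autoImplicit false

namespace Cfsg.Agent.Helper27

open Cfsg

/-- Let `A` be a group of automorphisms of the `p`-group `G` whose normal `p`-subgroups lie in `I`, and `Q` an
`A`-invariant subgroup whose Frattini quotient has order dividing `p²`.  If `c ∈ A` is a `p`-element outside `I`
acting trivially on `G/Q`, then `c` acts nontrivially on the Frattini quotient of `Q`, and some `τ ∈ A` acting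
trivially on `G/Q` inverts the Frattini quotient of `Q` and commutes with `c` modulo `I`. -/
theorem aut_invert {G : Type*} [Group G] [Finite G] {p : ℕ} [Fact p.Prime] (hG : IsPGroup p G)
    (A I : Subgroup (MulAut G))
    (hrad : ∀ N : Subgroup A, N.Normal → IsPGroup p N → N.map A.subtype ≤ I)
    (Q : Subgroup G) (hQinv : ∀ α ∈ A, ∀ q ∈ Q, α q ∈ Q)
    (hidx : Nat.card (Q ⧸ frattini Q) ∣ p ^ 2)
    (c : MulAut G) (hcA : c ∈ A) (n : ℕ) (hc : c ^ p ^ n = 1) (hcI : c ∉ I)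
    (hcQ : ∀ r : G, r⁻¹ * c r ∈ Q) :
    (∃ q ∈ Q, q⁻¹ * c q ∉ (frattini Q).map Q.subtype) ∧
    ∃ τ ∈ A, (∀ r : G, r⁻¹ * τ r ∈ Q) ∧ (∀ q ∈ Q, q * τ q ∈ (frattini Q).map Q.subtype) ∧
      c⁻¹ * τ * c * τ⁻¹ ∈ I := by
  classical
  have hp := (Fact.out : p.Prime)
  have hQp : IsPGroup p Q := hG.to_subgroup Q
  obtain ⟨ρ₀, hρ₀⟩ : ∃ ρ₀ : A →* MulAut Q, ∀ (a : A) (x : Q), ((ρ₀ a x : Q) : G) = (a : MulAut G) x :=
    ⟨{ toFun := fun a => Helper1.restrictAut (a : MulAut G) Q (hQinv a a.2)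
       map_one' := by ext x; rfl
       map_mul' := fun a b => by ext x; rfl }, fun _ _ => rfl⟩
  obtain ⟨ρ, hρ⟩ : ∃ ρ : A →* MulAut (Q ⧸ frattini Q),
      ∀ (a : A) (x : Q), ρ a (x : Q ⧸ frattini Q) = ((ρ₀ a x : Q) : Q ⧸ frattini Q) :=
    ⟨(frattiniAct Q).comp ρ₀, fun _ _ => rfl⟩
  have hVp : IsPGroup p (Q ⧸ frattini Q) := hQp.to_quotient _
  have hVexp : ∀ v : Q ⧸ frattini Q, v ^ p = 1 := by
    intro v
    obtain ⟨x, rfl⟩ := QuotientGroup.mk_surjective v
    rw [← QuotientGroup.mk_pow, QuotientGroup.eq_one_iff]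
    exact (Cfsg.Agent.S0012.result p hQp).2 x
  have hmemΦ : ∀ x : Q, (x : G) ∈ (frattini Q).map Q.subtype ↔ x ∈ frattini Q := by
    intro x
    constructor
    · rintro ⟨z, hz, hzx⟩
      have : z = x := Subtype.ext hzx
      rw [← this]
      exact hz
    · intro hx
      exact ⟨x, hx, rfl⟩
  -- the kernel of the action on G/Q
  let Ksub : Subgroup A :=
    { carrier := {a | ∀ r : G, r⁻¹ * (a : MulAut G) r ∈ Q}
      one_mem' := by
        intro r
        show r⁻¹ * r ∈ Q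
        rw [inv_mul_cancel]
        exact Q.one_mem
      mul_mem' := by
        intro a b ha hb r
        have e : r⁻¹ * ((a * b : A) : MulAut G) r
            = (r⁻¹ * (a : MulAut G) r) * (a : MulAut G) (r⁻¹ * (b : MulAut G) r) := by
          show r⁻¹ * (a : MulAut G) ((b : MulAut G) r) = _
          rw [map_mul, map_inv]
          group
        rw [e]
        exact Q.mul_mem (ha r) (hQinv a a.2 _ (hb r))
      inv_mem' := by
        intro a ha r
        have e : r⁻¹ * ((a⁻¹ : A) : MulAut G) r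
            = (((a : MulAut G)⁻¹ r)⁻¹ * (a : MulAut G) ((a : MulAut G)⁻¹ r))⁻¹ := by
          show r⁻¹ * (a : MulAut G)⁻¹ r = _
          rw [MulAut.apply_inv_self]
          group
        rw [e]
        exact Q.inv_mem (ha _) }
  have hKmem : ∀ a : A, a ∈ Ksub ↔ ∀ r : G, r⁻¹ * (a : MulAut G) r ∈ Q := fun _ => Iff.rfl
  have hKn : Ksub.Normal := by
    constructor
    intro a ha g
    rw [hKmem] at ha ⊢
    intro r
    have e : r⁻¹ * ((g * a * g⁻¹ : A) : MulAut G) r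
        = (g : MulAut G) (((g : MulAut G)⁻¹ r)⁻¹ * (a : MulAut G) ((g : MulAut G)⁻¹ r)) := by
      show r⁻¹ * (g : MulAut G) ((a : MulAut G) ((g : MulAut G)⁻¹ r)) = _
      rw [map_mul, map_inv, MulAut.apply_inv_self]
    rw [e]
    exact hQinv g g.2 _ (ha _)
  -- coprime elements of the kernel acting trivially on the Frattini quotient are trivial
  have hP2 : ∀ a : A, a ∈ Ksub → ρ a = 1 → (orderOf a).Coprime p → a = 1 := by
    intro a haK haρ hcop
    have hβcop : (orderOf (ρ₀ a)).Coprime p :=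
      Nat.Coprime.coprime_dvd_left (orderOf_map_dvd ρ₀ a) hcop
    have hβ : ρ₀ a = 1 := by
      apply burnside_frattini hQp (ρ₀ a) hβcop
      intro x
      have h1 := hρ a x
      rw [haρ, MulAut.one_apply] at h1
      exact QuotientGroup.eq.mp h1
    have hfixQ : ∀ q ∈ Q, (a : MulAut G) q = q := by
      intro q hq
      have h1 := hρ₀ a ⟨q, hq⟩
      rw [hβ] at h1
      exact h1.symm
    have hcop' : (orderOf (a : MulAut G)).Coprime p := by
      rw [Subgroup.orderOf_coe]; exact hcop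
    have h2 := Helper1.aut_eq_one_of_fixes hG (a : MulAut G) hcop' (fun x => hfixQ _ (haK x))
    exact Subtype.ext h2
  have hK₁n : (Ksub ⊓ ρ.ker).Normal := Subgroup.normal_inf_normal _ _
  have hK₁p : IsPGroup p (Ksub ⊓ ρ.ker : Subgroup A) := by
    apply isPGroup_of_coprime_trivial p
    intro g hg
    have h1 := hP2 (g : A) g.2.1 (MonoidHom.mem_ker.mp g.2.2) (by rw [Subgroup.orderOf_coe]; exact hg)
    exact Subtype.ext h1
  have hK₁I := hrad _ hK₁n hK₁p
  obtain ⟨c', hc'⟩ : ∃ c' : A, (c' : MulAut G) = c := ⟨⟨c, hcA⟩, rfl⟩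
  have hc'K : c' ∈ Ksub := by
    rw [hKmem, hc']; exact hcQ
  obtain ⟨t, ht⟩ : ∃ t : MulAut (Q ⧸ frattini Q), t = ρ c' := ⟨_, rfl⟩
  have htp : t ^ p ^ n = 1 := by
    rw [ht, ← map_pow]
    have h1 : c' ^ p ^ n = 1 := by
      apply Subtype.ext
      rw [Subgroup.coe_pow, hc', hc]
      rfl
    rw [h1, map_one]
  have ht1 : t ≠ 1 := by
    intro h
    apply hcI
    rw [← hc']
    exact hK₁I ⟨c', ⟨hc'K, MonoidHom.mem_ker.mpr (ht ▸ h)⟩, rfl⟩
  refine ⟨?_, ?_⟩
  · by_contra hcon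
    push Not at hcon
    apply ht1
    ext v
    obtain ⟨x, rfl⟩ := QuotientGroup.mk_surjective v
    rw [ht, hρ, MulAut.one_apply]
    symm
    rw [QuotientGroup.eq, ← hmemΦ]
    have h1 := hcon x x.2
    rw [← hc'] at h1
    show (x : G)⁻¹ * ((ρ₀ c' x : Q) : G) ∈ _
    rw [hρ₀]
    exact h1
  by_cases hA : ∀ (a : A) (v : Q ⧸ frattini Q), t v = v → t (ρ a v) = ρ a v
  · exfalso
    let U₀ : Subgroup A :=
      { carrier := {a | a ∈ Ksub ∧ (∀ v, t v = v → ρ a v = v) ∧ ∀ v, t (v⁻¹ * ρ a v) = v⁻¹ * ρ a v}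
        one_mem' := by
          refine ⟨Ksub.one_mem, fun v _ => by rw [map_one]; rfl, fun v => ?_⟩
          rw [map_one, MulAut.one_apply, inv_mul_cancel, map_one]
        mul_mem' := by
          rintro a b ⟨haK, ha1, ha2⟩ ⟨hbK, hb1, hb2⟩
          refine ⟨Ksub.mul_mem haK hbK, fun v hv => ?_, fun v => ?_⟩
          · rw [map_mul, MulAut.mul_apply, hb1 v hv, ha1 v hv]
          · have e : v⁻¹ * ρ (a * b) v = (v⁻¹ * ρ b v) * ((ρ b v)⁻¹ * ρ a (ρ b v)) := by
              rw [map_mul, MulAut.mul_apply]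
              group
            rw [e, map_mul, hb2, ha2]
        inv_mem' := by
          rintro a ⟨haK, ha1, ha2⟩
          refine ⟨Ksub.inv_mem haK, fun v hv => ?_, fun v => ?_⟩
          · rw [map_inv]
            have h1 := ha1 v hv
            calc (ρ a)⁻¹ v = (ρ a)⁻¹ (ρ a v) := by rw [h1]
              _ = v := MulAut.inv_apply_self _ _ _
          · have e : v⁻¹ * ρ a⁻¹ v = (((ρ a)⁻¹ v)⁻¹ * ρ a ((ρ a)⁻¹ v))⁻¹ := by
              rw [map_inv, MulAut.apply_inv_self]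
              group
            rw [e, map_inv, ha2] }
    have hUmem : ∀ a : A, a ∈ U₀ ↔ a ∈ Ksub ∧ (∀ v, t v = v → ρ a v = v) ∧
        ∀ v, t (v⁻¹ * ρ a v) = v⁻¹ * ρ a v := fun _ => Iff.rfl
    have hUn : U₀.Normal := by
      constructor
      intro a ha g
      rw [hUmem] at ha ⊢
      obtain ⟨haK, ha1, ha2⟩ := ha
      refine ⟨hKn.conj_mem a haK g, fun v hv => ?_, fun v => ?_⟩
      · have h1 : t (ρ g⁻¹ v) = ρ g⁻¹ v := hA g⁻¹ v hv
        have h2 := ha1 _ h1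
        rw [map_mul, map_mul, MulAut.mul_apply, MulAut.mul_apply, h2, map_inv, MulAut.apply_inv_self]
      · have e : v⁻¹ * ρ (g * a * g⁻¹) v = ρ g ((ρ g⁻¹ v)⁻¹ * ρ a (ρ g⁻¹ v)) := by
          rw [map_mul, map_mul, MulAut.mul_apply, MulAut.mul_apply, map_mul (ρ g), map_inv (ρ g),
            map_inv ρ, MulAut.apply_inv_self]
        rw [e]
        exact hA g _ (ha2 _)
    have hUp : IsPGroup p U₀ := by
      apply isPGroup_of_coprime_trivial p
      intro g hg
      obtain ⟨hgK, hg1, hg2⟩ := (hUmem (g : A)).mp g.2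
      have hcop : (orderOf (g : A)).Coprime p := by rw [Subgroup.orderOf_coe]; exact hg
      have hρcop : (orderOf (ρ (g : A))).Coprime p :=
        Nat.Coprime.coprime_dvd_left (orderOf_map_dvd ρ (g : A)) hcop
      have h1 := Helper1.aut_eq_one_of_fixes hVp (ρ (g : A)) hρcop (fun v => hg1 _ (hg2 v))
      exact Subtype.ext (hP2 (g : A) hgK h1 hcop)
    have hcU : c' ∈ U₀ := by
      rw [hUmem]
      refine ⟨hc'K, fun v hv => by rw [← ht]; exact hv, fun v => ?_⟩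
      rw [← ht]
      exact fix_sq hidx t htp v
    apply hcI
    rw [← hc']
    exact hrad U₀ hUn hUp ⟨c', hcU, rfl⟩
  · push Not at hA
    obtain ⟨a, v, hv, hgv⟩ := hA
    obtain ⟨j, hj⟩ := exists_inverting_word hidx hVexp t (ρ a) htp v hv hgv
    obtain ⟨τ', hτ'⟩ : ∃ τ' : A, τ' = (c' * (a * c' * a⁻¹) ^ j * c') ^ 2 := ⟨_, rfl⟩
    have hρτ : ρ τ' = (t * (ρ a * t * (ρ a)⁻¹) ^ j * t) ^ 2 := by
      rw [hτ', ht, map_pow, map_mul, map_mul, map_pow, map_mul, map_mul, map_inv]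
    have hτK : τ' ∈ Ksub := by
      rw [hτ']
      exact Ksub.pow_mem (Ksub.mul_mem (Ksub.mul_mem hc'K
        (Ksub.pow_mem (hKn.conj_mem c' hc'K a) j)) hc'K) 2
    have hwinv : ∀ u, ρ τ' u = u⁻¹ := by
      intro u
      rw [hρτ]
      exact hj u
    refine ⟨(τ' : MulAut G), τ'.2, (hKmem τ').mp hτK, ?_, ?_⟩
    · intro q hq
      have h1 := hwinv ((⟨q, hq⟩ : Q) : Q ⧸ frattini Q)
      rw [hρ, ← QuotientGroup.mk_inv, QuotientGroup.eq] at h1
      have h1' := Subgroup.inv_mem _ h1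
      rw [mul_inv_rev, inv_inv, inv_inv] at h1'
      have h2 := (hmemΦ _).mpr h1'
      rw [Subgroup.coe_mul, hρ₀] at h2
      exact h2
    · have hcomm : ρ τ' * t = t * ρ τ' := by
        ext u
        rw [MulAut.mul_apply, MulAut.mul_apply, hwinv, hwinv, map_inv]
      have hκρ : ρ (c'⁻¹ * τ' * c' * τ'⁻¹) = 1 := by
        rw [map_mul, map_mul, map_mul, map_inv, map_inv, ← ht, mul_assoc t⁻¹, hcomm]
        group
      have hκK : c'⁻¹ * τ' * c' * τ'⁻¹ ∈ Ksub :=
        Ksub.mul_mem (Ksub.mul_mem (Ksub.mul_mem (Ksub.inv_mem hc'K) hτK) hc'K) (Ksub.inv_mem hτK)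
      have h1 := hK₁I ⟨c'⁻¹ * τ' * c' * τ'⁻¹, ⟨hκK, MonoidHom.mem_ker.mpr hκρ⟩, rfl⟩
      rw [← hc']
      exact h1

end Cfsg.Agent.Helper27
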