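import Cfsg.Agent.Helper27.FusFactor
import Cfsg.Agent.Helper27.FusAlperin
import Cfsg.Agent.Helper26.StabChain

set_option autoImplicit false

namespace Cfsg.Agent.Helper27

open Cfsg Cfsg.FusionSystem

variable {Ω : Type*} [Group Ω] {S : Subgroup Ω}

/-- an automorphism in the system of `P` acting trivially on `P/R` and on `R`, for an invariant subgroup `R`, lies
in `O_p(Aut_F(P))` -/
theorem stab_mem_pCore [Finite S] {p : ℕ} [Fact p.Prime] (hS : IsPGroup p S) (F : FusionSystem S)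
    {P R : Subgroup Ω} (hP : P ≤ S)
    (hinv : ∀ γ ∈ F.autGroup P, ∀ y : P, (y : Ω) ∈ R → ((γ y : P) : Ω) ∈ R)
    {α : MulAut P} (hα : α ∈ F.autGroup P) (h1 : ∀ y : P, (y : Ω)⁻¹ * ((α y : P) : Ω) ∈ R)
    (h2 : ∀ y : P, (y : Ω) ∈ R → α y = y) :
    α ∈ (pCore p (F.autGroup P)).map (F.autGroup P).subtype := by
  have : Finite P := finite_of_le hP
  have hPp : IsPGroup p P := hS.to_le hP
  let d : ℕ → Subgroup P := fun j => if j = 0 then ⊤ else if j = 1 then R.subgroupOf P else ⊥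
  have h0 : d 0 = ⊤ := rfl
  have h1' : d 1 = R.subgroupOf P := rfl
  have h2' : d 2 = ⊥ := rfl
  have hd : ∀ j < 2, d (j + 1) ≤ d j := by
    intro j hj
    interval_cases j
    · rw [h0]
      exact le_top
    · show d 2 ≤ d 1
      rw [h2']
      exact bot_le
  have hNp := Cfsg.Agent.Helper26.isPGroup_stabChain hPp d 2 h0 h2' hd
  have hαN : α ∈ Cfsg.Agent.Helper26.stabChain hPp d 2 h0 h2' hd := by
    rw [Cfsg.Agent.Helper26.mem_stabChain]
    intro j hj x hx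
    interval_cases j
    · show x⁻¹ * α x ∈ d 1
      rw [h1']
      exact Subgroup.mem_subgroupOf.mpr (h1 x)
    · show x⁻¹ * α x ∈ d 2
      have hx' : x ∈ R.subgroupOf P := hx
      rw [h2', Subgroup.mem_bot, h2 x (Subgroup.mem_subgroupOf.mp hx'), inv_mul_cancel]
  have hpres : ∀ β ∈ F.autGroup P, ∀ j ≤ 2, ∀ x ∈ d j, β x ∈ d j := by
    intro β hβ j hj x hx
    interval_cases j
    · rw [h0]
      exact Subgroup.mem_top _
    · have hx' : x ∈ R.subgroupOf P := hx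
      show β x ∈ R.subgroupOf P
      exact Subgroup.mem_subgroupOf.mpr (hinv β hβ x (Subgroup.mem_subgroupOf.mp hx'))
    · have hx' : x ∈ (⊥ : Subgroup P) := hx
      show β x ∈ (⊥ : Subgroup P)
      rw [Subgroup.mem_bot] at hx' ⊢
      rw [hx', map_one]
  have hnorm : ((Cfsg.Agent.Helper26.stabChain hPp d 2 h0 h2' hd).subgroupOf
      (F.autGroup P)).Normal := by
    constructor
    intro n hn g
    rw [Subgroup.mem_subgroupOf] at hn ⊢
    exact Cfsg.Agent.Helper26.conj_mem_stabSet hn (hpres g g.2)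
      (hpres (g : MulAut P)⁻¹ (Subgroup.inv_mem _ g.2))
  have hle := le_pCore' hnorm hNp.comap_subtype
  exact ⟨⟨α, hα⟩, hle (Subgroup.mem_subgroupOf.mpr hαN), rfl⟩

/-- the intersection of `P` with a strongly closed subgroup is invariant under `Aut_F(P)` -/
theorem inf_closed_invariant [Finite S] {F : FusionSystem S} {T : Subgroup Ω}
    (hT : F.StronglyClosed T) {P : Subgroup Ω} (hP : P ≤ S) :
    ∀ γ ∈ F.autGroup P, ∀ y : P, (y : Ω) ∈ P ⊓ T → ((γ y : P) : Ω) ∈ P ⊓ T := by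
  intro γ hγ y hy
  have hm : Mor F P (autFn γ) := (mem_autGroup_iff hP γ).mp hγ
  have h1 := (Mor.mem_closed_iff hT hm y.2).mpr hy.2
  rw [autFn_apply] at h1
  exact ⟨(γ y).2, h1⟩

/-- if `C_T(P ∩ T)` is not contained in `P ∩ T`, some element of `C_T(P ∩ T)` outside `P` normalizes `P` -/
theorem exists_normalizing_central [Finite S] {p : ℕ} [Fact p.Prime] (hS : IsPGroup p S)
    {F : FusionSystem S} {T : Subgroup Ω} (hT : F.StronglyClosed T) {P : Subgroup Ω} (hP : P ≤ S)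
    (hc : ¬ centralizerIn T (P ⊓ T) ≤ P ⊓ T) :
    ∃ c ∈ T, c ∈ Subgroup.normalizer (P : Set Ω) ∧ c ∉ P ∧ ∀ y ∈ P ⊓ T, y * c = c * y := by
  have hTS : T ≤ S := hT.1
  have hXnot : ¬ centralizerIn T (P ⊓ T) ≤ P := by
    intro hle
    apply hc
    intro c hc'
    exact ⟨hle hc', (mem_centralizerIn.mp hc').1⟩
  have hnormX : ∀ r ∈ P, ∀ t ∈ centralizerIn T (P ⊓ T), r * t * r⁻¹ ∈ centralizerIn T (P ⊓ T) := by
    intro r hr t ht
    obtain ⟨htT, htR⟩ := mem_centralizerIn.mp ht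
    rw [mem_centralizerIn]
    refine ⟨StronglyClosed.conj_mem hT (hP hr) htT, fun y hy => ?_⟩
    have hy' : r⁻¹ * y * r ∈ P ⊓ T := by
      refine ⟨Subgroup.mul_mem _ (Subgroup.mul_mem _ (Subgroup.inv_mem _ hr) hy.1) hr, ?_⟩
      have h3 := StronglyClosed.conj_mem hT (S.inv_mem (hP hr)) hy.2
      rwa [inv_inv] at h3
    have h3 := htR _ hy'
    calc y * (r * t * r⁻¹) = r * ((r⁻¹ * y * r) * t) * r⁻¹ := by group
      _ = r * (t * (r⁻¹ * y * r)) * r⁻¹ := by rw [h3]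
      _ = r * t * r⁻¹ * y := by group
  have hsupS : P ⊔ centralizerIn T (P ⊓ T) ≤ S :=
    sup_le hP (le_trans (centralizerIn_le T (P ⊓ T)) hTS)
  have : Finite (P ⊔ centralizerIn T (P ⊓ T) : Subgroup Ω) := finite_of_le hsupS
  have hne : P ≠ P ⊔ centralizerIn T (P ⊓ T) := by
    intro heq
    apply hXnot
    intro c hc'
    have h1 : c ∈ P ⊔ centralizerIn T (P ⊓ T) :=
      (le_sup_right : centralizerIn T (P ⊓ T) ≤ P ⊔ centralizerIn T (P ⊓ T)) hc'
    rw [← heq] at h1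
    exact h1
  obtain ⟨g, hg, hgP⟩ := exists_mem_normalizerIn_not_mem (hS.to_le hsupS)
    (le_sup_left : P ≤ P ⊔ centralizerIn T (P ⊓ T)) hne
  obtain ⟨y, hy, c, hc', hgyc⟩ := exists_mul_of_mem_sup hnormX hg.1
  have hcN : c ∈ Subgroup.normalizer (P : Set Ω) := by
    have e : c = y⁻¹ * g := by rw [hgyc]; group
    rw [e]
    exact Subgroup.mul_mem _ (Subgroup.inv_mem _ (Subgroup.le_normalizer hy)) hg.2
  have hcP : c ∉ P := by
    intro h
    apply hgP
    rw [hgyc]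
    exact Subgroup.mul_mem _ hy h
  obtain ⟨hcT, hcR⟩ := mem_centralizerIn.mp hc'
  exact ⟨c, hcT, hcN, hcP, hcR⟩

/-- conjugation by an element of the strongly closed `T` normalizing `P` and centralizing `P ∩ T` lies in
`O_p(Aut_F(P))` -/
theorem conjAut_mem_pCore [Finite S] {p : ℕ} [Fact p.Prime] (hS : IsPGroup p S)
    {F : FusionSystem S} {T : Subgroup Ω} (hT : F.StronglyClosed T) {P : Subgroup Ω} (hP : P ≤ S)
    {c : Ω} (hcT : c ∈ T) (hcN : c ∈ Subgroup.normalizer (P : Set Ω))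
    (hcR : ∀ y ∈ P ⊓ T, y * c = c * y) :
    conjAut P c hcN ∈ (pCore p (F.autGroup P)).map (F.autGroup P).subtype := by
  have hcS : c ∈ S := hT.1 hcT
  have hα : conjAut P c hcN ∈ F.autGroup P :=
    autInducedBy_le_autGroup F hP (conjAut_mem_autInducedBy hcS hcN)
  refine stab_mem_pCore hS F hP (inf_closed_invariant hT hP) hα ?_ ?_
  · intro y
    refine ⟨Subgroup.mul_mem _ (Subgroup.inv_mem _ y.2) (conjAut P c hcN y).2, ?_⟩
    show (y : Ω)⁻¹ * (c * y * c⁻¹) ∈ T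
    have h3 := StronglyClosed.conj_mem hT (S.inv_mem (hP y.2)) hcT
    rw [inv_inv] at h3
    have e : (y : Ω)⁻¹ * (c * y * c⁻¹) = ((y : Ω)⁻¹ * c * y) * c⁻¹ := by group
    rw [e]
    exact T.mul_mem h3 (T.inv_mem hcT)
  · intro y hy
    apply Subtype.ext
    show c * (y : Ω) * c⁻¹ = y
    rw [← hcR y hy, mul_inv_cancel_right]

end Cfsg.Agent.Helper27
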