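import Cfsg.Agent.Helper27.AutInvert
import Cfsg.Agent.Helper27.MetaEnd
import Cfsg.Agent.Helper27.FusStab
import Cfsg.Agent.Helper27.FusNormal

set_option autoImplicit false

namespace Cfsg.Agent.Helper27

open Cfsg Cfsg.FusionSystem

variable {Ω : Type*} [Group Ω] {S : Subgroup Ω}

/-- a strongly closed subgroup contained in every fully normalized, centric, radical subgroup is normal -/
theorem normal_of_le_radicals [Finite S] {p : ℕ} [Fact p.Prime] (hS : IsPGroup p S)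
    {F : FusionSystem S} (hF : F.IsSaturated p) {P : Subgroup Ω} (hP : F.StronglyClosed P)
    (h : ∀ R : Subgroup Ω, F.IsFullyNormalized R → F.IsCentric R → F.IsRadical p R → P ≤ R) :
    F.IsNormal P := by
  have hPS := hP.1
  have hPn : ∀ s ∈ S, ∀ x ∈ P, s * x * s⁻¹ ∈ P := fun s hs x hx => StronglyClosed.conj_mem hP hs hx
  apply normal_of_le_nSys hPS hPn
  apply alperin hS hF (nSys F P hPS hPn)
  intro R hRn hRc hRr _ f hf himg
  rw [mor_nSys_iff]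
  have hPR := h R hRn hRc hRr
  have hsup : R ⊔ P = R := sup_eq_left.mpr hPR
  refine ⟨f, by rw [hsup]; exact hf, fun _ _ => rfl, fun x hx => ?_⟩
  exact StronglyClosed.mor hP (hf.restrict hPR) le_rfl hx

theorem conjAut_pow_apply (R : Subgroup Ω) (x : Ω) (hx : x ∈ Subgroup.normalizer (R : Set Ω)) (k : ℕ)
    (r : R) : (((conjAut R x hx ^ k) r : R) : Ω) = x ^ k * r * (x ^ k)⁻¹ := by
  induction k generalizing r with
  | zero => simp
  | succ k ih =>
    rw [pow_succ', MulAut.mul_apply, conjAut_apply, ih, pow_succ']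
    group

/-- if the strongly closed subgroup `P` is not contained in the fully normalized centric radical subgroup `R`,
there are an element `x ∈ N_P(R)` outside `R` with `x^p ∈ R`, whose conjugation is a `p`-element of `Aut_F(R)` outside
`Inn(R)` -/
theorem exists_outer_closed [Finite S] {p : ℕ} [Fact p.Prime] (hS : IsPGroup p S)
    {F : FusionSystem S} {P : Subgroup Ω} (hP : F.StronglyClosed P)
    {R : Subgroup Ω} (hRS : R ≤ S) (hRc : F.IsCentric R) (hPR : ¬ P ≤ R) :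
    ∃ x ∈ P, ∃ hx : x ∈ Subgroup.normalizer (R : Set Ω), x ∉ R ∧ x ^ p ∈ R ∧
      conjAut R x hx ∈ F.autGroup R ∧ conjAut R x hx ∉ Inn R ∧
      (∃ n : ℕ, conjAut R x hx ^ p ^ n = 1) ∧
      ∀ r : R, ((r⁻¹ * conjAut R x hx r : R) : Ω) ∈ P := by
  have hp := (Fact.out : p.Prime)
  have hPS := hP.1
  have hsupS : R ⊔ P ≤ S := sup_le hRS hPS
  have : Finite (R ⊔ P : Subgroup Ω) := finite_of_le hsupS
  have hne : R ≠ R ⊔ P := by
    intro heq
    apply hPR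
    rw [heq]
    exact le_sup_right
  obtain ⟨g, hg, hgR⟩ := exists_mem_normalizerIn_not_mem (hS.to_le hsupS)
    (le_sup_left : R ≤ R ⊔ P) hne
  have hnormX : ∀ r ∈ R, ∀ t ∈ P, r * t * r⁻¹ ∈ P := fun r hr t ht =>
    StronglyClosed.conj_mem hP (hRS hr) ht
  obtain ⟨r, hr, y, hy, hgry⟩ := exists_mul_of_mem_sup hnormX hg.1
  have hyN : y ∈ Subgroup.normalizer (R : Set Ω) := by
    have e : y = r⁻¹ * g := by rw [hgry]; group
    rw [e]
    exact Subgroup.mul_mem _ (Subgroup.inv_mem _ (Subgroup.le_normalizer hr)) hg.2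
  have hyR : y ∉ R := by
    intro h
    apply hgR
    rw [hgry]
    exact R.mul_mem hr h
  have hyS : y ∈ S := hPS hy
  -- pass to a suitable power
  obtain ⟨e, he⟩ := hS ⟨y, hyS⟩
  have he' : y ^ p ^ e = 1 := by
    have := congrArg (fun z : S => (z : Ω)) he
    simpa using this
  have hex : ∃ k : ℕ, y ^ p ^ k ∈ R := ⟨e, by rw [he']; exact R.one_mem⟩
  classical
  obtain ⟨k, hk, hkmin⟩ : ∃ k : ℕ, y ^ p ^ k ∈ R ∧ ∀ j < k, y ^ p ^ j ∉ R :=
    ⟨Nat.find hex, Nat.find_spec hex, fun j hj => Nat.find_min hex hj⟩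
  have hk0 : k ≠ 0 := by
    rintro rfl
    rw [pow_zero, pow_one] at hk
    exact hyR hk
  obtain ⟨k', rfl⟩ := Nat.exists_eq_succ_of_ne_zero hk0
  obtain ⟨x, hxdef⟩ : ∃ x : Ω, x = y ^ p ^ k' := ⟨_, rfl⟩
  have hxP : x ∈ P := by rw [hxdef]; exact P.pow_mem hy _
  have hxS : x ∈ S := hPS hxP
  have hxN : x ∈ Subgroup.normalizer (R : Set Ω) := by
    rw [hxdef]; exact Subgroup.pow_mem _ hyN _
  have hxR : x ∉ R := by
    rw [hxdef]; exact hkmin k' (Nat.lt_succ_self k')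
  have hxp : x ^ p ∈ R := by
    rw [hxdef, ← pow_mul, ← pow_succ]
    exact hk
  refine ⟨x, hxP, hxN, hxR, hxp, ?_, ?_, ?_, ?_⟩
  · exact autInducedBy_le_autGroup F hRS (conjAut_mem_autInducedBy hxS hxN)
  · intro hI
    obtain ⟨r₀, hr₀, h1⟩ := (mem_Inn_iff _).mp hI
    apply hxR
    have h2 : r₀⁻¹ * x ∈ centralizerIn S R := by
      rw [mem_centralizerIn]
      refine ⟨S.mul_mem (S.inv_mem (hRS hr₀)) hxS, fun w hw => ?_⟩
      have h3 := h1 ⟨w, hw⟩
      rw [conjAut_apply] at h3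
      have h4 : x * w = r₀ * w * r₀⁻¹ * x := by
        calc x * w = (x * w * x⁻¹) * x := by group
          _ = r₀ * w * r₀⁻¹ * x := by rw [h3]
      calc w * (r₀⁻¹ * x) = r₀⁻¹ * (r₀ * w * r₀⁻¹ * x) := by group
        _ = r₀⁻¹ * (x * w) := by rw [← h4]
        _ = r₀⁻¹ * x * w := by group
    have h5 := hRc.2 R (isConj_refl F hRS) h2
    have e : x = r₀ * (r₀⁻¹ * x) := by group
    rw [e]
    exact R.mul_mem hr₀ h5
  · obtain ⟨n, hn⟩ := hS ⟨x, hxS⟩
    have hn' : x ^ p ^ n = 1 := by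
      have := congrArg (fun z : S => (z : Ω)) hn
      simpa using this
    refine ⟨n, ?_⟩
    ext w
    rw [conjAut_pow_apply, hn']
    simp
  · intro w
    show (w : Ω)⁻¹ * (x * w * x⁻¹) ∈ P
    have h3 := StronglyClosed.conj_mem hP (S.inv_mem (hRS w.2)) hxP
    rw [inv_inv] at h3
    have e : (w : Ω)⁻¹ * (x * w * x⁻¹) = ((w : Ω)⁻¹ * x * w) * x⁻¹ := by group
    rw [e]
    exact P.mul_mem h3 (P.inv_mem hxP)

/-- Let `R` be fully normalized and centric, `τ ∈ Aut_F(R)` and `x ∈ N_S(R)` with `[c_x, τ]` inner.  Then `τ`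
extends to a map `σ` of the system defined on a subgroup containing `R` and `x`, and `σ x ∈ x R`. -/
theorem exists_extension_comm [Finite S] {p : ℕ} [Fact p.Prime] (hS : IsPGroup p S)
    {F : FusionSystem S} (hF : F.IsSaturated p) {R : Subgroup Ω} (hRn : F.IsFullyNormalized R)
    (hRc : F.IsCentric R) {τ : MulAut R} (hτ : τ ∈ F.autGroup R) {x : Ω} (hxS : x ∈ S)
    (hxN : x ∈ Subgroup.normalizer (R : Set Ω))
    (hcomm : (conjAut R x hxN)⁻¹ * τ * conjAut R x hxN * τ⁻¹ ∈ Inn R) :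
    ∃ (N : Subgroup Ω) (σ : Ω → Ω), Mor F N σ ∧ R ≤ N ∧ x ∈ N ∧ (∀ y : R, σ y = (τ y : Ω)) ∧
      x⁻¹ * σ x ∈ R := by
  have hRS : R ≤ S := hRn.1
  have : Finite R := finite_of_le hRS
  obtain ⟨c, hcdef⟩ : ∃ c : MulAut R, c = conjAut R x hxN := ⟨_, rfl⟩
  rw [← hcdef] at hcomm
  have hcapp : ∀ w : R, ((c w : R) : Ω) = x * w * x⁻¹ := by
    intro w; rw [hcdef]; rfl
  obtain ⟨r₀, hr₀, h1⟩ := (mem_Inn_iff _).mp hcomm
  have hfm : Mor F R (autFn τ) := (mem_autGroup_iff hRS τ).mp hτ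
  have hrec : F.IsReceptive R := (fullyNormalized_props hS hF hRn).2.1
  obtain ⟨σ, hσ, hσf⟩ := exists_extension hrec hfm (img_autFn τ)
  have hRext : R ≤ ext S R (autFn τ) := hfm.le_ext
  -- the key conjugation formula
  have hkey : ∀ y : R, ((τ (c y) : R) : Ω) = (x * r₀) * (τ y : Ω) * (x * r₀)⁻¹ := by
    intro y
    have h2 := h1 (τ y)
    have e1 : (c⁻¹ * τ * c * τ⁻¹) (τ y) = c⁻¹ (τ (c y)) := by
      show c⁻¹ (τ (c (τ⁻¹ (τ y)))) = _
      rw [MulAut.inv_apply_self]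
    rw [e1] at h2
    have h3 := hcapp (c⁻¹ (τ (c y)))
    rw [MulAut.apply_inv_self, h2] at h3
    rw [h3]
    group
  have hxext : x ∈ ext S R (autFn τ) := by
    rw [mem_ext]
    refine ⟨hxS, hxN, x * r₀, S.mul_mem hxS (hRS hr₀), fun y hy => ?_⟩
    have h2 := hkey ⟨y, hy⟩
    rw [autFn_of_mem τ hy]
    have h3 : autFn τ (x * y * x⁻¹) = ((τ (c ⟨y, hy⟩) : R) : Ω) := by
      rw [← autFn_apply τ (c ⟨y, hy⟩), hcapp]
    rw [h3, h2]
  have hσy : ∀ y : R, σ y = (τ y : Ω) := by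
    intro y
    rw [hσf y y.2, autFn_apply]
  refine ⟨ext S R (autFn τ), σ, hσ, hRext, hxext, hσy, ?_⟩
  -- σ x ∈ x R
  have hcent : (x * r₀)⁻¹ * σ x ∈ centralizerIn S R := by
    rw [mem_centralizerIn]
    refine ⟨S.mul_mem (S.inv_mem (S.mul_mem hxS (hRS hr₀))) (hσ.mem hxext), fun w hw => ?_⟩
    -- w = τ y
    obtain ⟨y, hy⟩ : ∃ y : R, τ y = ⟨w, hw⟩ := ⟨τ⁻¹ ⟨w, hw⟩, MulAut.apply_inv_self _ _ _⟩
    have hw' : (τ y : Ω) = w := congrArg Subtype.val hy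
    have h2 := hkey y
    have h3 : σ (x * y * x⁻¹) = σ x * σ y * (σ x)⁻¹ := hσ.map_conj hxext (hRext y.2)
    have h4 : σ (x * y * x⁻¹) = ((τ (c y) : R) : Ω) := by
      rw [← hcapp y, hσy]
    rw [h4, h2, hσy, hw'] at h3
    calc w * ((x * r₀)⁻¹ * σ x) = (x * r₀)⁻¹ * ((x * r₀) * w * (x * r₀)⁻¹) * (x * r₀) * ((x * r₀)⁻¹ * σ x) := by
          group
      _ = (x * r₀)⁻¹ * (σ x * w * (σ x)⁻¹) * (x * r₀) * ((x * r₀)⁻¹ * σ x) := by rw [h3]
      _ = (x * r₀)⁻¹ * σ x * w := by group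
  have h5 := hRc.2 R (isConj_refl F hRS) hcent
  have e : x⁻¹ * σ x = r₀ * ((x * r₀)⁻¹ * σ x) := by group
  rw [e]
  exact R.mul_mem hr₀ h5

end Cfsg.Agent.Helper27
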