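import Cfsg.Agent.Helper27.EssChain
import Cfsg.Agent.Helper27.FusLift

set_option autoImplicit false

namespace Cfsg.Agent.Helper27

/-- the action induced on a quotient `L/K` by a group `B` of automorphisms preserving `K` and `L` -/
theorem exists_quot_action {H : Type*} [Group H] [Finite H] (B : Subgroup (MulAut H))
    (K L : Subgroup H) [hN : (K.subgroupOf L).Normal]
    (hBK : ∀ b ∈ B, ∀ x ∈ K, b x ∈ K) (hBL : ∀ b ∈ B, ∀ x ∈ L, b x ∈ L) :
    ∃ ρ : B →* MulAut (↥L ⧸ K.subgroupOf L), ∀ (b : B) (y : L),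
      ρ b (QuotientGroup.mk y) =
        QuotientGroup.mk (Helper1.restrictAut (b : MulAut H) L (hBL b b.2) y) := by
  have hmap : ∀ b : B, (K.subgroupOf L).map
      ((Helper1.restrictAut (b : MulAut H) L (hBL b b.2) : MulAut L) : L →* L) =
        K.subgroupOf L := by
    intro b
    apply le_antisymm
    · rintro _ ⟨y, hy, rfl⟩
      have hy' : (y : H) ∈ K := Subgroup.mem_subgroupOf.mp hy
      exact Subgroup.mem_subgroupOf.mpr (hBK b b.2 _ hy')
    · intro y hy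
      have hy' : (y : H) ∈ K := Subgroup.mem_subgroupOf.mp hy
      refine ⟨Helper1.restrictAut ((b⁻¹ : B) : MulAut H) L (hBL _ (b⁻¹).2) y, ?_, ?_⟩
      · exact Subgroup.mem_subgroupOf.mpr (hBK _ (b⁻¹).2 _ hy')
      · apply Subtype.ext
        show (b : MulAut H) (((b⁻¹ : B) : MulAut H) (y : H)) = y
        rw [Subgroup.coe_inv, MulAut.apply_inv_self]
  refine ⟨{ toFun := fun b => QuotientGroup.congr (K.subgroupOf L) (K.subgroupOf L)
              (Helper1.restrictAut (b : MulAut H) L (hBL b b.2)) (hmap b)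
            map_one' := ?_
            map_mul' := ?_ }, fun b y => rfl⟩
  · ext x
    induction x using QuotientGroup.induction_on with
    | H x => rfl
  · intro a b
    ext x
    induction x using QuotientGroup.induction_on with
    | H x => rfl

/-- commutators of automorphisms act trivially on a cyclic factor -/
theorem comm_mem_of_cyclic_factor {H : Type*} [Group H] [Finite H] (B : Subgroup (MulAut H))
    (K L : Subgroup H) [hN : (K.subgroupOf L).Normal] [hcyc : IsCyclic (↥L ⧸ K.subgroupOf L)]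
    (hBK : ∀ b ∈ B, ∀ x ∈ K, b x ∈ K) (hBL : ∀ b ∈ B, ∀ x ∈ L, b x ∈ L)
    {a b : MulAut H} (ha : a ∈ B) (hb : b ∈ B) :
    ∀ y ∈ L, y⁻¹ * (a * b * a⁻¹ * b⁻¹) y ∈ K := by
  obtain ⟨ρ, hρ⟩ := exists_quot_action B K L hBK hBL
  intro y hy
  have hcomm : ρ (⟨a, ha⟩ * ⟨b, hb⟩ * ⟨a, ha⟩⁻¹ * ⟨b, hb⟩⁻¹) = 1 := by
    rw [map_mul, map_mul, map_mul, map_inv, map_inv]
    have hc : ∀ u v : MulAut (↥L ⧸ K.subgroupOf L), u * v = v * u := by
      intro u v
      apply (IsCyclic.mulAutMulEquiv (↥L ⧸ K.subgroupOf L)).injective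
      rw [map_mul, map_mul, mul_comm]
    rw [hc (ρ ⟨a, ha⟩) (ρ ⟨b, hb⟩)]
    group
  have h1 := hρ (⟨a, ha⟩ * ⟨b, hb⟩ * ⟨a, ha⟩⁻¹ * ⟨b, hb⟩⁻¹) ⟨y, hy⟩
  rw [hcomm, MulAut.one_apply] at h1
  have h2 := QuotientGroup.eq.mp h1
  rw [Subgroup.mem_subgroupOf] at h2
  exact h2

/-- a `p'`-automorphism acts on a cyclic `p`-factor with order dividing `p - 1` -/
theorem pow_mem_of_cyclic_factor {H : Type*} [Group H] [Finite H] {p : ℕ} [Fact p.Prime]
    (B : Subgroup (MulAut H))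
    (K L : Subgroup H) [hN : (K.subgroupOf L).Normal] [hcyc : IsCyclic (↥L ⧸ K.subgroupOf L)]
    (hL : IsPGroup p L)
    (hBK : ∀ b ∈ B, ∀ x ∈ K, b x ∈ K) (hBL : ∀ b ∈ B, ∀ x ∈ L, b x ∈ L)
    {b : MulAut H} (hb : b ∈ B) (hcop : (orderOf b).Coprime p) :
    ∀ y ∈ L, y⁻¹ * (b ^ (p - 1)) y ∈ K := by
  obtain ⟨ρ, hρ⟩ := exists_quot_action B K L hBK hBL
  intro y hy
  have hpow : ρ (⟨b, hb⟩ ^ (p - 1)) = 1 := by
    rw [map_pow]
    have h1 : orderOf (ρ ⟨b, hb⟩) ∣ Nat.card (MulAut (↥L ⧸ K.subgroupOf L)) :=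
      orderOf_dvd_natCard _
    rw [IsCyclic.card_mulAut] at h1
    have hQ : IsPGroup p (↥L ⧸ K.subgroupOf L) := hL.to_quotient _
    obtain ⟨e, he⟩ := IsPGroup.iff_card.mp hQ
    rw [he] at h1
    have hcop' : (orderOf (ρ ⟨b, hb⟩)).Coprime p := by
      apply Nat.Coprime.coprime_dvd_left (orderOf_map_dvd ρ _)
      rw [Subgroup.orderOf_mk]; exact hcop
    have h2 : orderOf (ρ ⟨b, hb⟩) ∣ p - 1 := by
      rcases Nat.eq_zero_or_pos e with h0 | h0
      · rw [h0, pow_zero, Nat.totient_one] at h1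
        exact dvd_trans h1 (one_dvd _)
      · rw [Nat.totient_prime_pow (Fact.out) h0] at h1
        exact (Nat.Coprime.pow_right _ hcop').dvd_of_dvd_mul_left h1
    exact orderOf_dvd_iff_pow_eq_one.mp h2
  have h1 := hρ (⟨b, hb⟩ ^ (p - 1)) ⟨y, hy⟩
  rw [hpow, MulAut.one_apply] at h1
  have h2 := QuotientGroup.eq.mp h1
  rw [Subgroup.mem_subgroupOf] at h2
  exact h2

/-- a subgroup of `(C ⊔ ⟨x⟩)/C` is cyclic -/
theorem isCyclic_factor {Ω : Type*} [Group Ω] (C C' R : Subgroup Ω) (x : Ω)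
    (hC' : C' = C ⊔ Subgroup.zpowers x) (hn : ∀ l ∈ C', ∀ k ∈ C, l * k * l⁻¹ ∈ C)
    [hN : ((C.subgroupOf R).subgroupOf (C'.subgroupOf R)).Normal] :
    IsCyclic (↥(C'.subgroupOf R) ⧸ (C.subgroupOf R).subgroupOf (C'.subgroupOf R)) := by
  have hN' : (C.subgroupOf C').Normal := by
    constructor
    intro k hk l
    rw [Subgroup.mem_subgroupOf] at hk ⊢
    exact hn l l.2 k hk
  have hxC' : x ∈ C' := by
    rw [hC']; exact (le_sup_right : Subgroup.zpowers x ≤ _) (Subgroup.mem_zpowers x)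
  have hzle : Subgroup.zpowers x ≤ C' := by
    rw [Subgroup.zpowers_le]; exact hxC'
  have hQ' : IsCyclic (↥C' ⧸ C.subgroupOf C') := by
    refine ⟨⟨QuotientGroup.mk ⟨x, hxC'⟩, fun v => ?_⟩⟩
    obtain ⟨y, rfl⟩ := QuotientGroup.mk_surjective v
    have hy : (y : Ω) ∈ Subgroup.zpowers x ⊔ C := by
      rw [sup_comm, ← hC']; exact y.2
    obtain ⟨r, hr, t, ht, e⟩ := exists_mul_of_mem_sup (R := Subgroup.zpowers x) (T := C)
      (fun r hr t ht => hn r (hzle hr) t ht) hy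
    obtain ⟨j, rfl⟩ := Subgroup.mem_zpowers_iff.mp hr
    refine ⟨j, ?_⟩
    show (QuotientGroup.mk (⟨x, hxC'⟩ : C') : ↥C' ⧸ C.subgroupOf C') ^ j = QuotientGroup.mk y
    rw [← QuotientGroup.mk_zpow, QuotientGroup.eq, Subgroup.mem_subgroupOf]
    have e2 : (((((⟨x, hxC'⟩ : C') ^ j)⁻¹ * y : C') : Ω)) = t := by
      rw [Subgroup.coe_mul, Subgroup.coe_inv, Subgroup.coe_zpow, e]
      group
    rw [e2]
    exact ht
  let ι : ↥(C'.subgroupOf R) →* ↥C' :=
    { toFun := fun y => ⟨((y : R) : Ω), Subgroup.mem_subgroupOf.mp y.2⟩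
      map_one' := rfl
      map_mul' := fun a b => rfl }
  have hle : (C.subgroupOf R).subgroupOf (C'.subgroupOf R) ≤ (C.subgroupOf C').comap ι := by
    intro y hy
    rw [Subgroup.mem_subgroupOf, Subgroup.mem_subgroupOf] at hy
    rw [Subgroup.mem_comap, Subgroup.mem_subgroupOf]
    exact hy
  have hf : Function.Injective (QuotientGroup.map _ (C.subgroupOf C') ι hle) := by
    rw [injective_iff_map_eq_one]
    intro v hv
    obtain ⟨y, rfl⟩ := QuotientGroup.mk_surjective v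
    have h1 : QuotientGroup.map _ (C.subgroupOf C') ι hle (QuotientGroup.mk y) =
        QuotientGroup.mk (ι y) := rfl
    rw [h1, QuotientGroup.eq_one_iff, Subgroup.mem_subgroupOf] at hv
    rw [QuotientGroup.eq_one_iff, Subgroup.mem_subgroupOf, Subgroup.mem_subgroupOf]
    exact hv
  exact isCyclic_of_injective _ hf

/-- reindexing a finite chain by the natural numbers -/
theorem exists_nat_chain {Ω : Type*} [Group Ω] {S : Subgroup Ω} (m : ℕ)
    (c : Fin (m + 1) → Subgroup Ω) (h0 : c 0 = ⊥) (hm : c (Fin.last m) = S)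
    (P : Subgroup Ω → Prop) (hP : ∀ i, P (c i))
    (hstep : ∀ i : Fin m, c i.castSucc ≤ c i.succ ∧
      ∃ x ∈ S, c i.succ = c i.castSucc ⊔ Subgroup.zpowers x) :
    ∃ D : ℕ → Subgroup Ω, D 0 = ⊥ ∧ D m = S ∧ (∀ i, P (D i)) ∧
      ∀ i, D i ≤ D (i + 1) ∧ ∃ x ∈ S, D (i + 1) = D i ⊔ Subgroup.zpowers x := by
  refine ⟨fun i => c ⟨min i m, by omega⟩, ?_, ?_, fun i => hP _, fun i => ?_⟩
  · have e : (⟨min 0 m, by omega⟩ : Fin (m + 1)) = 0 := Fin.ext (by simp)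
    show c ⟨min 0 m, _⟩ = ⊥
    rw [e, h0]
  · have e : (⟨min m m, by omega⟩ : Fin (m + 1)) = Fin.last m := Fin.ext (by simp)
    show c ⟨min m m, _⟩ = S
    rw [e, hm]
  · by_cases hi : i < m
    · have e1 : (⟨min i m, by omega⟩ : Fin (m + 1)) = (⟨i, hi⟩ : Fin m).castSucc :=
        Fin.ext (by simp; omega)
      have e2 : (⟨min (i + 1) m, by omega⟩ : Fin (m + 1)) = (⟨i, hi⟩ : Fin m).succ :=
        Fin.ext (by simp; omega)
      show c ⟨min i m, _⟩ ≤ c ⟨min (i + 1) m, _⟩ ∧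
        ∃ x ∈ S, c ⟨min (i + 1) m, _⟩ = c ⟨min i m, _⟩ ⊔ Subgroup.zpowers x
      rw [e1, e2]
      exact hstep ⟨i, hi⟩
    · have e1 : (⟨min (i + 1) m, by omega⟩ : Fin (m + 1)) = ⟨min i m, by omega⟩ :=
        Fin.ext (by simp; omega)
      show c ⟨min i m, _⟩ ≤ c ⟨min (i + 1) m, _⟩ ∧
        ∃ x ∈ S, c ⟨min (i + 1) m, _⟩ = c ⟨min i m, _⟩ ⊔ Subgroup.zpowers x
      rw [e1]
      exact ⟨le_rfl, 1, S.one_mem, by rw [Subgroup.zpowers_one_eq_bot, sup_bot_eq]⟩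

end Cfsg.Agent.Helper27
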