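import Mathlib
import Cfsg.Prelude.Def_Transfer
import Cfsg.Agent.Helper1.TateLift
import Cfsg.Agent.Helper21.HallLcs

set_option autoImplicit false

namespace Cfsg.Agent.Helper27

open scoped commutatorElement

universe u

/-- a nontrivial normal subgroup `K` of a `p`-group contains a subgroup `L` of index `p` with
`[K, G] ≤ L` -/
theorem exists_index_p_comm {G : Type*} [Group G] [Finite G] {p : ℕ} [Fact p.Prime]
    (hG : IsPGroup p G) (K : Subgroup G) [K.Normal] (hK : K ≠ ⊥) :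
    ∃ L : Subgroup G, L ≤ K ∧ ⁅K, (⊤ : Subgroup G)⁆ ≤ L ∧ p * Nat.card L = Nat.card K := by
  have hp := (Fact.out : p.Prime)
  haveI : Group.IsNilpotent G := hG.isNilpotent
  have hlt := Cfsg.Agent.Helper21.comm_top_lt K hK
  obtain ⟨b, hb⟩ := IsPGroup.iff_card.mp (hG.to_subgroup K)
  obtain ⟨a, ha⟩ := IsPGroup.iff_card.mp (hG.to_subgroup ⁅K, (⊤ : Subgroup G)⁆)
  have h1 := Cfsg.Agent.Helper21.p_mul_card_le_of_lt hG hlt
  rw [ha, hb, ← pow_succ'] at h1
  have hab : a + 1 ≤ b := (Nat.pow_le_pow_iff_right hp.one_lt).mp h1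
  have hcard' : Nat.card ((⁅K, (⊤ : Subgroup G)⁆).subgroupOf K) = p ^ a := by
    rw [← ha]
    exact Nat.card_congr (Subgroup.subgroupOfEquivOfLe hlt.le).toEquiv
  have hdvd : p ^ (b - 1) ∣ Nat.card K := by rw [hb]; exact pow_dvd_pow p (by omega)
  obtain ⟨H', hH'c, hH'le⟩ :=
    Sylow.exists_subgroup_card_pow_prime_le p hdvd _ hcard' (by omega)
  refine ⟨H'.map K.subtype, Subgroup.map_subtype_le H', ?_, ?_⟩
  · intro x hx
    have hxK : x ∈ K := hlt.le hx
    refine ⟨⟨x, hxK⟩, hH'le ?_, rfl⟩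
    rw [Subgroup.mem_subgroupOf]; exact hx
  · rw [Subgroup.card_map_of_injective K.subtype_injective, hH'c, hb, ← pow_succ']
    congr 1; omega

/-- an element of order prime to `p` lies in every normal subgroup of `p`-power index -/
theorem mem_of_coprime_of_index_pow {G : Type*} [Group G] {p : ℕ} (N : Subgroup G) [N.Normal]
    {k : ℕ} (hidx : N.index = p ^ k) {g : G} (hg : (orderOf g).Coprime p) : g ∈ N := by
  have h1 : g ^ (p ^ k) ∈ N := hidx ▸ N.pow_index_mem g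
  have hc : (p ^ k).Coprime (orderOf g) := (Nat.Coprime.pow_right k hg).symm
  obtain ⟨m, hm⟩ := exists_pow_eq_self_of_coprime hc
  rw [← hm]
  exact N.pow_mem h1 m

/-- a finite group whose Sylow `p`-subgroup `P` is self-normalizing, abelian modulo a normal
subgroup `I ≤ Φ(P)`, has a normal subgroup of order prime to `p` containing all elements of order
prime to `p` -/
theorem exists_normal_pprime {G : Type u} [Group G] [Finite G] {p : ℕ} [Fact p.Prime]
    (P : Sylow p G) (I : Subgroup G) [hI : I.Normal] (hIP : I ≤ (P : Subgroup G))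
    (hIΦ : I ≤ (frattini (P : Subgroup G)).map (P : Subgroup G).subtype)
    (hab : ∀ a ∈ (P : Subgroup G), ∀ b ∈ (P : Subgroup G), a * b * a⁻¹ * b⁻¹ ∈ I)
    (hN : ∀ g : G, (∀ y ∈ (P : Subgroup G), g * y * g⁻¹ ∈ (P : Subgroup G)) →
      g ∈ (P : Subgroup G)) :
    ∃ K : Subgroup G, K.Normal ∧ (Nat.card K).Coprime p ∧
      ∀ g : G, (orderOf g).Coprime p → g ∈ K := by
  have hp := (Fact.out : p.Prime)
  let π : G →* G ⧸ I := QuotientGroup.mk' I
  have hπ : Function.Surjective π := QuotientGroup.mk'_surjective I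
  let P' : Sylow p (G ⧸ I) := P.mapSurjective hπ
  have hP'coe : (P' : Subgroup (G ⧸ I)) = (P : Subgroup G).map π := rfl
  have hmemP : ∀ x : G, π x ∈ (P' : Subgroup (G ⧸ I)) → x ∈ (P : Subgroup G) := by
    intro x hx
    rw [hP'coe] at hx
    obtain ⟨y, hy, hyx⟩ := hx
    have h1 : y⁻¹ * x ∈ I := by
      rw [← QuotientGroup.eq]
      exact hyx
    have h2 : x = y * (y⁻¹ * x) := by group
    rw [h2]
    exact mul_mem hy (hIP h1)
  have hP' : Subgroup.normalizer ((P' : Subgroup (G ⧸ I)) : Set (G ⧸ I)) ≤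
      Subgroup.centralizer ((P' : Subgroup (G ⧸ I)) : Set (G ⧸ I)) := by
    intro x' hx'
    obtain ⟨x, rfl⟩ := hπ x'
    have hxP : x ∈ (P : Subgroup G) := by
      apply hN
      intro y hy
      apply hmemP
      have h1 : π (x * y * x⁻¹) = π x * π y * (π x)⁻¹ := by simp
      rw [h1]
      exact (Subgroup.mem_normalizer_iff.mp hx' (π y)).mp (by rw [hP'coe]; exact ⟨y, hy, rfl⟩)
    rw [Subgroup.mem_centralizer_iff]
    intro y' hy'
    rw [SetLike.mem_coe, hP'coe] at hy'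
    obtain ⟨y, hy, rfl⟩ := hy'
    have h2 := hab x hxP y hy
    have h3 : π (x * y * x⁻¹ * y⁻¹) = 1 := (QuotientGroup.eq_one_iff _).mpr h2
    have h4 : π x * π y * (π x)⁻¹ * (π y)⁻¹ = 1 := by
      rw [← h3]; simp
    have h5 : π x * π y = π y * π x := by
      have := congrArg (fun w => w * π y * π x) h4
      simpa [mul_assoc] using this
    exact h5.symm
  let τ := MonoidHom.transferSylow P' hP'
  have hcompl := MonoidHom.ker_transferSylow_isComplement' P' hP'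
  let L : Subgroup G := (τ.comp π).ker
  have hLP : L ⊓ (P : Subgroup G) ≤ I := by
    intro x hx
    have hx1 : τ (π x) = 1 := hx.1
    have hx2 : π x ∈ (P' : Subgroup (G ⧸ I)) := by
      rw [hP'coe]; exact ⟨x, hx.2, rfl⟩
    have hdisj : τ.ker ⊓ (P' : Subgroup (G ⧸ I)) = ⊥ := hcompl.disjoint.eq_bot
    have h3 : π x ∈ τ.ker ⊓ (P' : Subgroup (G ⧸ I)) := ⟨hx1, hx2⟩
    rw [hdisj, Subgroup.mem_bot] at h3
    exact (QuotientGroup.eq_one_iff _).mp h3
  obtain ⟨P₁, N, hNn, hNc⟩ := Cfsg.Agent.Helper1.tate_npc P L (hLP.trans hIΦ)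
  haveI := hNn
  have hNidx : N.index = Nat.card P₁ := hNc.symm.index_eq_card
  obtain ⟨k, hk⟩ := IsPGroup.iff_card.mp P₁.2
  have hNcop : (Nat.card N).Coprime p := by
    have h1 : P₁.index = Nat.card N := hNc.index_eq_card
    have h2 : ¬ p ∣ (P₁ : Subgroup L).index := P₁.not_dvd_index
    rw [h1] at h2
    exact ((Nat.Prime.coprime_iff_not_dvd hp).mpr h2).symm
  have hNmem : ∀ x : L, (orderOf x).Coprime p → x ∈ N := fun x hx =>
    mem_of_coprime_of_index_pow N (hNidx.trans hk) hx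
  have hLmem : ∀ g : G, (orderOf g).Coprime p → g ∈ L := by
    intro g hg
    show τ (π g) = 1
    have h1 : orderOf (τ (π g)) ∣ orderOf g := by
      have := orderOf_map_dvd (τ.comp π) g
      exact this
    obtain ⟨j, hj⟩ := (IsPGroup.iff_orderOf.mp P'.2) (τ (π g))
    have h2 : orderOf (τ (π g)) = 1 := by
      have h3 : (orderOf (τ (π g))).Coprime p := Nat.Coprime.coprime_dvd_left h1 hg
      rw [hj] at h3 ⊢
      rcases Nat.eq_zero_or_pos j with h0 | hpos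
      · rw [h0, pow_zero]
      · exfalso
        have h4 : p ∣ Nat.gcd (p ^ j) p := Nat.dvd_gcd (dvd_pow_self p hpos.ne') dvd_rfl
        rw [h3] at h4
        exact hp.one_lt.ne' (Nat.dvd_one.mp h4)
    exact orderOf_eq_one_iff.mp h2
  refine ⟨N.map L.subtype, ⟨?_⟩, ?_, ?_⟩
  · rintro _ ⟨n, hn, rfl⟩ g
    have hgL : g * (n : G) * g⁻¹ ∈ L := by
      have : L.Normal := MonoidHom.normal_ker _
      exact this.conj_mem _ n.2 g
    refine ⟨⟨g * (n : G) * g⁻¹, hgL⟩, ?_, rfl⟩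
    apply hNmem
    have h1 : orderOf (⟨g * (n : G) * g⁻¹, hgL⟩ : L) = orderOf (n : G) := by
      rw [← Subgroup.orderOf_coe]
      show orderOf (g * (n : G) * g⁻¹) = _
      exact (orderOf_injective (MulAut.conj g).toMonoidHom (MulAut.conj g).injective (n : G))
    rw [h1]
    have h2 : orderOf (n : G) ∣ Nat.card N := by
      have h3 := orderOf_dvd_natCard (⟨n, hn⟩ : N)
      have h4 : orderOf (⟨n, hn⟩ : N) = orderOf (n : G) := by
        rw [← Subgroup.orderOf_coe, ← Subgroup.orderOf_coe]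
      rwa [h4] at h3
    exact Nat.Coprime.coprime_dvd_left h2 hNcop
  · rw [Subgroup.card_map_of_injective L.subtype_injective]
    exact hNcop
  · intro g hg
    have hgL := hLmem g hg
    refine ⟨⟨g, hgL⟩, hNmem _ ?_, rfl⟩
    rw [← Subgroup.orderOf_coe]
    exact hg

/-- the transfer-splitting lemma: a `p'`-group `𝒦` acting on an abelian normal subgroup `Z` of the
`p`-group `T`, with `Z ≤ Φ(T)`, compatibly with an action `θ` of `T` on `𝒦`, and such that every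
`β ∈ 𝒦` extends to a multiplicative map `e β` on its stabilizer which is the identity modulo `Z`,
acts trivially on `Z` -/
theorem transfer_split {T : Type*} [Group T] [Finite T] {p : ℕ} [Fact p.Prime] (hT : IsPGroup p T)
    (Z : Subgroup T) [hZn : Z.Normal] (hZc : ∀ x ∈ Z, ∀ y ∈ Z, x * y = y * x)
    (hZΦ : Z ≤ frattini T)
    {𝒦 : Type*} [Group 𝒦] [Finite 𝒦] (hK : (Nat.card 𝒦).Coprime p)
    (a : 𝒦 → T → T) (ha_mem : ∀ β, ∀ z ∈ Z, a β z ∈ Z)
    (ha_mul : ∀ β, ∀ z₁ ∈ Z, ∀ z₂ ∈ Z, a β (z₁ * z₂) = a β z₁ * a β z₂)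
    (ha_comp : ∀ β γ, ∀ z ∈ Z, a (β * γ) z = a β (a γ z))
    (θ : T → 𝒦 → 𝒦) (hθ_mul : ∀ t u β, θ (t * u) β = θ t (θ u β)) (hθ_one : ∀ β, θ 1 β = β)
    (hcompat : ∀ t β, ∀ z ∈ Z, a (θ t β) (t * z * t⁻¹) = t * a β z * t⁻¹)
    (hθZ : ∀ z ∈ Z, ∀ β, θ z β = β)
    (e : 𝒦 → T → T)
    (he_mul : ∀ β t u, θ t β = β → θ u β = β → e β (t * u) = e β t * e β u)
    (he_Z : ∀ β t, θ t β = β → t⁻¹ * e β t ∈ Z)
    (he_a : ∀ β, ∀ z ∈ Z, e β z = a β z) :
    ∀ β, ∀ z ∈ Z, a β z = z := by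
  classical
  have hp := (Fact.out : p.Prime)
  letI : CommGroup Z :=
    { (inferInstance : Group Z) with mul_comm := fun x y => Subtype.ext (hZc x x.2 y y.2) }
  haveI : Fintype 𝒦 := Fintype.ofFinite 𝒦
  let A : 𝒦 → (Z →* Z) := fun β =>
    MonoidHom.mk' (fun z => ⟨a β z, ha_mem β z z.2⟩)
      (fun x y => Subtype.ext (ha_mul β x x.2 y y.2))
  have hA_comp : ∀ β γ (z : Z), A (β * γ) z = A β (A γ z) := fun β γ z =>
    Subtype.ext (ha_comp β γ z z.2)
  obtain ⟨n, hn⟩ : ∃ n, n = Fintype.card 𝒦 := ⟨_, rfl⟩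
  have hncop : n.Coprime p := by
    rw [hn, ← Nat.card_eq_fintype_card]; exact hK
  have hZp : IsPGroup p Z := hT.to_subgroup Z
  have hpn : ∀ x : Z, x ^ n = 1 → x = 1 := by
    intro x hx
    obtain ⟨k, hk⟩ := (IsPGroup.iff_orderOf.mp hZp) x
    have h1 : orderOf x ∣ n := orderOf_dvd_of_pow_eq_one hx
    have h2 : (orderOf x).Coprime n := by
      rw [hk]; exact (Nat.Coprime.pow_right k hncop).symm
    have h3 : orderOf x = 1 := Nat.Coprime.eq_one_of_dvd h2 h1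
    exact orderOf_eq_one_iff.mp h3
  -- the norm
  let Nm : Z →* Z := MonoidHom.mk' (fun z => ∏ β : 𝒦, A β z) (by
    intro x y
    show ∏ β : 𝒦, A β (x * y) = (∏ β : 𝒦, A β x) * ∏ β : 𝒦, A β y
    rw [← Finset.prod_mul_distrib]
    exact Finset.prod_congr rfl (fun β _ => map_mul (A β) x y))
  have hNm_def : ∀ z, Nm z = ∏ β : 𝒦, A β z := fun z => rfl
  have hNm_fix : ∀ γ z, A γ (Nm z) = Nm z := by
    intro γ z
    rw [hNm_def, map_prod]
    have h1 : ∀ β, A γ (A β z) = A (γ * β) z := fun β => (hA_comp γ β z).symm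
    simp_rw [h1]
    exact Fintype.prod_equiv (Equiv.mulLeft γ) _ _ (fun β => rfl)
  have hNmNm : ∀ z, Nm (Nm z) = Nm z ^ n := by
    intro z
    rw [hNm_def (Nm z)]
    simp_rw [hNm_fix]
    rw [Finset.prod_const, Finset.card_univ, hn]
  let ν : Z →* Z := MonoidHom.mk' (fun z => Nm z * (z ^ n)⁻¹) (by
    intro x y
    show Nm (x * y) * ((x * y) ^ n)⁻¹ = Nm x * (x ^ n)⁻¹ * (Nm y * (y ^ n)⁻¹)
    rw [map_mul, mul_pow, mul_inv, mul_mul_mul_comm])
  have hν_def : ∀ z, ν z = Nm z * (z ^ n)⁻¹ := fun z => rfl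
  have hNmν : ∀ z, Nm (ν z) = 1 := by
    intro z
    rw [hν_def, map_mul, map_inv, map_pow, hNmNm, mul_inv_cancel]
  have hνν : ∀ z, ν (ν z) = ((ν z) ^ n)⁻¹ := by
    intro z
    rw [hν_def (ν z), hNmν, one_mul]
  -- conjugation
  let cj : T → (Z →* Z) := fun t =>
    MonoidHom.mk' (fun z => ⟨t * z * t⁻¹, hZn.conj_mem z z.2 t⟩) (by
      intro x y
      apply Subtype.ext
      show t * ((x : T) * (y : T)) * t⁻¹ = t * x * t⁻¹ * (t * y * t⁻¹)
      group)
  have hcj_coe : ∀ t (z : Z), ((cj t z : Z) : T) = t * z * t⁻¹ := fun t z => rfl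
  have hcjA : ∀ t β (z : Z), cj t (A β z) = A (θ t β) (cj t z) := by
    intro t β z
    apply Subtype.ext
    exact (hcompat t β z z.2).symm
  have hθ_inv : ∀ t β, θ t⁻¹ (θ t β) = β := by
    intro t β
    rw [← hθ_mul, inv_mul_cancel, hθ_one]
  have hθ_inv' : ∀ t β, θ t (θ t⁻¹ β) = β := by
    intro t β
    rw [← hθ_mul, mul_inv_cancel, hθ_one]
  let θE : T → (𝒦 ≃ 𝒦) := fun t => ⟨θ t, θ t⁻¹, hθ_inv t, hθ_inv' t⟩
  have hcjNm : ∀ t z, cj t (Nm z) = Nm (cj t z) := by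
    intro t z
    rw [hNm_def, hNm_def, map_prod]
    simp_rw [hcjA]
    exact Fintype.prod_equiv (θE t) _ _ (fun β => rfl)
  have hcjν : ∀ t z, cj t (ν z) = ν (cj t z) := by
    intro t z
    rw [hν_def, hν_def, map_mul, map_inv, map_pow, hcjNm]
  by_contra hcon
  push Not at hcon
  obtain ⟨β₁, z₁, hz₁, hne₁⟩ := hcon
  -- ν is not trivial
  have hν_ne : ∃ z₀ : Z, ν z₀ ≠ 1 := by
    by_contra h
    push Not at h
    apply hne₁
    have h1 : Nm ⟨z₁, hz₁⟩ = (⟨z₁, hz₁⟩ : Z) ^ n := by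
      have := h ⟨z₁, hz₁⟩
      rw [hν_def] at this
      exact mul_inv_eq_one.mp this
    have h2 : (A β₁ ⟨z₁, hz₁⟩) ^ n = (⟨z₁, hz₁⟩ : Z) ^ n := by
      rw [← map_pow, ← h1, hNm_fix]
    have h3 : (A β₁ ⟨z₁, hz₁⟩ * (⟨z₁, hz₁⟩ : Z)⁻¹) ^ n = 1 := by
      rw [mul_pow, inv_pow, h2, mul_inv_cancel]
    have h4 := hpn _ h3
    have h5 : A β₁ ⟨z₁, hz₁⟩ = ⟨z₁, hz₁⟩ := mul_inv_eq_one.mp h4
    exact congrArg Subtype.val h5
  obtain ⟨z₀, hz₀⟩ := hν_ne
  let W : Subgroup Z := ν.range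
  let WT : Subgroup T := W.map Z.subtype
  have hWTn : WT.Normal := by
    constructor
    rintro _ ⟨w, ⟨z, rfl⟩, rfl⟩ g
    refine ⟨cj g (ν z), ⟨cj g z, (hcjν g z).symm⟩, rfl⟩
  have hWTne : WT ≠ ⊥ := by
    intro h
    apply hz₀
    have h1 : ((ν z₀ : Z) : T) ∈ WT := ⟨ν z₀, ⟨z₀, rfl⟩, rfl⟩
    rw [h, Subgroup.mem_bot] at h1
    exact Subtype.ext h1
  obtain ⟨L, hLW, hcL, hcard⟩ := exists_index_p_comm hT WT hWTne
  let M : Subgroup Z := L.comap Z.subtype
  have hMW : M ≤ W := by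
    intro z hz
    obtain ⟨w, hw, hwz⟩ := hLW (show (z : T) ∈ L from hz)
    have : w = z := Subtype.ext hwz
    rw [← this]; exact hw
  have hcardM : Nat.card M = Nat.card L := by
    have hLZ : L ≤ Z := by
      intro x hx
      obtain ⟨w, -, rfl⟩ := hLW hx
      exact w.2
    exact Nat.card_congr (Subgroup.subgroupOfEquivOfLe hLZ).toEquiv
  have hcardW : Nat.card WT = Nat.card W :=
    Subgroup.card_map_of_injective Z.subtype_injective
  let MZ : Subgroup Z := M.comap ν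
  have hcardC : Nat.card (Z ⧸ MZ) = p := by
    rw [← Subgroup.index_eq_card]
    show (M.comap ν).index = p
    rw [Subgroup.index_comap]
    show (M.subgroupOf W).index = p
    have h1 := (M.subgroupOf W).card_mul_index
    have h2 : Nat.card (M.subgroupOf W) = Nat.card M :=
      Nat.card_congr (Subgroup.subgroupOfEquivOfLe hMW).toEquiv
    rw [h2, hcardM, ← hcardW, ← hcard] at h1
    have hLpos : 0 < Nat.card L := Nat.card_pos
    have h3 : Nat.card L * (M.subgroupOf W).index = Nat.card L * p := by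
      rw [h1, mul_comm]
    exact Nat.eq_of_mul_eq_mul_left hLpos h3
  let μ : Z →* Z ⧸ MZ := QuotientGroup.mk' MZ
  have hμ1 : ∀ z, μ z = 1 ↔ ν z ∈ M := fun z => QuotientGroup.eq_one_iff z
  have hμinv : ∀ t z, μ (cj t z) = μ z := by
    intro t z
    have h1 : μ (cj t z * z⁻¹) = 1 := by
      rw [hμ1, map_mul, map_inv, ← hcjν]
      show ((cj t (ν z) * (ν z)⁻¹ : Z) : T) ∈ L
      apply hcL
      have hw : ((ν z : Z) : T) ∈ WT := ⟨ν z, ⟨z, rfl⟩, rfl⟩
      have h2 : ⁅((ν z : Z) : T), t⁆ ∈ ⁅WT, (⊤ : Subgroup T)⁆ :=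
        Subgroup.commutator_mem_commutator hw (Subgroup.mem_top t)
      have h3 : ((cj t (ν z) * (ν z)⁻¹ : Z) : T) = ⁅((ν z : Z) : T), t⁆⁻¹ := by
        show t * ((ν z : Z) : T) * t⁻¹ * ((ν z : Z) : T)⁻¹ = _
        rw [commutatorElement_def]; group
      rw [h3]
      exact inv_mem h2
    rw [map_mul, map_inv, mul_inv_eq_one] at h1
    exact h1
  -- choice of orbit representatives
  let pick : Set 𝒦 → 𝒦 := fun s => if h : s.Nonempty then h.some else 1
  let orb : 𝒦 → Set 𝒦 := fun β => {γ | ∃ t : T, γ = θ t β}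
  have horb : ∀ t β, orb (θ t β) = orb β := by
    intro t β
    ext γ
    constructor
    · rintro ⟨u, hu⟩
      exact ⟨u * t, by rw [hu, hθ_mul]⟩
    · rintro ⟨u, hu⟩
      exact ⟨u * t⁻¹, by rw [hu, hθ_mul, hθ_inv]⟩
  let base : 𝒦 → 𝒦 := fun β => pick (orb β)
  have hbase_inv : ∀ t β, base (θ t β) = base β := by
    intro t β
    show pick (orb (θ t β)) = pick (orb β)
    rw [horb]
  have hbase_mem : ∀ β, base β ∈ orb β := by
    intro β
    have hne : (orb β).Nonempty := ⟨β, 1, (hθ_one β).symm⟩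
    show pick (orb β) ∈ orb β
    show (if h : (orb β).Nonempty then h.some else 1) ∈ orb β
    rw [dif_pos hne]
    exact hne.some_mem
  have hx : ∀ β, ∃ x : T, θ x (base β) = β := by
    intro β
    obtain ⟨t, ht⟩ := hbase_mem β
    exact ⟨t⁻¹, by rw [ht, hθ_inv]⟩
  choose x hx using hx
  let δ : 𝒦 → T → Z := fun β₀ u => if h : u⁻¹ * e β₀ u ∈ Z then ⟨u⁻¹ * e β₀ u, h⟩ else 1
  have hδ : ∀ β₀ u, θ u β₀ = β₀ → ((δ β₀ u : Z) : T) = u⁻¹ * e β₀ u := by
    intro β₀ u hu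
    show ((if h : u⁻¹ * e β₀ u ∈ Z then (⟨u⁻¹ * e β₀ u, h⟩ : Z) else 1 : Z) : T) = _
    rw [dif_pos (he_Z β₀ u hu)]
  have hμδmul : ∀ β₀ u₁ u₂, θ u₁ β₀ = β₀ → θ u₂ β₀ = β₀ →
      μ (δ β₀ (u₁ * u₂)) = μ (δ β₀ u₁) * μ (δ β₀ u₂) := by
    intro β₀ u₁ u₂ h1 h2
    have h12 : θ (u₁ * u₂) β₀ = β₀ := by rw [hθ_mul, h2, h1]
    have h3 : δ β₀ (u₁ * u₂) = cj u₂⁻¹ (δ β₀ u₁) * δ β₀ u₂ := by
      apply Subtype.ext
      show ((δ β₀ (u₁ * u₂) : Z) : T) =
        u₂⁻¹ * ((δ β₀ u₁ : Z) : T) * u₂⁻¹⁻¹ * ((δ β₀ u₂ : Z) : T)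
      rw [hδ β₀ _ h12, hδ β₀ _ h1, hδ β₀ _ h2, he_mul β₀ u₁ u₂ h1 h2]
      group
    rw [h3, map_mul, hμinv]
  let g : T → 𝒦 → T := fun t β => (x (θ t β))⁻¹ * t * x β
  have hg_stab : ∀ t β, θ (g t β) (base β) = base β := by
    intro t β
    show θ ((x (θ t β))⁻¹ * t * x β) (base β) = base β
    rw [hθ_mul, hθ_mul, hx β]
    have h1 := hx (θ t β)
    rw [hbase_inv] at h1
    have h2 := hθ_inv (x (θ t β)) (base β)
    rw [h1] at h2
    exact h2
  have hg_mul : ∀ t u β, g (t * u) β = g t (θ u β) * g u β := by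
    intro t u β
    show (x (θ (t * u) β))⁻¹ * (t * u) * x β =
      (x (θ t (θ u β)))⁻¹ * t * x (θ u β) * ((x (θ u β))⁻¹ * u * x β)
    rw [hθ_mul]
    group
  let Λ : T → Z ⧸ MZ := fun t => ∏ β : 𝒦, μ (δ (base β) (g t β))
  have hΛmul : ∀ t u, Λ (t * u) = Λ t * Λ u := by
    intro t u
    show ∏ β : 𝒦, μ (δ (base β) (g (t * u) β)) =
      (∏ β : 𝒦, μ (δ (base β) (g t β))) * ∏ β : 𝒦, μ (δ (base β) (g u β))
    have h1 : ∀ β, μ (δ (base β) (g (t * u) β)) =
        μ (δ (base (θ u β)) (g t (θ u β))) * μ (δ (base β) (g u β)) := by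
      intro β
      rw [hg_mul, hbase_inv]
      apply hμδmul
      · have := hg_stab t (θ u β)
        rw [hbase_inv] at this
        exact this
      · exact hg_stab u β
    simp_rw [h1]
    rw [Finset.prod_mul_distrib]
    congr 1
    exact Fintype.prod_equiv (θE u) _ _ (fun β => rfl)
  let ΛH : T →* Z ⧸ MZ := MonoidHom.mk' Λ hΛmul
  have hfrat := Cfsg.Agent.Helper1.frattini_le_ker_of_card_prime hcardC ΛH
  have hΛZ : ∀ z : Z, Λ (z : T) = 1 := fun z => hfrat (hZΦ z.2)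
  have hΛν : ∀ z : Z, Λ (z : T) = μ (ν z) := by
    intro z
    show ∏ β : 𝒦, μ (δ (base β) (g (z : T) β)) = μ (ν z)
    have h1 : ∀ β, μ (δ (base β) (g (z : T) β)) = μ (z⁻¹ * A β z) := by
      intro β
      have hgz : g (z : T) β = ((cj (x β)⁻¹ z : Z) : T) := by
        show (x (θ (z : T) β))⁻¹ * (z : T) * x β = (x β)⁻¹ * (z : T) * (x β)⁻¹⁻¹
        rw [hθZ z z.2 β, inv_inv]
      obtain ⟨y, hy⟩ : ∃ y : Z, y = cj (x β)⁻¹ z := ⟨_, rfl⟩
      rw [hgz, ← hy]
      have hst : θ (y : T) (base β) = base β := hθZ y y.2 _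
      have h2 : δ (base β) (y : T) = y⁻¹ * A (base β) y := by
        apply Subtype.ext
        rw [hδ _ _ hst, he_a _ _ y.2]
        rfl
      rw [h2, ← hμinv (x β)]
      congr 1
      rw [map_mul, map_inv, hcjA, hx β]
      have h3 : cj (x β) y = z := by
        rw [hy]
        apply Subtype.ext
        show x β * ((x β)⁻¹ * (z : T) * (x β)⁻¹⁻¹) * (x β)⁻¹ = z
        group
      rw [h3]
    simp_rw [h1]
    rw [← map_prod, Finset.prod_mul_distrib, Finset.prod_const, Finset.card_univ, ← hn,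
      ← hNm_def, hν_def, inv_pow, mul_comm]
  have hW_le : W ≤ M := by
    rintro _ ⟨z, rfl⟩
    have h1 : μ (ν z) = 1 := by rw [← hΛν]; exact hΛZ z
    rw [hμ1, hνν] at h1
    have h2 : (ν z) ^ n ∈ M := by
      have := M.inv_mem h1
      rwa [inv_inv] at this
    obtain ⟨k, hk⟩ := (IsPGroup.iff_orderOf.mp hZp) (ν z)
    have hc : n.Coprime (orderOf (ν z)) := by
      rw [hk]; exact Nat.Coprime.pow_right k hncop
    obtain ⟨m, hm⟩ := exists_pow_eq_self_of_coprime hc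
    rw [← hm]
    exact M.pow_mem h2 m
  have h1 : Nat.card W ≤ Nat.card M := Subgroup.card_le_of_le hW_le
  rw [← hcardW, hcardM, ← hcard] at h1
  have hLpos : 0 < Nat.card L := Nat.card_pos
  have h2 : 2 * Nat.card L ≤ p * Nat.card L := Nat.mul_le_mul_right _ hp.two_le
  omega

end Cfsg.Agent.Helper27
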