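import Cfsg.Agent.Helper27.FusReal
import Cfsg.Agent.Helper27.FusNormal
import Cfsg.Agent.Helper27.FusInner
import Cfsg.Agent.Helper27.TransferSplit
import Cfsg.Agent.S5132
import Cfsg.Agent.S5134

set_option autoImplicit false

namespace Cfsg.Agent.Helper27

open Cfsg Cfsg.FusionSystem

universe u

variable {Ω : Type u} [Group Ω] {S : Subgroup Ω}

theorem autFn_mem_of_le {P K : Subgroup Ω} (h : P ≤ K) (α : MulAut P) (x : Ω) :
    autFn α x ∈ K := by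
  by_cases hx : x ∈ P
  · exact h (autFn_mem α hx)
  · have : autFn α x = 1 := by
      unfold autFn fn
      rw [dif_neg hx]
    rw [this]
    exact K.one_mem

theorem fullyNormalized_of_normal [Finite S] (F : FusionSystem S) {Q : Subgroup Ω} (hQS : Q ≤ S)
    (hQn : ∀ s ∈ S, ∀ x ∈ Q, s * x * s⁻¹ ∈ Q) : F.IsFullyNormalized Q := by
  refine ⟨hQS, fun R _ => ?_⟩
  have : Finite Q := finite_of_le hQS
  have hle : S ≤ normalizerIn S Q := fun s hs => ⟨hs, mem_normalizer_of_forall (hQn s hs)⟩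
  have : Finite (normalizerIn S Q) := finite_of_le (normalizerIn_le S Q)
  exact Subgroup.card_le_of_le ((normalizerIn_le S R).trans hle)

/-- if `S / Q` is abelian and `Aut_F(S) = Inn(S)`, every map of the system is trivial modulo the
strongly closed subgroup `Q` -/
theorem mod_trivial [Finite S] {p : ℕ} [Fact p.Prime] (hS : IsPGroup p S) {F : FusionSystem S}
    (hF : F.IsSaturated p) {Q : Subgroup Ω} (hQ : F.StronglyClosed Q)
    (hcomm : ∀ s ∈ S, ∀ t ∈ S, s * t * s⁻¹ * t⁻¹ ∈ Q)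
    (hinn : ∀ f, Mor F S f → ∃ s ∈ S, ∀ x ∈ S, f x = s * x * s⁻¹)
    {P : Subgroup Ω} {f : Ω → Ω} (hf : Mor F P f) {x : Ω} (hx : x ∈ P) : x⁻¹ * f x ∈ Q := by
  haveI := StronglyClosed.subgroupOf_normal hQ
  obtain ⟨E, hE⟩ := Cfsg.Agent.S5132.result p hS F Q hQ
  obtain ⟨θ, hθ⟩ : ∃ θ, θ = QuotientGroup.mk' (Q.subgroupOf S) := ⟨_, rfl⟩
  rw [← hθ] at hE
  have hsm : SMor F E θ :=
    SMor.of_surjectiveMorphism (Cfsg.Agent.S5134.result p hS F hF Q hQ θ E hE)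
  have hEsat : E.IsSaturated p := hsm.saturated hS hF
  haveI hfin : Finite (⊤ : Subgroup (S ⧸ Q.subgroupOf S)) := hsm.finite
  have hS' : IsPGroup p (⊤ : Subgroup (S ⧸ Q.subgroupOf S)) := hsm.isPGroup hS
  have hker : ∀ s, s ∈ S → (afn θ s = 1 ↔ s ∈ Q) := by
    intro s hs
    rw [afn_of_mem θ hs, hθ, QuotientGroup.mk'_apply, QuotientGroup.eq_one_iff,
      Subgroup.mem_subgroupOf]
  have hab : ∀ a ∈ (⊤ : Subgroup (S ⧸ Q.subgroupOf S)), ∀ b ∈ (⊤ : Subgroup (S ⧸ Q.subgroupOf S)),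
      a * b = b * a := by
    intro a _ b _
    obtain ⟨s, rfl⟩ := QuotientGroup.mk_surjective a
    obtain ⟨t, rfl⟩ := QuotientGroup.mk_surjective b
    have h1 : ((s * t * s⁻¹ * t⁻¹ : S) : S ⧸ Q.subgroupOf S) = 1 := by
      rw [QuotientGroup.eq_one_iff, Subgroup.mem_subgroupOf]
      exact hcomm s s.2 t t.2
    have h2 : (s : S ⧸ Q.subgroupOf S) * t * (s : S ⧸ Q.subgroupOf S)⁻¹ *
        (t : S ⧸ Q.subgroupOf S)⁻¹ = 1 := by
      rw [← h1]; rfl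
    have := congrArg (fun w => w * (t : S ⧸ Q.subgroupOf S) * (s : S ⧸ Q.subgroupOf S)) h2
    simpa [mul_assoc] using this
  have hPS := hf.le
  obtain ⟨f', hf', hff'⟩ := hsm.push P f hf
  obtain ⟨f'', hf'', -, hf''f'⟩ := abelian_extend hS' hEsat hab hf'
  obtain ⟨g, hg, hgf⟩ := hsm.pull ⊤ f'' le_rfl hf''
  have hpre : preimageAlong θ (⊤ : Subgroup (S ⧸ Q.subgroupOf S)) = S := by
    apply le_antisymm (preimageAlong_le θ _)
    intro s hs
    exact mem_preimageAlong.mpr ⟨hs, Subgroup.mem_top _⟩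
  rw [hpre] at hg hgf
  obtain ⟨s, hs, hgs⟩ := hinn g hg
  have hxS := hPS hx
  have hfxS := hf.mem hx
  have h1 : afn θ (f x) = afn θ x := by
    rw [← hff' x hx, ← hf''f' _ (mem_imageAlong.mpr ⟨x, hx, hxS, rfl⟩), hgf x hxS, hgs x hxS,
      afn_conj θ hs hxS]
    have h2 := hab (afn θ s) (Subgroup.mem_top _) (afn θ x) (Subgroup.mem_top _)
    rw [h2, mul_inv_cancel_right]
  rw [← hker _ (S.mul_mem (S.inv_mem hxS) hfxS), afn_mul θ (S.inv_mem hxS) hfxS, afn_inv θ hxS,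
    h1, inv_mul_cancel]

theorem normal_mem_normalizer [Finite S] {Q : Subgroup Ω} (hQS : Q ≤ S)
    (hQn : ∀ s ∈ S, ∀ x ∈ Q, s * x * s⁻¹ ∈ Q) {s : Ω} (hs : s ∈ S) :
    s ∈ Subgroup.normalizer (Q : Set Ω) := by
  have : Finite Q := finite_of_le hQS
  exact mem_normalizer_of_forall (hQn s hs)

/-- the conjugation homomorphism `S → Aut_F(Q)` for `Q ⊴ S` -/
noncomputable def conjS [Finite S] (F : FusionSystem S) {Q : Subgroup Ω} (hQS : Q ≤ S)
    (hQn : ∀ s ∈ S, ∀ x ∈ Q, s * x * s⁻¹ ∈ Q) : S →* F.autGroup Q :=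
  MonoidHom.mk'
    (fun s => ⟨conjAut Q s (normal_mem_normalizer hQS hQn s.2),
      autInducedBy_le_autGroup F hQS
        (conjAut_mem_autInducedBy s.2 (normal_mem_normalizer hQS hQn s.2))⟩)
    (by
      intro s t
      apply Subtype.ext
      apply MulEquiv.ext
      intro x
      apply Subtype.ext
      show ((s : Ω) * (t : Ω)) * x * ((s : Ω) * (t : Ω))⁻¹ = s * (t * x * (t : Ω)⁻¹) * (s : Ω)⁻¹
      group)

theorem conjS_apply [Finite S] (F : FusionSystem S) {Q : Subgroup Ω} (hQS : Q ≤ S)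
    (hQn : ∀ s ∈ S, ∀ x ∈ Q, s * x * s⁻¹ ∈ Q) (s : S) (x : Q) :
    ((((conjS F hQS hQn s : F.autGroup Q) : MulAut Q) x : Q) : Ω) = s * x * (s : Ω)⁻¹ := rfl

theorem conjS_eq_iff [Finite S] (F : FusionSystem S) {Q : Subgroup Ω} (hQS : Q ≤ S)
    (hQn : ∀ s ∈ S, ∀ x ∈ Q, s * x * s⁻¹ ∈ Q) (s : S) (a : F.autGroup Q) :
    a = conjS F hQS hQn s ↔ ∀ x : Q, (((a : MulAut Q) x : Q) : Ω) = s * x * (s : Ω)⁻¹ := by
  constructor
  · rintro rfl x
    rfl
  · intro h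
    apply Subtype.ext
    apply MulEquiv.ext
    intro x
    apply Subtype.ext
    exact h x

/-- the structure of `Aut_F(Q)` for `[S,S] ≤ Q ≤ Φ(S)` strongly closed when `Aut_F(S) = Inn(S)`:
there is a normal subgroup of order prime to `p` containing all `p'`-elements -/
theorem autGroup_normal_pprime [Finite S] {p : ℕ} [Fact p.Prime] (hS : IsPGroup p S)
    {F : FusionSystem S} (hF : F.IsSaturated p) {Q : Subgroup Ω} (hQS : Q ≤ S)
    (hQn : ∀ s ∈ S, ∀ x ∈ Q, s * x * s⁻¹ ∈ Q)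
    (hcomm : ∀ s ∈ S, ∀ t ∈ S, s * t * s⁻¹ * t⁻¹ ∈ Q)
    (hfrat : Q ≤ (frattini S).map S.subtype)
    (hinn : ∀ f, Mor F S f → ∃ s ∈ S, ∀ x ∈ S, f x = s * x * s⁻¹) :
    ∃ K : Subgroup (F.autGroup Q), K.Normal ∧ (Nat.card K).Coprime p ∧
      ∀ g : F.autGroup Q, (orderOf g).Coprime p → g ∈ K := by
  classical
  haveI : Finite Q := finite_of_le hQS
  have hQfn := fullyNormalized_of_normal F hQS hQn
  obtain ⟨-, hQr, hQa⟩ := fullyNormalized_props hS hF hQfn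
  obtain ⟨-, P₀, hP₀⟩ := hQa
  obtain ⟨cS, hcS⟩ : ∃ c, c = conjS F hQS hQn := ⟨_, rfl⟩
  have hcS_iff : ∀ (s : S) (a : F.autGroup Q), a = cS s ↔
      ∀ x : Q, (((a : MulAut Q) x : Q) : Ω) = s * x * (s : Ω)⁻¹ := by
    intro s a
    rw [hcS]
    exact conjS_eq_iff F hQS hQn s a
  have hP₀mem : ∀ a : F.autGroup Q, a ∈ (P₀ : Subgroup (F.autGroup Q)) ↔ ∃ s : S, a = cS s := by
    intro a
    rw [hP₀, Subgroup.mem_subgroupOf, mem_autInducedBy_iff]
    constructor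
    · rintro ⟨g, hg, h⟩
      exact ⟨⟨g, hg⟩, (hcS_iff _ a).mpr h⟩
    · rintro ⟨s, hs⟩
      exact ⟨s, s.2, (hcS_iff s a).mp hs⟩
  obtain ⟨I, hI⟩ : ∃ I, I = (Inn Q).subgroupOf (F.autGroup Q) := ⟨_, rfl⟩
  haveI hIn : I.Normal := by rw [hI]; exact Inn_subgroupOf_normal _
  have hImem : ∀ s : S, (s : Ω) ∈ Q → cS s ∈ I := by
    intro s hs
    rw [hI, Subgroup.mem_subgroupOf, mem_Inn_iff]
    exact ⟨s, hs, (hcS_iff s _).mp rfl⟩
  have hImem' : ∀ a ∈ I, ∃ s : S, (s : Ω) ∈ Q ∧ a = cS s := by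
    intro a ha
    rw [hI, Subgroup.mem_subgroupOf, mem_Inn_iff] at ha
    obtain ⟨g, hg, h⟩ := ha
    exact ⟨⟨g, hQS hg⟩, hg, (hcS_iff _ a).mpr h⟩
  have hIP : I ≤ (P₀ : Subgroup (F.autGroup Q)) := by
    intro a ha
    obtain ⟨s, -, rfl⟩ := hImem' a ha
    exact (hP₀mem _).mpr ⟨s, rfl⟩
  have hIΦ : I ≤ (frattini (P₀ : Subgroup (F.autGroup Q))).map
      (P₀ : Subgroup (F.autGroup Q)).subtype := by
    let c' : S →* (P₀ : Subgroup (F.autGroup Q)) :=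
      cS.codRestrict _ (fun s => (hP₀mem _).mpr ⟨s, rfl⟩)
    have hc'surj : Function.Surjective c' := by
      rintro ⟨a, ha⟩
      obtain ⟨s, rfl⟩ := (hP₀mem a).mp ha
      exact ⟨s, rfl⟩
    have hfr := frattini_le_comap_frattini_of_surjective hc'surj
    intro a ha
    obtain ⟨s, hsQ, rfl⟩ := hImem' a ha
    obtain ⟨y, hy, hys⟩ := hfrat hsQ
    have hys' : y = s := Subtype.ext hys
    rw [hys'] at hy
    exact ⟨c' s, hfr hy, rfl⟩
  have hab : ∀ a ∈ (P₀ : Subgroup (F.autGroup Q)), ∀ b ∈ (P₀ : Subgroup (F.autGroup Q)),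
      a * b * a⁻¹ * b⁻¹ ∈ I := by
    intro a ha b hb
    obtain ⟨s, rfl⟩ := (hP₀mem a).mp ha
    obtain ⟨t, rfl⟩ := (hP₀mem b).mp hb
    have h1 : cS s * cS t * (cS s)⁻¹ * (cS t)⁻¹ = cS (s * t * s⁻¹ * t⁻¹) := by
      simp only [map_mul, map_inv]
    rw [h1]
    exact hImem _ (hcomm s s.2 t t.2)
  have hN : ∀ g : F.autGroup Q, (∀ y ∈ (P₀ : Subgroup (F.autGroup Q)),
      g * y * g⁻¹ ∈ (P₀ : Subgroup (F.autGroup Q))) → g ∈ (P₀ : Subgroup (F.autGroup Q)) := by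
    intro g hg
    have hα : Mor F Q (autFn (g : MulAut Q)) := (mem_autGroup_iff hQS _).mp g.2
    obtain ⟨f', hf', hff'⟩ := exists_extension hQr hα (img_autFn _)
    have hSext : S ≤ ext S Q (autFn (g : MulAut Q)) := by
      intro s hs
      rw [mem_ext]
      refine ⟨hs, normal_mem_normalizer hQS hQn hs, ?_⟩
      obtain ⟨h, hh⟩ := (hP₀mem _).mp (hg (cS ⟨s, hs⟩) ((hP₀mem _).mpr ⟨_, rfl⟩))
      refine ⟨h, h.2, ?_⟩
      intro x hx
      have h1 := (hcS_iff h _).mp hh ((g : MulAut Q) ⟨x, hx⟩)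
      have h2 : (g * cS ⟨s, hs⟩ * g⁻¹ : F.autGroup Q) = g * (cS ⟨s, hs⟩ * g⁻¹) := mul_assoc _ _ _
      have h3 : (((g * cS ⟨s, hs⟩ * g⁻¹ : F.autGroup Q) : MulAut Q) ((g : MulAut Q) ⟨x, hx⟩)) =
          (g : MulAut Q) (((cS ⟨s, hs⟩ : F.autGroup Q) : MulAut Q) ⟨x, hx⟩) := by
        show (g : MulAut Q) (((cS ⟨s, hs⟩ : F.autGroup Q) : MulAut Q)
          (((g⁻¹ : F.autGroup Q) : MulAut Q) ((g : MulAut Q) ⟨x, hx⟩))) = _
        congr 2
        show ((g : MulAut Q)⁻¹) ((g : MulAut Q) ⟨x, hx⟩) = ⟨x, hx⟩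
        exact MulAut.inv_apply_self _ _ _
      rw [h3] at h1
      have hx' : s * x * s⁻¹ ∈ Q := hQn s hs x hx
      have h4 : ((cS ⟨s, hs⟩ : F.autGroup Q) : MulAut Q) ⟨x, hx⟩ = ⟨s * x * s⁻¹, hx'⟩ :=
        Subtype.ext ((hcS_iff ⟨s, hs⟩ _).mp rfl ⟨x, hx⟩)
      rw [h4] at h1
      rw [autFn_of_mem _ hx', autFn_of_mem _ hx]
      exact h1
    have hf'S : Mor F S f' := hf'.restrict hSext
    obtain ⟨t, ht, hft⟩ := hinn f' hf'S
    refine (hP₀mem g).mpr ⟨⟨t, ht⟩, (hcS_iff _ g).mpr ?_⟩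
    intro x
    rw [← autFn_apply, ← hff' x x.2, hft x (hQS x.2)]
  exact exists_normal_pprime P₀ I hIP hIΦ hab hN

/-- a normal subgroup of `Aut_F(Q)` of order prime to `p` acts trivially on `Z(Q)`, for
`[S,S] ≤ Q ≤ Φ(S)` strongly closed and `Aut_F(S) = Inn(S)` -/
theorem pprime_fixes_center [Finite S] {p : ℕ} [Fact p.Prime] (hS : IsPGroup p S)
    {F : FusionSystem S} (hF : F.IsSaturated p) {Q : Subgroup Ω} (hQ : F.StronglyClosed Q)
    (hcomm : ∀ s ∈ S, ∀ t ∈ S, s * t * s⁻¹ * t⁻¹ ∈ Q)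
    (hfrat : Q ≤ (frattini S).map S.subtype)
    (hinn : ∀ f, Mor F S f → ∃ s ∈ S, ∀ x ∈ S, f x = s * x * s⁻¹)
    (K : Subgroup (F.autGroup Q)) [hKn : K.Normal] (hK : (Nat.card K).Coprime p) :
    ∀ β ∈ K, ∀ z : Q, (∀ y : Q, y * z = z * y) → ((β : MulAut Q) z) = z := by
  classical
  have hQS := hQ.1
  haveI : Finite Q := finite_of_le hQS
  have hQn : ∀ s ∈ S, ∀ x ∈ Q, s * x * s⁻¹ ∈ Q :=
    fun s hs x hx => StronglyClosed.conj_mem hQ hs hx
  have hQfn := fullyNormalized_of_normal F hQS hQn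
  obtain ⟨-, hQr, -⟩ := fullyNormalized_props hS hF hQfn
  obtain ⟨cS, hcS⟩ : ∃ c, c = conjS F hQS hQn := ⟨_, rfl⟩
  have hcS_iff : ∀ (s : S) (a : F.autGroup Q), a = cS s ↔
      ∀ x : Q, (((a : MulAut Q) x : Q) : Ω) = s * x * (s : Ω)⁻¹ := by
    intro s a
    rw [hcS]
    exact conjS_eq_iff F hQS hQn s a
  have hcS_app : ∀ (s : S) (x : Q),
      ((((cS s : F.autGroup Q) : MulAut Q) x : Q) : Ω) = s * x * (s : Ω)⁻¹ :=
    fun s x => (hcS_iff s _).mp rfl x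
  have hcS_app' : ∀ (s : S) (x : Ω) (hx : x ∈ Q),
      ((cS s : F.autGroup Q) : MulAut Q) ⟨x, hx⟩ = ⟨s * x * (s : Ω)⁻¹, hQn s s.2 x hx⟩ :=
    fun s x hx => Subtype.ext (hcS_app s ⟨x, hx⟩)
  -- the centre of `Q` as a subgroup of `S`
  let Zs : Subgroup S := (centralizerIn Q Q).subgroupOf S
  have hZs_mem : ∀ z : S, z ∈ Zs ↔ (z : Ω) ∈ Q ∧ ∀ y ∈ Q, y * (z : Ω) = z * y := by
    intro z
    show (z : Ω) ∈ centralizerIn Q Q ↔ _
    rw [mem_centralizerIn]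
  haveI hZn : Zs.Normal := ⟨by
    intro z hz s
    rw [hZs_mem] at hz ⊢
    refine ⟨hQn s s.2 z hz.1, ?_⟩
    intro y hy
    have hy' : (s : Ω)⁻¹ * y * s ∈ Q := by
      have := hQn (s : Ω)⁻¹ (S.inv_mem s.2) y hy
      rwa [inv_inv] at this
    have h1 := hz.2 _ hy'
    show y * ((s : Ω) * z * (s : Ω)⁻¹) = (s : Ω) * z * (s : Ω)⁻¹ * y
    calc y * ((s : Ω) * z * (s : Ω)⁻¹) = s * (((s : Ω)⁻¹ * y * s) * z) * (s : Ω)⁻¹ := by group
      _ = s * ((z : Ω) * ((s : Ω)⁻¹ * y * s)) * (s : Ω)⁻¹ := by rw [h1]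
      _ = (s : Ω) * z * (s : Ω)⁻¹ * y := by group⟩
  have hZc : ∀ x ∈ Zs, ∀ y ∈ Zs, x * y = y * x := by
    intro x hx y hy
    apply Subtype.ext
    exact ((hZs_mem y).mp hy).2 x ((hZs_mem x).mp hx).1
  have hZΦ : Zs ≤ frattini S := by
    intro z hz
    obtain ⟨y, hy, hyz⟩ := hfrat ((hZs_mem z).mp hz).1
    have : y = z := Subtype.ext hyz
    rw [← this]; exact hy
  let kα : K → MulAut Q := fun β => ((β : F.autGroup Q) : MulAut Q)
  have hkα_mor : ∀ β : K, Mor F Q (autFn (kα β)) :=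
    fun β => (mem_autGroup_iff hQS _).mp (β : F.autGroup Q).2
  let a : K → S → S := fun β t => ⟨autFn (kα β) (t : Ω), autFn_mem_of_le hQS _ _⟩
  have ha_val : ∀ β (z : S) (hz : (z : Ω) ∈ Q), ((a β z : S) : Ω) = ((kα β ⟨z, hz⟩ : Q) : Ω) :=
    fun β z hz => autFn_of_mem _ hz
  have ha_mem : ∀ β, ∀ z ∈ Zs, a β z ∈ Zs := by
    intro β z hz
    rw [hZs_mem] at hz ⊢
    obtain ⟨hzQ, hzc⟩ := hz
    rw [ha_val β z hzQ]
    refine ⟨(kα β ⟨z, hzQ⟩).2, ?_⟩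
    intro y hy
    obtain ⟨y', hy'⟩ := (kα β).surjective ⟨y, hy⟩
    have hyv : ((kα β y' : Q) : Ω) = y := congrArg Subtype.val hy'
    rw [← hyv]
    have h1 : y' * ⟨z, hzQ⟩ = ⟨z, hzQ⟩ * y' := Subtype.ext (hzc y' y'.2)
    have h2 := congrArg (fun w : Q => ((kα β w : Q) : Ω)) h1
    simp only [map_mul] at h2
    exact h2
  have ha_mul : ∀ β, ∀ z₁ ∈ Zs, ∀ z₂ ∈ Zs, a β (z₁ * z₂) = a β z₁ * a β z₂ := by
    intro β z₁ hz₁ z₂ hz₂
    have h1 := ((hZs_mem z₁).mp hz₁).1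
    have h2 := ((hZs_mem z₂).mp hz₂).1
    apply Subtype.ext
    show autFn (kα β) ((z₁ : Ω) * (z₂ : Ω)) = autFn (kα β) z₁ * autFn (kα β) z₂
    exact (hkα_mor β).map_mul h1 h2
  have ha_comp : ∀ β γ, ∀ z ∈ Zs, a (β * γ) z = a β (a γ z) := by
    intro β γ z hz
    have hzQ := ((hZs_mem z).mp hz).1
    apply Subtype.ext
    show autFn (kα (β * γ)) (z : Ω) = autFn (kα β) (autFn (kα γ) (z : Ω))
    rw [autFn_of_mem _ hzQ, autFn_of_mem (kα γ) hzQ, autFn_of_mem (kα β) (kα γ ⟨z, hzQ⟩).2]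
    rfl
  let θ : S → K → K := fun t β => ⟨cS t * β * (cS t)⁻¹, hKn.conj_mem β β.2 (cS t)⟩
  have hθ_mul : ∀ t u β, θ (t * u) β = θ t (θ u β) := by
    intro t u β
    apply Subtype.ext
    show cS (t * u) * (β : F.autGroup Q) * (cS (t * u))⁻¹ =
      cS t * (cS u * (β : F.autGroup Q) * (cS u)⁻¹) * (cS t)⁻¹
    rw [map_mul, mul_inv_rev]
    group
  have hθ_one : ∀ β, θ 1 β = β := by
    intro β
    apply Subtype.ext
    show cS 1 * (β : F.autGroup Q) * (cS 1)⁻¹ = β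
    rw [map_one]
    group
  have hθ_comm : ∀ (t : S) (β : K), θ t β = β → ∀ x : Q,
      kα β (((cS t : F.autGroup Q) : MulAut Q) x) = ((cS t : F.autGroup Q) : MulAut Q) (kα β x) := by
    intro t β ht x
    have h1 : cS t * (β : F.autGroup Q) * (cS t)⁻¹ = β := congrArg Subtype.val ht
    have h2 : cS t * (β : F.autGroup Q) = β * cS t := mul_inv_eq_iff_eq_mul.mp h1
    have h3 := congrArg (fun w : F.autGroup Q => (w : MulAut Q) x) h2
    exact h3.symm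
  have hstab_eq : ∀ (β : K) (t : S), θ t β = β → ∀ x ∈ Q,
      autFn (kα β) (t * x * (t : Ω)⁻¹) = t * autFn (kα β) x * (t : Ω)⁻¹ := by
    intro β t ht x hx
    have h1 := hθ_comm t β ht ⟨x, hx⟩
    rw [hcS_app' t x hx] at h1
    rw [autFn_of_mem _ (hQn t t.2 x hx), autFn_of_mem _ hx, h1]
    exact hcS_app t _
  have hcompat : ∀ t β, ∀ z ∈ Zs, a (θ t β) (t * z * t⁻¹) = t * a β z * t⁻¹ := by
    intro t β z hz
    have hzQ := ((hZs_mem z).mp hz).1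
    apply Subtype.ext
    show autFn (kα (θ t β)) ((t : Ω) * z * (t : Ω)⁻¹) = t * autFn (kα β) z * (t : Ω)⁻¹
    rw [autFn_of_mem _ (hQn t t.2 z hzQ), autFn_of_mem _ hzQ, ← hcS_app' t z hzQ]
    show (((cS t * (β : F.autGroup Q) * (cS t)⁻¹ : F.autGroup Q) : MulAut Q)
      (((cS t : F.autGroup Q) : MulAut Q) ⟨z, hzQ⟩) : Ω) = _
    have h1 : ((cS t * (β : F.autGroup Q) * (cS t)⁻¹ : F.autGroup Q) : MulAut Q)
        (((cS t : F.autGroup Q) : MulAut Q) ⟨z, hzQ⟩) =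
        ((cS t : F.autGroup Q) : MulAut Q) (kα β ⟨z, hzQ⟩) := by
      show ((cS t : F.autGroup Q) : MulAut Q) (((β : F.autGroup Q) : MulAut Q)
        ((((cS t : F.autGroup Q) : MulAut Q)⁻¹) (((cS t : F.autGroup Q) : MulAut Q) ⟨z, hzQ⟩))) = _
      rw [MulAut.inv_apply_self]
    rw [h1]
    exact hcS_app t _
  have hθZ : ∀ z ∈ Zs, ∀ β, θ z β = β := by
    intro z hz β
    obtain ⟨hzQ, hzc⟩ := (hZs_mem z).mp hz
    have h1 : (1 : F.autGroup Q) = cS z := by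
      rw [hcS_iff]
      intro x
      show (x : Ω) = z * x * (z : Ω)⁻¹
      rw [← hzc x x.2, mul_inv_cancel_right]
    apply Subtype.ext
    show cS z * (β : F.autGroup Q) * (cS z)⁻¹ = β
    rw [← h1]
    group
  have hext : ∀ β : K, ∃ f', Mor F (ext S Q (autFn (kα β))) f' ∧
      ∀ x ∈ Q, f' x = autFn (kα β) x :=
    fun β => exists_extension hQr (hkα_mor β) (img_autFn _)
  choose fext hfext hfext_eq using hext
  let e : K → S → S := fun β t => if h : fext β (t : Ω) ∈ S then ⟨fext β t, h⟩ else 1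
  have hstab : ∀ (β : K) (t : S), θ t β = β → (t : Ω) ∈ ext S Q (autFn (kα β)) := by
    intro β t ht
    rw [mem_ext]
    exact ⟨t.2, normal_mem_normalizer hQS hQn t.2, t, t.2, hstab_eq β t ht⟩
  have he_mul : ∀ β t u, θ t β = β → θ u β = β → e β (t * u) = e β t * e β u := by
    intro β t u ht hu
    have ht' := hstab β t ht
    have hu' := hstab β u hu
    have htu' : (t : Ω) * (u : Ω) ∈ ext S Q (autFn (kα β)) := mul_mem ht' hu'
    have m1 := (hfext β).mem ht'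
    have m2 := (hfext β).mem hu'
    have m12 := (hfext β).mem htu'
    show (if h : fext β ((t : Ω) * (u : Ω)) ∈ S then (⟨fext β ((t : Ω) * (u : Ω)), h⟩ : S) else 1) =
      (if h : fext β (t : Ω) ∈ S then (⟨fext β t, h⟩ : S) else 1) *
        (if h : fext β (u : Ω) ∈ S then (⟨fext β u, h⟩ : S) else 1)
    rw [dif_pos m12, dif_pos m1, dif_pos m2]
    apply Subtype.ext
    exact (hfext β).map_mul ht' hu'
  have he_Z : ∀ β t, θ t β = β → t⁻¹ * e β t ∈ Zs := by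
    intro β t ht
    have ht' := hstab β t ht
    have m1 := (hfext β).mem ht'
    have he : e β t = ⟨fext β t, m1⟩ := dif_pos m1
    rw [he, hZs_mem]
    have hmod : (t : Ω)⁻¹ * fext β t ∈ Q := mod_trivial hS hF hQ hcomm hinn (hfext β) ht'
    refine ⟨hmod, ?_⟩
    intro y hy
    obtain ⟨y₀, hy₀⟩ := (kα β).surjective ⟨y, hy⟩
    have hy₀' : fext β (y₀ : Ω) = y := by
      rw [hfext_eq β _ y₀.2, autFn_apply, hy₀]
    have hQext : Q ≤ ext S Q (autFn (kα β)) := (hkα_mor β).le_ext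
    have h1 : fext β (t * y₀ * (t : Ω)⁻¹) = fext β t * y * (fext β t)⁻¹ := by
      rw [(hfext β).map_conj ht' (hQext y₀.2), hy₀']
    have h2 : fext β (t * y₀ * (t : Ω)⁻¹) = t * y * (t : Ω)⁻¹ := by
      rw [hfext_eq β _ (hQn t t.2 _ y₀.2), hstab_eq β t ht _ y₀.2, autFn_apply, hy₀]
    have h := h1.symm.trans h2
    show y * ((t : Ω)⁻¹ * fext β t) = (t : Ω)⁻¹ * fext β t * y
    calc y * ((t : Ω)⁻¹ * fext β t) = (t : Ω)⁻¹ * (t * y * (t : Ω)⁻¹) * fext β t := by group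
      _ = (t : Ω)⁻¹ * (fext β t * y * (fext β t)⁻¹) * fext β t := by rw [h]
      _ = (t : Ω)⁻¹ * fext β t * y := by group
  have he_a : ∀ β, ∀ z ∈ Zs, e β z = a β z := by
    intro β z hz
    have hzQ := ((hZs_mem z).mp hz).1
    have m : fext β (z : Ω) ∈ S := by
      rw [hfext_eq β _ hzQ]; exact autFn_mem_of_le hQS _ _
    have he : e β z = ⟨fext β z, m⟩ := dif_pos m
    rw [he]
    apply Subtype.ext
    exact hfext_eq β _ hzQ
  have key := transfer_split hS Zs hZc hZΦ hK a ha_mem ha_mul ha_comp θ hθ_mul hθ_one hcompat hθZ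
    e he_mul he_Z he_a
  intro β hβ z hzc
  have hz : (⟨z, hQS z.2⟩ : S) ∈ Zs :=
    (hZs_mem _).mpr ⟨z.2, fun y hy => congrArg Subtype.val (hzc ⟨y, hy⟩)⟩
  have h1 := key ⟨β, hβ⟩ ⟨z, hQS z.2⟩ hz
  have h2 : autFn ((β : F.autGroup Q) : MulAut Q) (z : Ω) = z := congrArg Subtype.val h1
  apply Subtype.ext
  rw [← autFn_apply]
  exact h2

/-- `Aut_F(Q)` is a `p`-group for `[S,S] ≤ Q ≤ Φ(S)` strongly closed when `Aut_F(S) = Inn(S)` -/
theorem autGroup_isPGroup_of_frattini [Finite S] {p : ℕ} [Fact p.Prime] (hS : IsPGroup p S)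
    {F : FusionSystem S} (hF : F.IsSaturated p) {Q : Subgroup Ω} (hQ : F.StronglyClosed Q)
    (hcomm : ∀ s ∈ S, ∀ t ∈ S, s * t * s⁻¹ * t⁻¹ ∈ Q)
    (hfrat : Q ≤ (frattini S).map S.subtype)
    (hinn : ∀ f, Mor F S f → ∃ s ∈ S, ∀ x ∈ S, f x = s * x * s⁻¹) :
    IsPGroup p (F.autGroup Q) := by
  classical
  have hp := (Fact.out : p.Prime)
  have hQS := hQ.1
  haveI : Finite Q := finite_of_le hQS
  have hQn : ∀ s ∈ S, ∀ x ∈ Q, s * x * s⁻¹ ∈ Q :=
    fun s hs x hx => StronglyClosed.conj_mem hQ hs hx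
  obtain ⟨K, hKn, hKcop, hKmem⟩ := autGroup_normal_pprime hS hF hQS hQn hcomm hfrat hinn
  haveI := hKn
  have hfix := pprime_fixes_center hS hF hQ hcomm hfrat hinn K hKcop
  obtain ⟨cS, hcS⟩ : ∃ c, c = conjS F hQS hQn := ⟨_, rfl⟩
  have hcS_iff : ∀ (s : S) (a : F.autGroup Q), a = cS s ↔
      ∀ x : Q, (((a : MulAut Q) x : Q) : Ω) = s * x * (s : Ω)⁻¹ := by
    intro s a
    rw [hcS]
    exact conjS_eq_iff F hQS hQn s a
  have hQp : IsPGroup p Q := hS.to_le hQS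
  obtain ⟨j, hj⟩ := IsPGroup.iff_card.mp hQp
  have hKord : ∀ γ ∈ K, γ ^ (p ^ j) = 1 → γ = 1 := by
    intro γ hγK hγpow
    have h3 : orderOf γ ∣ p ^ j := orderOf_dvd_of_pow_eq_one hγpow
    have h4 : orderOf (⟨γ, hγK⟩ : K) ∣ Nat.card K := orderOf_dvd_natCard _
    have h5 : orderOf (⟨γ, hγK⟩ : K) = orderOf γ := by rw [← Subgroup.orderOf_coe]
    rw [h5] at h4
    have h6 : orderOf γ = 1 :=
      Nat.Coprime.eq_one_of_dvd (Nat.Coprime.coprime_dvd_left h4 (Nat.Coprime.pow_right j hKcop)) h3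
    exact orderOf_eq_one_iff.mp h6
  have hKtriv : ∀ β ∈ K, β = 1 := by
    intro β hβ
    have hcentral : ∀ q : Q, ∀ y : Q,
        y * ((β : MulAut Q) q * q⁻¹) = ((β : MulAut Q) q * q⁻¹) * y := by
      intro q y
      obtain ⟨qS, hqS⟩ : ∃ qS : S, qS = ⟨q, hQS q.2⟩ := ⟨_, rfl⟩
      obtain ⟨bq, hbq⟩ : ∃ bq : S, bq = ⟨((β : MulAut Q) q : Q), hQS ((β : MulAut Q) q).2⟩ :=
        ⟨_, rfl⟩
      have h1 : β * cS qS * β⁻¹ = cS bq := by
        rw [hcS_iff]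
        intro x
        show ((((β : MulAut Q) (((cS qS : F.autGroup Q) : MulAut Q)
          (((β : MulAut Q)⁻¹) x)) : Q)) : Ω) = _
        have h2 : ((cS qS : F.autGroup Q) : MulAut Q) (((β : MulAut Q)⁻¹) x) =
            q * ((β : MulAut Q)⁻¹ x) * q⁻¹ := by
          apply Subtype.ext
          rw [(hcS_iff qS _).mp rfl _, hqS]
          rfl
        rw [h2, map_mul, map_mul, map_inv, MulAut.apply_inv_self, hbq]
        rfl
      obtain ⟨γ, hγdef⟩ : ∃ γ : F.autGroup Q, γ = β * cS qS * β⁻¹ * (cS qS)⁻¹ := ⟨_, rfl⟩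
      have hγK : γ ∈ K := by
        have : γ = β * (cS qS * β⁻¹ * (cS qS)⁻¹) := by rw [hγdef]; group
        rw [this]
        exact K.mul_mem hβ (hKn.conj_mem _ (K.inv_mem hβ) _)
      have hγ : γ = cS (bq * qS⁻¹) := by
        rw [hγdef, h1, map_mul, map_inv]
      have hu : ((bq * qS⁻¹ : S) : Ω) = (((β : MulAut Q) q * q⁻¹ : Q) : Ω) := by
        rw [hbq, hqS]; rfl
      have hγpow : γ ^ (p ^ j) = 1 := by
        rw [hγ, ← map_pow]
        have h3 : (bq * qS⁻¹) ^ (p ^ j) = 1 := by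
          apply Subtype.ext
          show ((bq * qS⁻¹ : S) : Ω) ^ (p ^ j) = 1
          rw [hu, ← Subgroup.coe_pow, ← hj, pow_card_eq_one']
          rfl
        rw [h3, map_one]
      have hγ1 : γ = 1 := hKord γ hγK hγpow
      have h7 : (1 : F.autGroup Q) = cS (bq * qS⁻¹) := by rw [← hγ, hγ1]
      have h8 := (hcS_iff _ _).mp h7 y
      rw [hu] at h8
      apply Subtype.ext
      show (y : Ω) * (((β : MulAut Q) q * q⁻¹ : Q) : Ω) = (((β : MulAut Q) q * q⁻¹ : Q) : Ω) * y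
      have h9 : (y : Ω) = (((β : MulAut Q) q * q⁻¹ : Q) : Ω) * y *
          ((((β : MulAut Q) q * q⁻¹ : Q) : Ω))⁻¹ := h8
      calc (y : Ω) * (((β : MulAut Q) q * q⁻¹ : Q) : Ω)
          = ((((β : MulAut Q) q * q⁻¹ : Q) : Ω) * y *
              ((((β : MulAut Q) q * q⁻¹ : Q) : Ω))⁻¹) * (((β : MulAut Q) q * q⁻¹ : Q) : Ω) := by
            rw [← h9]
        _ = (((β : MulAut Q) q * q⁻¹ : Q) : Ω) * y := by group
    have hpow : ∀ (q : Q) (k : ℕ),
        ((β : MulAut Q) ^ k) q = ((β : MulAut Q) q * q⁻¹) ^ k * q := by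
      intro q k
      induction k with
      | zero => simp
      | succ k ih =>
        rw [pow_succ', MulAut.mul_apply, ih, map_mul, map_pow, hfix β hβ _ (hcentral q)]
        have h1 : (β : MulAut Q) q = ((β : MulAut Q) q * q⁻¹) * q := by group
        rw [pow_succ, mul_assoc, ← h1]
    have hβpow : β ^ (p ^ j) = 1 := by
      apply Subtype.ext
      apply MulEquiv.ext
      intro q
      show (((β : MulAut Q)) ^ (p ^ j)) q = q
      rw [hpow q, ← hj, pow_card_eq_one', one_mul]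
    exact hKord β hβ hβpow
  intro g
  have ho : orderOf g ≠ 0 := (orderOf_pos g).ne'
  obtain ⟨a, b, hb, hab⟩ := Nat.exists_eq_pow_mul_and_not_dvd ho p hp.ne_one
  refine ⟨a, ?_⟩
  have h1 : (g ^ (p ^ a)) ^ b = 1 := by rw [← pow_mul, ← hab, pow_orderOf_eq_one]
  have h2 : orderOf (g ^ (p ^ a)) ∣ b := orderOf_dvd_of_pow_eq_one h1
  have h3 : (orderOf (g ^ (p ^ a))).Coprime p :=
    Nat.Coprime.coprime_dvd_left h2 ((Nat.Prime.coprime_iff_not_dvd hp).mpr hb).symm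
  exact hKtriv _ (hKmem _ h3)

theorem stronglyClosed_of_isNormal {F : FusionSystem S} {Q : Subgroup Ω} (hQ : F.IsNormal Q) :
    F.StronglyClosed Q := by
  refine ⟨hQ.1, fun R hR φ hφ x => ?_⟩
  obtain ⟨f', hf', hf'R, hf'Q, -⟩ := normal_extend hQ (mor_of_hom hφ)
  have h1 := hf'R x x.2
  rw [fn_apply] at h1
  rw [← h1]
  exact hf'Q x (hR x.2)

/-- if `Q ⊴ F` with `[S,S] ≤ Q ≤ Φ(S)` and `Aut_F(S) = Inn(S)`, then every map of the saturated
system `F` is conjugation by an element of `S` -/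
theorem inner_of_frattini_normal [Finite S] {p : ℕ} [Fact p.Prime] (hS : IsPGroup p S)
    {F : FusionSystem S} (hF : F.IsSaturated p) {Q : Subgroup Ω} (hQ : F.IsNormal Q)
    (hcomm : ∀ s ∈ S, ∀ t ∈ S, s * t * s⁻¹ * t⁻¹ ∈ Q)
    (hfrat : Q ≤ (frattini S).map S.subtype)
    (hinn : ∀ f, Mor F S f → ∃ s ∈ S, ∀ x ∈ S, f x = s * x * s⁻¹) :
    ∀ (P : Subgroup Ω) (f : Ω → Ω), Mor F P f → ∃ s ∈ S, ∀ x ∈ P, f x = s * x * s⁻¹ := by
  classical
  have hp := (Fact.out : p.Prime)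
  have hQsc := stronglyClosed_of_isNormal hQ
  have hQS := hQ.1
  haveI : Finite Q := finite_of_le hQS
  have hAQ := autGroup_isPGroup_of_frattini hS hF hQsc hcomm hfrat hinn
  have hQp : IsPGroup p Q := hS.to_le hQS
  obtain ⟨j, hj⟩ := IsPGroup.iff_card.mp hQp
  have hall : ∀ R : Subgroup Ω, R ≤ S → IsPGroup p (F.autGroup R) := by
    intro R hRS a
    obtain ⟨α, hαA⟩ := a
    have hα : Mor F R (autFn α) := (mem_autGroup_iff hRS α).mp hαA
    obtain ⟨f', hf', hf'R, hf'Q, -⟩ := normal_extend hQ hα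
    obtain ⟨U, hU⟩ : ∃ U, U = R ⊔ Q := ⟨_, rfl⟩
    rw [← hU] at hf'
    have hRU : R ≤ U := hU ▸ le_sup_left
    have hQU : Q ≤ U := hU ▸ le_sup_right
    have hUS : U ≤ S := hf'.le
    haveI : Finite U := finite_of_le hUS
    have hf'U : ∀ x ∈ U, f' x ∈ U := by
      intro x hx
      rw [hU] at hx hf'
      have := hf'.map_sup_mem (K := R ⊔ Q)
        (fun x hx => le_sup_left (a := R) (by rw [hf'R x hx]; exact autFn_mem α hx))
        (fun x hx => le_sup_right (a := R) (hf'Q x hx)) x hx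
      rw [hU]; exact this
    obtain ⟨α', hα'A, hα'⟩ := exists_aut_of_mor hf' hf'U
    obtain ⟨ρ, hρA, hρ⟩ := exists_aut_of_mor (hf'.restrict hQU) hf'Q
    obtain ⟨i, hi⟩ := hAQ ⟨ρ, hρA⟩
    have hρi : ρ ^ (p ^ i) = 1 := congrArg Subtype.val hi
    have hA : ∀ (m : ℕ) (q : Q), (((α' ^ m) ⟨q, hQU q.2⟩ : U) : Ω) = (((ρ ^ m) q : Q) : Ω) := by
      intro m
      induction m with
      | zero => intro q; rfl
      | succ m ih =>
        intro q
        rw [pow_succ', pow_succ', MulAut.mul_apply, MulAut.mul_apply]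
        have e : (α' ^ m) ⟨q, hQU q.2⟩ = ⟨(((ρ ^ m) q : Q) : Ω), hQU ((ρ ^ m) q).2⟩ :=
          Subtype.ext (ih q)
        rw [e, hα', ← hρ]
    obtain ⟨γ, hγ⟩ : ∃ γ, γ = α' ^ (p ^ i) := ⟨_, rfl⟩
    have hγA : γ ∈ F.autGroup U := by rw [hγ]; exact Subgroup.pow_mem _ hα'A _
    have hγQ : ∀ u : U, (u : Ω) ∈ Q → γ u = u := by
      intro u hu
      apply Subtype.ext
      have := hA (p ^ i) ⟨u, hu⟩
      rw [hρi] at this
      rw [hγ]
      exact this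
    have hγmod : ∀ x : U, (((x⁻¹ * γ x : U)) : Ω) ∈ Q := by
      intro x
      have h1 := mod_trivial hS hF hQsc hcomm hinn ((mem_autGroup_iff hUS γ).mp hγA) x.2
      rw [autFn_apply] at h1
      exact h1
    have hC : ∀ (x : U) (k : ℕ), (γ ^ k) x = x * (x⁻¹ * γ x) ^ k := by
      intro x k
      induction k with
      | zero => simp
      | succ k ih =>
        rw [pow_succ', MulAut.mul_apply, ih, map_mul, map_pow, hγQ _ (hγmod x)]
        have h1 : γ x = x * (x⁻¹ * γ x) := by group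
        rw [pow_succ', ← mul_assoc, ← h1]
    have hγj : γ ^ (p ^ j) = 1 := by
      apply MulEquiv.ext
      intro x
      rw [hC x]
      have h1 : (x⁻¹ * γ x) ^ (p ^ j) = 1 := by
        apply Subtype.ext
        have h2 : ((⟨((x⁻¹ * γ x : U) : Ω), hγmod x⟩ : Q)) ^ (p ^ j) = 1 := by
          rw [← hj]; exact pow_card_eq_one'
        have h3 : ((((⟨((x⁻¹ * γ x : U) : Ω), hγmod x⟩ : Q)) ^ (p ^ j) : Q) : Ω) = 1 :=
          congrArg Subtype.val h2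
        rw [Subgroup.coe_pow] at h3
        show (((x⁻¹ * γ x) ^ (p ^ j) : U) : Ω) = 1
        rw [Subgroup.coe_pow]
        exact h3
      rw [h1, mul_one]
      rfl
    have hα'pow : α' ^ (p ^ (i + j)) = 1 := by
      rw [pow_add, pow_mul, ← hγ, hγj]
    have hD : ∀ (m : ℕ) (x : R), (((α ^ m) x : R) : Ω) = (((α' ^ m) ⟨x, hRU x.2⟩ : U) : Ω) := by
      intro m
      induction m with
      | zero => intro x; rfl
      | succ m ih =>
        intro x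
        rw [pow_succ', pow_succ', MulAut.mul_apply, MulAut.mul_apply]
        have e : (α' ^ m) ⟨x, hRU x.2⟩ = ⟨(((α ^ m) x : R) : Ω), hRU ((α ^ m) x).2⟩ :=
          Subtype.ext (ih x).symm
        rw [e, hα', hf'R _ ((α ^ m) x).2, autFn_apply]
    refine ⟨i + j, ?_⟩
    apply Subtype.ext
    apply MulEquiv.ext
    intro x
    apply Subtype.ext
    show (((α ^ (p ^ (i + j))) x : R) : Ω) = x
    rw [hD, hα'pow]
    rfl
  have key := alperin hS hF (innerFusionSystem S) (by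
    intro R hRfn _ _ _ f hf hfi
    have hRS := hRfn.1
    have : Finite R := finite_of_le hRS
    obtain ⟨α, hαA, hα⟩ := exists_aut_of_mor hf (fun x hx => by rw [← hfi]; exact apply_mem_img hx)
    obtain ⟨-, -, -, R₀, hR₀⟩ := fullyNormalized_props hS hF hRfn
    have htop : (⊤ : Subgroup (F.autGroup R)) = (R₀ : Subgroup (F.autGroup R)) :=
      R₀.3 ((hall R hRS).to_subgroup ⊤) le_top
    have hmem : (⟨α, hαA⟩ : F.autGroup R) ∈ (R₀ : Subgroup (F.autGroup R)) := by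
      rw [← htop]; exact Subgroup.mem_top _
    rw [hR₀, Subgroup.mem_subgroupOf, mem_autInducedBy_iff] at hmem
    obtain ⟨g, hg, hαg⟩ := hmem
    exact mor_inner_iff.mpr ⟨hRS, g, hg, fun x hx => by rw [← hα ⟨x, hx⟩]; exact hαg ⟨x, hx⟩⟩)
  intro P f hf
  exact (mor_inner_iff.mp (key P f hf)).2

end Cfsg.Agent.Helper27
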