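import Cfsg.Agent.Helper27.FusSat
import Cfsg.Agent.Helper27.FusNormal
import Cfsg.Agent.Helper27.FusInner
import Cfsg.Agent.Helper27.FusSolv
import Cfsg.Agent.Helper27.FusLift
import Cfsg.Agent.Helper27.FrattiniCore
import Cfsg.Agent.Helper26.Stancu
import Cfsg.Prelude.Def_TwoFusion

set_option autoImplicit false

namespace Cfsg.Agent.Helper27

open Cfsg Cfsg.FusionSystem

variable {Ω : Type*} [Group Ω] {S : Subgroup Ω}

/-- `S = S₁ × S₂` with both factors strongly closed in `F` -/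
structure DirProdHyp (F : FusionSystem S) (S₁ S₂ : Subgroup Ω) : Prop where
  le₁ : S₁ ≤ S
  le₂ : S₂ ≤ S
  comm : ∀ a ∈ S₁, ∀ b ∈ S₂, a * b = b * a
  inf : S₁ ⊓ S₂ = ⊥
  sup : S₁ ⊔ S₂ = S
  sc₁ : F.StronglyClosed S₁
  sc₂ : F.StronglyClosed S₂

/-- two functions multiplicative on `P ⊔ Q` agreeing on `P` and on `Q` agree on `P ⊔ Q` -/
theorem eqOn_sup_of_mul {P Q : Subgroup Ω} {a b : Ω → Ω}
    (ha : ∀ x ∈ P ⊔ Q, ∀ y ∈ P ⊔ Q, a (x * y) = a x * a y)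
    (hb : ∀ x ∈ P ⊔ Q, ∀ y ∈ P ⊔ Q, b (x * y) = b x * b y)
    (hP : ∀ x ∈ P, a x = b x) (hQ : ∀ x ∈ Q, a x = b x) : ∀ x ∈ P ⊔ Q, a x = b x := by
  have ha1 : a 1 = 1 := by
    have h := ha 1 (Subgroup.one_mem _) 1 (Subgroup.one_mem _)
    rw [mul_one] at h
    exact (mul_eq_left.mp h.symm)
  have hb1 : b 1 = 1 := by
    have h := hb 1 (Subgroup.one_mem _) 1 (Subgroup.one_mem _)
    rw [mul_one] at h
    exact (mul_eq_left.mp h.symm)
  have hainv : ∀ x ∈ P ⊔ Q, a x⁻¹ = (a x)⁻¹ := by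
    intro x hx
    have h := ha x⁻¹ (Subgroup.inv_mem _ hx) x hx
    rw [inv_mul_cancel, ha1] at h
    exact eq_inv_of_mul_eq_one_left h.symm
  have hbinv : ∀ x ∈ P ⊔ Q, b x⁻¹ = (b x)⁻¹ := by
    intro x hx
    have h := hb x⁻¹ (Subgroup.inv_mem _ hx) x hx
    rw [inv_mul_cancel, hb1] at h
    exact eq_inv_of_mul_eq_one_left h.symm
  let M : Subgroup Ω :=
    { carrier := {x | x ∈ P ⊔ Q ∧ a x = b x}
      mul_mem' := by
        rintro x y ⟨hx, hx'⟩ ⟨hy, hy'⟩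
        exact ⟨Subgroup.mul_mem _ hx hy, by rw [ha x hx y hy, hb x hx y hy, hx', hy']⟩
      one_mem' := ⟨Subgroup.one_mem _, by rw [ha1, hb1]⟩
      inv_mem' := by
        rintro x ⟨hx, hx'⟩
        exact ⟨Subgroup.inv_mem _ hx, by rw [hainv x hx, hbinv x hx, hx']⟩ }
  have hM : P ⊔ Q ≤ M :=
    sup_le (fun x hx => ⟨(le_sup_left : P ≤ P ⊔ Q) hx, hP x hx⟩)
      (fun x hx => ⟨(le_sup_right : Q ≤ P ⊔ Q) hx, hQ x hx⟩)
  intro x hx
  exact (hM hx).2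

/-- the image of `P ⊔ Q` under a map fixing `Q` pointwise -/
theorem img_sup_fix {F : FusionSystem S} {P Q : Subgroup Ω} {f : Ω → Ω} (hf : Mor F (P ⊔ Q) f)
    (hQ : ∀ y ∈ Q, f y = y) : img (P ⊔ Q) f = img P f ⊔ Q := by
  apply le_antisymm
  · apply hf.img_le_of
    exact hf.map_sup_mem (fun x hx => (le_sup_left : img P f ≤ img P f ⊔ Q) (apply_mem_img hx))
      (fun y hy => by rw [hQ y hy]; exact (le_sup_right : Q ≤ img P f ⊔ Q) hy)
  · refine sup_le (img_mono f le_sup_left) (fun y hy => ?_)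
    have h := apply_mem_img (f := f) ((le_sup_right : Q ≤ P ⊔ Q) hy)
    rwa [hQ y hy] at h

/-- inverse of an automorphism of `S` in the system -/
theorem aut_inv [Finite S] {F : FusionSystem S} {f : Ω → Ω} (hf : Mor F S f) :
    ∃ g, Mor F S g ∧ (∀ x ∈ S, g (f x) = x) ∧ ∀ y ∈ S, g y ∈ S ∧ f (g y) = y := by
  obtain ⟨g, hg, h1, h2, -⟩ := hf.exists_inv
  rw [hf.img_top] at hg h2
  exact ⟨g, hg, h1, h2⟩

/-- a subgroup of a group in which `D` is Sylow, containing `D`, has `D` as a Sylow subgroup -/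
theorem sylow_of_le {M : Type*} [Group M] [Finite M] {p : ℕ} [Fact p.Prime] {K A D : Subgroup M}
    (hKA : K ≤ A) (hDK : D ≤ K) (Sy' : Sylow p A) (hSy' : (Sy' : Subgroup A) = D.subgroupOf A) :
    ∃ Sy : Sylow p K, (Sy : Subgroup K) = D.subgroupOf K := by
  have hDp : IsPGroup p (D.subgroupOf K) := by
    intro x
    have hx : (⟨((x : K) : M), hKA (x : K).2⟩ : A) ∈ (Sy' : Subgroup A) := by
      rw [hSy']
      exact Subgroup.mem_subgroupOf.mpr (Subgroup.mem_subgroupOf.mp x.2)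
    obtain ⟨k, hk⟩ := Sy'.isPGroup' ⟨_, hx⟩
    refine ⟨k, ?_⟩
    apply Subtype.ext
    apply Subtype.ext
    have h1 := congrArg (fun z : (Sy' : Subgroup A) => ((z : A) : M)) hk
    simpa using h1
  obtain ⟨Sy, hSy⟩ := hDp.exists_le_sylow
  refine ⟨Sy, le_antisymm ?_ hSy⟩
  intro x hx
  rw [Subgroup.mem_subgroupOf]
  have hEp : IsPGroup p (((Sy : Subgroup K).map K.subtype).subgroupOf A) := by
    intro y
    have hy := Subgroup.mem_subgroupOf.mp y.2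
    obtain ⟨s, hs, hsy⟩ := hy
    obtain ⟨k, hk⟩ := Sy.isPGroup' ⟨s, hs⟩
    refine ⟨k, ?_⟩
    apply Subtype.ext
    apply Subtype.ext
    have h1 := congrArg (fun z : (Sy : Subgroup K) => ((z : K) : M)) hk
    have h2 : ((s : K) : M) = ((y : A) : M) := hsy
    simp only [Subgroup.coe_pow, Subgroup.coe_one] at h1 ⊢
    rw [← h2]
    exact h1
  have hle : (Sy' : Subgroup A) ≤ ((Sy : Subgroup K).map K.subtype).subgroupOf A := by
    intro y hy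
    rw [hSy', Subgroup.mem_subgroupOf] at hy
    rw [Subgroup.mem_subgroupOf]
    exact ⟨⟨(y : M), hDK hy⟩, hSy (Subgroup.mem_subgroupOf.mpr hy), rfl⟩
  have heq := Sy'.is_maximal' hEp hle
  have hxE : (⟨((x : K) : M), hKA x.2⟩ : A) ∈ ((Sy : Subgroup K).map K.subtype).subgroupOf A := by
    rw [Subgroup.mem_subgroupOf]
    exact ⟨x, hx, rfl⟩
  rw [heq, hSy', Subgroup.mem_subgroupOf] at hxE
  exact hxE

namespace DirProdHyp

variable {F : FusionSystem S} {S₁ S₂ : Subgroup Ω}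

theorem symm (h : DirProdHyp F S₁ S₂) : DirProdHyp F S₂ S₁ where
  le₁ := h.le₂
  le₂ := h.le₁
  comm := fun a ha b hb => (h.comm b hb a ha).symm
  inf := by rw [inf_comm]; exact h.inf
  sup := by rw [sup_comm]; exact h.sup
  sc₁ := h.sc₂
  sc₂ := h.sc₁

theorem decomp (h : DirProdHyp F S₁ S₂) {s : Ω} (hs : s ∈ S) : ∃ a ∈ S₁, ∃ b ∈ S₂, s = a * b := by
  have hs' : s ∈ S₁ ⊔ S₂ := by rw [h.sup]; exact hs
  refine exists_mul_of_mem_sup (fun r hr t ht => ?_) hs'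
  rw [h.comm r hr t ht, mul_inv_cancel_right]
  exact ht

theorem inter (h : DirProdHyp F S₁ S₂) {x : Ω} (h₁ : x ∈ S₁) (h₂ : x ∈ S₂) : x = 1 := by
  have hx : x ∈ S₁ ⊓ S₂ := ⟨h₁, h₂⟩
  rw [h.inf] at hx
  exact Subgroup.mem_bot.mp hx

theorem conj₂ (h : DirProdHyp F S₁ S₂) : ∀ s ∈ S, ∀ x ∈ S₂, s * x * s⁻¹ ∈ S₂ :=
  fun _ hs _ hx => StronglyClosed.conj_mem h.sc₂ hs hx

theorem conj₁ (h : DirProdHyp F S₁ S₂) : ∀ s ∈ S, ∀ x ∈ S₁, s * x * s⁻¹ ∈ S₁ :=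
  fun _ hs _ hx => StronglyClosed.conj_mem h.sc₁ hs hx

theorem conj_eq (h : DirProdHyp F S₁ S₂) {a b : Ω} (ha : a ∈ S₁) (hb : b ∈ S₂) :
    a * b * a⁻¹ = b := by
  rw [h.comm a ha b hb, mul_inv_cancel_right]

theorem conj_eq' (h : DirProdHyp F S₁ S₂) {a b : Ω} (ha : a ∈ S₁) (hb : b ∈ S₂) :
    b * a * b⁻¹ = a := by
  rw [← h.comm a ha b hb, mul_inv_cancel_right]

/-- automorphisms of `S₂` in the system extend to `S` -/
theorem ext₂ [Finite S] {p : ℕ} [Fact p.Prime] (hS : IsPGroup p S) (hF : F.IsSaturated p)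
    (h : DirProdHyp F S₁ S₂) {f : Ω → Ω} (hf : Mor F S₂ f) :
    ∃ f', Mor F S f' ∧ ∀ x ∈ S₂, f' x = f x := by
  haveI : Finite S₂ := finite_of_le h.le₂
  have hfn : F.IsFullyNormalized S₂ := fullyNormalized_of_normal F h.le₂ h.conj₂
  obtain ⟨-, hrec, -⟩ := fullyNormalized_props hS hF hfn
  have himg : img S₂ f = S₂ :=
    Subgroup.eq_of_le_of_card_ge (hf.img_le_of (fun x hx => StronglyClosed.mor h.sc₂ hf le_rfl hx))
      (le_of_eq hf.card_img.symm)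
  obtain ⟨f', hf', hf'f⟩ := exists_extension hrec hf himg
  have hle : S ≤ ext S S₂ f := by
    intro g hg
    obtain ⟨a, ha, b, hb, rfl⟩ := h.decomp hg
    rw [mem_ext]
    refine ⟨hg, mem_normalizer_of_forall (h.conj₂ _ hg), f b, hf.mem hb, fun x hx => ?_⟩
    have e : a * b * x * (a * b)⁻¹ = a * (b * x * b⁻¹) * a⁻¹ := by group
    rw [e, h.conj_eq ha (S₂.mul_mem (S₂.mul_mem hb hx) (S₂.inv_mem hb)), hf.map_conj hb hx]
  exact ⟨f', hf'.restrict hle, hf'f⟩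

theorem ext₁ [Finite S] {p : ℕ} [Fact p.Prime] (hS : IsPGroup p S) (hF : F.IsSaturated p)
    (h : DirProdHyp F S₁ S₂) {f : Ω → Ω} (hf : Mor F S₁ f) :
    ∃ f', Mor F S f' ∧ ∀ x ∈ S₁, f' x = f x :=
  h.symm.ext₂ hS hF hf

end DirProdHyp

end Cfsg.Agent.Helper27
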