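import Cfsg.Agent.Helper27.DirProd

set_option autoImplicit false

namespace Cfsg.Agent.Helper27

open Cfsg Cfsg.FusionSystem

variable {Ω : Type*} [Group Ω] {S : Subgroup Ω}

namespace DirProdHyp

variable {F : FusionSystem S} {S₁ S₂ : Subgroup Ω}

theorem mor_R (R : FusionSystem S₁) (hR : ∀ P : Subgroup Ω, P ≤ S₁ → R.Hom P = F.Hom P)
    {P : Subgroup Ω} {f : Ω → Ω} : Mor R P f ↔ P ≤ S₁ ∧ Mor F P f := by
  constructor
  · rintro ⟨φ, hφ, hf⟩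
    have hP := (R.le_of_mem hφ).1
    rw [hR P hP] at hφ
    exact ⟨hP, φ, hφ, hf⟩
  · rintro ⟨hP, φ, hφ, hf⟩
    rw [← hR P hP] at hφ
    exact ⟨φ, hφ, hf⟩

theorem mor_R' (h : DirProdHyp F S₁ S₂) (R' : FusionSystem S₁)
    (hR' : ∀ P : Subgroup Ω, P ≤ S₁ → R'.Hom P = F.centralizerHom S₂ P)
    {P : Subgroup Ω} {f : Ω → Ω} :
    Mor R' P f ↔ P ≤ S₁ ∧ ∃ f', Mor F (P ⊔ S₂) f' ∧ (∀ x ∈ P, f' x = f x) ∧ ∀ y ∈ S₂, f' y = y := by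
  constructor
  · rintro ⟨φ, hφ, hf⟩
    have hP := (R'.le_of_mem hφ).1
    rw [hR' P hP] at hφ
    obtain ⟨-, -, -, ψ, hψ, hψφ, hψS⟩ := hφ
    refine ⟨hP, fn ψ, mor_of_hom hψ, fun x hx => ?_, fun y hy => ?_⟩
    · rw [fn_of_mem ψ ((le_sup_left : P ≤ P ⊔ S₂) hx), ← hf ⟨x, hx⟩]
      exact hψφ ⟨x, hx⟩
    · rw [fn_of_mem ψ ((le_sup_right : S₂ ≤ P ⊔ S₂) hy)]
      exact hψS ⟨y, hy⟩
  · rintro ⟨hP, f', hf', hf'P, hf'S⟩
    obtain ⟨φ, hφ, hφf'⟩ := hf'.restrict (le_sup_left : P ≤ P ⊔ S₂)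
    obtain ⟨ψ, hψ, hψf'⟩ := hf'
    have hcent : ∀ x ∈ S₁, x ∈ centralizerIn S S₂ := by
      intro x hx
      rw [mem_centralizerIn]
      exact ⟨h.le₁ hx, fun y hy => (h.comm x hx y hy).symm⟩
    refine ⟨φ, ?_, fun x => by rw [hφf' x, hf'P x x.2]⟩
    rw [hR' P hP]
    refine ⟨hφ, fun x hx => hcent x (hP hx), fun x => hcent _ (h.sc₁.2 P hP φ hφ x), ψ, hψ,
      fun x => ?_, fun y => ?_⟩
    · rw [hψf', hφf']
      rfl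
    · rw [hψf']
      exact hf'S y y.2

/-- the full subsystem on `S₁` is saturated -/
theorem R_saturated [Finite S] {p : ℕ} [Fact p.Prime] (hF : F.IsSaturated p)
    (h : DirProdHyp F S₁ S₂) (R : FusionSystem S₁)
    (hR : ∀ P : Subgroup Ω, P ≤ S₁ → R.Hom P = F.Hom P) : R.IsSaturated p := by
  intro P hP
  obtain ⟨Q, hPQ, hQa, hQr⟩ := hF P (hP.trans h.le₁)
  obtain ⟨f, hf, hi⟩ := isConj_iff.mp hPQ
  have hQS₁ : Q ≤ S₁ := by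
    rw [← hi]
    exact hf.img_le_of (fun x hx => StronglyClosed.mor h.sc₁ hf hP hx)
  refine ⟨Q, isConj_iff.mpr ⟨f, (mor_R R hR).mpr ⟨hP, hf⟩, hi⟩, ⟨hQS₁, ?_⟩, ?_⟩
  · obtain ⟨Sy, hSy⟩ := hQa.2
    have h1 : R.autGroup Q = F.autGroup Q := by
      ext α
      rw [mem_autGroup_iff hQS₁, mem_autGroup_iff hQa.1, mor_R R hR]
      exact ⟨fun h => h.2, fun h => ⟨hQS₁, h⟩⟩
    have h2 : autInducedBy S₁ Q = autInducedBy S Q := by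
      ext α
      rw [mem_autInducedBy_iff, mem_autInducedBy_iff]
      constructor
      · rintro ⟨g, hg, hα⟩
        exact ⟨g, h.le₁ hg, hα⟩
      · rintro ⟨g, hg, hα⟩
        obtain ⟨a, ha, b, hb, rfl⟩ := h.decomp hg
        refine ⟨a, ha, fun x => ?_⟩
        rw [hα x]
        have e : a * b * (x : Ω) * (a * b)⁻¹ = a * (b * (x : Ω) * b⁻¹) * a⁻¹ := by group
        rw [e, h.conj_eq' (hQS₁ x.2) hb]
    rw [h1, h2]
    exact ⟨Sy, hSy⟩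
  · rw [receptive_iff]
    refine ⟨hQS₁, fun P' f₁ hf₁ hi₁ => ?_⟩
    obtain ⟨hP', hf₁F⟩ := (mor_R R hR).mp hf₁
    obtain ⟨f', hf', hff'⟩ := exists_extension hQr hf₁F hi₁
    have hle : ext S₁ P' f₁ ≤ ext S P' f₁ := by
      intro g hg
      obtain ⟨h1, h2, k, hk, h3⟩ := mem_ext.mp hg
      exact mem_ext.mpr ⟨h.le₁ h1, h2, k, h.le₁ hk, h3⟩
    exact ⟨f', (mor_R R hR).mpr ⟨fun g hg => (mem_ext.mp hg).1, hf'.restrict hle⟩, hff'⟩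

/-- elements of `P ⊔ S₂` lying in `S₁` lie in `P`, for `P ≤ S₁` -/
theorem mem_of_mem_sup (h : DirProdHyp F S₁ S₂) {P : Subgroup Ω} (hP : P ≤ S₁) {x : Ω}
    (hx : x ∈ P ⊔ S₂) (hx₁ : x ∈ S₁) : x ∈ P := by
  obtain ⟨a, ha, b, hb, rfl⟩ := exists_mul_of_mem_sup (R := P) (T := S₂) (fun r hr t ht => by
    rw [h.conj_eq (hP hr) ht]; exact ht) hx
  have hb₁ : b ∈ S₁ := by
    have e : b = a⁻¹ * (a * b) := by group
    rw [e]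
    exact S₁.mul_mem (S₁.inv_mem (hP ha)) hx₁
  rw [h.inter hb₁ hb, mul_one]
  exact ha

theorem conj_sup_mem (h : DirProdHyp F S₁ S₂) {P : Subgroup Ω} (hP : P ≤ S₁) {a b : Ω}
    (ha : a ∈ S₁) (haP : ∀ y ∈ P, a * y * a⁻¹ ∈ P) (hb : b ∈ S₂) :
    ∀ y ∈ P ⊔ S₂, a * b * y * (a * b)⁻¹ ∈ P ⊔ S₂ := by
  have hle : P ⊔ S₂ ≤ (P ⊔ S₂).comap (MulAut.conj (a * b)).toMonoidHom := by
    refine sup_le (fun y hy => ?_) (fun y hy => ?_)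
    · show a * b * y * (a * b)⁻¹ ∈ P ⊔ S₂
      have e : a * b * y * (a * b)⁻¹ = a * (b * y * b⁻¹) * a⁻¹ := by group
      rw [e, h.conj_eq' (hP hy) hb]
      exact (le_sup_left : P ≤ P ⊔ S₂) (haP y hy)
    · show a * b * y * (a * b)⁻¹ ∈ P ⊔ S₂
      exact (le_sup_right : S₂ ≤ P ⊔ S₂)
        (h.conj₂ _ (S.mul_mem (h.le₁ ha) (h.le₂ hb)) y hy)
  exact fun y hy => hle hy

/-- `|N_S(Q S₂)| = |N_{S₁}(Q)| |S₂|` for `Q ≤ S₁` -/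
theorem card_normalizer [Finite S] (h : DirProdHyp F S₁ S₂) {Q : Subgroup Ω} (hQ : Q ≤ S₁) :
    Nat.card (normalizerIn S (Q ⊔ S₂)) = Nat.card (normalizerIn S₁ Q) * Nat.card S₂ := by
  haveI : Finite ↥(Q ⊔ S₂) := finite_of_le (sup_le (hQ.trans h.le₁) h.le₂)
  have hmem : ∀ (a : normalizerIn S₁ Q) (b : S₂), (a : Ω) * (b : Ω) ∈ normalizerIn S (Q ⊔ S₂) := by
    intro a b
    have ha := mem_normalizerIn.mp a.2
    refine ⟨S.mul_mem (h.le₁ ha.1) (h.le₂ b.2), mem_normalizer_of_forall ?_⟩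
    exact h.conj_sup_mem hQ ha.1 (fun y hy => (ha.2 y).mp hy) b.2
  rw [← Nat.card_prod]
  symm
  apply Nat.card_congr
  refine Equiv.ofBijective (fun ab : normalizerIn S₁ Q × S₂ => ⟨(ab.1 : Ω) * (ab.2 : Ω), hmem ab.1 ab.2⟩)
    ⟨?_, ?_⟩
  · rintro ⟨a, b⟩ ⟨a', b'⟩ hab
    have h1 : (a : Ω) * (b : Ω) = (a' : Ω) * (b' : Ω) := congrArg Subtype.val hab
    have ha := (mem_normalizerIn.mp a.2).1
    have ha' := (mem_normalizerIn.mp a'.2).1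
    have h2 : (a' : Ω)⁻¹ * (a : Ω) = (b' : Ω) * (b : Ω)⁻¹ := by
      calc (a' : Ω)⁻¹ * (a : Ω) = (a' : Ω)⁻¹ * ((a : Ω) * (b : Ω)) * (b : Ω)⁻¹ := by group
        _ = (a' : Ω)⁻¹ * ((a' : Ω) * (b' : Ω)) * (b : Ω)⁻¹ := by rw [h1]
        _ = (b' : Ω) * (b : Ω)⁻¹ := by group
    have h3 : (a' : Ω)⁻¹ * (a : Ω) = 1 :=
      h.inter (S₁.mul_mem (S₁.inv_mem ha') ha) (by rw [h2]; exact S₂.mul_mem b'.2 (S₂.inv_mem b.2))
    have h4 : (a : Ω) = (a' : Ω) := by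
      have := congrArg (fun t => (a' : Ω) * t) h3
      simpa using this
    have h5 : (b : Ω) = (b' : Ω) := by
      rw [h4] at h1
      exact mul_left_cancel h1
    exact Prod.ext (Subtype.ext h4) (Subtype.ext h5)
  · rintro ⟨g, hg⟩
    have hg' := mem_normalizerIn.mp hg
    obtain ⟨a, ha, b, hb, rfl⟩ := h.decomp hg'.1
    haveI : Finite Q := finite_of_le (hQ.trans h.le₁)
    have haN : a ∈ normalizerIn S₁ Q := by
      refine ⟨ha, mem_normalizer_of_forall (P := Q) (fun y hy => ?_)⟩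
      have h1 := (hg'.2 y).mp ((le_sup_left : Q ≤ Q ⊔ S₂) hy)
      have e : a * b * y * (a * b)⁻¹ = a * (b * y * b⁻¹) * a⁻¹ := by group
      rw [e, h.conj_eq' (hQ hy) hb] at h1
      exact h.mem_of_mem_sup hQ h1 (S₁.mul_mem (S₁.mul_mem ha (hQ hy)) (S₁.inv_mem ha))
    exact ⟨(⟨a, haN⟩, ⟨b, hb⟩), rfl⟩

end DirProdHyp

end Cfsg.Agent.Helper27
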