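import Cfsg.Agent.Helper27.DirProd2

set_option autoImplicit false

namespace Cfsg.Agent.Helper27

open Cfsg Cfsg.FusionSystem

variable {Ω : Type*} [Group Ω] {S : Subgroup Ω}

namespace DirProdHyp

variable {F : FusionSystem S} {S₁ S₂ : Subgroup Ω}

/-- receptivity of `Q ≤ S₁` in `R'` from receptivity of `Q S₂` in `F` -/
theorem R'_receptive [Finite S] (h : DirProdHyp F S₁ S₂) (R' : FusionSystem S₁)
    (hR' : ∀ P : Subgroup Ω, P ≤ S₁ → R'.Hom P = F.centralizerHom S₂ P) {Q : Subgroup Ω}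
    (hQ : Q ≤ S₁) (hrec : F.IsReceptive (Q ⊔ S₂)) : R'.IsReceptive Q := by
  rw [receptive_iff]
  refine ⟨hQ, fun P' f hf hi => ?_⟩
  obtain ⟨hP', f₁, hf₁, hf₁P, hf₁S⟩ := (h.mor_R' R' hR').mp hf
  have himg : img (P' ⊔ S₂) f₁ = Q ⊔ S₂ := by
    rw [img_sup_fix hf₁ hf₁S, img_congr hf₁P, hi]
  obtain ⟨f₂, hf₂, hf₂f₁⟩ := exists_extension hrec hf₁ himg
  haveI : Finite ↥(P' ⊔ S₂) := finite_of_le hf₁.le
  have hle : ext S₁ P' f ⊔ S₂ ≤ ext S (P' ⊔ S₂) f₁ := by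
    refine sup_le (fun g hg => ?_) ((le_sup_right : S₂ ≤ P' ⊔ S₂).trans hf₁.le_ext)
    obtain ⟨hgS₁, hgN, k, hk, hfg⟩ := mem_ext.mp hg
    have hgP : ∀ y ∈ P', g * y * g⁻¹ ∈ P' :=
      fun y hy => (Subgroup.mem_normalizer_iff.mp hgN y).mp hy
    have hconj : ∀ y ∈ P' ⊔ S₂, g * y * g⁻¹ ∈ P' ⊔ S₂ := by
      have h1 := h.conj_sup_mem hP' hgS₁ hgP (S₂.one_mem)
      intro y hy
      have h2 := h1 y hy
      rwa [mul_one] at h2
    rw [mem_ext]
    refine ⟨h.le₁ hgS₁, mem_normalizer_of_forall hconj, k, h.le₁ hk, ?_⟩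
    apply eqOn_sup_of_mul (a := fun y => f₁ (g * y * g⁻¹)) (b := fun y => k * f₁ y * k⁻¹)
    · intro x hx y hy
      show f₁ (g * (x * y) * g⁻¹) = f₁ (g * x * g⁻¹) * f₁ (g * y * g⁻¹)
      rw [← hf₁.map_mul (hconj x hx) (hconj y hy)]
      congr 1
      group
    · intro x hx y hy
      show k * f₁ (x * y) * k⁻¹ = k * f₁ x * k⁻¹ * (k * f₁ y * k⁻¹)
      rw [hf₁.map_mul hx hy]
      group
    · intro y hy
      show f₁ (g * y * g⁻¹) = k * f₁ y * k⁻¹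
      rw [hf₁P _ (hgP y hy), hf₁P y hy]
      exact hfg y hy
    · intro y hy
      show f₁ (g * y * g⁻¹) = k * f₁ y * k⁻¹
      rw [h.conj_eq hgS₁ hy, hf₁S y hy, h.conj_eq hk hy]
  refine ⟨f₂, (h.mor_R' R' hR').mpr ⟨fun g hg => (mem_ext.mp hg).1, f₂, hf₂.restrict hle,
    fun _ _ => rfl, fun y hy => ?_⟩, fun x hx => ?_⟩
  · rw [hf₂f₁ y ((le_sup_right : S₂ ≤ P' ⊔ S₂) hy), hf₁S y hy]
  · rw [hf₂f₁ x ((le_sup_left : P' ≤ P' ⊔ S₂) hx), hf₁P x hx]

/-- the centralizer subsystem `R'` on `S₁` is saturated -/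
theorem R'_saturated [Finite S] {p : ℕ} [Fact p.Prime] (hS : IsPGroup p S) (hF : F.IsSaturated p)
    (h : DirProdHyp F S₁ S₂) (R' : FusionSystem S₁)
    (hR' : ∀ P : Subgroup Ω, P ≤ S₁ → R'.Hom P = F.centralizerHom S₂ P) : R'.IsSaturated p := by
  haveI : Finite S₁ := finite_of_le h.le₁
  haveI : Finite S₂ := finite_of_le h.le₂
  rw [Helper26.saturated_iff_rs p (hS.to_le h.le₁) R']
  refine ⟨⟨le_rfl, ?_⟩, fun Q hQ => ?_⟩
  · have hfn : F.IsFullyNormalized S₁ := fullyNormalized_of_normal F h.le₁ h.conj₁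
    obtain ⟨-, -, hfa⟩ := fullyNormalized_props hS hF hfn
    obtain ⟨Sy', hSy'⟩ := hfa.2
    have h2 : autInducedBy S S₁ = autInducedBy S₁ S₁ := by
      ext α
      rw [mem_autInducedBy_iff, mem_autInducedBy_iff]
      constructor
      · rintro ⟨g, hg, hα⟩
        obtain ⟨a, ha, b, hb, rfl⟩ := h.decomp hg
        refine ⟨a, ha, fun x => ?_⟩
        rw [hα x]
        have e : a * b * (x : Ω) * (a * b)⁻¹ = a * (b * (x : Ω) * b⁻¹) * a⁻¹ := by group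
        rw [e, h.conj_eq' x.2 hb]
      · rintro ⟨g, hg, hα⟩
        exact ⟨g, h.le₁ hg, hα⟩
    rw [h2] at hSy'
    have hKA : R'.autGroup S₁ ≤ F.autGroup S₁ := by
      intro α hα
      rw [mem_autGroup_iff le_rfl] at hα
      rw [mem_autGroup_iff h.le₁]
      obtain ⟨-, f', hf', hf'P, -⟩ := (h.mor_R' R' hR').mp hα
      exact (hf'.restrict le_sup_left).congr hf'P
    have hDK : autInducedBy S₁ S₁ ≤ R'.autGroup S₁ := autInducedBy_le_autGroup R' le_rfl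
    haveI : Finite (MulAut S₁) := inferInstance
    exact sylow_of_le hKA hDK Sy' hSy'
  · have hQS₁ := hQ.1
    apply h.R'_receptive R' hR' hQS₁
    have hfnQ : F.IsFullyNormalized (Q ⊔ S₂) := by
      refine ⟨sup_le (hQS₁.trans h.le₁) h.le₂, fun V hV => ?_⟩
      obtain ⟨ft, hft, hi⟩ := isConj_iff.mp hV
      have hft₂ : Mor F S₂ ft := hft.restrict le_sup_right
      obtain ⟨β, hβ, hβft⟩ := h.ext₂ hS hF hft₂
      obtain ⟨γ, hγ, hγβ, hγ2⟩ := aut_inv hβ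
      have hf₀ : Mor F (Q ⊔ S₂) (γ ∘ ft) := hft.comp hγ (fun x hx => hft.mem hx)
      have hfix : ∀ y ∈ S₂, (γ ∘ ft) y = y := by
        intro y hy
        show γ (ft y) = y
        rw [← hβft y hy]
        exact hγβ y (h.le₂ hy)
      have hQ'S₁ : img Q (γ ∘ ft) ≤ S₁ :=
        (hf₀.restrict le_sup_left).img_le_of
          (fun x hx => StronglyClosed.mor h.sc₁ (hf₀.restrict le_sup_left) hQS₁ hx)
      have hconj : R'.IsConj Q (img Q (γ ∘ ft)) :=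
        isConj_iff.mpr ⟨γ ∘ ft,
          (h.mor_R' R' hR').mpr ⟨hQS₁, γ ∘ ft, hf₀, fun _ _ => rfl, hfix⟩, rfl⟩
      have h1 := hQ.2 _ hconj
      have hVS : V ≤ S := by rw [← hi]; exact hft.img_le
      have h3 : img V γ = img Q (γ ∘ ft) ⊔ S₂ := by
        rw [← hi, ← hft.img_comp γ, img_sup_fix hf₀ hfix]
      have h4 : Nat.card (normalizerIn S V) ≤ Nat.card (normalizerIn S (img V γ)) := by
        have hN : normalizerIn S V ≤ S := normalizerIn_le S V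
        have hr := hγ.restrict hN
        have hle : img (normalizerIn S V) γ ≤ normalizerIn S (img V γ) :=
          hr.img_le_of (fun g hg => hγ.map_normalizerIn hVS (hN hg) hg)
        rw [← hr.card_img]
        haveI : Finite ↥(normalizerIn S (img V γ)) := finite_of_le (normalizerIn_le S _)
        exact Subgroup.card_le_of_le hle
      rw [h3, h.card_normalizer hQ'S₁] at h4
      rw [h.card_normalizer hQS₁]
      exact h4.trans (Nat.mul_le_mul_right _ h1)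
    exact (fullyNormalized_props hS hF hfnQ).2.1

/-- every map from a subgroup of `S₁` extends to the product with `S₂` -/
theorem extend [Finite S] {p : ℕ} [Fact p.Prime] (hS : IsPGroup p S) (hF : F.IsSaturated p)
    (h : DirProdHyp F S₁ S₂) {P : Subgroup Ω} (hP : P ≤ S₁) {f : Ω → Ω} (hf : Mor F P f) :
    ∃ ft, Mor F (P ⊔ S₂) ft ∧ ∀ x ∈ P, ft x = f x := by
  haveI : Finite S₂ := finite_of_le h.le₂
  have hP₂S₁ : img P f ≤ S₁ := hf.img_le_of (fun x hx => StronglyClosed.mor h.sc₁ hf hP hx)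
  obtain ⟨Q, χ, -, hQr, hχ, hχi⟩ := exists_fa_receptive_map hS hF hf.img_le
  have hχP₂ : Mor F (img P f) χ := hχ.restrict (le_normalizerIn hf.img_le)
  have hg : Mor F P (χ ∘ f) := hf.comp hχP₂ (fun x hx => apply_mem_img hx)
  have himg : img P (χ ∘ f) = Q := by rw [hf.img_comp χ, hχi]
  obtain ⟨g', hg', hg'g⟩ := exists_extension hQr hg himg
  have hcent : ∀ {P' : Subgroup Ω}, P' ≤ S₁ → S₂ ≤ centralizerIn S P' := by
    intro P' hP' y hy
    rw [mem_centralizerIn]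
    exact ⟨h.le₂ hy, fun x hx => h.comm x (hP' hx) y hy⟩
  have hle : P ⊔ S₂ ≤ ext S P (χ ∘ f) :=
    sup_le hg.le_ext ((hcent hP).trans (centralizerIn_le_ext S P _))
  have hle₂ : img P f ⊔ S₂ ≤ normalizerIn S (img P f) :=
    sup_le (le_normalizerIn hf.img_le) ((hcent hP₂S₁).trans (centralizerIn_le_normalizerIn S _))
  have he₂ : Mor F (img P f ⊔ S₂) χ := hχ.restrict hle₂
  obtain ⟨ginv, hginv, hginv1, -, -⟩ := he₂.exists_inv
  have hg'r : Mor F (P ⊔ S₂) g' := hg'.restrict hle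
  have hχS₂ : ∀ y ∈ S₂, χ y ∈ S₂ :=
    fun y hy => StronglyClosed.mor h.sc₂ (he₂.restrict le_sup_right) le_rfl hy
  have hsurj := he₂.surj_on (le_sup_right : S₂ ≤ img P f ⊔ S₂) hχS₂
  have hmaps : ∀ x ∈ P ⊔ S₂, g' x ∈ img (img P f ⊔ S₂) χ := by
    apply hg'r.map_sup_mem
    · intro x hx
      rw [hg'g x hx]
      exact apply_mem_img ((le_sup_left : img P f ≤ img P f ⊔ S₂) (apply_mem_img hx))
    · intro y hy
      have h1 : g' y ∈ S₂ := StronglyClosed.mor h.sc₂ (hg'r.restrict le_sup_right) le_rfl hy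
      obtain ⟨y', hy', hy'eq⟩ := hsurj _ h1
      rw [← hy'eq]
      exact apply_mem_img ((le_sup_right : S₂ ≤ img P f ⊔ S₂) hy')
  refine ⟨ginv ∘ g', hg'r.comp hginv hmaps, fun x hx => ?_⟩
  show ginv (g' x) = f x
  rw [hg'g x hx]
  exact hginv1 (f x) ((le_sup_left : img P f ≤ img P f ⊔ S₂) (apply_mem_img hx))

/-- Frattini factorization -/
theorem frattini [Finite S] {p : ℕ} [Fact p.Prime] (hS : IsPGroup p S) (hF : F.IsSaturated p)
    (h : DirProdHyp F S₁ S₂) {P : Subgroup Ω} (hP : P ≤ S₁) {f : Ω → Ω} (hf : Mor F P f) :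
    ∃ α f₀, Mor F S α ∧ Mor F (P ⊔ S₂) f₀ ∧ (∀ y ∈ S₂, f₀ y = y) ∧ ∀ x ∈ P, f x = α (f₀ x) := by
  obtain ⟨ft, hft, hftf⟩ := h.extend hS hF hP hf
  obtain ⟨β, hβ, hβft⟩ := h.ext₂ hS hF (hft.restrict le_sup_right)
  obtain ⟨γ, hγ, hγβ, hγ2⟩ := aut_inv hβ
  refine ⟨β, γ ∘ ft, hβ, hft.comp hγ (fun x hx => hft.mem hx), fun y hy => ?_, fun x hx => ?_⟩
  · show γ (ft y) = y
    rw [← hβft y hy]
    exact hγβ y (h.le₂ hy)
  · show f x = β (γ (ft x))
    rw [(hγ2 (ft x) (hft.mem ((le_sup_left : P ≤ P ⊔ S₂) hx))).2, hftf x hx]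

end DirProdHyp

end Cfsg.Agent.Helper27
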