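import Cfsg.Agent.Helper27.DirProd3

set_option autoImplicit false

namespace Cfsg.Agent.Helper27

open Cfsg Cfsg.FusionSystem

variable {Ω : Type*} [Group Ω] {S : Subgroup Ω}

theorem comm_inv_mul {s c d : Ω} (h1 : s * c = c * s) (h2 : s * d = d * s) :
    s * (c⁻¹ * d) = c⁻¹ * d * s := by
  calc s * (c⁻¹ * d) = (s * c⁻¹) * d := by group
    _ = (c⁻¹ * s) * d := by rw [(Commute.inv_right (show Commute s c from h1)).eq]
    _ = c⁻¹ * (s * d) := by group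
    _ = c⁻¹ * (d * s) := by rw [h2]
    _ = c⁻¹ * d * s := by group

namespace DirProdHyp

variable {F : FusionSystem S} {S₁ S₂ : Subgroup Ω}

/-- conjugating a map of `R'` by an automorphism of `S₁` -/
theorem R'_invariant [Finite S] {p : ℕ} [Fact p.Prime] (hS : IsPGroup p S) (hF : F.IsSaturated p)
    (h : DirProdHyp F S₁ S₂) (R' : FusionSystem S₁)
    (hR' : ∀ P : Subgroup Ω, P ≤ S₁ → R'.Hom P = F.centralizerHom S₂ P)
    (P : Subgroup Ω) (hPT : P ≤ S₁) (φ : P →* Ω) (hφ : φ ∈ R'.Hom P) (α : MulAut S₁)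
    (hα : Mor F S₁ (autFn α)) :
    ∃ χ ∈ R'.Hom ((P.subgroupOf S₁).map (S₁.subtype.comp α.toMonoidHom)),
      ∀ (x : P) (hφx : φ x ∈ S₁)
        (hαx : ((α ⟨x, hPT x.2⟩ : S₁) : Ω) ∈
          (P.subgroupOf S₁).map (S₁.subtype.comp α.toMonoidHom)),
        χ ⟨(α ⟨x, hPT x.2⟩ : S₁), hαx⟩ = ((α ⟨φ x, hφx⟩ : S₁) : Ω) := by
  obtain ⟨ab, hab, haba⟩ := h.ext₁ hS hF hα
  obtain ⟨b, hb, hbab, hb2⟩ := aut_inv hab
  obtain ⟨-, f₁, hf₁, hf₁P, hf₁S⟩ := (h.mor_R' R' hR').mp (mor_of_hom hφ)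
  obtain ⟨P', hP'def⟩ : ∃ P' : Subgroup Ω,
      P' = (P.subgroupOf S₁).map (S₁.subtype.comp α.toMonoidHom) := ⟨_, rfl⟩
  have hP'mem : ∀ {y : Ω}, y ∈ P' → ∃ x ∈ P, y = ab x := by
    intro y hy
    rw [hP'def] at hy
    obtain ⟨t, ht, rfl⟩ := hy
    refine ⟨(t : Ω), Subgroup.mem_subgroupOf.mp ht, ?_⟩
    rw [haba _ t.2, autFn_apply]
    rfl
  have hP'S₁ : P' ≤ S₁ := by
    intro y hy
    rw [hP'def] at hy
    obtain ⟨t, -, rfl⟩ := hy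
    exact (α t).2
  have hle : P' ⊔ S₂ ≤ S := sup_le (hP'S₁.trans h.le₁) h.le₂
  have hbr : Mor F (P' ⊔ S₂) b := hb.restrict hle
  have hbS₂ : ∀ y ∈ S₂, b y ∈ S₂ :=
    fun y hy => StronglyClosed.mor h.sc₂ (hb.restrict h.le₂) le_rfl hy
  have hmaps : ∀ y ∈ P' ⊔ S₂, b y ∈ P ⊔ S₂ := by
    apply hbr.map_sup_mem
    · intro y hy
      obtain ⟨x, hx, rfl⟩ := hP'mem hy
      rw [hbab x (h.le₁ (hPT hx))]
      exact (le_sup_left : P ≤ P ⊔ S₂) hx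
    · intro y hy
      exact (le_sup_right : S₂ ≤ P ⊔ S₂) (hbS₂ y hy)
  have hχ' : Mor F (P' ⊔ S₂) (ab ∘ (f₁ ∘ b)) :=
    (hbr.comp hf₁ hmaps).comp hab (fun x hx => hf₁.mem (hmaps x hx))
  have hfix : ∀ y ∈ S₂, (ab ∘ (f₁ ∘ b)) y = y := by
    intro y hy
    show ab (f₁ (b y)) = y
    rw [hf₁S _ (hbS₂ y hy)]
    exact (hb2 y (h.le₂ hy)).2
  have hmor : Mor R' P' (ab ∘ (f₁ ∘ b)) :=
    (h.mor_R' R' hR').mpr ⟨hP'S₁, ab ∘ (f₁ ∘ b), hχ', fun _ _ => rfl, hfix⟩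
  rw [hP'def] at hmor
  obtain ⟨χ, hχ, hχeq⟩ := hmor
  refine ⟨χ, hχ, fun x hφx hαx => ?_⟩
  rw [hχeq]
  show ab (f₁ (b ((α ⟨x, hPT x.2⟩ : S₁) : Ω))) = _
  have e1 : ((α ⟨x, hPT x.2⟩ : S₁) : Ω) = ab (x : Ω) := by
    rw [haba _ (hPT x.2), autFn_of_mem α (hPT x.2)]
  rw [e1, hbab _ (h.le₁ (hPT x.2)), hf₁P _ x.2, fn_apply, haba _ hφx, autFn_of_mem α hφx]

/-- conjugating a map of `R` by an automorphism of `S₁` -/
theorem R_invariant [Finite S] {p : ℕ} [Fact p.Prime] (hS : IsPGroup p S) (hF : F.IsSaturated p)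
    (h : DirProdHyp F S₁ S₂) (R : FusionSystem S₁)
    (hR : ∀ P : Subgroup Ω, P ≤ S₁ → R.Hom P = F.Hom P)
    (P : Subgroup Ω) (hPT : P ≤ S₁) (φ : P →* Ω) (hφ : φ ∈ R.Hom P) (α : MulAut S₁)
    (hα : Mor F S₁ (autFn α)) :
    ∃ χ ∈ R.Hom ((P.subgroupOf S₁).map (S₁.subtype.comp α.toMonoidHom)),
      ∀ (x : P) (hφx : φ x ∈ S₁)
        (hαx : ((α ⟨x, hPT x.2⟩ : S₁) : Ω) ∈
          (P.subgroupOf S₁).map (S₁.subtype.comp α.toMonoidHom)),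
        χ ⟨(α ⟨x, hPT x.2⟩ : S₁), hαx⟩ = ((α ⟨φ x, hφx⟩ : S₁) : Ω) := by
  obtain ⟨ab, hab, haba⟩ := h.ext₁ hS hF hα
  obtain ⟨b, hb, hbab, hb2⟩ := aut_inv hab
  obtain ⟨-, hf₁⟩ := (mor_R R hR).mp (mor_of_hom hφ)
  obtain ⟨P', hP'def⟩ : ∃ P' : Subgroup Ω,
      P' = (P.subgroupOf S₁).map (S₁.subtype.comp α.toMonoidHom) := ⟨_, rfl⟩
  have hP'mem : ∀ {y : Ω}, y ∈ P' → ∃ x ∈ P, y = ab x := by
    intro y hy
    rw [hP'def] at hy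
    obtain ⟨t, ht, rfl⟩ := hy
    refine ⟨(t : Ω), Subgroup.mem_subgroupOf.mp ht, ?_⟩
    rw [haba _ t.2, autFn_apply]
    rfl
  have hP'S₁ : P' ≤ S₁ := by
    intro y hy
    rw [hP'def] at hy
    obtain ⟨t, -, rfl⟩ := hy
    exact (α t).2
  have hbr : Mor F P' b := hb.restrict (hP'S₁.trans h.le₁)
  have hmaps : ∀ y ∈ P', b y ∈ P := by
    intro y hy
    obtain ⟨x, hx, rfl⟩ := hP'mem hy
    rw [hbab x (h.le₁ (hPT hx))]
    exact hx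
  have hχ' : Mor F P' (ab ∘ (fn φ ∘ b)) :=
    (hbr.comp hf₁ hmaps).comp hab (fun x hx => hf₁.mem (hmaps x hx))
  have hmor : Mor R P' (ab ∘ (fn φ ∘ b)) := (mor_R R hR).mpr ⟨hP'S₁, hχ'⟩
  rw [hP'def] at hmor
  obtain ⟨χ, hχ, hχeq⟩ := hmor
  refine ⟨χ, hχ, fun x hφx hαx => ?_⟩
  rw [hχeq]
  show ab (fn φ (b ((α ⟨x, hPT x.2⟩ : S₁) : Ω))) = _
  have e1 : ((α ⟨x, hPT x.2⟩ : S₁) : Ω) = ab (x : Ω) := by
    rw [haba _ (hPT x.2), autFn_of_mem α (hPT x.2)]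
  rw [e1, hbab _ (h.le₁ (hPT x.2)), fn_apply, haba _ hφx, autFn_of_mem α hφx]

end DirProdHyp

/-- direct factors: the full subsystem `R` and the centralizer subsystem `R'` on `S₁` -/
theorem dirprod_main [Finite S] (p : ℕ) [Fact p.Prime] (hS : IsPGroup p S) (F : FusionSystem S)
    (hF : F.IsSaturated p) (S₁ S₂ : Subgroup Ω) (hprod : IsInternalDirectProduct S₁ S₂ S)
    (h₁ : F.StronglyClosed S₁) (h₂ : F.StronglyClosed S₂) (R R' : FusionSystem S₁)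
    (hR : ∀ P : Subgroup Ω, P ≤ S₁ → R.Hom P = F.Hom P)
    (hR' : ∀ P : Subgroup Ω, P ≤ S₁ → R'.Hom P = F.centralizerHom S₂ P) :
    R.IsSaturated p ∧ R'.IsSaturated p ∧ R'.IsNormalIn F p ∧ R'.IsNormalIn R p ∧
      R.IsWeaklyNormalIn F p := by
  obtain ⟨hle₁, hle₂, hcomm, hinf, hsup⟩ := hprod
  have h : DirProdHyp F S₁ S₂ := ⟨hle₁, hle₂, hcomm, hinf, hsup, h₁, h₂⟩
  haveI : Finite S₁ := finite_of_le h.le₁
  have hRsat := h.R_saturated hF R hR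
  have hR'sat := h.R'_saturated hS hF R' hR'
  have hR'F : R'.IsSubsystemOf F := by
    intro P φ hφ
    have hP := (R'.le_of_mem hφ).1
    rw [hR' P hP] at hφ
    exact hφ.1
  have hRF : R.IsSubsystemOf F := by
    intro P φ hφ
    have hP := (R.le_of_mem hφ).1
    rw [hR P hP] at hφ
    exact hφ
  have hR'R : R'.IsSubsystemOf R := by
    intro P φ hφ
    have hP := (R'.le_of_mem hφ).1
    show φ ∈ R.Hom P
    rw [hR P hP]
    exact hR'F P hφ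
  have hscR : R.StronglyClosed S₁ := ⟨le_rfl, fun A _ φ hφ x => (R.le_of_mem hφ).2 x⟩
  have hautR : R.autGroup S₁ = F.autGroup S₁ := by
    ext α
    rw [mem_autGroup_iff le_rfl, mem_autGroup_iff h.le₁, DirProdHyp.mor_R R hR]
    exact ⟨fun h => h.2, fun h => ⟨le_rfl, h⟩⟩
  have hfrat : ∀ (P : Subgroup Ω), P ≤ S₁ → ∀ (φ : P →* Ω), φ ∈ F.Hom P →
      ∃ α ∈ F.autGroup S₁, ∃ φ₀ ∈ R'.Hom P, ∀ (x : P) (hx : φ₀ x ∈ S₁),
        φ x = ((α ⟨φ₀ x, hx⟩ : S₁) : Ω) := by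
    intro P hP φ hφ
    obtain ⟨α₀, f₀, hα₀, hf₀, hfix, hfac⟩ := h.frattini hS hF hP (mor_of_hom hφ)
    obtain ⟨α, hα, hαeq⟩ := exists_aut_of_mor (hα₀.restrict h.le₁)
      (fun x hx => StronglyClosed.mor h.sc₁ (hα₀.restrict h.le₁) le_rfl hx)
    obtain ⟨φ₀, hφ₀, hφ₀eq⟩ := (h.mor_R' R' hR').mpr ⟨hP, f₀, hf₀, fun _ _ => rfl, hfix⟩
    refine ⟨α, hα, φ₀, hφ₀, fun x hx => ?_⟩
    rw [hαeq ⟨φ₀ x, hx⟩]
    show φ x = α₀ (φ₀ x)
    rw [hφ₀eq x, ← hfac x x.2, fn_apply]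
  have hinvR' : ∀ (P : Subgroup Ω) (hPT : P ≤ S₁) (φ : P →* Ω), φ ∈ R'.Hom P →
      ∀ α ∈ F.autGroup S₁,
      ∃ χ ∈ R'.Hom ((P.subgroupOf S₁).map (S₁.subtype.comp α.toMonoidHom)),
        ∀ (x : P) (hφx : φ x ∈ S₁)
          (hαx : ((α ⟨x, hPT x.2⟩ : S₁) : Ω) ∈
            (P.subgroupOf S₁).map (S₁.subtype.comp α.toMonoidHom)),
          χ ⟨(α ⟨x, hPT x.2⟩ : S₁), hαx⟩ = ((α ⟨φ x, hφx⟩ : S₁) : Ω) := by
    intro P hPT φ hφ α hα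
    exact h.R'_invariant hS hF R' hR' P hPT φ hφ α ((mem_autGroup_iff h.le₁ α).mp hα)
  have hextF : ∀ α ∈ R'.autGroup S₁, ∃ β ∈ F.autGroup (S₁ ⊔ centralizerIn S S₁),
      (∀ x : S₁, ((β (Subgroup.inclusion le_sup_left x) : ↥(S₁ ⊔ centralizerIn S S₁)) : Ω) =
        ((α x : S₁) : Ω)) ∧
      ∀ c : ↥(S₁ ⊔ centralizerIn S S₁), (c : Ω) ∈ centralizerIn S S₁ →
        (c : Ω)⁻¹ * ((β c : ↥(S₁ ⊔ centralizerIn S S₁)) : Ω) ∈
          S₁ ⊓ Subgroup.centralizer (S₁ : Set Ω) := by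
    intro α hα
    rw [mem_autGroup_iff le_rfl] at hα
    obtain ⟨-, f', hf', hf'P, hf'S⟩ := (h.mor_R' R' hR').mp hα
    have hαF : Mor F S₁ (autFn α) := (hf'.restrict le_sup_left).congr hf'P
    have hUS : S₁ ⊔ centralizerIn S S₁ ≤ S := sup_le h.le₁ (centralizerIn_le S S₁)
    have hU : S₁ ⊔ centralizerIn S S₁ ≤ S₁ ⊔ S₂ := by rw [h.sup]; exact hUS
    have hSU : S ≤ S₁ ⊔ centralizerIn S S₁ := by
      have h1 : S₂ ≤ centralizerIn S S₁ :=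
        fun y hy => mem_centralizerIn.mpr ⟨h.le₂ hy, fun x hx => h.comm x hx y hy⟩
      calc S = S₁ ⊔ S₂ := h.sup.symm
        _ ≤ S₁ ⊔ centralizerIn S S₁ := sup_le_sup_left h1 _
    have hf'U : Mor F (S₁ ⊔ centralizerIn S S₁) f' := hf'.restrict hU
    haveI : Finite ↥(S₁ ⊔ centralizerIn S S₁) := finite_of_le hUS
    obtain ⟨β, hβ, hβeq⟩ := exists_aut_of_mor hf'U (fun x hx => hSU (hf'U.mem hx))
    refine ⟨β, hβ, fun x => ?_, fun c hc => ?_⟩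
    · rw [hβeq]
      show f' (x : Ω) = _
      rw [hf'P x x.2, autFn_apply]
    · rw [hβeq]
      have hc' := mem_centralizerIn.mp hc
      obtain ⟨a, ha, b, hb, hcab⟩ := h.decomp hc'.1
      have hacent : ∀ s ∈ S₁, s * a = a * s := by
        intro s hs
        have h1 := hc'.2 s hs
        rw [hcab] at h1
        have h2 : a * b * s = a * s * b := by rw [mul_assoc, ← h.comm s hs b hb, mul_assoc]
        have h3 : s * a * b = a * s * b := by rw [← h2, ← h1, mul_assoc]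
        exact mul_right_cancel h3
      have haα : autFn α a ∈ S₁ := autFn_mem α ha
      have hfc : f' (c : Ω) = autFn α a * b := by
        rw [hcab, hf'.map_mul ((le_sup_left : S₁ ≤ S₁ ⊔ S₂) ha) ((le_sup_right : S₂ ≤ S₁ ⊔ S₂) hb),
          hf'P a ha, hf'S b hb]
      rw [hfc, hcab]
      have e : (a * b)⁻¹ * (autFn α a * b) = a⁻¹ * autFn α a := by
        have h4 := h.comm (autFn α a) haα b hb
        have h5 := h.comm a⁻¹ (S₁.inv_mem ha) b hb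
        calc (a * b)⁻¹ * (autFn α a * b) = b⁻¹ * a⁻¹ * (b * autFn α a) := by rw [h4, mul_inv_rev]
          _ = b⁻¹ * (a⁻¹ * b) * autFn α a := by group
          _ = b⁻¹ * (b * a⁻¹) * autFn α a := by rw [h5]
          _ = a⁻¹ * autFn α a := by group
      rw [e]
      refine Subgroup.mem_inf.mpr ⟨S₁.mul_mem (S₁.inv_mem ha) haα,
        Subgroup.mem_centralizer_iff.mpr (fun s hs => ?_)⟩
      have hsurj := hαF.surj_on le_rfl (fun x hx => autFn_mem α hx)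
      have h2 : s * autFn α a = autFn α a * s := by
        obtain ⟨s', hs', rfl⟩ := hsurj s hs
        rw [← hαF.map_mul hs' ha, ← hαF.map_mul ha hs', hacent s' hs']
      exact comm_inv_mul (hacent s hs) h2
  have hextR : ∀ α ∈ R'.autGroup S₁, ∃ β ∈ R.autGroup (S₁ ⊔ centralizerIn S₁ S₁),
      (∀ x : S₁, ((β (Subgroup.inclusion le_sup_left x) : ↥(S₁ ⊔ centralizerIn S₁ S₁)) : Ω) =
        ((α x : S₁) : Ω)) ∧
      ∀ c : ↥(S₁ ⊔ centralizerIn S₁ S₁), (c : Ω) ∈ centralizerIn S₁ S₁ →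
        (c : Ω)⁻¹ * ((β c : ↥(S₁ ⊔ centralizerIn S₁ S₁)) : Ω) ∈
          S₁ ⊓ Subgroup.centralizer (S₁ : Set Ω) := by
    intro α hα
    rw [mem_autGroup_iff le_rfl] at hα
    obtain ⟨-, f', hf', hf'P, hf'S⟩ := (h.mor_R' R' hR').mp hα
    have hαF : Mor F S₁ (autFn α) := (hf'.restrict le_sup_left).congr hf'P
    have hU : S₁ ⊔ centralizerIn S₁ S₁ ≤ S₁ := sup_le le_rfl (centralizerIn_le S₁ S₁)
    have hαR : Mor R (S₁ ⊔ centralizerIn S₁ S₁) (autFn α) :=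
      (DirProdHyp.mor_R R hR).mpr ⟨hU, hαF.restrict hU⟩
    haveI : Finite ↥(S₁ ⊔ centralizerIn S₁ S₁) := finite_of_le (hU.trans h.le₁)
    obtain ⟨β, hβ, hβeq⟩ := exists_aut_of_mor hαR
      (fun x hx => (le_sup_left : S₁ ≤ S₁ ⊔ centralizerIn S₁ S₁) (autFn_mem α (hU hx)))
    refine ⟨β, hβ, fun x => ?_, fun c hc => ?_⟩
    · rw [hβeq]
      show autFn α (x : Ω) = _
      rw [autFn_apply]
    · rw [hβeq]
      have hc' := mem_centralizerIn.mp hc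
      have hsurj := hαF.surj_on le_rfl (fun x hx => autFn_mem α hx)
      refine Subgroup.mem_inf.mpr ⟨S₁.mul_mem (S₁.inv_mem hc'.1) (autFn_mem α hc'.1),
        Subgroup.mem_centralizer_iff.mpr (fun s hs => ?_)⟩
      have h2 : s * autFn α (c : Ω) = autFn α (c : Ω) * s := by
        obtain ⟨s', hs', rfl⟩ := hsurj s hs
        rw [← hαF.map_mul hs' hc'.1, ← hαF.map_mul hc'.1 hs', hc'.2 s' hs']
      exact comm_inv_mul (hc'.2 s hs) h2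
  refine ⟨hRsat, hR'sat, ⟨⟨hR'sat, hF, hR'F, h.sc₁, hinvR', hfrat⟩, hextF⟩,
    ⟨⟨hR'sat, hRsat, hR'R, hscR, ?_, ?_⟩, hextR⟩, ⟨hRsat, hF, hRF, h.sc₁, ?_, ?_⟩⟩
  · intro P hPT φ hφ α hα
    rw [hautR] at hα
    exact hinvR' P hPT φ hφ α hα
  · intro P hP φ hφ
    rw [hR P hP] at hφ
    obtain ⟨α, hα, φ₀, hφ₀, hx⟩ := hfrat P hP φ hφ
    exact ⟨α, by rw [hautR]; exact hα, φ₀, hφ₀, hx⟩
  · intro P hPT φ hφ α hα
    exact h.R_invariant hS hF R hR P hPT φ hφ α ((mem_autGroup_iff h.le₁ α).mp hα)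
  · intro P hP φ hφ
    exact ⟨1, Subgroup.one_mem _, φ, by rw [hR P hP]; exact hφ, fun x hx => rfl⟩

end Cfsg.Agent.Helper27
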