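import Mathlib

set_option autoImplicit false

namespace Cfsg.Agent.Helper27

open Polynomial in
/-- an operator of order dividing `p - 1` on a nonzero finite-dimensional space over `𝔽_p` has an eigenvector -/
theorem exists_eigen_of_pow {p : ℕ} [Fact p.Prime] {V : Type*} [AddCommGroup V] [Module (ZMod p) V]
    [Module.Finite (ZMod p) V] [Nontrivial V] (f : Module.End (ZMod p) V) (hf : f ^ (p - 1) = 1) :
    ∃ v : V, v ≠ 0 ∧ ∃ μ : ZMod p, f v = μ • v := by
  have hp := (Fact.out : p.Prime)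
  have h1 : aeval f (X ^ (p - 1) - 1 : (ZMod p)[X]) = 0 := by
    simp [hf]
  have h2 : minpoly (ZMod p) f ∣ X ^ p - X := by
    refine dvd_trans (minpoly.dvd _ _ h1) ⟨X, ?_⟩
    have e : (X : (ZMod p)[X]) ^ p = X ^ (p - 1) * X := by
      rw [← pow_succ, Nat.sub_add_cancel hp.pos]
    rw [e]
    ring
  have h3 : (X ^ p - X : (ZMod p)[X]).Splits := by
    have := Polynomial.splits_X_pow_nat_card_sub_X (K := ZMod p)
    rwa [Nat.card_zmod] at this
  have h4 : (X ^ p - X : (ZMod p)[X]) ≠ 0 := FiniteField.X_pow_card_sub_X_ne_zero (ZMod p) hp.one_lt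
  have h5 : (minpoly (ZMod p) f).Splits := h3.of_dvd h4 h2
  have hint : IsIntegral (ZMod p) f := LinearMap.isIntegral f
  have h6 : (minpoly (ZMod p) f).degree ≠ 0 := (minpoly.degree_pos hint).ne'
  obtain ⟨μ, hμ⟩ := h5.exists_eval_eq_zero h6
  have h7 : f.HasEigenvalue μ := Module.End.hasEigenvalue_of_isRoot hμ
  obtain ⟨v, hv⟩ := h7.exists_hasEigenvector
  exact ⟨v, hv.2, μ, hv.apply_eq_smul⟩

theorem exists_eigen_comm_aux {p : ℕ} [Fact p.Prime] {W : Type*} [CommGroup W] [Finite W]
    [Nontrivial W] [Module (ZMod p) (Additive W)] (τ : W →* W) (hτ : ∀ x, τ^[p - 1] x = x) :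
    ∃ v : W, v ≠ 1 ∧ ∃ k : ℕ, τ v = v ^ k := by
  have : Module.Finite (ZMod p) (Additive W) := Module.Finite.of_finite
  obtain ⟨f, hfdef⟩ : ∃ f : Module.End (ZMod p) (Additive W),
      f = AddMonoidHom.toZModLinearMap p (MonoidHom.toAdditive τ) := ⟨_, rfl⟩
  have hfx : ∀ x : Additive W, f x = Additive.ofMul (τ (Additive.toMul x)) := by
    intro x
    rw [hfdef]
    rfl
  have hiter : ∀ (n : ℕ) (x : Additive W), f^[n] x = Additive.ofMul (τ^[n] (Additive.toMul x)) := by
    intro n
    induction n with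
    | zero => intro x; rfl
    | succ n ih =>
      intro x
      rw [Function.iterate_succ_apply', ih, hfx, Function.iterate_succ_apply']
      rfl
  have hf : f ^ (p - 1) = 1 := by
    apply LinearMap.ext
    intro x
    rw [Module.End.pow_apply, hiter, hτ]
    rfl
  obtain ⟨v, hv, μ, hμ⟩ := exists_eigen_of_pow f hf
  refine ⟨Additive.toMul v, ?_, μ.val, ?_⟩
  · intro h
    exact hv (congrArg Additive.ofMul h)
  · have h1 : μ • v = μ.val • v := by
      conv_lhs => rw [← ZMod.natCast_zmod_val μ]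
      exact Nat.cast_smul_eq_nsmul (ZMod p) _ _
    rw [h1, hfx] at hμ
    exact hμ

/-- an endomorphism of order dividing `p - 1` of a nontrivial elementary abelian `p`-group has an eigenvector -/
theorem exists_eigen_comm {p : ℕ} [Fact p.Prime] {W : Type*} [CommGroup W] [Finite W] [Nontrivial W]
    (hexp : ∀ x : W, x ^ p = 1) (τ : W →* W) (hτ : ∀ x, τ^[p - 1] x = x) :
    ∃ v : W, v ≠ 1 ∧ ∃ k : ℕ, τ v = v ^ k := by
  letI : Module (ZMod p) (Additive W) := AddCommGroup.zmodModule (by
    intro x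
    exact congrArg Additive.ofMul (hexp (Additive.toMul x)))
  exact exists_eigen_comm_aux τ hτ

end Cfsg.Agent.Helper27

namespace Cfsg.Agent.Helper27

/-- `exists_eigen_comm` for a group with a commutativity hypothesis -/
theorem exists_eigen_group {p : ℕ} [Fact p.Prime] {W : Type*} [Group W] [Finite W] [Nontrivial W]
    (hab : ∀ a b : W, a * b = b * a)
    (hexp : ∀ x : W, x ^ p = 1) (τ : W →* W) (hτ : ∀ x, τ^[p - 1] x = x) :
    ∃ v : W, v ≠ 1 ∧ ∃ k : ℕ, τ v = v ^ k := by
  letI : CommGroup W := { (inferInstance : Group W) with mul_comm := hab }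
  exact exists_eigen_comm hexp τ hτ

end Cfsg.Agent.Helper27
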