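import Cfsg.Agent.Helper27.FusSolv
import Cfsg.Agent.Helper26.CentralSys
import Cfsg.Agent.Helper26.HypFocal
import Cfsg.Agent.S5144

set_option autoImplicit false

namespace Cfsg.Agent.Helper27

open Cfsg Cfsg.FusionSystem

variable {Ω : Type*} [Group Ω] {S : Subgroup Ω} {Ω' : Type*} [Group Ω'] {S' : Subgroup Ω'}

theorem central_extend {F : FusionSystem S} {Q : Subgroup Ω} (hQ : F.IsCentral Q) {P : Subgroup Ω}
    {f : Ω → Ω} (hf : Mor F P f) :
    ∃ f', Mor F (P ⊔ Q) f' ∧ (∀ x ∈ P, f' x = f x) ∧ ∀ q ∈ Q, f' q = q := by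
  obtain ⟨φ, hφ, hφf⟩ := hf
  obtain ⟨ψ, hψ, hψφ, hψQ⟩ := hQ.2 P φ hφ
  refine ⟨fn ψ, mor_of_hom hψ, ?_, ?_⟩
  · intro x hx
    rw [fn_of_mem ψ ((le_sup_left : P ≤ P ⊔ Q) hx), ← hφf ⟨x, hx⟩]
    exact hψφ ⟨x, hx⟩
  · intro q hq
    rw [fn_of_mem ψ ((le_sup_right : Q ≤ P ⊔ Q) hq)]
    exact hψQ ⟨q, hq⟩

theorem central_fixed {F : FusionSystem S} {Q : Subgroup Ω} (hQ : F.IsCentral Q) {P : Subgroup Ω}
    {f : Ω → Ω} (hf : Mor F P f) {x : Ω} (hx : x ∈ P) (hxQ : x ∈ Q) : f x = x := by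
  obtain ⟨f', -, hf'P, hf'Q⟩ := central_extend hQ hf
  rw [← hf'P x hx, hf'Q x hxQ]

theorem central_stronglyClosed {F : FusionSystem S} {Q : Subgroup Ω} (hQ : F.IsCentral Q) :
    F.StronglyClosed Q := by
  refine ⟨hQ.1, fun R hR φ hφ x => ?_⟩
  have h1 := central_fixed hQ (mor_of_hom hφ) x.2 (hR x.2)
  rw [fn_apply] at h1
  rw [h1]
  exact hR x.2

theorem central_commute {F : FusionSystem S} {Q : Subgroup Ω} (hQ : F.IsCentral Q) {s q : Ω}
    (hs : s ∈ S) (hq : q ∈ Q) : q * s = s * q := by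
  have h1 := Cfsg.Agent.Helper26.central_comm F hQ s hs q hq
  calc q * s = s * q * s⁻¹ * s := by rw [h1]
    _ = s * q := by group

theorem comm_central_left {G : Type*} [Group G] (z ζ s : G) (h : ζ * s = s * ζ) :
    z * ζ * s * (z * ζ)⁻¹ * s⁻¹ = z * s * z⁻¹ * s⁻¹ := by
  calc z * ζ * s * (z * ζ)⁻¹ * s⁻¹ = z * (ζ * s) * ζ⁻¹ * z⁻¹ * s⁻¹ := by group
    _ = z * (s * ζ) * ζ⁻¹ * z⁻¹ * s⁻¹ := by rw [h]
    _ = z * s * z⁻¹ * s⁻¹ := by group

theorem comm_central_right {G : Type*} [Group G] (z s ζ : G) (h : ζ * z = z * ζ) :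
    z * (s * ζ) * z⁻¹ * (s * ζ)⁻¹ = z * s * z⁻¹ * s⁻¹ := by
  have h2 : ζ * z⁻¹ = z⁻¹ * ζ := by
    calc ζ * z⁻¹ = z⁻¹ * (z * ζ) * z⁻¹ := by group
      _ = z⁻¹ * (ζ * z) * z⁻¹ := by rw [h]
      _ = z⁻¹ * ζ := by group
  calc z * (s * ζ) * z⁻¹ * (s * ζ)⁻¹ = z * s * (ζ * z⁻¹) * ζ⁻¹ * s⁻¹ := by group
    _ = z * s * (z⁻¹ * ζ) * ζ⁻¹ * s⁻¹ := by rw [h2]
    _ = z * s * z⁻¹ * s⁻¹ := by group

theorem commute_of_comm_eq {G : Type*} [Group G] (z x y : G)
    (h : z * x * z⁻¹ * x⁻¹ = z * y * z⁻¹ * y⁻¹) : z * (x⁻¹ * y) = (x⁻¹ * y) * z := by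
  have e1 : z * (x * z⁻¹ * x⁻¹) = z * x * z⁻¹ * x⁻¹ := by group
  have e2 : z * (y * z⁻¹ * y⁻¹) = z * y * z⁻¹ * y⁻¹ := by group
  have h3 : x * z⁻¹ * x⁻¹ = y * z⁻¹ * y⁻¹ := mul_left_cancel (e1.trans (h.trans e2.symm))
  calc z * (x⁻¹ * y) = z * (x⁻¹ * (y * z⁻¹ * y⁻¹) * y) * z := by group
    _ = z * (x⁻¹ * (x * z⁻¹ * x⁻¹) * y) * z := by rw [h3]
    _ = x⁻¹ * y * z := by group

section grun

variable [Finite S] {p : ℕ} [Fact p.Prime] (hS : IsPGroup p S) {F : FusionSystem S}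
  (hF : F.IsSaturated p) {θ : S →* Ω'} {E : FusionSystem S'}
  (hE : F.IsFactorSystem F.center θ E) (hsm : SMor F E θ) (hEc : E.IsCentral E.center)

include hE hsm hEc in
/-- maps of `F` fix the elements of the second centre modulo the centre -/
theorem second_center_mod {P : Subgroup Ω} {f : Ω → Ω} (hf : Mor F P f) {z : Ω} (hz : z ∈ P)
    (hz2 : z ∈ preimageAlong θ E.center) : z⁻¹ * f z ∈ F.center := by
  have hker := hE.2.1
  obtain ⟨f', hf', hff'⟩ := hsm.push P f hf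
  obtain ⟨hzS, hz'⟩ := mem_preimageAlong.mp hz2
  have h1 : afn θ z ∈ imageAlong θ P := mem_imageAlong.mpr ⟨z, hz, hzS, rfl⟩
  have h2 := central_fixed hEc hf' h1 hz'
  rw [hff' z hz] at h2
  exact (afn_eq_iff hker hzS (hf.mem hz)).mp h2.symm

include hE hsm hEc in
/-- an element of the second centre commutes with `x⁻¹ f(x)` for every map `f` of `F` -/
theorem second_center_commute {P : Subgroup Ω} {f : Ω → Ω} (hf : Mor F P f) {x : Ω} (hx : x ∈ P)
    {z : Ω} (hz2 : z ∈ preimageAlong θ E.center) : z * (x⁻¹ * f x) = (x⁻¹ * f x) * z := by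
  have hker := hE.2.1
  have hZc : F.IsCentral F.center := Cfsg.Agent.S5144.result F
  have hZsc : F.StronglyClosed F.center := central_stronglyClosed hZc
  obtain ⟨hzS, hz'⟩ := mem_preimageAlong.mp hz2
  have hxS : x ∈ S := hf.le hx
  obtain ⟨f', hf', hff'⟩ := hsm.push P f hf
  obtain ⟨f'', hf'', hf''P, hf''A⟩ := central_extend hEc hf'
  have hdomS' : imageAlong θ P ⊔ E.center ≤ S' := hf''.le
  obtain ⟨f₁, hf₁, hf₁e⟩ := hsm.pull _ f'' hdomS' hf''
  have hzD : z ∈ preimageAlong θ (imageAlong θ P ⊔ E.center) :=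
    mem_preimageAlong.mpr ⟨hzS, (le_sup_right : E.center ≤ imageAlong θ P ⊔ E.center) hz'⟩
  have hx' : afn θ x ∈ imageAlong θ P := mem_imageAlong.mpr ⟨x, hx, hxS, rfl⟩
  have hxD : x ∈ preimageAlong θ (imageAlong θ P ⊔ E.center) :=
    mem_preimageAlong.mpr ⟨hxS, (le_sup_left : imageAlong θ P ≤ imageAlong θ P ⊔ E.center) hx'⟩
  have h1 : afn θ (f₁ z) = afn θ z := by rw [← hf₁e z hzD, hf''A _ hz']
  have h2 : afn θ (f₁ x) = afn θ (f x) := by rw [← hf₁e x hxD, hf''P _ hx', hff' x hx]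
  have hζ : z⁻¹ * f₁ z ∈ F.center := (afn_eq_iff hker hzS (hf₁.mem hzD)).mp h1.symm
  have hζ' : (f x)⁻¹ * f₁ x ∈ F.center := (afn_eq_iff hker (hf.mem hx) (hf₁.mem hxD)).mp h2.symm
  have hwS : z * x * z⁻¹ * x⁻¹ ∈ S :=
    S.mul_mem (S.mul_mem (S.mul_mem hzS hxS) (S.inv_mem hzS)) (S.inv_mem hxS)
  have hwZ : z * x * z⁻¹ * x⁻¹ ∈ F.center := by
    rw [← afn_eq_one_iff hker hwS, afn_mul θ (S.mul_mem (S.mul_mem hzS hxS) (S.inv_mem hzS))
      (S.inv_mem hxS), afn_mul θ (S.mul_mem hzS hxS) (S.inv_mem hzS), afn_mul θ hzS hxS,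
      afn_inv θ hzS, afn_inv θ hxS, central_commute hEc (hsm.mem x hxS) hz']
    group
  have hD := Subgroup.mul_mem _ (Subgroup.mul_mem _ (Subgroup.mul_mem _ hzD hxD)
    (Subgroup.inv_mem _ hzD)) (Subgroup.inv_mem _ hxD)
  have hfw : f₁ (z * x * z⁻¹ * x⁻¹) = z * x * z⁻¹ * x⁻¹ := central_fixed hZc hf₁ hD hwZ
  have hfw2 : f₁ (z * x * z⁻¹ * x⁻¹) = f₁ z * f₁ x * (f₁ z)⁻¹ * (f₁ x)⁻¹ := by
    rw [hf₁.map_mul (Subgroup.mul_mem _ (Subgroup.mul_mem _ hzD hxD) (Subgroup.inv_mem _ hzD))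
      (Subgroup.inv_mem _ hxD), hf₁.map_mul (Subgroup.mul_mem _ hzD hxD) (Subgroup.inv_mem _ hzD),
      hf₁.map_mul hzD hxD, hf₁.map_inv hzD, hf₁.map_inv hxD]
  have e1 : f₁ z = z * (z⁻¹ * f₁ z) := by group
  have e2 : f₁ x = f x * ((f x)⁻¹ * f₁ x) := by group
  have h3 : f₁ z * f₁ x * (f₁ z)⁻¹ * (f₁ x)⁻¹ = z * f x * z⁻¹ * (f x)⁻¹ := by
    rw [e1, e2, comm_central_left _ _ _ (central_commute hZc
      (S.mul_mem (hf.mem hx) (hZc.1 hζ')) hζ), comm_central_right _ _ _ (central_commute hZc hzS hζ')]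
  apply commute_of_comm_eq
  rw [← h3, ← hfw2, hfw]

include hS hF hE hsm hEc in
theorem second_center_central (hperf : F.hyperfocalSubgroup p = S) :
    F.IsCentral (preimageAlong θ E.center) := by
  have hker := hE.2.1
  have hZc : F.IsCentral F.center := Cfsg.Agent.S5144.result F
  have hZ₂S : preimageAlong θ E.center ≤ S := preimageAlong_le θ _
  -- the second centre is central in `S`
  have hcomm : ∀ z ∈ preimageAlong θ E.center, ∀ s ∈ S, z * s = s * z := by
    intro z hz s hs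
    have hle : F.hyperfocalSubgroup p ≤ Subgroup.centralizer {z} := by
      conv_lhs => unfold hyperfocalSubgroup
      rw [Subgroup.closure_le]
      rintro y ⟨P, α, x, hP, -, rfl⟩
      rw [SetLike.mem_coe, Subgroup.mem_centralizer_iff]
      intro h hh
      rw [Set.mem_singleton_iff] at hh
      rw [hh]
      have hm : Mor F P (autFn (α : MulAut P)) := (mem_autGroup_iff hP _).mp α.2
      have h1 := second_center_commute hE hsm hEc hm x.2 hz
      rw [autFn_apply] at h1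
      exact h1
    rw [hperf] at hle
    have h2 := Subgroup.mem_centralizer_iff.mp (hle hs) z (Set.mem_singleton z)
    exact h2
  apply Cfsg.Agent.Helper26.central_of_fixed p hS F hF
  intro P hP
  have hPS : P ≤ S := by
    rcases hP with h1 | h1
    · rw [h1]
    · exact h1.1.1
  have hPfn : F.IsFullyNormalized P := by
    rcases hP with h1 | h1
    · rw [h1]; exact fullyNormalized_top F
    · exact h1.2.1
  have hZ₂P : preimageAlong θ E.center ≤ P := by
    rcases hP with h1 | h1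
    · rw [h1]; exact hZ₂S
    · intro z hz
      apply h1.1.2 P (isConj_refl F hPS)
      rw [mem_centralizerIn]
      exact ⟨hZ₂S hz, fun y hy => (hcomm z hz y (hPS hy)).symm⟩
  refine ⟨hZ₂P, ?_⟩
  have : Finite P := finite_of_le hPS
  have hPp : IsPGroup p P := hS.to_le hPS
  -- elements of `O^p(Aut_F(P))` fix the second centre
  have hres : ∀ u : F.autGroup P, u ∈ pResidual p (F.autGroup P) →
      ∀ x : P, (x : Ω) ∈ preimageAlong θ E.center → (u : MulAut P) x = x := by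
    intro u hu
    unfold pResidual at hu
    refine Subgroup.closure_induction
      (p := fun (u : F.autGroup P) _ => ∀ x : P, (x : Ω) ∈ preimageAlong θ E.center →
        (u : MulAut P) x = x) ?_ ?_ ?_ ?_ hu
    · intro g hg x hx
      have hg' : Nat.Coprime (orderOf (g : MulAut P)) p := by
        rw [Subgroup.orderOf_coe]
        exact hg
      have hm : Mor F P (autFn (g : MulAut P)) := (mem_autGroup_iff hPS _).mp g.2
      have hζ := second_center_mod hE hsm hEc hm x.2 hx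
      rw [autFn_apply] at hζ
      have hζfix : (g : MulAut P) (x⁻¹ * (g : MulAut P) x) = x⁻¹ * (g : MulAut P) x := by
        apply Subtype.ext
        have h1 := central_fixed hZc hm (x⁻¹ * (g : MulAut P) x).2 hζ
        rw [autFn_apply] at h1
        exact h1
      have hpow : ∀ j : ℕ, ((g : MulAut P) ^ j) x = x * (x⁻¹ * (g : MulAut P) x) ^ j := by
        intro j
        induction j with
        | zero => simp
        | succ j ih =>
          have e1 : ((g : MulAut P) ^ (j + 1)) x = (g : MulAut P) (((g : MulAut P) ^ j) x) := by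
            rw [pow_succ']; rfl
          rw [e1, ih, map_mul, map_pow, hζfix, pow_succ', ← mul_assoc, mul_inv_cancel_left]
      have h1 := hpow (orderOf (g : MulAut P))
      rw [pow_orderOf_eq_one] at h1
      have h2 : (x⁻¹ * (g : MulAut P) x) ^ orderOf (g : MulAut P) = 1 := by
        have h3 : x = x * (x⁻¹ * (g : MulAut P) x) ^ orderOf (g : MulAut P) := h1
        exact (mul_eq_left.mp h3.symm)
      obtain ⟨r, hr⟩ := hPp (x⁻¹ * (g : MulAut P) x)
      have h4 : orderOf (x⁻¹ * (g : MulAut P) x) ∣ orderOf (g : MulAut P) :=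
        orderOf_dvd_of_pow_eq_one h2
      have h5 : orderOf (x⁻¹ * (g : MulAut P) x) ∣ p ^ r := orderOf_dvd_of_pow_eq_one hr
      have h6 : Nat.Coprime (orderOf (x⁻¹ * (g : MulAut P) x)) (p ^ r) :=
        Nat.Coprime.coprime_dvd_left h4 (Nat.Coprime.pow_right r hg')
      have h7 : orderOf (x⁻¹ * (g : MulAut P) x) = 1 := Nat.Coprime.eq_one_of_dvd h6 h5
      have h8 : x⁻¹ * (g : MulAut P) x = 1 := orderOf_eq_one_iff.mp h7
      exact (inv_mul_eq_one.mp h8).symm
    · intro x _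
      rfl
    · intro a b _ _ iha ihb x hx
      show (a : MulAut P) ((b : MulAut P) x) = x
      rw [ihb x hx, iha x hx]
    · intro a _ iha x hx
      have h1 := iha x hx
      show (a : MulAut P)⁻¹ x = x
      have h2 : (a : MulAut P)⁻¹ ((a : MulAut P) x) = (a : MulAut P)⁻¹ x := by rw [h1]
      rw [MulAut.inv_apply_self] at h2
      exact h2.symm
  intro α hα x hx
  obtain ⟨g, hg, u, hu, hgu⟩ := Cfsg.Agent.Helper26.aut_decomp p hS F hF hPfn ⟨α, hα⟩
  apply Subtype.ext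
  have h1 := hgu x
  have h2 : ((α x : P) : Ω) = g * (((u : MulAut P) x : P) : Ω) * g⁻¹ := h1
  rw [h2, hres u hu x hx, ← hcomm (x : Ω) hx g hg]
  group

include hS hF hE in
/-- Grün's lemma for fusion systems: the factor system of a perfect saturated system modulo its centre has
trivial centre -/
theorem center_factor_eq_bot (hperf : F.hyperfocalSubgroup p = S) : E.center = ⊥ := by
  have hZc : F.IsCentral F.center := Cfsg.Agent.S5144.result F
  have hZsc : F.StronglyClosed F.center := central_stronglyClosed hZc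
  have hsm : SMor F E θ :=
    SMor.of_surjectiveMorphism (Cfsg.Agent.S5134.result p hS F hF F.center hZsc θ E hE)
  have : Finite S' := hsm.finite
  have hEc : E.IsCentral E.center := Cfsg.Agent.S5144.result E
  have hker := hE.2.1
  have hcen := second_center_central hS hF hE hsm hEc hperf
  have hle : preimageAlong θ E.center ≤ F.center := le_sSup hcen
  rw [eq_bot_iff]
  intro a' ha'
  obtain ⟨a, haS, rfl⟩ := hsm.surj a' (hEc.1 ha')
  have h1 : a ∈ F.center := hle (mem_preimageAlong.mpr ⟨haS, ha'⟩)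
  exact Subgroup.mem_bot.mpr ((afn_eq_one_iff hker haS).mpr h1)

end grun

end Cfsg.Agent.Helper27
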