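import Cfsg.Agent.Helper27.FusLift

set_option autoImplicit false

namespace Cfsg.Agent.Helper27

open Cfsg Cfsg.FusionSystem

variable {Ω : Type*} [Group Ω] {S : Subgroup Ω}

/-- an automorphism stabilizing a chain of invariant multiplicatively closed subsets, with trivial action on the
successive "factors", has order dividing a power of the group order -/
theorem pow_eq_one_of_chain {P : Type*} [Group P] [Finite P] (α : MulAut P) (n : ℕ) (K : ℕ → Set P)
    (h0 : ∀ x, x ∈ K 0) (hn : ∀ x ∈ K n, x = 1) (hone : ∀ i, (1 : P) ∈ K i)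
    (hα : ∀ i, ∀ x ∈ K i, α x ∈ K i)
    (hmul : ∀ i, ∀ x ∈ K i, ∀ y ∈ K i, x * y ∈ K i)
    (hstep : ∀ i, i < n → ∀ x ∈ K i, x⁻¹ * α x ∈ K (i + 1)) :
    α ^ (Nat.card P ^ n) = 1 := by
  have hpow : ∀ i, i < n → ∀ x ∈ K i, ∀ j : ℕ, x⁻¹ * (α ^ j) x ∈ K (i + 1) := by
    intro i hi x hx j
    induction j with
    | zero => simpa using hone (i + 1)
    | succ j ih =>
      have h1 : x⁻¹ * (α ^ (j + 1)) x = (x⁻¹ * α x) * α (x⁻¹ * (α ^ j) x) := by
        rw [pow_succ', MulAut.mul_apply, map_mul, map_inv]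
        group
      rw [h1]
      exact hmul _ _ (hstep i hi x hx) _ (hα _ _ ih)
  have key : ∀ k, k ≤ n → ∀ x ∈ K (n - k), (α ^ (Nat.card P ^ k)) x = x := by
    intro k
    induction k with
    | zero =>
      intro _ x hx
      rw [hn x hx]
      simp
    | succ k ih =>
      intro hk x hx
      have hi : n - (k + 1) < n := by omega
      have hi1 : n - (k + 1) + 1 = n - k := by omega
      have hc : x⁻¹ * (α ^ (Nat.card P ^ k)) x ∈ K (n - k) := by
        have := hpow _ hi x hx (Nat.card P ^ k)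
        rwa [hi1] at this
      have hβc : (α ^ (Nat.card P ^ k)) (x⁻¹ * (α ^ (Nat.card P ^ k)) x)
          = x⁻¹ * (α ^ (Nat.card P ^ k)) x := ih (by omega) _ hc
      have hm : ∀ m : ℕ, ((α ^ (Nat.card P ^ k)) ^ m) x
          = x * (x⁻¹ * (α ^ (Nat.card P ^ k)) x) ^ m := by
        intro m
        induction m with
        | zero => simp
        | succ m ihm =>
          rw [pow_succ', MulAut.mul_apply, ihm, map_mul, map_pow, hβc, pow_succ', ← mul_assoc,
            mul_inv_cancel_left]
      have h2 : α ^ (Nat.card P ^ (k + 1)) = (α ^ (Nat.card P ^ k)) ^ Nat.card P := by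
        rw [← pow_mul, pow_succ]
      rw [h2, hm, pow_card_eq_one', mul_one]
  ext x
  have := key n le_rfl x (by rw [Nat.sub_self]; exact h0 x)
  simpa using this

/-- a saturated fusion system all of whose automizers of fully normalized centric radical subgroups are `p`-groups
is the inner system -/
theorem eq_inner_of_pgroup [Finite S] {p : ℕ} [Fact p.Prime] (hS : IsPGroup p S) {F : FusionSystem S}
    (hF : F.IsSaturated p)
    (h : ∀ R : Subgroup Ω, F.IsFullyNormalized R → F.IsCentric R → F.IsRadical p R →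
      ∀ α ∈ F.autGroup R, ∃ k : ℕ, α ^ (p ^ k) = 1) (P : Subgroup Ω) :
    F.Hom P = (innerFusionSystem S).Hom P := by
  have key : ∀ (P : Subgroup Ω) (f : Ω → Ω), Mor F P f → Mor (innerFusionSystem S) P f := by
    apply alperin hS hF (innerFusionSystem S)
    intro R hRn hRc hRr _ f hf hfi
    have hRS := hRn.1
    have hfinR : Finite R := finite_of_le hRS
    obtain ⟨α, hα, hαf⟩ := exists_aut_of_mor hf (fun x hx => by
      have h := apply_mem_img (f := f) hx
      rwa [hfi] at h)
    obtain ⟨-, -, hfa⟩ := fullyNormalized_props hS hF hRn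
    obtain ⟨-, R₁, hR₁⟩ := hfa
    have hpg : IsPGroup p (⊤ : Subgroup (F.autGroup R)) := by
      rintro ⟨⟨β, hβ⟩, -⟩
      obtain ⟨k, hk⟩ := h R hRn hRc hRr β hβ
      refine ⟨k, Subtype.ext (Subtype.ext ?_)⟩
      show β ^ (p ^ k) = 1
      exact hk
    have htop : (⊤ : Subgroup (F.autGroup R)) = R₁ := R₁.is_maximal' hpg le_top
    have hmem : (⟨α, hα⟩ : F.autGroup R) ∈ (R₁ : Subgroup (F.autGroup R)) := by
      rw [← htop]
      exact Subgroup.mem_top _
    rw [hR₁, Subgroup.mem_subgroupOf, mem_autInducedBy_iff] at hmem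
    obtain ⟨g, hg, hgα⟩ := hmem
    exact mor_inner_iff.mpr ⟨hRS, g, hg, fun x hx => by rw [← hαf ⟨x, hx⟩]; exact hgα ⟨x, hx⟩⟩
  apply Set.Subset.antisymm
  · intro φ hφ
    obtain ⟨ψ, hψ, hψf⟩ := key P (fn φ) (mor_of_hom hφ)
    have h1 : ψ = φ := by
      ext x
      rw [hψf, fn_apply]
    rw [← h1]
    exact hψ
  · exact inner_subsystem F le_rfl P

end Cfsg.Agent.Helper27
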