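import Mathlib
import Cfsg.Prelude.Def_PLocal
import Cfsg.Agent.Helper27.FusOmega
import Cfsg.Agent.Helper27.FusNormal
import Cfsg.Agent.Helper27.FusSolv

set_option autoImplicit false

namespace Cfsg.Agent.Helper27

open Cfsg Cfsg.FusionSystem
open scoped commutatorElement

variable {Ω : Type*} [Group Ω] {S : Subgroup Ω}

theorem sc_aut_mem {F : FusionSystem S} {T R : Subgroup Ω} (hT : F.StronglyClosed T) (hR : R ≤ S)
    {κ : MulAut R} (hκ : κ ∈ F.autGroup R) (x : R) (hx : (x : Ω) ∈ T) : ((κ x : R) : Ω) ∈ T := by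
  have h1 := (mem_autGroup_iff hR κ).mp hκ
  have h2 := StronglyClosed.mor hT (h1.restrict (inf_le_left : R ⊓ T ≤ R)) inf_le_right
    (x := (x : Ω)) ⟨x.2, hx⟩
  rwa [autFn_apply] at h2

/-- a subgroup `P` normalized by the `p`-group `S` lies in `R` as soon as `N_P(R) ≤ R` -/
theorem le_of_normalizer_le [Finite S] {p : ℕ} [Fact p.Prime] (hS : IsPGroup p S)
    {P R : Subgroup Ω} (hPS : P ≤ S) (hPn : ∀ s ∈ S, ∀ x ∈ P, s * x * s⁻¹ ∈ P) (hRS : R ≤ S)
    (h : ∀ y ∈ P, (∀ r ∈ R, y * r * y⁻¹ ∈ R) → y ∈ R) : P ≤ R := by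
  haveI : Group.IsNilpotent S := hS.isNilpotent
  obtain ⟨n, hn⟩ := (Group.IsNilpotent.nilpotent' (G := S))
  have key : ∀ i : ℕ, ∀ y : S, y ∈ Subgroup.upperCentralSeries S i → (y : Ω) ∈ P → (y : Ω) ∈ R := by
    intro i
    induction i with
    | zero =>
      intro y hy _
      rw [Subgroup.upperCentralSeries_zero, Subgroup.mem_bot] at hy
      rw [hy]
      exact R.one_mem
    | succ i ih =>
      intro y hy hyP
      apply h _ hyP
      intro r hr
      have h1 := Subgroup.mem_upperCentralSeries_succ_iff.mp hy ⟨r, hRS hr⟩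
      have h2 : ((⁅y, (⟨r, hRS hr⟩ : S)⁆ : S) : Ω) ∈ P := by
        show (y : Ω) * r * (y : Ω)⁻¹ * r⁻¹ ∈ P
        have h3 := hPn r (hRS hr) _ (P.inv_mem hyP)
        have h4 := P.mul_mem hyP h3
        have e : (y : Ω) * r * (y : Ω)⁻¹ * r⁻¹ = (y : Ω) * (r * (y : Ω)⁻¹ * r⁻¹) := by group
        rw [e]
        exact h4
      have h5 := ih _ h1 h2
      have h6 := R.mul_mem h5 hr
      have e : (y : Ω) * r * (y : Ω)⁻¹ = ((⁅y, (⟨r, hRS hr⟩ : S)⁆ : S) : Ω) * r := by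
        show (y : Ω) * r * (y : Ω)⁻¹ = (y : Ω) * r * (y : Ω)⁻¹ * r⁻¹ * r
        group
      rw [e]
      exact h6
  intro y hy
  exact key n ⟨y, hPS hy⟩ (by rw [hn]; exact Subgroup.mem_top _) hy

/-- the automorphisms of `R` acting trivially on `R / (R ∩ P)` and on the factors of the chain -/
def chainT (F : FusionSystem S) (P R : Subgroup Ω) {n : ℕ} (Q : Fin (n + 1) → Subgroup Ω)
    (hP : F.StronglyClosed P) (hRS : R ≤ S) (hQ : ∀ i, F.StronglyClosed (Q i)) :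
    Subgroup (MulAut R) where
  carrier := {κ | κ ∈ F.autGroup R ∧ (∀ x : R, (x : Ω)⁻¹ * ((κ x : R) : Ω) ∈ P) ∧
      ∀ i : Fin n, ∀ x : R, (x : Ω) ∈ Q i.succ → (x : Ω)⁻¹ * ((κ x : R) : Ω) ∈ Q i.castSucc}
  one_mem' := by
    refine ⟨one_mem _, fun x => ?_, fun i x _ => ?_⟩
    · show (x : Ω)⁻¹ * (x : Ω) ∈ P
      rw [inv_mul_cancel]; exact P.one_mem
    · show (x : Ω)⁻¹ * (x : Ω) ∈ Q i.castSucc
      rw [inv_mul_cancel]; exact (Q _).one_mem
  mul_mem' := by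
    rintro κ₁ κ₂ ⟨hA1, ha1, hb1⟩ ⟨hA2, ha2, hb2⟩
    have e : ∀ x : R, (x : Ω)⁻¹ * ((κ₁ (κ₂ x) : R) : Ω) =
        ((x : Ω)⁻¹ * ((κ₁ x : R) : Ω)) * ((κ₁ (x⁻¹ * κ₂ x) : R) : Ω) := by
      intro x
      rw [map_mul, map_inv]
      show _ = (x : Ω)⁻¹ * ((κ₁ x : R) : Ω) * (((κ₁ x : R) : Ω)⁻¹ * ((κ₁ (κ₂ x) : R) : Ω))
      group
    refine ⟨mul_mem hA1 hA2, fun x => ?_, fun i x hx => ?_⟩
    · show (x : Ω)⁻¹ * ((κ₁ (κ₂ x) : R) : Ω) ∈ P
      rw [e]
      exact P.mul_mem (ha1 x) (sc_aut_mem hP hRS hA1 _ (ha2 x))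
    · show (x : Ω)⁻¹ * ((κ₁ (κ₂ x) : R) : Ω) ∈ Q i.castSucc
      rw [e]
      exact (Q _).mul_mem (hb1 i x hx) (sc_aut_mem (hQ _) hRS hA1 _ (hb2 i x hx))
  inv_mem' := by
    rintro κ ⟨hA, ha, hb⟩
    have e : ∀ x : R, (x : Ω)⁻¹ * ((κ⁻¹ x : R) : Ω) =
        (((κ⁻¹ x : R) : Ω)⁻¹ * ((κ (κ⁻¹ x) : R) : Ω))⁻¹ := by
      intro x
      rw [MulAut.apply_inv_self]
      group
    refine ⟨inv_mem hA, fun x => ?_, fun i x hx => ?_⟩
    · rw [e]
      exact P.inv_mem (ha _)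
    · have hy : ((κ⁻¹ x : R) : Ω) ∈ Q i.succ := sc_aut_mem (hQ _) hRS (inv_mem hA) x hx
      rw [e]
      exact (Q _).inv_mem (hb i _ hy)

theorem chain_key [Finite S] {p : ℕ} [Fact p.Prime] (hS : IsPGroup p S) {F : FusionSystem S}
    (hp : p ≠ 2) {P : Subgroup Ω} (hP : F.StronglyClosed P) {n : ℕ} (Q : Fin (n + 1) → Subgroup Ω)
    (hQ0 : Q 0 = ⊥) (hQl : Q (Fin.last n) = Cfsg.omegaOne p P)
    (hQ : ∀ i, F.StronglyClosed (Q i)) (hQc : ∀ i : Fin n, ⁅Q i.succ, P⁆ ≤ Q i.castSucc)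
    {R : Subgroup Ω} (hRS : R ≤ S) (hRr : F.IsRadical p R) (hRc : centralizerIn S R ≤ R)
    {u : Ω} (hu : u ∈ P) (huR : ∀ r ∈ R, u * r * u⁻¹ ∈ R) : u ∈ R := by
  haveI : Finite R := finite_of_le hRS
  have hRp : IsPGroup p R := hS.to_le hRS
  obtain ⟨T, hT⟩ : ∃ T, T = chainT F P R Q hP hRS hQ := ⟨_, rfl⟩
  have hTn : (T.subgroupOf (F.autGroup R)).Normal := by
    constructor
    intro k hk a
    rw [Subgroup.mem_subgroupOf, hT] at hk ⊢
    obtain ⟨hA, ha, hb⟩ := hk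
    have hai : (a : MulAut R)⁻¹ ∈ F.autGroup R := inv_mem a.2
    have e : ∀ x : R, (x : Ω)⁻¹ *
        (((a : MulAut R) ((k : MulAut R) ((a : MulAut R)⁻¹ x)) : R) : Ω) =
        (((a : MulAut R) (((a : MulAut R)⁻¹ x)⁻¹ * (k : MulAut R) ((a : MulAut R)⁻¹ x)) : R) : Ω) := by
      intro x
      rw [map_mul, map_inv, MulAut.apply_inv_self]
      rfl
    refine ⟨(a * k * a⁻¹).2, fun x => ?_, fun i x hx => ?_⟩
    · show (x : Ω)⁻¹ * (((a : MulAut R) ((k : MulAut R) ((a : MulAut R)⁻¹ x)) : R) : Ω) ∈ P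
      rw [e]
      exact sc_aut_mem hP hRS a.2 _ (ha _)
    · show (x : Ω)⁻¹ * (((a : MulAut R) ((k : MulAut R) ((a : MulAut R)⁻¹ x)) : R) : Ω) ∈
        Q i.castSucc
      rw [e]
      have hy : (((a : MulAut R)⁻¹ x : R) : Ω) ∈ Q i.succ := sc_aut_mem (hQ _) hRS hai x hx
      exact sc_aut_mem (hQ _) hRS a.2 _ (hb i _ hy)
  have hTp : IsPGroup p (T.subgroupOf (F.autGroup R)) := by
    apply isPGroup_of_coprime_trivial p
    intro g hg
    obtain ⟨γ, hγ⟩ : ∃ γ : MulAut R, γ = ((g : F.autGroup R) : MulAut R) := ⟨_, rfl⟩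
    have hγT : γ ∈ T := by rw [hγ]; exact Subgroup.mem_subgroupOf.mp g.2
    rw [hT] at hγT
    obtain ⟨hγA, hγa, hγb⟩ := hγT
    have hord : orderOf γ = orderOf g := by
      rw [hγ, Subgroup.orderOf_coe, Subgroup.orderOf_coe]
    have hcop : Nat.Coprime (orderOf γ) p := by rw [hord]; exact hg
    have hstep : ∀ W : Subgroup R, (∀ x ∈ W, γ x ∈ W) →
        (∀ x ∈ W, γ (x⁻¹ * γ x) = x⁻¹ * γ x) → ∀ x ∈ W, γ x = x := by
      intro W hinv hfix x hx
      have h1 := Helper1.aut_eq_one_of_fixes (hRp.to_subgroup W) (Helper1.restrictAut γ W hinv)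
        (Helper1.restrictAut_coprime γ W hinv hcop) (fun y => Subtype.ext (by
          rw [Helper1.restrictAut_apply]
          exact hfix y y.2))
      have h4 := Helper1.restrictAut_apply γ W hinv ⟨x, hx⟩
      rw [h1] at h4
      exact h4.symm
    have hfixQ : ∀ i : Fin (n + 1), ∀ x : R, (x : Ω) ∈ Q i → γ x = x := by
      intro i
      induction i using Fin.induction with
      | zero =>
        intro x hx
        rw [hQ0, Subgroup.mem_bot] at hx
        have : x = 1 := Subtype.ext hx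
        rw [this, map_one]
      | succ i ih =>
        intro x hx
        apply hstep ((Q i.succ).subgroupOf R) (fun y hy => sc_aut_mem (hQ _) hRS hγA y hy) ?_ x hx
        intro y hy
        apply ih
        exact hγb i y hy
    have hfixP : ∀ x : R, (x : Ω) ∈ P → γ x = x := by
      intro x hx
      have hinv : ∀ y ∈ P.subgroupOf R, γ y ∈ P.subgroupOf R :=
        fun y hy => sc_aut_mem hP hRS hγA y hy
      have h1 := Cfsg.Agent.S0120.result hp (hRp.to_subgroup (P.subgroupOf R))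
        (Helper1.restrictAut γ _ hinv) (Helper1.restrictAut_coprime γ _ hinv hcop) (by
          intro y hy
          apply Subtype.ext
          rw [Helper1.restrictAut_apply]
          apply hfixQ (Fin.last n)
          rw [hQl]
          apply Subgroup.subset_closure
          refine ⟨Subgroup.mem_subgroupOf.mp y.2, ?_⟩
          have := congrArg (fun t : ↥(P.subgroupOf R) => ((t : R) : Ω)) hy
          simpa using this)
      have h4 := Helper1.restrictAut_apply γ _ hinv ⟨x, hx⟩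
      rw [h1] at h4
      exact h4.symm
    have hγ1 : γ = 1 := by
      apply Helper1.aut_eq_one_of_fixes hRp γ hcop
      intro x
      apply hfixP
      exact hγa x
    apply Subtype.ext
    apply Subtype.ext
    rw [← hγ, hγ1]
    rfl
  have h1 : T.subgroupOf (F.autGroup R) ≤ pCore p (F.autGroup R) := le_pCore' hTn hTp
  have hun : u ∈ Subgroup.normalizer (R : Set Ω) := mem_normalizer_of_forall huR
  have huS : u ∈ S := hP.1 hu
  have hcA : conjAut R u hun ∈ F.autGroup R :=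
    autInducedBy_le_autGroup F hRS (conjAut_mem_autInducedBy huS hun)
  have hcT : conjAut R u hun ∈ T := by
    rw [hT]
    refine ⟨hcA, fun x => ?_, fun i x hx => ?_⟩
    · rw [conjAut_apply]
      have h2 := StronglyClosed.conj_mem hP (S.inv_mem (hRS x.2)) hu
      have h3 := P.mul_mem h2 (P.inv_mem hu)
      have e : (x : Ω)⁻¹ * (u * (x : Ω) * u⁻¹) = (x : Ω)⁻¹ * u * (x : Ω)⁻¹⁻¹ * u⁻¹ := by group
      rw [e]
      exact h3
    · rw [conjAut_apply]
      have h2 : ⁅(x : Ω)⁻¹, u⁆ ∈ Q i.castSucc :=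
        hQc i (Subgroup.commutator_mem_commutator ((Q _).inv_mem hx) hu)
      have e : (x : Ω)⁻¹ * (u * (x : Ω) * u⁻¹) = ⁅(x : Ω)⁻¹, u⁆ := by
        rw [commutatorElement_def]; group
      rw [e]
      exact h2
  have h2 : (⟨_, hcA⟩ : F.autGroup R) ∈ pCore p (F.autGroup R) :=
    h1 (Subgroup.mem_subgroupOf.mpr hcT)
  have h3 : conjAut R u hun ∈ Inn R := by
    rw [← hRr.2]
    exact ⟨⟨_, hcA⟩, h2, rfl⟩
  obtain ⟨g, hg, hgx⟩ := (mem_Inn_iff _).mp h3
  have h4 : g⁻¹ * u ∈ centralizerIn S R := by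
    rw [mem_centralizerIn]
    refine ⟨S.mul_mem (S.inv_mem (hRS hg)) huS, fun y hy => ?_⟩
    have h5 := hgx ⟨y, hy⟩
    rw [conjAut_apply] at h5
    have e : g⁻¹ * u * y = g⁻¹ * (u * y * u⁻¹) * u := by group
    rw [e, h5]
    group
  have h5 := R.mul_mem hg (hRc h4)
  rwa [mul_inv_cancel_left] at h5

theorem omegaOne_le (p : ℕ) (P : Subgroup Ω) : Cfsg.omegaOne p P ≤ P := by
  unfold Cfsg.omegaOne
  rw [Subgroup.closure_le]
  exact fun x hx => hx.1

theorem omegaOne_mor_mem {p : ℕ} {F : FusionSystem S} {K P : Subgroup Ω} {f : Ω → Ω}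
    (hf : Mor F K f) (hPK : P ≤ K) (hmem : ∀ x ∈ P, f x ∈ P) :
    ∀ x ∈ Cfsg.omegaOne p P, f x ∈ Cfsg.omegaOne p P := by
  have key : ∀ x ∈ Subgroup.closure {x : Ω | x ∈ P ∧ x ^ p = 1},
      x ∈ P ∧ f x ∈ Subgroup.closure {x : Ω | x ∈ P ∧ x ^ p = 1} := by
    intro x hx
    induction hx using Subgroup.closure_induction with
    | mem y hy =>
      exact ⟨hy.1, Subgroup.subset_closure
        ⟨hmem y hy.1, by rw [← hf.map_pow (hPK hy.1), hy.2, hf.map_one]⟩⟩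
    | one => exact ⟨P.one_mem, by rw [hf.map_one]; exact Subgroup.one_mem _⟩
    | mul a b _ _ iha ihb =>
      exact ⟨P.mul_mem iha.1 ihb.1, by
        rw [hf.map_mul (hPK iha.1) (hPK ihb.1)]; exact Subgroup.mul_mem _ iha.2 ihb.2⟩
    | inv a _ iha =>
      exact ⟨P.inv_mem iha.1, by rw [hf.map_inv (hPK iha.1)]; exact Subgroup.inv_mem _ iha.2⟩
  intro x hx
  exact (key x hx).2

theorem ucs_mor_mem [Finite S] {F : FusionSystem S} {K P : Subgroup Ω} {f : Ω → Ω}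
    (hf : Mor F K f) (hPK : P ≤ K) (hmem : ∀ x ∈ P, f x ∈ P) (i : ℕ) (z : P)
    (hz : z ∈ Subgroup.upperCentralSeries P i) :
    (⟨f z, hmem z z.2⟩ : P) ∈ Subgroup.upperCentralSeries P i := by
  haveI : Finite P := finite_of_le (hPK.trans hf.le)
  let σ₀ : P →* P :=
    { toFun := fun x => ⟨f x, hmem x x.2⟩
      map_one' := Subtype.ext hf.map_one
      map_mul' := fun x y => Subtype.ext (hf.map_mul (hPK x.2) (hPK y.2)) }
  have hinj : Function.Injective σ₀ := by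
    intro x y hxy
    exact Subtype.ext (hf.inj (hPK x.2) (hPK y.2) (congrArg Subtype.val hxy))
  let σ : P ≃* P := MulEquiv.ofBijective σ₀ (Finite.injective_iff_bijective.mp hinj)
  have h1 := Subgroup.characteristic_iff_map_le.mp
    (inferInstance : (Subgroup.upperCentralSeries P i).Characteristic) σ
  exact h1 (Subgroup.mem_map_of_mem _ hz)

end Cfsg.Agent.Helper27
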