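import Cfsg.Agent.Helper27.FusLift
import Cfsg.Agent.Helper13.PRes

set_option autoImplicit false

namespace Cfsg.Agent.Helper27

open Cfsg Cfsg.FusionSystem

variable {Ω : Type*} [Group Ω] {S : Subgroup Ω}

/-- a power of `g` congruent to the first power modulo `m` (prime to `p`) and of order prime to `p` -/
theorem exists_pow_ppart {G : Type*} [Group G] [Finite G] (p : ℕ) [hp : Fact p.Prime] (g : G)
    (m : ℕ) (hm : Nat.Coprime m p) :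
    ∃ k : ℕ, k ≡ 1 [MOD m] ∧ Nat.Coprime (orderOf (g ^ k)) p := by
  have hpos : orderOf g ≠ 0 := (orderOf_pos g).ne'
  obtain ⟨e, n', hn', heq⟩ := Nat.exists_eq_pow_mul_and_not_dvd hpos p hp.out.ne_one
  have hco : Nat.Coprime m (p ^ e) := Nat.Coprime.pow_right e hm
  obtain ⟨k, hk1, hk0⟩ := Nat.chineseRemainder hco 1 0
  refine ⟨k, hk1, ?_⟩
  have hdvd : p ^ e ∣ k := (Nat.modEq_zero_iff_dvd).mp hk0
  have h1 : (g ^ k) ^ n' = 1 := by
    rw [← pow_mul]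
    apply orderOf_dvd_iff_pow_eq_one.mp
    rw [heq]
    exact Nat.mul_dvd_mul_right hdvd n'
  have h2 : orderOf (g ^ k) ∣ n' := orderOf_dvd_of_pow_eq_one h1
  have h3 : Nat.Coprime n' p := ((Nat.Prime.coprime_iff_not_dvd hp.out).mpr hn').symm
  exact Nat.Coprime.coprime_dvd_left h2 h3

/-- the elements of `S` acting on `T` as elements of `O^p(Aut_F(T)) Inn(T)` -/
def actSub (F : FusionSystem S) (p : ℕ) (T : Subgroup Ω) : Subgroup Ω where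
  carrier := {x | x ∈ S ∧ ∃ α ∈ ((pResidual p ↥(F.autGroup T)).map (F.autGroup T).subtype ⊔
    Inn ↥T : Subgroup (MulAut ↥T)), ∀ t : T, ((α t : T) : Ω) = x * t * x⁻¹}
  mul_mem' := by
    rintro x y ⟨hx, α, hα, h1⟩ ⟨hy, β, hβ, h2⟩
    refine ⟨S.mul_mem hx hy, α * β, Subgroup.mul_mem _ hα hβ, fun t => ?_⟩
    show ((α (β t) : T) : Ω) = _
    rw [h1, h2]
    group
  one_mem' := ⟨S.one_mem, 1, Subgroup.one_mem _, fun t => by simp⟩
  inv_mem' := by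
    rintro x ⟨hx, α, hα, h1⟩
    refine ⟨S.inv_mem hx, α⁻¹, Subgroup.inv_mem _ hα, fun t => ?_⟩
    have h2 := h1 (α⁻¹ t)
    rw [MulAut.apply_inv_self] at h2
    rw [h2]
    group

theorem mem_actSub {F : FusionSystem S} {p : ℕ} {T : Subgroup Ω} {x : Ω} :
    x ∈ actSub F p T ↔ x ∈ S ∧ ∃ α ∈ ((pResidual p ↥(F.autGroup T)).map (F.autGroup T).subtype ⊔
      Inn ↥T : Subgroup (MulAut ↥T)), ∀ t : T, ((α t : T) : Ω) = x * t * x⁻¹ := Iff.rfl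

theorem le_actSub (F : FusionSystem S) (p : ℕ) {T : Subgroup Ω} (hTS : T ≤ S) :
    T ≤ actSub F p T := by
  intro t₀ ht₀
  refine ⟨hTS ht₀, MulAut.conj ⟨t₀, ht₀⟩, ?_, fun t => rfl⟩
  exact (le_sup_right : Inn ↥T ≤ _) ⟨⟨t₀, ht₀⟩, rfl⟩

theorem comm_mem_actSub [Finite S] {p : ℕ} [Fact p.Prime] {F : FusionSystem S} {T : Subgroup Ω}
    (hT : F.StronglyClosed T) {x u : Ω} (hx : x ∈ S) (hu : u ∈ S) (β : MulAut T)
    (hβ : β ∈ F.autGroup T) (hβp : Nat.Coprime (orderOf β) p)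
    (hrel : ∀ (t : T) (ht : x * t * x⁻¹ ∈ T),
      u * ((β t : T) : Ω) * u⁻¹ = ((β ⟨x * t * x⁻¹, ht⟩ : T) : Ω)) :
    x⁻¹ * u ∈ actSub F p T := by
  have : Finite T := finite_of_le hT.1
  have hxN : x ∈ Subgroup.normalizer (T : Set Ω) :=
    mem_normalizer_of_forall (fun t ht => StronglyClosed.conj_mem hT hx ht)
  have hc : conjAut T x hxN ∈ F.autGroup T :=
    autInducedBy_le_autGroup F hT.1 (conjAut_mem_autInducedBy hx hxN)
  have hb : (⟨β, hβ⟩ : F.autGroup T) ∈ pResidual p (F.autGroup T) := by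
    apply Subgroup.subset_closure
    show Nat.Coprime (orderOf (⟨β, hβ⟩ : F.autGroup T)) p
    rw [← Subgroup.orderOf_coe]
    exact hβp
  have hn := Cfsg.Agent.Helper13.pResidual_normal p (F.autGroup T)
  have h1 := hn.conj_mem _ hb (⟨conjAut T x hxN, hc⟩ : F.autGroup T)⁻¹
  rw [inv_inv] at h1
  have h2 := Subgroup.mul_mem _ h1 (Subgroup.inv_mem _ hb)
  have h2' : (((⟨conjAut T x hxN, hc⟩ : F.autGroup T)⁻¹ * ⟨β, hβ⟩ * ⟨conjAut T x hxN, hc⟩ *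
      (⟨β, hβ⟩ : F.autGroup T)⁻¹ : F.autGroup T) : MulAut T) ∈
      ((pResidual p ↥(F.autGroup T)).map (F.autGroup T).subtype ⊔ Inn ↥T : Subgroup (MulAut ↥T)) :=
    (le_sup_left : (pResidual p ↥(F.autGroup T)).map (F.autGroup T).subtype ≤
      (pResidual p ↥(F.autGroup T)).map (F.autGroup T).subtype ⊔ Inn ↥T) ⟨_, h2, rfl⟩
  refine ⟨S.mul_mem (S.inv_mem hx) hu, _, h2', ?_⟩
  intro t
  show (((conjAut T x hxN)⁻¹ (β (conjAut T x hxN (β⁻¹ t))) : T) : Ω) = _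
  have h3 : ∀ w : T, (((conjAut T x hxN)⁻¹ w : T) : Ω) = x⁻¹ * w * x := fun w => rfl
  have h4 := hrel (β⁻¹ t) (conjAut T x hxN (β⁻¹ t)).2
  rw [MulAut.apply_inv_self] at h4
  have h5 : ((β (conjAut T x hxN (β⁻¹ t)) : T) : Ω) = u * (t : Ω) * u⁻¹ := h4.symm
  rw [h3, h5]
  group

theorem gen_mem_actSub [Finite S] {p : ℕ} [Fact p.Prime] (hS : IsPGroup p S) {F : FusionSystem S}
    (hF : F.IsSaturated p) {T : Subgroup Ω} (hT : F.StronglyClosed T) {P : Subgroup Ω}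
    (hP : P ≤ S) (a : MulAut P) (ha : a ∈ F.autGroup P) (hap : Nat.Coprime (orderOf a) p)
    (x : P) : (x : Ω)⁻¹ * ((a x : P) : Ω) ∈ actSub F p T := by
  have hm : Mor F P (autFn a) := (mem_autGroup_iff hP a).mp ha
  obtain ⟨ψ, hψ, hψT⟩ := lift_mod_stronglyClosed hS hF hT hm
  have hPT : P ⊔ T ≤ S := hψ.le
  have : Finite (P ⊔ T : Subgroup Ω) := finite_of_le hPT
  have : Finite T := finite_of_le hT.1
  have hPle : P ≤ P ⊔ T := le_sup_left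
  have hTle : T ≤ P ⊔ T := le_sup_right
  have hψTT : ∀ t ∈ T, ψ t ∈ T :=
    fun t ht => StronglyClosed.mor hT (hψ.restrict hTle) le_rfl ht
  have hψP : ∀ y : Ω, ψ y = autFn a y * ((autFn a y)⁻¹ * ψ y) := fun y => by group
  have hψmaps : ∀ y ∈ P ⊔ T, ψ y ∈ P ⊔ T := by
    apply hψ.map_sup_mem
    · intro y hy
      rw [hψP y]
      exact Subgroup.mul_mem _ (hPle (autFn_mem a hy)) (hTle (hψT y hy))
    · intro y hy
      exact hTle (hψTT y hy)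
  obtain ⟨ψ', hψ', hψ'e⟩ := exists_aut_of_mor hψ hψmaps
  have step : ∀ (y' : P) (z' : Ω), z' ∈ P ⊔ T → (y' : Ω)⁻¹ * z' ∈ T →
      ((a y' : P) : Ω)⁻¹ * ψ z' ∈ T := by
    intro y' z' hz' hyz
    have e1 : z' = (y' : Ω) * ((y' : Ω)⁻¹ * z') := by group
    have h2 := hψT _ y'.2
    rw [autFn_apply] at h2
    have h3 := hψTT _ hyz
    rw [e1, hψ.map_mul (hPle y'.2) (hTle hyz), ← mul_assoc]
    exact T.mul_mem h2 h3
  have hpow : ∀ j : ℕ, ∀ y : P, (((a ^ j) y : P) : Ω)⁻¹ *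
      (((ψ' ^ j) ⟨y, hPle y.2⟩ : (P ⊔ T : Subgroup Ω)) : Ω) ∈ T := by
    intro j
    induction j with
    | zero =>
      intro y
      have e : (((a ^ 0) y : P) : Ω)⁻¹ *
          (((ψ' ^ 0) ⟨y, hPle y.2⟩ : (P ⊔ T : Subgroup Ω)) : Ω) = 1 := by
        show (y : Ω)⁻¹ * (y : Ω) = 1
        group
      rw [e]
      exact T.one_mem
    | succ j ih =>
      intro y
      have e1 : (a ^ (j + 1)) y = a ((a ^ j) y) := by rw [pow_succ']; rfl
      have e2 : (ψ' ^ (j + 1)) ⟨y, hPle y.2⟩ = ψ' ((ψ' ^ j) ⟨y, hPle y.2⟩) := by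
        rw [pow_succ']; rfl
      rw [e1, e2, hψ'e]
      exact step _ _ (Subtype.property _) (ih y)
  obtain ⟨k, hk1, hkp⟩ := exists_pow_ppart p ψ' (orderOf a) hap
  have hak : a ^ k = a := by
    have h : a ^ k = a ^ 1 := pow_eq_pow_iff_modEq.mpr hk1
    rwa [pow_one] at h
  have hγT : ∀ y : P, ((a y : P) : Ω)⁻¹ *
      (((ψ' ^ k) ⟨y, hPle y.2⟩ : (P ⊔ T : Subgroup Ω)) : Ω) ∈ T := by
    intro y
    have h := hpow k y
    rw [hak] at h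
    exact h
  have hγF : ψ' ^ k ∈ F.autGroup (P ⊔ T) := Subgroup.pow_mem _ hψ' k
  have hγm : Mor F (P ⊔ T) (autFn (ψ' ^ k)) := (mem_autGroup_iff hPT _).mp hγF
  have hγTT : ∀ t ∈ T, autFn (ψ' ^ k) t ∈ T :=
    fun t ht => StronglyClosed.mor hT (hγm.restrict hTle) le_rfl ht
  obtain ⟨β, hβ, hβe⟩ := exists_aut_of_mor (hγm.restrict hTle) hγTT
  have hβe' : ∀ t : T, ((β t : T) : Ω) =
      (((ψ' ^ k) ⟨t, hTle t.2⟩ : (P ⊔ T : Subgroup Ω)) : Ω) := by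
    intro t
    rw [hβe, autFn_of_mem _ (hTle t.2)]
  have hβpow : ∀ j : ℕ, ∀ t : T, (((β ^ j) t : T) : Ω) =
      ((((ψ' ^ k) ^ j) ⟨t, hTle t.2⟩ : (P ⊔ T : Subgroup Ω)) : Ω) := by
    intro j
    induction j with
    | zero => intro t; rfl
    | succ j ih =>
      intro t
      have e1 : (β ^ (j + 1)) t = β ((β ^ j) t) := by rw [pow_succ']; rfl
      have e2 : ((ψ' ^ k) ^ (j + 1)) ⟨t, hTle t.2⟩ =
          (ψ' ^ k) (((ψ' ^ k) ^ j) ⟨t, hTle t.2⟩) := by rw [pow_succ']; rfl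
      rw [e1, e2, hβe']
      have e3 : (⟨(((β ^ j) t : T) : Ω), hTle ((β ^ j) t).2⟩ : (P ⊔ T : Subgroup Ω)) =
          ((ψ' ^ k) ^ j) ⟨t, hTle t.2⟩ := Subtype.ext (ih t)
      rw [e3]
  have hβord : orderOf β ∣ orderOf (ψ' ^ k) := by
    apply orderOf_dvd_of_pow_eq_one
    apply MulEquiv.ext
    intro t
    apply Subtype.ext
    rw [hβpow, pow_orderOf_eq_one]
    rfl
  have hβp : Nat.Coprime (orderOf β) p := Nat.Coprime.coprime_dvd_left hβord hkp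
  have huS : (((ψ' ^ k) ⟨x, hPle x.2⟩ : (P ⊔ T : Subgroup Ω)) : Ω) ∈ S :=
    hPT (Subtype.property _)
  have hxS : (x : Ω) ∈ S := hP x.2
  have hrel : ∀ (t : T) (ht : (x : Ω) * t * (x : Ω)⁻¹ ∈ T),
      (((ψ' ^ k) ⟨x, hPle x.2⟩ : (P ⊔ T : Subgroup Ω)) : Ω) * ((β t : T) : Ω) *
        (((ψ' ^ k) ⟨x, hPle x.2⟩ : (P ⊔ T : Subgroup Ω)) : Ω)⁻¹ =
      ((β ⟨(x : Ω) * t * (x : Ω)⁻¹, ht⟩ : T) : Ω) := by
    intro t ht
    rw [hβe' t, hβe' ⟨(x : Ω) * t * (x : Ω)⁻¹, ht⟩]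
    show _ = (((ψ' ^ k) (⟨x, hPle x.2⟩ * ⟨t, hTle t.2⟩ * ⟨x, hPle x.2⟩⁻¹) :
      (P ⊔ T : Subgroup Ω)) : Ω)
    rw [map_mul, map_mul, map_inv]
    rfl
  have h1 := comm_mem_actSub hT hxS huS β hβ hβp hrel
  have h2 : (((ψ' ^ k) ⟨x, hPle x.2⟩ : (P ⊔ T : Subgroup Ω)) : Ω)⁻¹ * ((a x : P) : Ω) ∈
      actSub F p T := by
    apply le_actSub F p hT.1
    have h3 := T.inv_mem (hγT x)
    have e : (((ψ' ^ k) ⟨x, hPle x.2⟩ : (P ⊔ T : Subgroup Ω)) : Ω)⁻¹ * ((a x : P) : Ω) =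
        (((a x : P) : Ω)⁻¹ * (((ψ' ^ k) ⟨x, hPle x.2⟩ : (P ⊔ T : Subgroup Ω)) : Ω))⁻¹ := by
      group
    rw [e]
    exact h3
  have e : (x : Ω)⁻¹ * ((a x : P) : Ω) =
      ((x : Ω)⁻¹ * (((ψ' ^ k) ⟨x, hPle x.2⟩ : (P ⊔ T : Subgroup Ω)) : Ω)) *
      ((((ψ' ^ k) ⟨x, hPle x.2⟩ : (P ⊔ T : Subgroup Ω)) : Ω)⁻¹ * ((a x : P) : Ω)) := by group
  rw [e]
  exact Subgroup.mul_mem _ h1 h2

theorem hyperfocal_le_actSub [Finite S] {p : ℕ} [Fact p.Prime] (hS : IsPGroup p S)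
    {F : FusionSystem S} (hF : F.IsSaturated p) {T : Subgroup Ω} (hT : F.StronglyClosed T) :
    F.hyperfocalSubgroup p ≤ actSub F p T := by
  unfold hyperfocalSubgroup
  rw [Subgroup.closure_le]
  rintro y ⟨P, α, x, hP, hα, rfl⟩
  have key : ∀ α : F.autGroup P, α ∈ pResidual p (F.autGroup P) → ∀ x : P,
      (x : Ω)⁻¹ * (((α : MulAut P) x : P) : Ω) ∈ actSub F p T := by
    intro α hα
    unfold pResidual at hα
    refine Subgroup.closure_induction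
      (p := fun (a : F.autGroup P) _ => ∀ x : P,
        (x : Ω)⁻¹ * (((a : MulAut P) x : P) : Ω) ∈ actSub F p T) ?_ ?_ ?_ ?_ hα
    · intro g hg x
      have hg' : Nat.Coprime (orderOf (g : MulAut P)) p := by
        rw [Subgroup.orderOf_coe]
        exact hg
      exact gen_mem_actSub hS hF hT hP (g : MulAut P) g.2 hg' x
    · intro x
      have e : (x : Ω)⁻¹ * ((((1 : F.autGroup P) : MulAut P) x : P) : Ω) = 1 := by
        show (x : Ω)⁻¹ * (x : Ω) = 1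
        group
      rw [e]
      exact Subgroup.one_mem _
    · intro a b _ _ iha ihb x
      have e : (x : Ω)⁻¹ * ((((a * b : F.autGroup P) : MulAut P) x : P) : Ω) =
          ((x : Ω)⁻¹ * (((b : MulAut P) x : P) : Ω)) *
          ((((b : MulAut P) x : P) : Ω)⁻¹ *
            (((a : MulAut P) ((b : MulAut P) x) : P) : Ω)) := by
        show (x : Ω)⁻¹ * (((a : MulAut P) ((b : MulAut P) x) : P) : Ω) = _
        group
      rw [e]
      exact Subgroup.mul_mem _ (ihb x) (iha _)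
    · intro a _ iha x
      have h := iha ((a : MulAut P)⁻¹ x)
      rw [MulAut.apply_inv_self] at h
      have e : (x : Ω)⁻¹ * ((((a⁻¹ : F.autGroup P) : MulAut P) x : P) : Ω) =
          ((((a : MulAut P)⁻¹ x : P) : Ω)⁻¹ * (x : Ω))⁻¹ := by
        show (x : Ω)⁻¹ * ((((a : MulAut P)⁻¹ x : P)) : Ω) = _
        group
      rw [e]
      exact Subgroup.inv_mem _ h
  exact key α hα x

end Cfsg.Agent.Helper27
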