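import Cfsg.Agent.Helper27.FusMorph
import Cfsg.Agent.Helper27.FusHyp

set_option autoImplicit false

namespace Cfsg.Agent.Helper27

open Cfsg Cfsg.FusionSystem

theorem pResidual_map_mem {G H : Type*} [Group G] [Group H] (p : ℕ) (f : G →* H) {a : G}
    (ha : a ∈ pResidual p G) : f a ∈ pResidual p H := by
  have h : pResidual p G ≤ (pResidual p H).comap f := by
    unfold pResidual
    rw [Subgroup.closure_le]
    intro g hg
    apply Subgroup.subset_closure
    show Nat.Coprime (orderOf (f g)) p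
    exact Nat.Coprime.coprime_dvd_left (orderOf_map_dvd f g) hg
  exact h ha

theorem pResidual_le_map_of_surjective {G H : Type*} [Group G] [Group H] [Finite G] (p : ℕ)
    [Fact p.Prime] (f : G →* H) (hf : Function.Surjective f) :
    pResidual p H ≤ (pResidual p G).map f := by
  unfold pResidual
  rw [Subgroup.closure_le]
  intro b hb
  obtain ⟨g, rfl⟩ := hf b
  obtain ⟨k, hk1, hkp⟩ := exists_pow_ppart p g (orderOf (f g)) hb
  refine ⟨g ^ k, Subgroup.subset_closure hkp, ?_⟩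
  rw [map_pow]
  have h1 : (f g) ^ k = (f g) ^ 1 := pow_eq_pow_iff_modEq.mpr hk1
  rw [h1, pow_one]

variable {Ω : Type*} [Group Ω] {S : Subgroup Ω} {Ω' : Type*} [Group Ω'] {S' : Subgroup Ω'}

namespace SMor

variable {F : FusionSystem S} {F' : FusionSystem S'} {α : S →* Ω'}

theorem autMap_surjective [Finite S] (h : SMor F F' α) {Q : Subgroup Ω} (hQS : Q ≤ S)
    (hK : preimageAlong α ⊥ ≤ Q) : Function.Surjective (h.autMap hQS) := by
  rintro ⟨β', hβ'⟩
  obtain ⟨β, hβ, hrel⟩ := h.exists_autRel_symm hQS hK β' hβ'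
  exact ⟨⟨β, hβ⟩, Subtype.ext (AutRel.unique (h.autMap_rel hQS ⟨β, hβ⟩) hrel)⟩

theorem hyperfocal_le [Finite S] {p : ℕ} [Fact p.Prime] (h : SMor F F' α) :
    F'.hyperfocalSubgroup p ≤ imageAlong α (F.hyperfocalSubgroup p) := by
  have key : ∀ Q : Subgroup Ω, Q ≤ S → preimageAlong α ⊥ ≤ Q →
      ∀ (a' : F'.autGroup (imageAlong α Q)) (x' : imageAlong α Q),
        a' ∈ pResidual p (F'.autGroup (imageAlong α Q)) →
        (x' : Ω')⁻¹ * (((a' : MulAut (imageAlong α Q)) x' : imageAlong α Q) : Ω') ∈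
          imageAlong α (F.hyperfocalSubgroup p) := by
    intro Q hQS hK a' x' ha'
    have : Finite Q := finite_of_le hQS
    obtain ⟨a, ha, rfl⟩ :=
      pResidual_le_map_of_surjective p (h.autMap hQS) (h.autMap_surjective hQS hK) ha'
    obtain ⟨x, hx, hxS, hxx'⟩ := mem_imageAlong.mp x'.2
    have hrel := h.autMap_rel hQS a x' ⟨x, hx⟩ hxx'
    rw [hrel, ← hxx']
    refine mem_imageAlong.mpr ⟨x⁻¹ * (((a : MulAut Q) ⟨x, hx⟩ : Q) : Ω), ?_, ?_, ?_⟩
    · exact Subgroup.subset_closure ⟨Q, a, ⟨x, hx⟩, hQS, ha, rfl⟩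
    · exact S.mul_mem (S.inv_mem hxS) (hQS (Subtype.property _))
    · rw [afn_mul α (S.inv_mem hxS) (hQS (Subtype.property _)), afn_inv α hxS]
  conv_lhs => unfold hyperfocalSubgroup
  rw [Subgroup.closure_le]
  rintro y ⟨P', hy⟩
  by_cases hP' : P' ≤ S'
  · obtain ⟨Q, hQS, hK, rfl⟩ : ∃ Q, Q ≤ S ∧ preimageAlong α ⊥ ≤ Q ∧ P' = imageAlong α Q :=
      ⟨preimageAlong α P', preimageAlong_le α P', preimageAlong_mono α bot_le,
        (h.img_pre hP').symm⟩
    obtain ⟨a', x', -, ha', rfl⟩ := hy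
    exact key Q hQS hK a' x' ha'
  · obtain ⟨a', x', hP'', -, -⟩ := hy
    exact absurd hP'' hP'

theorem le_hyperfocal [Finite S] {p : ℕ} [Fact p.Prime] (h : SMor F F' α) :
    imageAlong α (F.hyperfocalSubgroup p) ≤ F'.hyperfocalSubgroup p := by
  have hle : F.hyperfocalSubgroup p ≤ preimageAlong α (F'.hyperfocalSubgroup p) := by
    conv_lhs => unfold hyperfocalSubgroup
    rw [Subgroup.closure_le]
    rintro y ⟨P, a, x, hP, ha, rfl⟩
    have hxS : (x : Ω) ∈ S := hP x.2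
    have haxS : (((a : MulAut P) x : P) : Ω) ∈ S := hP (Subtype.property _)
    refine mem_preimageAlong.mpr ⟨S.mul_mem (S.inv_mem hxS) haxS, ?_⟩
    rw [afn_mul α (S.inv_mem hxS) haxS, afn_inv α hxS]
    have hx' : afn α (x : Ω) ∈ imageAlong α P := mem_imageAlong.mpr ⟨x, x.2, hxS, rfl⟩
    have hrel := h.autMap_rel hP a ⟨afn α x, hx'⟩ x rfl
    rw [← hrel]
    exact Subgroup.subset_closure ⟨imageAlong α P, h.autMap hP a, ⟨afn α x, hx'⟩,
      h.imageAlong_le P, pResidual_map_mem p (h.autMap hP) ha, rfl⟩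
  intro y hy
  obtain ⟨x, hx, hxS, rfl⟩ := mem_imageAlong.mp hy
  exact (mem_preimageAlong.mp (hle hx)).2

end SMor

end Cfsg.Agent.Helper27
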