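import Cfsg.Agent.Helper27.FusBasic

set_option autoImplicit false

namespace Cfsg.Agent.Helper27

open Cfsg Cfsg.FusionSystem

variable {Ω : Type*} [Group Ω]

/-- the full subsystem over a subgroup `T` of a fusion system over `U` -/
def resSys {U T : Subgroup Ω} (F₀ : FusionSystem U) (hTU : T ≤ U) : FusionSystem T where
  Hom P := {φ | φ ∈ F₀.Hom P ∧ P ≤ T ∧ ∀ x : P, φ x ∈ T}
  le_of_mem := fun h => ⟨h.2.1, h.2.2⟩
  injective_of_mem := fun h => F₀.injective_of_mem h.1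
  conj_mem := by
    intro P g hP hg
    refine ⟨F₀.conj_mem (le_trans hP hTU) (hTU hg), hP, fun x => ?_⟩
    show g * (x : Ω) * g⁻¹ ∈ T
    exact T.mul_mem (T.mul_mem hg (hP x.2)) (T.inv_mem hg)
  comp_mem := fun h₁ h₂ h => ⟨F₀.comp_mem h₁.1 h₂.1 h, h₁.2.1, fun _ => h₂.2.2 _⟩
  inv_mem := by
    rintro P φ ⟨hφ, hP, hφT⟩
    obtain ⟨ψ, hψ, hψφ⟩ := F₀.inv_mem hφ
    refine ⟨ψ, ⟨hψ, ?_, ?_⟩, hψφ⟩
    · rintro _ ⟨x, rfl⟩
      exact hφT x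
    · rintro ⟨_, x, rfl⟩
      rw [hψφ x]
      exact hP x.2

theorem mor_resSys_iff {U T : Subgroup Ω} {F₀ : FusionSystem U} {hTU : T ≤ U} {P : Subgroup Ω}
    {f : Ω → Ω} : Mor (resSys F₀ hTU) P f ↔ Mor F₀ P f ∧ P ≤ T ∧ ∀ x ∈ P, f x ∈ T := by
  constructor
  · rintro ⟨φ, ⟨hφ, hP, hφT⟩, hf⟩
    exact ⟨⟨φ, hφ, hf⟩, hP, fun x hx => by rw [← hf ⟨x, hx⟩]; exact hφT ⟨x, hx⟩⟩
  · rintro ⟨⟨φ, hφ, hf⟩, hP, hfT⟩
    exact ⟨φ, ⟨hφ, hP, fun x => by rw [hf]; exact hfT x x.2⟩, hf⟩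

/-- a map of the system is determined by its function -/
theorem hom_of_mor_fn {S : Subgroup Ω} {F : FusionSystem S} {P : Subgroup Ω} {φ : P →* Ω}
    (h : Mor F P (fn φ)) : φ ∈ F.Hom P := by
  obtain ⟨φ', hφ', hφ'e⟩ := h
  have h1 : φ' = φ := MonoidHom.ext (fun x => by rw [hφ'e x, fn_apply])
  rw [← h1]
  exact hφ'

end Cfsg.Agent.Helper27
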