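import Cfsg.Agent.Helper27.FusNormalSub

set_option autoImplicit false

namespace Cfsg.Agent.Helper27

open Cfsg Cfsg.FusionSystem

section quot

variable {Ω : Type*} [Group Ω] {S : Subgroup Ω} [Finite S] {G : Type*} [Group G] [Finite G]
  {p : ℕ} [Fact p.Prime] {F : FusionSystem S} {ι : S →* G}

/-- a realization on a Sylow subgroup passes to the quotient by a normal subgroup meeting the Sylow subgroup
trivially -/
theorem realized_quotient (hreal : F.IsRealizedBy ι) (hrp : IsPGroup p ι.range)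
    (hidx : ¬ p ∣ ι.range.index) (N : Subgroup G) [hN : N.Normal] (hint : ι.range ⊓ N = ⊥) :
    F.IsRealizedBy ((QuotientGroup.mk' N).comp ι) ∧
      IsPGroup p ((QuotientGroup.mk' N).comp ι).range ∧
      ¬ p ∣ ((QuotientGroup.mk' N).comp ι).range.index := by
  have hrange : ((QuotientGroup.mk' N).comp ι).range = ι.range.map (QuotientGroup.mk' N) :=
    MonoidHom.range_comp _ _
  refine ⟨⟨?_, ?_⟩, ?_, ?_⟩
  · intro a b hab
    have h1 : ((ι a : G) : G ⧸ N) = ((ι b : G) : G ⧸ N) := hab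
    have h2 : (ι a)⁻¹ * ι b ∈ N := QuotientGroup.eq.mp h1
    have h3 : (ι a)⁻¹ * ι b ∈ ι.range ⊓ N :=
      ⟨Subgroup.mul_mem _ (Subgroup.inv_mem _ ⟨a, rfl⟩) ⟨b, rfl⟩, h2⟩
    rw [hint, Subgroup.mem_bot] at h3
    apply hreal.1
    exact (inv_mul_eq_one.mp h3)
  · intro P hP φ hφ
    constructor
    · intro h
      obtain ⟨g, hg⟩ := (hreal.2 P hP φ hφ).mp h
      refine ⟨QuotientGroup.mk' N g, fun x => ?_⟩
      show QuotientGroup.mk' N (ι ⟨φ x, hφ x⟩) = _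
      rw [hg x, map_mul, map_mul, map_inv]
      rfl
    · rintro ⟨gbar, hgbar⟩
      obtain ⟨g, rfl⟩ := QuotientGroup.mk'_surjective N gbar
      have hcong : ∀ x : P, (ι ⟨φ x, hφ x⟩)⁻¹ * (g * ι ⟨x, hP x.2⟩ * g⁻¹) ∈ N := by
        intro x
        have h' : ((ι ⟨φ x, hφ x⟩ : G) : G ⧸ N) = ((g * ι ⟨x, hP x.2⟩ * g⁻¹ : G) : G ⧸ N) :=
          hgbar x
        exact QuotientGroup.eq.mp h'
      obtain ⟨X, hXdef⟩ : ∃ X : Subgroup G,
          X = ((P.subgroupOf S).map ι).map (MulAut.conj g).toMonoidHom := ⟨_, rfl⟩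
      have hXmem : ∀ q ∈ X, ∃ x : P, q = g * ι ⟨x, hP x.2⟩ * g⁻¹ := by
        intro q hq
        rw [hXdef] at hq
        obtain ⟨_, ⟨u, hu, rfl⟩, rfl⟩ := hq
        exact ⟨⟨u, Subgroup.mem_subgroupOf.mp hu⟩, rfl⟩
      have hXp : IsPGroup p X := by
        rw [hXdef]
        refine (hrp.map (MulAut.conj g).toMonoidHom).to_le (Subgroup.map_mono ?_)
        rintro _ ⟨u, -, rfl⟩
        exact ⟨u, rfl⟩
      have hXM : X ≤ N ⊔ ι.range := by
        intro q hq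
        obtain ⟨x, rfl⟩ := hXmem q hq
        have e : g * ι ⟨x, hP x.2⟩ * g⁻¹ =
            ι ⟨φ x, hφ x⟩ * ((ι ⟨φ x, hφ x⟩)⁻¹ * (g * ι ⟨x, hP x.2⟩ * g⁻¹)) := by group
        rw [e]
        exact Subgroup.mul_mem _ ((le_sup_right : ι.range ≤ N ⊔ ι.range) ⟨_, rfl⟩)
          ((le_sup_left : N ≤ N ⊔ ι.range) (hcong x))
      have hidxM : ¬ p ∣ ι.range.relIndex (N ⊔ ι.range) := by
        intro h
        apply hidx
        rw [← Subgroup.relIndex_mul_index (le_sup_right : ι.range ≤ N ⊔ ι.range)]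
        exact Dvd.dvd.mul_right h _
      obtain ⟨m, hm, hmq⟩ := Cfsg.Agent.Helper13.exists_conj_le_of_relIndex (N ⊔ ι.range) ι.range
        X hrp hidxM hXM hXp
      have hB : ι.range ≤ Subgroup.normalizer (N : Set G) := by
        rw [Subgroup.normalizer_eq_top_iff.mpr hN]
        exact le_top
      obtain ⟨a, ha, b, hb, hab⟩ := Cfsg.Agent.Helper13.mem_sup_of_le_normalizer hB
        (Subgroup.inv_mem _ hm)
      have hm' : m = b⁻¹ * a⁻¹ := by
        rw [← inv_inv m, hab]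
        group
      have hkq : ∀ q ∈ X, a⁻¹ * q * a ∈ ι.range := by
        intro q hq
        have h1 := hmq q hq
        have e : a⁻¹ * q * a = b * (m * q * m⁻¹) * b⁻¹ := by
          rw [hm']
          group
        rw [e]
        exact Subgroup.mul_mem _ (Subgroup.mul_mem _ hb h1) (Subgroup.inv_mem _ hb)
      rw [hreal.2 P hP φ hφ]
      refine ⟨a⁻¹ * g, fun x => ?_⟩
      have hq : g * ι ⟨x, hP x.2⟩ * g⁻¹ ∈ X := by
        rw [hXdef]
        exact ⟨ι ⟨x, hP x.2⟩, ⟨⟨x, hP x.2⟩, Subgroup.mem_subgroupOf.mpr x.2, rfl⟩, rfl⟩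
      have h1 := hkq _ hq
      have h2 : (ι ⟨φ x, hφ x⟩)⁻¹ * (a⁻¹ * (g * ι ⟨x, hP x.2⟩ * g⁻¹) * a) ∈ N := by
        have e : (ι ⟨φ x, hφ x⟩)⁻¹ * (a⁻¹ * (g * ι ⟨x, hP x.2⟩ * g⁻¹) * a) =
            ((ι ⟨φ x, hφ x⟩)⁻¹ * a⁻¹ * (ι ⟨φ x, hφ x⟩)⁻¹⁻¹) *
              ((ι ⟨φ x, hφ x⟩)⁻¹ * (g * ι ⟨x, hP x.2⟩ * g⁻¹)) * a := by group
        rw [e]
        exact N.mul_mem (N.mul_mem (hN.conj_mem _ (N.inv_mem ha) _) (hcong x)) ha
      have h3 : (ι ⟨φ x, hφ x⟩)⁻¹ * (a⁻¹ * (g * ι ⟨x, hP x.2⟩ * g⁻¹) * a) ∈ ι.range ⊓ N :=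
        ⟨Subgroup.mul_mem _ (Subgroup.inv_mem _ ⟨_, rfl⟩) h1, h2⟩
      rw [hint, Subgroup.mem_bot] at h3
      have h4 := inv_mul_eq_one.mp h3
      rw [h4]
      group
  · rw [hrange]
    exact hrp.map _
  · rw [hrange]
    intro h
    exact hidx (h.trans (Subgroup.index_map_dvd _ (QuotientGroup.mk'_surjective N)))

/-- a realization on a Sylow subgroup restricts to a subgroup containing the Sylow subgroup and inducing all the
maps -/
theorem realized_subgroup (hreal : F.IsRealizedBy ι) (hrp : IsPGroup p ι.range)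
    (hidx : ¬ p ∣ ι.range.index) (N : Subgroup G) (hle : ι.range ≤ N)
    (hall : ∀ (P : Subgroup Ω) (φ : P →* Ω), φ ∈ F.Hom P →
      ∃ n ∈ N, ∀ x : P, afn ι (φ x) = n * afn ι x * n⁻¹) :
    ∃ ιN : S →* N, F.IsRealizedBy ιN ∧ IsPGroup p ιN.range ∧ ¬ p ∣ ιN.range.index := by
  obtain ⟨ιN, hιNdef⟩ : ∃ ιN : S →* N, ιN = ι.codRestrict N (fun s => hle ⟨s, rfl⟩) := ⟨_, rfl⟩
  have hιN : ∀ s : S, ((ιN s : N) : G) = ι s := by
    intro s
    rw [hιNdef]
    rfl
  have hrange : ιN.range = ι.range.subgroupOf N := by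
    ext y
    rw [Subgroup.mem_subgroupOf]
    constructor
    · rintro ⟨s, rfl⟩
      rw [hιN]
      exact ⟨s, rfl⟩
    · rintro ⟨s, hs⟩
      exact ⟨s, Subtype.ext ((hιN s).trans hs)⟩
  refine ⟨ιN, ⟨?_, ?_⟩, ?_, ?_⟩
  · intro a b hab
    apply hreal.1
    rw [← hιN, ← hιN, hab]
  · intro P hP φ hφ
    constructor
    · intro h
      obtain ⟨n, hn, hnφ⟩ := hall P φ h
      refine ⟨⟨n, hn⟩, fun x => Subtype.ext ?_⟩
      show ((ιN ⟨φ x, hφ x⟩ : N) : G) = n * ((ιN ⟨x, hP x.2⟩ : N) : G) * n⁻¹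
      rw [hιN, hιN, ← afn_of_mem ι (hφ x), ← afn_of_mem ι (hP x.2)]
      exact hnφ x
    · rintro ⟨g, hg⟩
      rw [hreal.2 P hP φ hφ]
      refine ⟨g, fun x => ?_⟩
      have h1 : ((ιN ⟨φ x, hφ x⟩ : N) : G) =
          (g : G) * ((ιN ⟨x, hP x.2⟩ : N) : G) * (g : G)⁻¹ :=
        congrArg (fun y : N => (y : G)) (hg x)
      rw [hιN, hιN] at h1
      exact h1
  · rw [hrange]
    exact hrp.comap_subtype
  · rw [hrange]
    intro h
    apply hidx
    rw [← Subgroup.relIndex_mul_index hle]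
    exact Dvd.dvd.mul_right h _

end quot

section simple

universe u

/-- a simple fusion system that is realizable is realized by a finite simple group -/
theorem exists_simple_realization {Ω : Type u} [Group Ω] {S : Subgroup Ω} [Finite S] {p : ℕ}
    [Fact p.Prime] {F : FusionSystem S} (hsimple : F.IsSimple p) (hreal : F.IsRealizable p) :
    ∃ (G : Type u) (_ : Group G) (_ : Finite G) (_ : IsSimpleGroup G) (ι : S →* G),
      F.IsRealizedBy ι ∧ ∃ T : Sylow p G, (T : Subgroup G) = ι.range := by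
  classical
  obtain ⟨Pr, hPrdef⟩ : ∃ Pr : ℕ → Prop, Pr = fun n => ∃ (G : Type u) (_ : Group G)
      (_ : Finite G) (ι : S →* G), F.IsRealizedBy ι ∧ IsPGroup p ι.range ∧
        ¬ p ∣ ι.range.index ∧ Nat.card G = n := ⟨_, rfl⟩
  have hPr : ∀ n, Pr n ↔ ∃ (G : Type u) (_ : Group G)
      (_ : Finite G) (ι : S →* G), F.IsRealizedBy ι ∧ IsPGroup p ι.range ∧
        ¬ p ∣ ι.range.index ∧ Nat.card G = n := fun n => by rw [hPrdef]
  have hex : ∃ n, Pr n := by
    obtain ⟨G, hG, hfin, ι, hι, T, hT⟩ := hreal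
    refine ⟨Nat.card G, (hPr _).mpr ⟨G, hG, hfin, ι, hι, ?_, ?_, rfl⟩⟩
    · rw [← hT]
      exact T.isPGroup'
    · rw [← hT]
      exact T.not_dvd_index
  have hmin : ∀ n, Pr n → Nat.find hex ≤ n := fun n hn => Nat.find_min' hex hn
  have hspec := (hPr _).mp (Nat.find_spec hex)
  obtain ⟨G, hG, hfin, ι, hι, hrp, hidx, hcard⟩ := hspec
  refine ⟨G, hG, hfin, ?_, ι, hι, hrp.toSylow hidx, IsPGroup.toSylow_coe _ _⟩
  obtain ⟨-, hSne, hsimp⟩ := hsimple
  have hnt : Nontrivial G := by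
    by_contra hcon
    rw [not_nontrivial_iff_subsingleton] at hcon
    apply hSne
    rw [eq_bot_iff]
    intro x hx
    rw [Subgroup.mem_bot]
    have h1 : ι ⟨x, hx⟩ = ι 1 := Subsingleton.elim _ _
    have h2 := hι.1 h1
    exact congrArg Subtype.val h2
  refine { exists_pair_ne := hnt.exists_pair_ne, eq_bot_or_eq_top_of_normal := ?_ }
  intro N hN
  by_contra hcon
  rw [not_or] at hcon
  obtain ⟨hNbot, hNtop⟩ := hcon
  have hE := nSub_normalIn hι hrp hidx hN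
  rcases hsimp _ _ hE with hT | ⟨hT, hEF⟩
  · have hint : ι.range ⊓ N = ⊥ := by
      rw [eq_bot_iff]
      rintro y ⟨hy1, hy2⟩
      obtain ⟨x, hx, rfl⟩ := exists_afn_eq hy1
      have h1 : x ∈ preimageAlong ι N := mem_preimageAlong.mpr ⟨hx, hy2⟩
      rw [hT, Subgroup.mem_bot] at h1
      rw [h1, afn_one]
      exact Subgroup.one_mem _
    obtain ⟨h1, h2, h3⟩ := realized_quotient hι hrp hidx N hint
    have h4 : Nat.find hex ≤ Nat.card (G ⧸ N) := by
      apply hmin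
      rw [hPr]
      exact ⟨G ⧸ N, inferInstance, inferInstance, _, h1, h2, h3, rfl⟩
    have h5 := Subgroup.card_eq_card_quotient_mul_card_subgroup N
    have h6 : 1 < Nat.card N := N.one_lt_card_iff_ne_bot.mpr hNbot
    have h7 : 0 < Nat.card (G ⧸ N) := Nat.card_pos
    rw [← hcard] at h4
    nlinarith
  · have hle : ι.range ≤ N := by
      rintro _ ⟨s, rfl⟩
      have h1 : (s : Ω) ∈ preimageAlong ι N := by
        rw [hT]
        exact s.2
      have h2 := (mem_preimageAlong.mp h1).2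
      rwa [afn_of_mem ι s.2] at h2
    have hall : ∀ (P : Subgroup Ω) (φ : P →* Ω), φ ∈ F.Hom P →
        ∃ n ∈ N, ∀ x : P, afn ι (φ x) = n * afn ι x * n⁻¹ := by
      intro P φ hφ
      rw [← hEF P] at hφ
      obtain ⟨-, -, -, n, hn, h⟩ := hφ
      exact ⟨n, hn, h⟩
    obtain ⟨ιN, h1, h2, h3⟩ := realized_subgroup hι hrp hidx N hle hall
    have h4 : Nat.find hex ≤ Nat.card N := by
      apply hmin
      rw [hPr]
      exact ⟨N, inferInstance, inferInstance, ιN, h1, h2, h3, rfl⟩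
    have h5 : Nat.card N ≠ Nat.card G := fun h => hNtop (N.card_eq_iff_eq_top.mp h)
    have h6 : Nat.card N ≤ Nat.card G := Subgroup.card_le_card_group N
    rw [← hcard] at h4
    omega

end simple

end Cfsg.Agent.Helper27
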