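import Cfsg.Agent.Helper27.Trace
import Cfsg.Agent.Helper27.FusReal
import Cfsg.Agent.Helper27.FusCentral
import Cfsg.Agent.Helper27.FusSat
import Cfsg.Agent.Helper26.NormalSys
import Cfsg.Agent.S5144
import Cfsg.Agent.S5145

set_option autoImplicit false

namespace Cfsg.Agent.Helper27

open Cfsg Cfsg.FusionSystem

variable {Ω : Type*} [Group Ω] {S : Subgroup Ω}

/-- the action of automorphisms on the centre, as a homomorphism -/
def centerAutHom (Q : Type*) [Group Q] : MulAut Q →* MulAut (Subgroup.center Q) where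
  toFun α := Subgroup.centerCongr α
  map_one' := by
    ext v
    rfl
  map_mul' α β := by
    ext v
    rfl

theorem centerAutHom_apply {Q : Type*} [Group Q] (α : MulAut Q) (v : Subgroup.center Q) :
    ((centerAutHom Q α v : Subgroup.center Q) : Q) = α v := rfl

/-- function-level criterion for a subgroup to be central in a fusion system -/
theorem central_of_extend {F : FusionSystem S} {Q : Subgroup Ω} (hQS : Q ≤ S)
    (h : ∀ (P : Subgroup Ω) (f : Ω → Ω), Mor F P f →
      ∃ f', Mor F (P ⊔ Q) f' ∧ (∀ x ∈ P, f' x = f x) ∧ ∀ q ∈ Q, f' q = q) : F.IsCentral Q := by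
  refine ⟨hQS, ?_⟩
  intro P φ hφ
  obtain ⟨f', ⟨ψ, hψ, hψf⟩, h1, h2⟩ := h P (fn φ) (mor_of_hom hφ)
  refine ⟨ψ, hψ, fun x => ?_, fun x => ?_⟩
  · rw [hψf]
    show f' x = φ x
    rw [h1 x x.2, fn_apply]
  · rw [hψf]
    exact h2 x x.2

/-- a subgroup normal in the system is fully normalized -/
theorem fullyNormalized_of_normal [Finite S] {F : FusionSystem S} {Q : Subgroup Ω}
    (hQ : F.IsNormal Q) : F.IsFullyNormalized Q := by
  have hsc := Cfsg.Agent.Helper26.normal_stronglyClosed F hQ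
  have : Finite Q := finite_of_le hQ.1
  refine ⟨hQ.1, fun R _ => ?_⟩
  have hle : normalizerIn S R ≤ normalizerIn S Q := by
    intro s hs
    have hsS : s ∈ S := normalizerIn_le S R hs
    exact ⟨hsS, mem_normalizer_of_forall (fun y hy => StronglyClosed.conj_mem hsc hsS hy)⟩
  have : Finite (normalizerIn S Q) := finite_of_le (normalizerIn_le S Q)
  exact Subgroup.card_le_of_le hle

open scoped IsMulCommutative in
/-- the centre of a saturated fusion system is a direct factor of the centre of `S` when the latter lies in a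
subgroup normal in the system -/
theorem center_direct_factor [Finite S] {p : ℕ} [Fact p.Prime] (hS : IsPGroup p S)
    {F : FusionSystem S} (hF : F.IsSaturated p) {Q : Subgroup Ω} (hQn : F.IsNormal Q)
    (hZ : (S ⊓ Subgroup.centralizer (S : Set Ω)) ≤ Q) :
    ∃ K : Subgroup Ω, K ≤ (S ⊓ Subgroup.centralizer (S : Set Ω)) ∧ F.center ⊓ K = ⊥ ∧
      F.center ⊔ K = (S ⊓ Subgroup.centralizer (S : Set Ω)) := by
  have hp : p.Prime := Fact.out
  have hQS : Q ≤ S := hQn.1
  have hQsc := Cfsg.Agent.Helper26.normal_stronglyClosed F hQn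
  have : Finite Q := finite_of_le hQS
  have hQfn := fullyNormalized_of_normal hQn
  obtain ⟨-, -, -, R, hR⟩ := fullyNormalized_props hS hF hQfn
  have hZc : F.IsCentral F.center := Cfsg.Agent.S5144.result F
  have hV : IsPGroup p (Subgroup.center Q) := (hS.to_le hQS).to_subgroup _
  have hcop : p.Coprime (R : Subgroup (F.autGroup Q)).index :=
    (Nat.Prime.coprime_iff_not_dvd hp).mpr R.not_dvd_index
  obtain ⟨ρ, hρdef⟩ : ∃ ρ : F.autGroup Q →* MulAut (Subgroup.center Q),
      ρ = (centerAutHom Q).comp (F.autGroup Q).subtype := ⟨_, rfl⟩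
  have hρ : ∀ (g : F.autGroup Q) (v : Subgroup.center Q),
      ((ρ g v : Subgroup.center Q) : Q) = (g : MulAut Q) v := by
    intro g v
    rw [hρdef]
    rfl
  have hroot : ∀ v : Subgroup.center Q, (∀ g : F.autGroup Q, ρ g v = v) →
      ∃ w : Subgroup.center Q, (∀ g : F.autGroup Q, ρ g w = w) ∧
        w ^ (R : Subgroup (F.autGroup Q)).index = v := by
    intro v hv
    refine ⟨(hV.powEquiv hcop).symm v, fun g => ?_, ?_⟩
    · rw [IsPGroup.powEquiv_symm_apply, map_zpow, hv g]
    · rw [← IsPGroup.powEquiv_apply hV hcop, Equiv.apply_symm_apply]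
  have hinj : ∀ v : Subgroup.center Q, v ^ (R : Subgroup (F.autGroup Q)).index = 1 → v = 1 := by
    intro v hv
    apply (hV.powEquiv hcop).injective
    rw [IsPGroup.powEquiv_apply, IsPGroup.powEquiv_apply, hv, one_pow]
  obtain ⟨K, hK1, hK2, hK3⟩ := exists_complement_fixed (V := Subgroup.center Q) ρ
    (R : Subgroup (F.autGroup Q)) (fun v hv => hroot v hv) (fun v hv => hinj v hv)
  -- fixed points of the Sylow subgroup
  have hF1 : ∀ v : Subgroup.center Q, (∀ h ∈ (R : Subgroup (F.autGroup Q)), ρ h v = v) ↔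
      ((v : Q) : Ω) ∈ S ⊓ Subgroup.centralizer (S : Set Ω) := by
    intro v
    constructor
    · intro hv
      refine ⟨hQS (v : Q).2, ?_⟩
      show ((v : Q) : Ω) ∈ Subgroup.centralizer (S : Set Ω)
      rw [Subgroup.mem_centralizer_iff]
      intro s hs
      have hsN : s ∈ Subgroup.normalizer (Q : Set Ω) :=
        mem_normalizer_of_forall (fun y hy => StronglyClosed.conj_mem hQsc hs hy)
      have hcA : conjAut Q s hsN ∈ F.autGroup Q :=
        autInducedBy_le_autGroup F hQS (conjAut_mem_autInducedBy hs hsN)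
      have hcR : (⟨conjAut Q s hsN, hcA⟩ : F.autGroup Q) ∈ (R : Subgroup (F.autGroup Q)) := by
        rw [hR]
        exact Subgroup.mem_subgroupOf.mpr (conjAut_mem_autInducedBy hs hsN)
      have h1 := hv _ hcR
      have h2 : (((ρ ⟨conjAut Q s hsN, hcA⟩ v : Subgroup.center Q) : Q) : Ω) = ((v : Q) : Ω) := by
        rw [h1]
      rw [hρ] at h2
      have h3 : s * ((v : Q) : Ω) * s⁻¹ = ((v : Q) : Ω) := h2
      calc s * ((v : Q) : Ω) = s * ((v : Q) : Ω) * s⁻¹ * s := by group
        _ = ((v : Q) : Ω) * s := by rw [h3]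
    · intro hv h hh
      rw [hR, Subgroup.mem_subgroupOf, mem_autInducedBy_iff] at hh
      obtain ⟨s, hs, hsh⟩ := hh
      apply Subtype.ext
      apply Subtype.ext
      rw [hρ, hsh]
      have h1 := (Subgroup.mem_centralizer_iff.mp hv.2) s hs
      rw [h1, mul_inv_cancel_right]
  -- fixed points of the whole automorphism group
  have hF2a : ∀ v : Subgroup.center Q, ((v : Q) : Ω) ∈ F.center →
      ∀ g : F.autGroup Q, ρ g v = v := by
    intro v hv g
    have hm : Mor F Q (autFn (g : MulAut Q)) := (mem_autGroup_iff hQS _).mp g.2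
    have h1 := central_fixed hZc hm (v : Q).2 hv
    rw [autFn_apply] at h1
    apply Subtype.ext
    apply Subtype.ext
    rw [hρ]
    exact h1
  have hF2b : ∀ v : Subgroup.center Q, (∀ g : F.autGroup Q, ρ g v = v) →
      ((v : Q) : Ω) ∈ F.center := by
    let Wv : Subgroup (Subgroup.center Q) :=
      { carrier := {v | ∀ g : F.autGroup Q, ρ g v = v}
        mul_mem' := by
          intro a b ha hb g
          rw [map_mul, ha g, hb g]
        one_mem' := fun g => map_one _
        inv_mem' := by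
          intro a ha g
          rw [map_inv, ha g] }
    obtain ⟨W, hWdef⟩ : ∃ W : Subgroup Ω,
        W = (Wv.map (Subgroup.center Q).subtype).map Q.subtype := ⟨_, rfl⟩
    have hWmem : ∀ x ∈ W, ∃ v : Subgroup.center Q, (∀ g : F.autGroup Q, ρ g v = v) ∧
        ((v : Q) : Ω) = x := by
      intro x hx
      rw [hWdef] at hx
      obtain ⟨_, ⟨v, hv, rfl⟩, rfl⟩ := hx
      exact ⟨v, hv, rfl⟩
    have hWQ : W ≤ Q := by
      intro x hx
      obtain ⟨v, -, rfl⟩ := hWmem x hx
      exact (v : Q).2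
    have hWc : F.IsCentral W := by
      apply central_of_extend (hWQ.trans hQS)
      intro P f hf
      obtain ⟨f', hf', hf'f, hf'Q, -⟩ := normal_extend hQn hf
      obtain ⟨α, hα, hαf⟩ := exists_aut_of_mor (hf'.restrict (le_sup_right : Q ≤ P ⊔ Q)) hf'Q
      refine ⟨f', hf'.restrict (sup_le le_sup_left (hWQ.trans le_sup_right)), hf'f, ?_⟩
      intro w hw
      obtain ⟨v, hv, rfl⟩ := hWmem w hw
      rw [← hαf (v : Q)]
      have h1 := hv ⟨α, hα⟩
      have h2 : (((ρ ⟨α, hα⟩ v : Subgroup.center Q) : Q) : Ω) = ((v : Q) : Ω) := by rw [h1]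
      rw [hρ] at h2
      exact h2
    intro v hv
    have hle : W ≤ F.center := le_sSup hWc
    apply hle
    rw [hWdef]
    exact ⟨(v : Q), ⟨v, hv, rfl⟩, rfl⟩
  obtain ⟨K', hK'def⟩ : ∃ K' : Subgroup Ω,
      K' = (K.map (Subgroup.center Q).subtype).map Q.subtype := ⟨_, rfl⟩
  have hK'mem : ∀ x ∈ K', ∃ v : Subgroup.center Q, v ∈ K ∧ ((v : Q) : Ω) = x := by
    intro x hx
    rw [hK'def] at hx
    obtain ⟨_, ⟨v, hv, rfl⟩, rfl⟩ := hx
    exact ⟨v, hv, rfl⟩
  have hK'Z : K' ≤ S ⊓ Subgroup.centralizer (S : Set Ω) := by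
    intro x hx
    obtain ⟨v, hv, rfl⟩ := hK'mem x hx
    exact (hF1 v).mp (hK1 v hv)
  have hcenZ : F.center ≤ S ⊓ Subgroup.centralizer (S : Set Ω) := by
    intro x hx
    refine ⟨center_le F hx, ?_⟩
    show x ∈ Subgroup.centralizer (S : Set Ω)
    rw [Subgroup.mem_centralizer_iff]
    intro s hs
    exact (central_commute hZc hs hx).symm
  refine ⟨K', hK'Z, ?_, ?_⟩
  · rw [eq_bot_iff]
    rintro x ⟨hx1, hx2⟩
    obtain ⟨v, hv, rfl⟩ := hK'mem x hx2
    have h1 := hK2 v hv (hF2a v hx1)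
    rw [h1]
    exact Subgroup.one_mem _
  · apply le_antisymm (sup_le hcenZ hK'Z)
    intro x hx
    have hxQ : x ∈ Q := hZ hx
    have hxc : (⟨x, hxQ⟩ : Q) ∈ Subgroup.center Q := by
      rw [Subgroup.mem_center_iff]
      intro y
      apply Subtype.ext
      exact (Subgroup.mem_centralizer_iff.mp hx.2) y (hQS y.2)
    obtain ⟨w, k, hw, hk, hvwk⟩ := hK3 ⟨⟨x, hxQ⟩, hxc⟩ ((hF1 ⟨⟨x, hxQ⟩, hxc⟩).mpr hx)
    have e : x = ((w : Q) : Ω) * ((k : Q) : Ω) := by
      have h1 := congrArg (fun v : Subgroup.center Q => ((v : Q) : Ω)) hvwk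
      exact h1
    rw [e]
    refine Subgroup.mul_mem_sup (hF2b w hw) ?_
    rw [hK'def]
    exact ⟨(k : Q), ⟨k, hk, rfl⟩, rfl⟩

end Cfsg.Agent.Helper27
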