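import Cfsg.Agent.Helper27.FusMorphHyp
import Cfsg.Agent.Helper27.FusFactor
import Cfsg.Agent.Helper27.FusRes
import Cfsg.Agent.Helper27.FusCentral

set_option autoImplicit false

namespace Cfsg.Agent.Helper27

open Cfsg Cfsg.FusionSystem

variable {Ω : Type*} [Group Ω] {S : Subgroup Ω} {Ω' : Type*} [Group Ω']

theorem iso_afn_inj {θ : S →* Ω'} (hinj : Function.Injective θ) {x y : Ω} (hx : x ∈ S)
    (hy : y ∈ S) (h : afn θ x = afn θ y) : x = y := by
  rw [afn_of_mem θ hx, afn_of_mem θ hy] at h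
  exact congrArg Subtype.val (hinj h)

open Classical in
/-- function-level inverse of an injective homomorphism defined on `S` -/
noncomputable def ainv (θ : S →* Ω') (y : Ω') : Ω :=
  if h : ∃ x ∈ S, afn θ x = y then Classical.choose h else 1

theorem ainv_afn {θ : S →* Ω'} (hinj : Function.Injective θ) {x : Ω} (hx : x ∈ S) :
    ainv θ (afn θ x) = x := by
  have h : ∃ x' ∈ S, afn θ x' = afn θ x := ⟨x, hx, rfl⟩
  unfold ainv
  rw [dif_pos h]
  exact iso_afn_inj hinj (Classical.choose_spec h).1 hx (Classical.choose_spec h).2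

theorem afn_ainv {θ : S →* Ω'} {y : Ω'} (hy : y ∈ imageAlong θ S) :
    ainv θ y ∈ S ∧ afn θ (ainv θ y) = y := by
  obtain ⟨x, -, hx, hxy⟩ := mem_imageAlong.mp hy
  have h : ∃ x' ∈ S, afn θ x' = y := ⟨x, hx, hxy⟩
  unfold ainv
  rw [dif_pos h]
  exact Classical.choose_spec h

theorem mem_imageAlong_afn {θ : S →* Ω'} (hinj : Function.Injective θ) {P : Subgroup Ω} {x : Ω}
    (hx : x ∈ S) : afn θ x ∈ imageAlong θ P ↔ x ∈ P := by
  constructor
  · intro h
    obtain ⟨x', hx', hx'S, he⟩ := mem_imageAlong.mp h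
    rw [← iso_afn_inj hinj hx'S hx he]
    exact hx'
  · intro h
    exact mem_imageAlong.mpr ⟨x, h, hx, rfl⟩

theorem imageAlong_le_iff {θ : S →* Ω'} (hinj : Function.Injective θ) {P Q : Subgroup Ω}
    (hP : P ≤ S) : imageAlong θ P ≤ imageAlong θ Q ↔ P ≤ Q := by
  constructor
  · intro h x hx
    exact (mem_imageAlong_afn hinj (hP hx)).mp (h ((mem_imageAlong_afn hinj (hP hx)).mpr hx))
  · exact imageAlong_mono θ

theorem imageAlong_inj {θ : S →* Ω'} (hinj : Function.Injective θ) {P Q : Subgroup Ω}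
    (hP : P ≤ S) (hQ : Q ≤ S) (h : imageAlong θ P = imageAlong θ Q) : P = Q :=
  le_antisymm ((imageAlong_le_iff hinj hP).mp h.le) ((imageAlong_le_iff hinj hQ).mp h.ge)

theorem exists_imageAlong_eq {θ : S →* Ω'} {P' : Subgroup Ω'} (hP' : P' ≤ imageAlong θ S) :
    ∃ P : Subgroup Ω, P ≤ S ∧ imageAlong θ P = P' := by
  refine ⟨preimageAlong θ P', preimageAlong_le θ P', ?_⟩
  ext y
  rw [mem_imageAlong]
  constructor
  · rintro ⟨x, hx, -, rfl⟩
    exact (mem_preimageAlong.mp hx).2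
  · intro hy
    obtain ⟨x, -, hxS, rfl⟩ := mem_imageAlong.mp (hP' hy)
    exact ⟨x, mem_preimageAlong.mpr ⟨hxS, hy⟩, hxS, rfl⟩

theorem imageAlong_sup (θ : S →* Ω') {P Q : Subgroup Ω} (hP : P ≤ S) (hQ : Q ≤ S) :
    imageAlong θ (P ⊔ Q) = imageAlong θ P ⊔ imageAlong θ Q := by
  unfold imageAlong
  rw [Subgroup.subgroupOf_sup hP hQ, Subgroup.map_sup]

theorem afn_comp_incl (θ : S →* Ω') {T : Subgroup Ω} (hTS : T ≤ S) {x : Ω} (hx : x ∈ T) :
    afn (θ.comp (Subgroup.inclusion hTS)) x = afn θ x := by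
  rw [afn_of_mem _ hx, afn_of_mem θ (hTS hx)]
  rfl

theorem imageAlong_comp_incl (θ : S →* Ω') {T : Subgroup Ω} (hTS : T ≤ S) {P : Subgroup Ω}
    (hP : P ≤ T) : imageAlong (θ.comp (Subgroup.inclusion hTS)) P = imageAlong θ P := by
  ext y
  rw [mem_imageAlong, mem_imageAlong]
  constructor
  · rintro ⟨x, hx, hxT, rfl⟩
    exact ⟨x, hx, hTS hxT, (afn_comp_incl θ hTS hxT).symm⟩
  · rintro ⟨x, hx, hxS, rfl⟩
    exact ⟨x, hx, hP hx, afn_comp_incl θ hTS (hP hx)⟩

theorem Mor.of_subsystem {T U : Subgroup Ω} {E : FusionSystem T} {F : FusionSystem U}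
    (h : E.IsSubsystemOf F) {P : Subgroup Ω} {f : Ω → Ω} (hf : Mor E P f) : Mor F P f := by
  obtain ⟨φ, hφ, hφf⟩ := hf
  exact ⟨φ, h P hφ, hφf⟩

/-- `E'` is the image of the fusion system `E` (over `T ≤ S`) under the injective homomorphism
`θ` defined on `S` -/
structure Push (θ : S →* Ω') {T : Subgroup Ω} (E : FusionSystem T) {T' : Subgroup Ω'}
    (E' : FusionSystem T') : Prop where
  inj : Function.Injective θ
  le : T ≤ S
  grp : T' = imageAlong θ T
  hom : ∀ (P' : Subgroup Ω') (f' : Ω' → Ω'), Mor E' P' f' ↔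
    ∃ (P : Subgroup Ω) (f : Ω → Ω), Mor E P f ∧ P' = imageAlong θ P ∧
      ∀ x ∈ P, f' (afn θ x) = afn θ (f x)

namespace Push

variable {θ : S →* Ω'} {T : Subgroup Ω} {E : FusionSystem T} {T' : Subgroup Ω'}
  {E' : FusionSystem T'}

theorem fwd (h : Push θ E E') {P : Subgroup Ω} {f : Ω → Ω} (hf : Mor E P f) {f' : Ω' → Ω'}
    (hff : ∀ x ∈ P, f' (afn θ x) = afn θ (f x)) : Mor E' (imageAlong θ P) f' :=
  (h.hom _ _).mpr ⟨P, f, hf, rfl, hff⟩

theorem fwd' (h : Push θ E E') {P : Subgroup Ω} {f : Ω → Ω} (hf : Mor E P f) :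
    Mor E' (imageAlong θ P) (fun y => afn θ (f (ainv θ y))) :=
  h.fwd hf (fun x hx => by rw [ainv_afn h.inj (h.le (hf.le hx))])

theorem bwd (h : Push θ E E') {P : Subgroup Ω} (hP : P ≤ S) {f' : Ω' → Ω'}
    (hf' : Mor E' (imageAlong θ P) f') : Mor E P (fun x => ainv θ (f' (afn θ x))) := by
  obtain ⟨P₀, f, hf, hPP, hff⟩ := (h.hom _ _).mp hf'
  have hP₀ : P₀ ≤ S := le_trans hf.le h.le
  have hPP₀ : P = P₀ := imageAlong_inj h.inj hP hP₀ hPP
  subst hPP₀
  refine hf.congr (fun x hx => ?_)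
  rw [hff x hx, ainv_afn h.inj (h.le (hf.mem hx))]

theorem smor (h : Push θ E E') : SMor E E' (θ.comp (Subgroup.inclusion h.le)) := by
  have hgrp := h.grp
  have hle := h.le
  refine ⟨?_, ?_, ?_, ?_⟩
  · intro x hx
    rw [afn_comp_incl θ hle hx]
    have h1 : afn θ x ∈ imageAlong θ T := mem_imageAlong.mpr ⟨x, hx, hle hx, rfl⟩
    rw [← hgrp] at h1
    exact h1
  · intro y hy
    have hy' : y ∈ imageAlong θ T := hgrp ▸ hy
    obtain ⟨x, hx, hxS, rfl⟩ := mem_imageAlong.mp hy'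
    exact ⟨x, hx, afn_comp_incl θ h.le hx⟩
  · intro P f hf
    rw [imageAlong_comp_incl θ h.le hf.le]
    refine ⟨_, h.fwd' hf, fun x hx => ?_⟩
    rw [afn_comp_incl θ h.le (hf.le hx), afn_comp_incl θ h.le (hf.mem hx),
      ainv_afn h.inj (h.le (hf.le hx))]
  · intro P' f' hP' hf'
    obtain ⟨P, f, hf, hPP, hff⟩ := (h.hom _ _).mp hf'
    have hpre : preimageAlong (θ.comp (Subgroup.inclusion h.le)) P' = P := by
      ext x
      rw [mem_preimageAlong, hPP]
      constructor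
      · rintro ⟨hxT, hx⟩
        rw [afn_comp_incl θ h.le hxT] at hx
        exact (mem_imageAlong_afn h.inj (h.le hxT)).mp hx
      · intro hx
        refine ⟨hf.le hx, ?_⟩
        rw [afn_comp_incl θ h.le (hf.le hx)]
        exact (mem_imageAlong_afn h.inj (h.le (hf.le hx))).mpr hx
    rw [hpre]
    refine ⟨f, hf, fun x hx => ?_⟩
    rw [afn_comp_incl θ h.le (hf.le hx), afn_comp_incl θ h.le (hf.mem hx)]
    exact hff x hx

theorem saturated [Finite T] {p : ℕ} [Fact p.Prime] (hT : IsPGroup p T) (hE : E.IsSaturated p)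
    (h : Push θ E E') : E'.IsSaturated p :=
  SMor.saturated hT hE h.smor

theorem hyperfocal_top [Finite T] {p : ℕ} [Fact p.Prime] (h : Push θ E E')
    (hyp : E.hyperfocalSubgroup p = T) : E'.hyperfocalSubgroup p = T' := by
  have h1 := le_antisymm (h.smor.hyperfocal_le (p := p)) (h.smor.le_hyperfocal (p := p))
  rw [h1, hyp, imageAlong_comp_incl θ h.le le_rfl]
  exact h.grp.symm

theorem sub {U : Subgroup Ω} {F : FusionSystem U} {U' : Subgroup Ω'} {F' : FusionSystem U'}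
    (hE : Push θ E E') (hF : Push θ F F') (hsub : E.IsSubsystemOf F) : E'.IsSubsystemOf F' := by
  intro P' φ' hφ'
  obtain ⟨P, f, hf, hPP, hff⟩ := (hE.hom _ _).mp (mor_of_hom hφ')
  exact hom_of_mor_fn ((hF.hom _ _).mpr ⟨P, f, hf.of_subsystem hsub, hPP, hff⟩)

end Push

end Cfsg.Agent.Helper27
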