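import Cfsg.Agent.Helper27.Iso1

set_option autoImplicit false

namespace Cfsg.Agent.Helper27

open Cfsg Cfsg.FusionSystem

variable {Ω : Type*} [Group Ω] {S : Subgroup Ω} {Ω' : Type*} [Group Ω']

/-- a function satisfying the push equation restricts to a homomorphism on the image -/
theorem exists_hom_of_push_eq {θ : S →* Ω'} {T : Subgroup Ω} {E : FusionSystem T} (hTS : T ≤ S)
    {P : Subgroup Ω} {f : Ω → Ω} (hf : Mor E P f) {f' : Ω' → Ω'}
    (hff : ∀ x ∈ P, f' (afn θ x) = afn θ (f x)) :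
    ∃ φ' : ↥(imageAlong θ P) →* Ω', ∀ y : ↥(imageAlong θ P), φ' y = f' y := by
  refine ⟨MonoidHom.mk' (fun y : ↥(imageAlong θ P) => f' y) ?_, fun y => rfl⟩
  intro a b
  obtain ⟨x, hx, hxS, hxa⟩ := mem_imageAlong.mp a.2
  obtain ⟨z, hz, hzS, hzb⟩ := mem_imageAlong.mp b.2
  show f' ((a : Ω') * (b : Ω')) = f' a * f' b
  rw [← hxa, ← hzb, ← afn_mul θ hxS hzS, hff _ (P.mul_mem hx hz), hff x hx, hff z hz,
    hf.map_mul hx hz, afn_mul θ (hTS (hf.mem hx)) (hTS (hf.mem hz))]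

theorem exists_push {θ : S →* Ω'} (hinj : Function.Injective θ) {T : Subgroup Ω} [Finite T]
    (hTS : T ≤ S) (E : FusionSystem T) :
    ∃ E' : FusionSystem (imageAlong θ T), Push θ E E' := by
  have hker : ∀ s : T, (θ.comp (Subgroup.inclusion hTS)) s = 1 ↔ ((s : Ω) ∈ (⊥ : Subgroup Ω)) := by
    intro s
    rw [Subgroup.mem_bot]
    constructor
    · intro h
      have h1 : Subgroup.inclusion hTS s = 1 := hinj (h.trans (map_one θ).symm)
      exact congrArg Subtype.val h1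
    · intro h
      have h1 : s = 1 := Subtype.ext h
      rw [h1, map_one]
  have hrange : (θ.comp (Subgroup.inclusion hTS)).range = imageAlong θ T := by
    ext y
    rw [mem_imageAlong]
    constructor
    · rintro ⟨s, rfl⟩
      exact ⟨s, s.2, hTS s.2, afn_of_mem θ (hTS s.2)⟩
    · rintro ⟨x, hx, hxS, rfl⟩
      exact ⟨⟨x, hx⟩, (afn_of_mem θ hxS).symm⟩
  refine ⟨factorSys E ⊥ (stronglyClosed_bot E) (θ.comp (Subgroup.inclusion hTS))
    (imageAlong θ T) hker hrange, hinj, hTS, rfl, ?_⟩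
  intro P' f'
  constructor
  · rintro ⟨φ', hφ', hφf⟩
    obtain ⟨hP', f, hf, hff⟩ := mem_facHom_iff.mp hφ'
    have hPT : preimageAlong (θ.comp (Subgroup.inclusion hTS)) P' ≤ T := preimageAlong_le _ _
    refine ⟨_, f, hf, ?_, ?_⟩
    · ext y
      rw [mem_imageAlong]
      constructor
      · intro hy
        obtain ⟨x, hx, hxS, rfl⟩ := mem_imageAlong.mp (hP' hy)
        refine ⟨x, mem_preimageAlong.mpr ⟨hx, ?_⟩, hxS, rfl⟩
        rw [afn_comp_incl θ hTS hx]
        exact hy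
      · rintro ⟨x, hx, hxS, rfl⟩
        have h1 := (mem_preimageAlong.mp hx).2
        rw [afn_comp_incl θ hTS (hPT hx)] at h1
        exact h1
    · intro x hx
      have h1 := hff x hx
      have h2 := (mem_preimageAlong.mp hx).2
      rw [afn_comp_incl θ hTS (hPT hx)] at h1 h2
      rw [afn_comp_incl θ hTS (hf.mem hx), fn_of_mem φ' h2, hφf] at h1
      exact h1
  · rintro ⟨P, f, hf, rfl, hff⟩
    obtain ⟨φ', hφ'⟩ := exists_hom_of_push_eq hTS hf hff
    refine ⟨φ', ?_, hφ'⟩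
    apply mem_facHom_iff.mpr
    have hPT : P ≤ T := hf.le
    have hpre : preimageAlong (θ.comp (Subgroup.inclusion hTS)) (imageAlong θ P) = P := by
      ext x
      rw [mem_preimageAlong]
      constructor
      · rintro ⟨hxT, hx⟩
        rw [afn_comp_incl θ hTS hxT] at hx
        exact (mem_imageAlong_afn hinj (hTS hxT)).mp hx
      · intro hx
        refine ⟨hPT hx, ?_⟩
        rw [afn_comp_incl θ hTS (hPT hx)]
        exact (mem_imageAlong_afn hinj (hTS (hPT hx))).mpr hx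
    refine ⟨imageAlong_mono θ hPT, f, ?_, ?_⟩
    · rw [hpre]
      exact hf
    · rw [hpre]
      intro x hx
      have hx' : afn θ x ∈ imageAlong θ P := (mem_imageAlong_afn hinj (hTS (hPT hx))).mpr hx
      rw [afn_comp_incl θ hTS (hPT hx), afn_comp_incl θ hTS (hf.mem hx), fn_of_mem φ' hx']
      exact (hφ' ⟨_, hx'⟩).trans (hff x hx)

/-- the inverse of an injective homomorphism, defined on the image -/
noncomputable def invHom (θ : S →* Ω') (hinj : Function.Injective θ) :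
    ↥(imageAlong θ S) →* Ω :=
  MonoidHom.mk' (fun y => ainv θ (y : Ω')) (by
    intro a b
    obtain ⟨ha1, ha2⟩ := afn_ainv (θ := θ) a.2
    obtain ⟨hb1, hb2⟩ := afn_ainv (θ := θ) b.2
    show ainv θ ((a : Ω') * (b : Ω')) = ainv θ a * ainv θ b
    rw [← ainv_afn hinj (S.mul_mem ha1 hb1), afn_mul θ ha1 hb1, ha2, hb2])

theorem afn_invHom {θ : S →* Ω'} (hinj : Function.Injective θ) {y : Ω'}
    (hy : y ∈ imageAlong θ S) : afn (invHom θ hinj) y = ainv θ y := by
  rw [afn_of_mem _ hy]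
  rfl

theorem invHom_injective {θ : S →* Ω'} (hinj : Function.Injective θ) :
    Function.Injective (invHom θ hinj) := by
  intro a b hab
  have h1 : ainv θ (a : Ω') = ainv θ (b : Ω') := hab
  apply Subtype.ext
  rw [← (afn_ainv (θ := θ) a.2).2, ← (afn_ainv (θ := θ) b.2).2, h1]

theorem imageAlong_invHom {θ : S →* Ω'} (hinj : Function.Injective θ) {P : Subgroup Ω}
    (hP : P ≤ S) : imageAlong (invHom θ hinj) (imageAlong θ P) = P := by
  ext x
  rw [mem_imageAlong]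
  constructor
  · rintro ⟨y, hy, hyS, rfl⟩
    obtain ⟨x₀, hx₀, hx₀S, rfl⟩ := mem_imageAlong.mp hy
    rw [afn_invHom hinj hyS, ainv_afn hinj hx₀S]
    exact hx₀
  · intro hx
    have h1 : afn θ x ∈ imageAlong θ S := mem_imageAlong.mpr ⟨x, hP hx, hP hx, rfl⟩
    refine ⟨afn θ x, mem_imageAlong.mpr ⟨x, hx, hP hx, rfl⟩, h1, ?_⟩
    rw [afn_invHom hinj h1, ainv_afn hinj (hP hx)]

namespace Push

variable {θ : S →* Ω'} {T : Subgroup Ω} {E : FusionSystem T} {T' : Subgroup Ω'}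
  {E' : FusionSystem T'}

theorem symm (h : Push θ E E') (hinj : Function.Injective θ) : Push (invHom θ hinj) E' E := by
  have hle := h.le
  have hgrp := h.grp
  refine ⟨invHom_injective hinj, ?_, ?_, ?_⟩
  · rw [hgrp]
    exact imageAlong_mono θ hle
  · rw [hgrp, imageAlong_invHom hinj hle]
  · intro P f
    constructor
    · intro hf
      have hPS : P ≤ S := le_trans hf.le hle
      refine ⟨imageAlong θ P, _, h.fwd' hf, (imageAlong_invHom hinj hPS).symm, ?_⟩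
      intro y hy
      obtain ⟨x, hx, hxS, rfl⟩ := mem_imageAlong.mp hy
      have h1 : afn θ x ∈ imageAlong θ S := mem_imageAlong.mpr ⟨x, hxS, hxS, rfl⟩
      have h2 : afn θ (f x) ∈ imageAlong θ S :=
        mem_imageAlong.mpr ⟨f x, hle (hf.mem hx), hle (hf.mem hx), rfl⟩
      rw [afn_invHom hinj h1, ainv_afn hinj hxS, afn_invHom hinj h2, ainv_afn hinj (hle (hf.mem hx))]
    · rintro ⟨P', f', hf', rfl, hff⟩
      obtain ⟨P₀, f₀, hf₀, rfl, hff₀⟩ := (h.hom _ _).mp hf'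
      have hP₀S : P₀ ≤ S := le_trans hf₀.le hle
      rw [imageAlong_invHom hinj hP₀S]
      refine hf₀.congr (fun x hx => ?_)
      have hxS : x ∈ S := hP₀S hx
      have h1 : afn θ x ∈ imageAlong θ S := mem_imageAlong.mpr ⟨x, hxS, hxS, rfl⟩
      have h2 := hff (afn θ x) (mem_imageAlong.mpr ⟨x, hx, hxS, rfl⟩)
      have h3 : afn θ (f₀ x) ∈ imageAlong θ S :=
        mem_imageAlong.mpr ⟨f₀ x, hle (hf₀.mem hx), hle (hf₀.mem hx), rfl⟩
      rw [afn_invHom hinj h1, ainv_afn hinj hxS, hff₀ x hx, afn_invHom hinj h3,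
        ainv_afn hinj (hle (hf₀.mem hx))] at h2
      exact h2.symm

theorem aut_push [Finite S] (h : Push θ E E') {Q : Subgroup Ω} (hQ : Q ≤ T) {β : MulAut Q}
    (hβ : β ∈ E.autGroup Q) {Q' : Subgroup Ω'} (hQ' : Q' = imageAlong θ Q) :
    ∃ β' : MulAut Q', β' ∈ E'.autGroup Q' ∧ ∀ x ∈ Q, autFn β' (afn θ x) = afn θ (autFn β x) := by
  subst hQ'
  have hm := (mem_autGroup_iff hQ β).mp hβ
  have hm' := h.fwd' hm
  have hQ'T' : imageAlong θ Q ≤ T' := hm'.le
  have hfin : Finite (imageAlong θ Q) := by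
    have : Finite Q := finite_of_le (le_trans hQ h.le)
    have hs : Function.Surjective (fun x : Q => (⟨afn θ x, mem_imageAlong.mpr
        ⟨x, x.2, h.le (hQ x.2), rfl⟩⟩ : ↥(imageAlong θ Q))) := by
      rintro ⟨y, hy⟩
      obtain ⟨x, hx, hxS, rfl⟩ := mem_imageAlong.mp hy
      exact ⟨⟨x, hx⟩, rfl⟩
    exact Finite.of_surjective _ hs
  have hmaps : ∀ y ∈ imageAlong θ Q, (fun y => afn θ (autFn β (ainv θ y))) y ∈ imageAlong θ Q := by
    intro y hy
    obtain ⟨x, hx, hxS, rfl⟩ := mem_imageAlong.mp hy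
    show afn θ (autFn β (ainv θ (afn θ x))) ∈ imageAlong θ Q
    rw [ainv_afn h.inj hxS]
    exact mem_imageAlong.mpr ⟨_, autFn_mem β hx, h.le (hQ (autFn_mem β hx)), rfl⟩
  obtain ⟨β', hβ', hβ'f⟩ := exists_aut_of_mor hm' hmaps
  refine ⟨β', hβ', fun x hx => ?_⟩
  have hxS : x ∈ S := h.le (hQ hx)
  have hy : afn θ x ∈ imageAlong θ Q := mem_imageAlong.mpr ⟨x, hx, hxS, rfl⟩
  rw [autFn_of_mem β' hy]
  have h1 := hβ'f ⟨_, hy⟩
  rw [ainv_afn h.inj hxS] at h1
  exact h1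

theorem aut_pull [Finite S] (h : Push θ E E') {Q : Subgroup Ω} (hQ : Q ≤ T) {Q' : Subgroup Ω'}
    (hQ' : Q' = imageAlong θ Q) {β' : MulAut Q'} (hβ' : β' ∈ E'.autGroup Q') :
    ∃ β : MulAut Q, β ∈ E.autGroup Q ∧ ∀ x ∈ Q, autFn β' (afn θ x) = afn θ (autFn β x) := by
  subst hQ'
  have hQS : Q ≤ S := le_trans hQ h.le
  have hQ'T' : imageAlong θ Q ≤ T' := by
    rw [h.grp]
    exact imageAlong_mono θ hQ
  have hm' := (mem_autGroup_iff hQ'T' β').mp hβ'
  have hm := h.bwd hQS hm'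
  have : Finite Q := finite_of_le hQS
  have hmaps : ∀ x ∈ Q, (fun x => ainv θ (autFn β' (afn θ x))) x ∈ Q := by
    intro x hx
    have h1 : autFn β' (afn θ x) ∈ imageAlong θ Q :=
      autFn_mem β' (mem_imageAlong.mpr ⟨x, hx, hQS hx, rfl⟩)
    obtain ⟨z, hz, hzS, hze⟩ := mem_imageAlong.mp h1
    show ainv θ (autFn β' (afn θ x)) ∈ Q
    rw [← hze, ainv_afn h.inj hzS]
    exact hz
  obtain ⟨β, hβ, hβf⟩ := exists_aut_of_mor hm hmaps
  refine ⟨β, hβ, fun x hx => ?_⟩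
  rw [autFn_of_mem β hx, hβf ⟨x, hx⟩]
  have h1 : autFn β' (afn θ x) ∈ imageAlong θ Q :=
    autFn_mem β' (mem_imageAlong.mpr ⟨x, hx, hQS hx, rfl⟩)
  obtain ⟨z, hz, hzS, hze⟩ := mem_imageAlong.mp h1
  show autFn β' (afn θ x) = afn θ (ainv θ (autFn β' (afn θ x)))
  rw [← hze, ainv_afn h.inj hzS]

end Push

end Cfsg.Agent.Helper27
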