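import Cfsg.Agent.Helper27.SubConstr
import Cfsg.Agent.Helper26.NormalSubSys
import Cfsg.Agent.S5076

set_option autoImplicit false

namespace Cfsg.Agent.Helper27

open Cfsg Cfsg.FusionSystem

section fus
variable {Ω : Type*} [Group Ω] {S : Subgroup Ω}

/-- a strongly closed subgroup `X` centralizing `R` and acting trivially on `Q / R`, for a centric normal
subgroup `Q` and a strongly closed `R ≤ Q`, is normal -/
theorem normal_of_chain [Finite S] {p : ℕ} [Fact p.Prime] (hS : IsPGroup p S)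
    {F : FusionSystem S} (hFsat : F.IsSaturated p) {Q R X : Subgroup Ω} (hQn : F.IsNormal Q)
    (hCQ : centralizerIn S Q ≤ Q) (hRQ : R ≤ Q) (hRsc : F.StronglyClosed R)
    (hXsc : F.StronglyClosed X)
    (hX : ∀ x ∈ X, (∀ r ∈ R, r * x = x * r) ∧ ∀ a ∈ Q, a⁻¹ * (x * a * x⁻¹) ∈ R) :
    F.IsNormal X := by
  obtain ⟨hQsc, hQrad⟩ := (Cfsg.Agent.S5086.result p hS F hFsat Q).mp hQn
  have hQconj : ∀ s ∈ S, ∀ x ∈ Q, s * x * s⁻¹ ∈ Q :=
    fun s hs x hx => StronglyClosed.conj_mem hQsc hs hx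
  apply normal_of_le_radicals hS hFsat hXsc
  intro P _ hPc hPr
  have hPS := hPc.1
  haveI : Finite P := finite_of_le hPS
  have hPp : IsPGroup p P := hS.to_le hPS
  have hQP : Q ≤ P := hQrad P hPc hPr
  have hinvQ : ∀ γ ∈ F.autGroup P, ∀ a : P, (a : Ω) ∈ Q → ((γ a : P) : Ω) ∈ Q := by
    intro γ hγ a ha
    have hm := (mem_autGroup_iff hPS γ).mp hγ
    rw [← autFn_apply]
    exact StronglyClosed.mor hQsc (hm.restrict hQP) le_rfl ha
  have hinvR : ∀ γ ∈ F.autGroup P, ∀ a : P, (a : Ω) ∈ R → ((γ a : P) : Ω) ∈ R := by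
    intro γ hγ a ha
    have hm := (mem_autGroup_iff hPS γ).mp hγ
    rw [← autFn_apply]
    exact StronglyClosed.mor hRsc (hm.restrict (hRQ.trans hQP)) le_rfl ha
  have hNn : ((qrStab P Q R).subgroupOf (F.autGroup P)).Normal := by
    constructor
    intro β hβ γ
    rw [Subgroup.mem_subgroupOf] at hβ ⊢
    obtain ⟨hβ1, hβ2⟩ := mem_qrStab.mp hβ
    have hγi : (γ : MulAut P)⁻¹ ∈ F.autGroup P := Subgroup.inv_mem _ γ.2
    rw [Subgroup.coe_mul, Subgroup.coe_mul, Subgroup.coe_inv, mem_qrStab]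
    refine ⟨fun r hr => ?_, fun a ha => ?_⟩
    · rw [MulAut.mul_apply, MulAut.mul_apply, hβ1 _ (hinvR _ hγi r hr), MulAut.apply_inv_self]
    · have h1 := hβ2 _ (hinvQ _ hγi a ha)
      have h2 := hinvR _ γ.2 _ h1
      have e : a⁻¹ * ((γ : MulAut P) * (β : MulAut P) * (γ : MulAut P)⁻¹) a =
          (γ : MulAut P) (((γ : MulAut P)⁻¹ a)⁻¹ * (β : MulAut P) ((γ : MulAut P)⁻¹ a)) := by
        rw [map_mul, map_inv, MulAut.apply_inv_self, MulAut.mul_apply, MulAut.mul_apply]
      rw [e]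
      exact h2
  have hNp : IsPGroup p ((qrStab P Q R).subgroupOf (F.autGroup P)) := by
    haveI : Finite (MulAut P) := inferInstance
    apply isPGroup_of_coprime_trivial p
    intro g hg
    have hg' : ((g : F.autGroup P) : MulAut P) ∈ qrStab P Q R := Subgroup.mem_subgroupOf.mp g.2
    obtain ⟨h1, h2⟩ := mem_qrStab.mp hg'
    obtain ⟨α, hα⟩ : ∃ α : MulAut P, α = ((g : F.autGroup P) : MulAut P) := ⟨_, rfl⟩
    rw [← hα] at h1 h2
    have hord : (orderOf α).Coprime p := by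
      rw [hα, Subgroup.orderOf_coe, Subgroup.orderOf_coe]; exact hg
    have hfixQ : ∀ a : P, (a : Ω) ∈ Q → α a = a := by
      intro a ha
      exact aut_fix_pointwise hPp α hord a (h1 _ (h2 a ha))
    have hall : ∀ x : P, α x = x := by
      intro x
      apply aut_fix_pointwise hPp α hord x
      apply hfixQ
      apply hCQ
      rw [mem_centralizerIn]
      refine ⟨hPS (x⁻¹ * α x).2, fun y hy => ?_⟩
      have hyP : y ∈ P := hQP hy
      have h3 : (x : Ω) * y * (x : Ω)⁻¹ ∈ Q := hQconj x (hPS x.2) y hy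
      have h4 := hfixQ (x * ⟨y, hyP⟩ * x⁻¹) (by simpa using h3)
      have h5 := hfixQ ⟨y, hyP⟩ hy
      rw [map_mul, map_mul, map_inv, h5] at h4
      have h6 := congrArg (fun t : P => (t : Ω)) h4
      simp only [Subgroup.coe_mul, Subgroup.coe_inv] at h6
      rw [Subgroup.coe_mul, Subgroup.coe_inv]
      calc y * ((x : Ω)⁻¹ * (α x : Ω))
          = (x : Ω)⁻¹ * ((x : Ω) * y * (x : Ω)⁻¹) * (α x : Ω) := by group
        _ = (x : Ω)⁻¹ * ((α x : Ω) * y * (α x : Ω)⁻¹) * (α x : Ω) := by rw [h6]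
        _ = (x : Ω)⁻¹ * (α x : Ω) * y := by group
    apply Subtype.ext
    apply Subtype.ext
    show ((g : F.autGroup P) : MulAut P) = 1
    rw [← hα]
    ext x
    rw [hall x]; rfl
  refine le_of_normal_pSub hS hXsc hPc hPr _ hNn hNp ?_
  intro x hxX hx hm
  rw [Subgroup.mem_subgroupOf, mem_qrStab]
  obtain ⟨hxc, hxa⟩ := hX x hxX
  refine ⟨fun r hr => ?_, fun a ha => ?_⟩
  · apply Subtype.ext
    show x * (r : Ω) * x⁻¹ = r
    rw [← hxc r hr, mul_inv_cancel_right]
  · exact hxa a ha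

theorem fusionSystem_ext' {F F' : FusionSystem S} (h : ∀ P, F.Hom P = F'.Hom P) : F = F' := by
  cases F
  cases F'
  simp only [FusionSystem.mk.injEq]
  funext P
  exact h P

theorem constrained_transport {T T' : Subgroup Ω} (hTT : T = T') (E : FusionSystem T)
    (E' : FusionSystem T') (h : ∀ P, E.Hom P = E'.Hom P) {p : ℕ} (hE : E.IsConstrained p) :
    E'.IsConstrained p := by
  subst hTT
  rw [← fusionSystem_ext' h]
  exact hE

end fus

section grp
variable {G : Type*} [Group G]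

theorem mor_subgroupSystem_iff {H T : Subgroup G} {hTH : T ≤ H} {P : Subgroup G} {f : G → G} :
    Mor (fusionSystemOfSubgroup H T hTH) P f ↔
      P ≤ T ∧ (∀ x ∈ P, f x ∈ T) ∧ ∃ g ∈ H, ∀ x ∈ P, f x = g * x * g⁻¹ := by
  constructor
  · rintro ⟨φ, ⟨hP, hφT, g, hg, hφ⟩, hf⟩
    exact ⟨hP, fun x hx => by rw [← hf ⟨x, hx⟩]; exact hφT ⟨x, hx⟩, g, hg,
      fun x hx => by rw [← hf ⟨x, hx⟩, hφ]⟩
  · rintro ⟨hP, hfT, g, hg, hfg⟩
    refine ⟨conjHom P g, ⟨hP, fun x => ?_, g, hg, fun x => rfl⟩, fun x => ?_⟩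
    · show g * (x : G) * g⁻¹ ∈ T
      rw [← hfg x x.2]; exact hfT x x.2
    · show g * (x : G) * g⁻¹ = f x
      exact (hfg x x.2).symm

/-- subnormal descent: if `F_S(G)` is constrained then `S ∩ H` is a Sylow subgroup of the subnormal subgroup
`H` and `F_{S ∩ H}(H)` is constrained -/
theorem subnormal_descent [Finite G] (p : ℕ) [Fact p.Prime] (S : Sylow p G)
    (hF : (groupFusionSystem (S : Subgroup G)).IsConstrained p) {H : Subgroup G}
    (hH : H.IsSubnormal) :
    (∃ P₀ : Sylow p ↥H, (P₀ : Subgroup ↥H) = (S : Subgroup G).subgroupOf H) ∧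
      (fusionSystemOfSubgroup H ((S : Subgroup G) ⊓ H) inf_le_right).IsConstrained p := by
  induction hH with
  | top =>
    refine ⟨Helper26.exists_sylow_subgroupOf_normal p S ⊤, ?_⟩
    refine constrained_transport (inf_top_eq _).symm _ _ ?_ hF
    intro P
    ext φ
    constructor
    · rintro ⟨hP, hφ, g, hg⟩
      exact ⟨hP.trans (le_of_eq (inf_top_eq _).symm), fun x => ⟨hφ x, Subgroup.mem_top _⟩, g,
        Subgroup.mem_top _, hg⟩
    · rintro ⟨hP, hφ, g, -, hg⟩
      exact ⟨hP.trans inf_le_left, fun x => (hφ x).1, g, hg⟩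
  | step H K h_le hSubn hN ih =>
    obtain ⟨⟨P_K, hP_K⟩, hEK⟩ := ih
    haveI := hN
    obtain ⟨P₁, hP₁⟩ := Helper26.exists_sylow_subgroupOf_normal p P_K (H.subgroupOf K)
    have he : Function.Surjective (Subgroup.subgroupOfEquivOfLe h_le).toMonoidHom :=
      (Subgroup.subgroupOfEquivOfLe h_le).surjective
    have hP₀ : ((P₁.mapSurjective he : Sylow p ↥H) : Subgroup ↥H) =
        (S : Subgroup G).subgroupOf H := by
      rw [Sylow.coe_mapSurjective]
      ext x
      constructor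
      · rintro ⟨y, hy, rfl⟩
        have hy' : y ∈ (P₁ : Subgroup _) := hy
        rw [hP₁, Subgroup.mem_subgroupOf] at hy'
        have hy'' : ((y : K)) ∈ (P_K : Subgroup K) := hy'
        rw [hP_K, Subgroup.mem_subgroupOf] at hy''
        rw [Subgroup.mem_subgroupOf]
        exact hy''
      · intro hx
        rw [Subgroup.mem_subgroupOf] at hx
        refine ⟨(Subgroup.subgroupOfEquivOfLe h_le).symm x, ?_,
          (Subgroup.subgroupOfEquivOfLe h_le).apply_symm_apply x⟩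
        show (Subgroup.subgroupOfEquivOfLe h_le).symm x ∈ (P₁ : Subgroup _)
        rw [hP₁, Subgroup.mem_subgroupOf]
        show (((Subgroup.subgroupOfEquivOfLe h_le).symm x : H.subgroupOf K) : K) ∈
          (P_K : Subgroup K)
        rw [hP_K, Subgroup.mem_subgroupOf]
        exact hx
    have hEHsat : (fusionSystemOfSubgroup H ((S : Subgroup G) ⊓ H) inf_le_right).IsSaturated p := by
      apply Helper26.realized_saturated p
        (Subgroup.inclusion (inf_le_right : (S : Subgroup G) ⊓ H ≤ H))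
        (Helper26.subgroupSystem_realized H _ inf_le_right) (P₁.mapSurjective he)
      rw [hP₀]
      ext ⟨x, hx⟩
      constructor
      · intro h
        rw [Subgroup.mem_subgroupOf] at h
        exact ⟨⟨x, h, hx⟩, rfl⟩
      · rintro ⟨⟨y, hy⟩, hxy⟩
        rw [Subgroup.mem_subgroupOf]
        have h1 : y = x := congrArg Subtype.val hxy
        subst h1
        exact hy.1
    have hTKp : IsPGroup p ↥((S : Subgroup G) ⊓ K) := S.isPGroup'.to_le inf_le_left
    have hsc : (fusionSystemOfSubgroup K ((S : Subgroup G) ⊓ K) inf_le_right).StronglyClosed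
        ((S : Subgroup G) ⊓ H) := by
      refine ⟨inf_le_inf_left _ h_le, ?_⟩
      rintro A hA φ ⟨-, hφT, g, hg, hφ⟩ x
      refine ⟨(hφT x).1, ?_⟩
      rw [hφ]
      have hxH : (x : G) ∈ H := (hA x.2).2
      have h1 := hN.conj_mem ⟨(x : G), h_le hxH⟩ (Subgroup.mem_subgroupOf.mpr hxH) ⟨g, hg⟩
      exact Subgroup.mem_subgroupOf.mp h1
    have hsub : (fusionSystemOfSubgroup H ((S : Subgroup G) ⊓ H) inf_le_right).IsSubsystemOf
        (fusionSystemOfSubgroup K ((S : Subgroup G) ⊓ K) inf_le_right) := by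
      rintro P φ ⟨hP, hφT, g, hg, hφ⟩
      exact ⟨hP.trans (inf_le_inf_left _ h_le), fun x => ⟨(hφT x).1, h_le (hφT x).2⟩, g,
        h_le hg, hφ⟩
    exact ⟨⟨_, hP₀⟩, constrained_of_subsystem hTKp hEK hsc hEHsat hsub⟩

end grp

end Cfsg.Agent.Helper27
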