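import Cfsg.Agent.Helper27.Iso2
import Cfsg.Agent.Helper27.SubnConstr

set_option autoImplicit false

namespace Cfsg.Agent.Helper27

open Cfsg Cfsg.FusionSystem

variable {Ω : Type*} [Group Ω] {S : Subgroup Ω} {Ω' : Type*} [Group Ω']

theorem mem_amap {T P : Subgroup Ω} (α : MulAut T) {y : Ω} :
    y ∈ (P.subgroupOf T).map (T.subtype.comp α.toMonoidHom) ↔
      ∃ x ∈ P, x ∈ T ∧ autFn α x = y := by
  constructor
  · rintro ⟨u, hu, rfl⟩
    exact ⟨u, Subgroup.mem_subgroupOf.mp hu, u.2, autFn_apply α u⟩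
  · rintro ⟨x, hx, hxT, rfl⟩
    exact ⟨⟨x, hxT⟩, Subgroup.mem_subgroupOf.mpr hx, (autFn_of_mem α hxT).symm⟩

/-- function-level form of normality of a subsystem -/
structure NormFn {T U : Subgroup Ω} (E : FusionSystem T) (F : FusionSystem U) : Prop where
  sub : E.IsSubsystemOf F
  sc : F.StronglyClosed T
  inv : ∀ (P : Subgroup Ω) (f : Ω → Ω), Mor E P f → ∀ α ∈ F.autGroup T,
    ∃ g, Mor E ((P.subgroupOf T).map (T.subtype.comp α.toMonoidHom)) g ∧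
      ∀ x ∈ P, g (autFn α x) = autFn α (f x)
  frat : ∀ (P : Subgroup Ω), P ≤ T → ∀ f, Mor F P f →
    ∃ α ∈ F.autGroup T, ∃ f₀, Mor E P f₀ ∧ ∀ x ∈ P, f x = autFn α (f₀ x)
  ext : ∀ α ∈ E.autGroup T, ∃ β ∈ F.autGroup (T ⊔ centralizerIn U T),
    (∀ x ∈ T, autFn β x = autFn α x) ∧
      ∀ c ∈ centralizerIn U T, c⁻¹ * autFn β c ∈ T ⊓ Subgroup.centralizer (T : Set Ω)

theorem normFn_of {T U : Subgroup Ω} {E : FusionSystem T} {F : FusionSystem U} {p : ℕ}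
    (h : E.IsNormalIn F p) : NormFn E F := by
  obtain ⟨⟨-, -, hsub, hsc, hinv, hfrat⟩, hext⟩ := h
  refine ⟨hsub, hsc, ?_, ?_, ?_⟩
  · rintro P f ⟨φ, hφ, hφf⟩ α hα
    have hPT : P ≤ T := (E.le_of_mem hφ).1
    obtain ⟨χ, hχ, hχp⟩ := hinv P hPT φ hφ α hα
    refine ⟨fn χ, mor_of_hom hχ, fun x hx => ?_⟩
    have hφx : φ ⟨x, hx⟩ ∈ T := (E.le_of_mem hφ).2 _
    have hαx : ((α ⟨x, hPT hx⟩ : T) : Ω) ∈ (P.subgroupOf T).map (T.subtype.comp α.toMonoidHom) :=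
      ⟨⟨x, hPT hx⟩, Subgroup.mem_subgroupOf.mpr hx, rfl⟩
    rw [autFn_of_mem α (hPT hx), fn_of_mem χ hαx, ← hφf ⟨x, hx⟩, autFn_of_mem α hφx]
    exact hχp ⟨x, hx⟩ hφx hαx
  · rintro P hPT f ⟨φ, hφ, hφf⟩
    obtain ⟨α, hα, φ₀, hφ₀, hp⟩ := hfrat P hPT φ hφ
    refine ⟨α, hα, fn φ₀, mor_of_hom hφ₀, fun x hx => ?_⟩
    have hx0 : φ₀ ⟨x, hx⟩ ∈ T := (E.le_of_mem hφ₀).2 _
    rw [← hφf ⟨x, hx⟩, fn_of_mem φ₀ hx, autFn_of_mem α hx0]
    exact hp ⟨x, hx⟩ hx0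
  · intro α hα
    obtain ⟨β, hβ, hβ1, hβ2⟩ := hext α hα
    refine ⟨β, hβ, fun x hx => ?_, fun c hc => ?_⟩
    · rw [autFn_of_mem β ((le_sup_left : T ≤ T ⊔ centralizerIn U T) hx), autFn_of_mem α hx]
      exact hβ1 ⟨x, hx⟩
    · rw [autFn_of_mem β ((le_sup_right : centralizerIn U T ≤ T ⊔ centralizerIn U T) hc)]
      exact hβ2 ⟨c, _⟩ hc

theorem NormFn.normal {T U : Subgroup Ω} {E : FusionSystem T} {F : FusionSystem U} {p : ℕ}
    (h : NormFn E F) (hE : E.IsSaturated p) (hF : F.IsSaturated p) : E.IsNormalIn F p := by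
  refine ⟨⟨hE, hF, h.sub, h.sc, ?_, ?_⟩, ?_⟩
  · intro P hPT φ hφ α hα
    obtain ⟨g, ⟨χ, hχ, hχg⟩, hgp⟩ := h.inv P (fn φ) (mor_of_hom hφ) α hα
    refine ⟨χ, hχ, fun x hφx hαx => ?_⟩
    have h1 := hgp x x.2
    rw [autFn_of_mem α (hPT x.2), fn_apply φ x, autFn_of_mem α hφx] at h1
    exact (hχg ⟨_, hαx⟩).trans h1
  · intro P hPT φ hφ
    obtain ⟨α, hα, f₀, ⟨φ₀, hφ₀, hφ₀f⟩, hp⟩ := h.frat P hPT (fn φ) (mor_of_hom hφ)
    refine ⟨α, hα, φ₀, hφ₀, fun x hx => ?_⟩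
    have h1 := hp x x.2
    rw [fn_apply, ← hφ₀f x, autFn_of_mem α hx] at h1
    exact h1
  · intro α hα
    obtain ⟨β, hβ, h1, h2⟩ := h.ext α hα
    refine ⟨β, hβ, fun x => ?_, fun c hc => ?_⟩
    · have h3 := h1 x x.2
      rw [autFn_of_mem β ((le_sup_left : T ≤ T ⊔ centralizerIn U T) x.2), autFn_apply] at h3
      exact h3
    · have h3 := h2 c hc
      rw [autFn_apply β c] at h3
      exact h3

theorem imageAlong_centralizerIn {θ : S →* Ω'} (hinj : Function.Injective θ) {U T : Subgroup Ω}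
    (hU : U ≤ S) (hT : T ≤ S) :
    imageAlong θ (centralizerIn U T) = centralizerIn (imageAlong θ U) (imageAlong θ T) := by
  ext y
  rw [mem_centralizerIn, mem_imageAlong]
  constructor
  · rintro ⟨c, hc, hcS, rfl⟩
    obtain ⟨hcU, hcT⟩ := mem_centralizerIn.mp hc
    refine ⟨mem_imageAlong.mpr ⟨c, hcU, hcS, rfl⟩, fun t' ht' => ?_⟩
    obtain ⟨t, ht, htS, rfl⟩ := mem_imageAlong.mp ht'
    rw [← afn_mul θ htS hcS, ← afn_mul θ hcS htS, hcT t ht]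
  · rintro ⟨hyU, hyT⟩
    obtain ⟨c, hc, hcS, rfl⟩ := mem_imageAlong.mp hyU
    refine ⟨c, mem_centralizerIn.mpr ⟨hc, fun t ht => ?_⟩, hcS, rfl⟩
    have h1 := hyT (afn θ t) (mem_imageAlong.mpr ⟨t, ht, hT ht, rfl⟩)
    rw [← afn_mul θ (hT ht) hcS, ← afn_mul θ hcS (hT ht)] at h1
    exact iso_afn_inj hinj (S.mul_mem (hT ht) hcS) (S.mul_mem hcS (hT ht)) h1

namespace Push

variable {θ : S →* Ω'} {T U : Subgroup Ω} {E : FusionSystem T} {F : FusionSystem U}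
  {T' U' : Subgroup Ω'} {E' : FusionSystem T'} {F' : FusionSystem U'}

theorem normFn [Finite S] (hE : Push θ E E') (hF : Push θ F F') (h : NormFn E F) :
    NormFn E' F' := by
  have hg1 := hE.grp
  have hg2 := hF.grp
  subst hg1
  subst hg2
  have hinj := hE.inj
  have hTS : T ≤ S := hE.le
  have hUS : U ≤ S := hF.le
  have hTU : T ≤ U := h.sc.1
  refine ⟨hE.sub hF h.sub, ⟨imageAlong_mono θ hTU, ?_⟩, ?_, ?_, ?_⟩
  · intro R' hR' φ' hφ' x
    obtain ⟨R, f, hf, rfl, hff⟩ := (hF.hom _ _).mp (mor_of_hom hφ')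
    have hRT : R ≤ T := (imageAlong_le_iff hinj (le_trans hf.le hUS)).mp hR'
    obtain ⟨x₀, hx₀, hx₀S, hxe⟩ := mem_imageAlong.mp x.2
    have h1 := hff x₀ hx₀
    rw [hxe, fn_apply] at h1
    rw [h1]
    refine mem_imageAlong.mpr ⟨f x₀, ?_, hUS (hf.mem hx₀), rfl⟩
    obtain ⟨φ, hφ, hφf⟩ := hf
    rw [← hφf ⟨x₀, hx₀⟩]
    exact h.sc.2 R hRT φ hφ ⟨x₀, hx₀⟩
  · intro P' f' hf' α' hα'
    obtain ⟨P, f, hf, rfl, hff⟩ := (hE.hom _ _).mp hf'
    obtain ⟨α, hα, hαα⟩ := hF.aut_pull (Q := T) hTU rfl hα'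
    obtain ⟨g, hg, hgp⟩ := h.inv P f hf α hα
    have hsub : imageAlong θ ((P.subgroupOf T).map (T.subtype.comp α.toMonoidHom)) =
        ((imageAlong θ P).subgroupOf (imageAlong θ T)).map
          ((imageAlong θ T).subtype.comp α'.toMonoidHom) := by
      ext y
      rw [mem_imageAlong, mem_amap]
      constructor
      · rintro ⟨z, hz, hzS, rfl⟩
        obtain ⟨x, hx, hxT, rfl⟩ := (mem_amap α).mp hz
        exact ⟨afn θ x, mem_imageAlong.mpr ⟨x, hx, hTS hxT, rfl⟩,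
          mem_imageAlong.mpr ⟨x, hxT, hTS hxT, rfl⟩, hαα x hxT⟩
      · rintro ⟨x', hx', hx'T, rfl⟩
        obtain ⟨x, hx, hxS, rfl⟩ := mem_imageAlong.mp hx'
        have hxT : x ∈ T := hf.le hx
        exact ⟨autFn α x, (mem_amap α).mpr ⟨x, hx, hxT, rfl⟩, hTS (autFn_mem α hxT),
          (hαα x hxT).symm⟩
    refine ⟨fun y => afn θ (g (ainv θ y)), ?_, ?_⟩
    · rw [← hsub]
      exact hE.fwd' hg
    · intro x' hx'
      obtain ⟨x, hx, hxS, rfl⟩ := mem_imageAlong.mp hx'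
      have hxT : x ∈ T := hf.le hx
      show afn θ (g (ainv θ (autFn α' (afn θ x)))) = autFn α' (f' (afn θ x))
      rw [hαα x hxT, ainv_afn hinj (hTS (autFn_mem α hxT)), hgp x hx, hff x hx,
        hαα _ (hf.mem hx)]
  · intro P' hP' f' hf'
    obtain ⟨P, f, hf, rfl, hff⟩ := (hF.hom _ _).mp hf'
    have hPT : P ≤ T := (imageAlong_le_iff hinj (le_trans hf.le hUS)).mp hP'
    obtain ⟨α, hα, f₀, hf₀, hp⟩ := h.frat P hPT f hf
    obtain ⟨α', hα', hαα⟩ := hF.aut_push hTU hα rfl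
    refine ⟨α', hα', _, hE.fwd' hf₀, ?_⟩
    intro x' hx'
    obtain ⟨x, hx, hxS, rfl⟩ := mem_imageAlong.mp hx'
    show f' (afn θ x) = autFn α' (afn θ (f₀ (ainv θ (afn θ x))))
    rw [ainv_afn hinj hxS, hαα _ (hf₀.mem hx), ← hp x hx, hff x hx]
  · intro α' hα'
    obtain ⟨α, hα, hαα⟩ := hE.aut_pull le_rfl rfl hα'
    obtain ⟨β, hβ, hβ1, hβ2⟩ := h.ext α hα
    have hCS : centralizerIn U T ≤ S := le_trans (centralizerIn_le U T) hUS
    have hC := imageAlong_centralizerIn hinj hUS hTS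
    have hsup : imageAlong θ T ⊔ centralizerIn (imageAlong θ U) (imageAlong θ T) =
        imageAlong θ (T ⊔ centralizerIn U T) := by
      rw [imageAlong_sup θ hTS hCS, hC]
    obtain ⟨β', hβ', hββ⟩ := hF.aut_push (sup_le hTU (centralizerIn_le U T)) hβ hsup
    refine ⟨β', hβ', ?_, ?_⟩
    · intro x' hx'
      obtain ⟨x, hx, hxS, rfl⟩ := mem_imageAlong.mp hx'
      rw [hββ x ((le_sup_left : T ≤ T ⊔ centralizerIn U T) hx), hβ1 x hx, hαα x hx]
    · intro c' hc'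
      rw [← hC] at hc'
      obtain ⟨c, hc, hcS, rfl⟩ := mem_imageAlong.mp hc'
      have hcm : c ∈ T ⊔ centralizerIn U T := (le_sup_right : centralizerIn U T ≤ _) hc
      rw [hββ c hcm]
      have h3 := hβ2 c hc
      have hβc : autFn β c ∈ S :=
        le_trans (sup_le hTU (centralizerIn_le U T)) hUS (autFn_mem β hcm)
      rw [← afn_inv θ hcS, ← afn_mul θ (S.inv_mem hcS) hβc]
      obtain ⟨hzT, hzC⟩ := Subgroup.mem_inf.mp h3
      refine Subgroup.mem_inf.mpr ⟨mem_imageAlong.mpr ⟨_, hzT, hTS hzT, rfl⟩, ?_⟩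
      rw [Subgroup.mem_centralizer_iff]
      intro t' ht'
      obtain ⟨t, ht, htS, rfl⟩ := mem_imageAlong.mp ht'
      rw [← afn_mul θ htS (hTS hzT), ← afn_mul θ (hTS hzT) htS,
        (Subgroup.mem_centralizer_iff.mp hzC) t ht]

theorem normalIn [Finite S] {p : ℕ} [Fact p.Prime] (hS : IsPGroup p S) (hE : Push θ E E')
    (hF : Push θ F F') (h : E.IsNormalIn F p) : E'.IsNormalIn F' p := by
  have hn' := hE.normFn hF (normFn_of h)
  have : Finite T := finite_of_le hE.le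
  have : Finite U := finite_of_le hF.le
  exact hn'.normal (hE.saturated (hS.to_le hE.le) h.1.1) (hF.saturated (hS.to_le hF.le) h.1.2.1)

theorem unique {E'' : FusionSystem T'} (h1 : Push θ E E') (h2 : Push θ E E'') : E' = E'' := by
  apply fusionSystem_ext'
  intro P
  ext φ
  exact ⟨fun h => hom_of_mor_fn ((h2.hom _ _).mpr ((h1.hom _ _).mp (mor_of_hom h))),
    fun h => hom_of_mor_fn ((h1.hom _ _).mpr ((h2.hom _ _).mp (mor_of_hom h)))⟩

end Push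

theorem subnormal_push_aux [Finite S] {p : ℕ} {T U : Subgroup Ω} {E : FusionSystem T}
    {F : FusionSystem U} (hsn : E.IsSubnormalIn F p) :
    ∀ [Fact p.Prime], IsPGroup p S → ∀ (θ : S →* Ω') {T' U' : Subgroup Ω'}
      {E' : FusionSystem T'} {F' : FusionSystem U'}, Push θ E E' → Push θ F F' →
      E'.IsSubnormalIn F' p := by
  induction hsn with
  | refl F p =>
    intro _ hS θ T' U' E' F' hE hF
    have hg1 := hE.grp
    have hg2 := hF.grp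
    subst hg1
    subst hg2
    rw [hE.unique hF]
    exact IsSubnormalIn.refl _ _
  | @step V U₀ E₀ D F₀ p₀ h1 h2 ih =>
    intro _ hS θ T' U' E' F' hE hF
    have hVU : V ≤ U₀ := h2.1.2.2.2.1.1
    have hVS : V ≤ S := le_trans hVU hF.le
    have : Finite V := finite_of_le hVS
    obtain ⟨D', hD'⟩ := exists_push hF.inj hVS D
    exact IsSubnormalIn.step (ih hS θ hE hD') (hD'.normalIn hS hF h2)

end Cfsg.Agent.Helper27
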