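import Cfsg.Agent.Helper27.Iso3
import Cfsg.Agent.S5144

set_option autoImplicit false

namespace Cfsg.Agent.Helper27

open Cfsg Cfsg.FusionSystem

variable {Ω : Type*} [Group Ω] {S : Subgroup Ω} {Ω' : Type*} [Group Ω']

theorem imageAlong_bot (θ : S →* Ω') : imageAlong θ (⊥ : Subgroup Ω) = ⊥ := by
  ext y
  rw [mem_imageAlong, Subgroup.mem_bot]
  constructor
  · rintro ⟨x, hx, hxS, rfl⟩
    rw [Subgroup.mem_bot.mp hx]
    exact afn_one θ
  · intro hy
    exact ⟨1, Subgroup.one_mem _, S.one_mem, by rw [hy]; exact afn_one θ⟩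

theorem finite_imageAlong [Finite S] (θ : S →* Ω') (P : Subgroup Ω) :
    Finite ↥(imageAlong θ P) := by
  have hs : Function.Surjective (fun x : ↥(P.subgroupOf S) =>
      (⟨θ x, Subgroup.mem_map_of_mem θ x.2⟩ : ↥(imageAlong θ P))) := by
    rintro ⟨y, u, hu, rfl⟩
    exact ⟨⟨u, hu⟩, rfl⟩
  exact Finite.of_surjective _ hs

theorem isPGroup_imageAlong {p : ℕ} (hS : IsPGroup p S) (θ : S →* Ω') (P : Subgroup Ω) :
    IsPGroup p ↥(imageAlong θ P) :=
  (hS.to_subgroup (P.subgroupOf S)).map θ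

namespace Push

variable {θ : S →* Ω'} {T : Subgroup Ω} {E : FusionSystem T} {T' : Subgroup Ω'}
  {E' : FusionSystem T'}

theorem central (h : Push θ E E') {Q : Subgroup Ω} (hQ : E.IsCentral Q) :
    E'.IsCentral (imageAlong θ Q) := by
  have hinj := h.inj
  have hTS := h.le
  have hQT : Q ≤ T := hQ.1
  refine ⟨?_, ?_⟩
  · have h1 := h.grp
    rw [h1]
    exact imageAlong_mono θ hQT
  · intro P' φ' hφ'
    obtain ⟨P, f, hf, rfl, hff⟩ := (h.hom _ _).mp (mor_of_hom hφ')
    obtain ⟨g, hg, hgP, hgQ⟩ := central_extend hQ hf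
    have hPS : P ≤ S := le_trans hf.le hTS
    have hm := h.fwd' hg
    rw [imageAlong_sup θ hPS (le_trans hQT hTS)] at hm
    obtain ⟨ψ', hψ', hψ'g⟩ := hm
    refine ⟨ψ', hψ', ?_, ?_⟩
    · intro x
      obtain ⟨x₀, hx₀, hx₀S, hxe⟩ := mem_imageAlong.mp x.2
      rw [hψ'g]
      show afn θ (g (ainv θ (x : Ω'))) = φ' x
      rw [← hxe, ainv_afn hinj hx₀S, hgP x₀ hx₀, ← hff x₀ hx₀, hxe, fn_apply]
    · intro x
      obtain ⟨q, hq, hqS, hxe⟩ := mem_imageAlong.mp x.2
      rw [hψ'g]
      show afn θ (g (ainv θ (x : Ω'))) = x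
      rw [← hxe, ainv_afn hinj hqS, hgQ q hq]

theorem center_mem_iff [Finite S] (h : Push θ E E') {x : Ω} (hx : x ∈ T) :
    afn θ x ∈ E'.center ↔ x ∈ E.center := by
  have hinj := h.inj
  have hTS := h.le
  have : Finite T := finite_of_le hTS
  have hfin' : Finite T' := by
    have h1 := h.grp
    rw [h1]
    exact finite_imageAlong θ T
  constructor
  · intro hx'
    have hc := (h.symm hinj).central (Cfsg.Agent.S5144.result E')
    have h1 : imageAlong (invHom θ hinj) E'.center ≤ E.center := le_sSup hc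
    apply h1
    have hxS' : afn θ x ∈ imageAlong θ S := mem_imageAlong.mpr ⟨x, hTS hx, hTS hx, rfl⟩
    refine mem_imageAlong.mpr ⟨afn θ x, hx', hxS', ?_⟩
    rw [afn_invHom hinj hxS', ainv_afn hinj (hTS hx)]
  · intro hx'
    have hc := h.central (Cfsg.Agent.S5144.result E)
    have h1 : imageAlong θ E.center ≤ E'.center := le_sSup hc
    exact h1 (mem_imageAlong.mpr ⟨x, hx', hTS hx, rfl⟩)

theorem simple [Finite S] {p : ℕ} [Fact p.Prime] (hS : IsPGroup p S) (h : Push θ E E')
    (hs : E.IsSimple p) : E'.IsSimple p := by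
  have hinj := h.inj
  have hTS := h.le
  have hgrp := h.grp
  have : Finite T := finite_of_le hTS
  have hsym := h.symm hinj
  have hfinS' : Finite ↥(imageAlong θ S) := finite_imageAlong θ S
  have hpS' : IsPGroup p ↥(imageAlong θ S) := isPGroup_imageAlong hS θ S
  have hinj' := invHom_injective hinj
  refine ⟨h.saturated (hS.to_le hTS) hs.1, ?_, ?_⟩
  · intro hbot
    apply hs.2.1
    have h1 : imageAlong θ T = imageAlong θ ⊥ := by rw [imageAlong_bot, ← hgrp, hbot]
    exact imageAlong_inj hinj hTS bot_le h1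
  · intro V' N' hN'
    have hV'T' : V' ≤ T' := hN'.1.2.2.2.1.1
    have hT'S' : T' ≤ imageAlong θ S := hsym.le
    have hV'S' : V' ≤ imageAlong θ S := le_trans hV'T' hT'S'
    have : Finite V' := finite_of_le hV'S'
    obtain ⟨N, hN⟩ := exists_push hinj' hV'S' N'
    have hnorm := hN.normalIn hpS' hsym hN'
    rcases hs.2.2 _ N hnorm with h1 | ⟨h1, h2⟩
    · left
      rw [← imageAlong_bot (invHom θ hinj)] at h1
      exact imageAlong_inj hinj' hV'S' bot_le h1
    · right
      have hVT : V' = T' := by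
        have h3 : imageAlong (invHom θ hinj) V' = imageAlong (invHom θ hinj) T' := by
          rw [h1]
          exact hsym.grp
        exact imageAlong_inj hinj' hV'S' hT'S' h3
      refine ⟨hVT, fun P' => ?_⟩
      ext φ'
      constructor
      · intro hφ'
        exact hN'.1.2.2.1 P' hφ'
      · intro hφ'
        have hP'S' : P' ≤ imageAlong θ S := le_trans (E'.le_of_mem hφ').1 hT'S'
        have hm := hsym.fwd' (mor_of_hom hφ')
        have hm2 : Mor N (imageAlong (invHom θ hinj) P')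
            (fun y => afn (invHom θ hinj) (fn φ' (ainv (invHom θ hinj) y))) := by
          obtain ⟨ψ, hψ, hψg⟩ := hm
          rw [← h2] at hψ
          exact ⟨ψ, hψ, hψg⟩
        have hm3 := hN.bwd hP'S' hm2
        apply hom_of_mor_fn
        refine hm3.congr (fun y hy => ?_)
        have hyS' : y ∈ imageAlong θ S := hP'S' hy
        have hfy : fn φ' y ∈ imageAlong θ S := by
          rw [fn_of_mem φ' hy]
          exact hT'S' ((E'.le_of_mem hφ').2 _)
        show ainv (invHom θ hinj) (afn (invHom θ hinj)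
          (fn φ' (ainv (invHom θ hinj) (afn (invHom θ hinj) y)))) = fn φ' y
        rw [ainv_afn hinj' hyS', ainv_afn hinj' hfy]

end Push

/-- compatibility of an isomorphism of fusion systems with surjective morphisms out of both -/
theorem factor_push {Ω₁ : Type*} [Group Ω₁] {Ω₂ : Type*} [Group Ω₂] {θ : S →* Ω'}
    {U : Subgroup Ω} {C : FusionSystem U} {U' : Subgroup Ω'} {C' : FusionSystem U'}
    (h : Push θ C C')
    {π : U →* Ω₁} {V₁ : Subgroup Ω₁} {E₁ : FusionSystem V₁} (h₁ : SMor C E₁ π)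
    {π' : U' →* Ω₂} {V₂ : Subgroup Ω₂} {E₂ : FusionSystem V₂} (h₂ : SMor C' E₂ π')
    {ι : V₁ →* Ω₂} (hι : Function.Injective ι)
    (hK : ∀ x ∈ U, afn π' (afn θ x) = afn ι (afn π x)) : Push ι E₁ E₂ := by
  have hUS := h.le
  have hmemU' : ∀ x ∈ U, afn θ x ∈ U' := by
    intro x hx
    have h3 := h.smor.mem x hx
    rwa [afn_comp_incl θ hUS hx] at h3
  have hsurjU' : ∀ y ∈ U', ∃ x ∈ U, afn θ x = y := by
    intro y hy
    obtain ⟨x, hx, hxy⟩ := h.smor.surj y hy
    exact ⟨x, hx, by rw [← afn_comp_incl θ hUS hx]; exact hxy⟩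
  refine ⟨hι, le_rfl, ?_, ?_⟩
  · ext y'
    rw [mem_imageAlong]
    constructor
    · intro hy'
      obtain ⟨y, hy, rfl⟩ := h₂.surj y' hy'
      obtain ⟨x, hx, rfl⟩ := hsurjU' y hy
      exact ⟨afn π x, h₁.mem x hx, h₁.mem x hx, (hK x hx).symm⟩
    · rintro ⟨z, hz, -, rfl⟩
      obtain ⟨x, hx, rfl⟩ := h₁.surj z hz
      rw [← hK x hx]
      exact h₂.mem _ (hmemU' x hx)
  · intro P' f'
    constructor
    · intro hf'
      have hP'V : P' ≤ V₂ := hf'.le
      obtain ⟨g', hg', hg'f⟩ := h₂.pull P' f' hP'V hf'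
      obtain ⟨R, g, hg, hRR, hgg⟩ := (h.hom _ _).mp hg'
      obtain ⟨f, hf, hfg⟩ := h₁.push R g hg
      have hRU : R ≤ U := hg.le
      refine ⟨imageAlong π R, f, hf, ?_, ?_⟩
      · ext y'
        rw [mem_imageAlong]
        constructor
        · intro hy'
          obtain ⟨y, hy, rfl⟩ := h₂.surj y' (hP'V hy')
          have hyR : y ∈ preimageAlong π' P' := mem_preimageAlong.mpr ⟨hy, hy'⟩
          rw [hRR] at hyR
          obtain ⟨x, hx, hxS, rfl⟩ := mem_imageAlong.mp hyR
          exact ⟨afn π x, mem_imageAlong.mpr ⟨x, hx, hRU hx, rfl⟩, h₁.mem x (hRU hx),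
            (hK x (hRU hx)).symm⟩
        · rintro ⟨z, hz, -, rfl⟩
          obtain ⟨x, hx, hxU, rfl⟩ := mem_imageAlong.mp hz
          rw [← hK x hxU]
          have h3 : afn θ x ∈ preimageAlong π' P' := by
            rw [hRR]
            exact mem_imageAlong.mpr ⟨x, hx, hUS hxU, rfl⟩
          exact (mem_preimageAlong.mp h3).2
      · intro z hz
        obtain ⟨x, hx, hxU, rfl⟩ := mem_imageAlong.mp hz
        have hθx : afn θ x ∈ preimageAlong π' P' := by
          rw [hRR]
          exact mem_imageAlong.mpr ⟨x, hx, hUS hxU, rfl⟩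
        rw [← hK x hxU, hg'f _ hθx, hgg x hx, hK _ (hg.mem hx), hfg x hx]
    · rintro ⟨P, f, hf, rfl, hff⟩
      have hPV : P ≤ V₁ := hf.le
      obtain ⟨g, hg, hgf⟩ := h₁.pull P f hPV hf
      have hg'' := h.fwd' hg
      obtain ⟨f'', hf'', hf''g⟩ := h₂.push _ _ hg''
      have hRU : preimageAlong π P ≤ U := preimageAlong_le π P
      have hsub : imageAlong π' (imageAlong θ (preimageAlong π P)) = imageAlong ι P := by
        ext y'
        rw [mem_imageAlong, mem_imageAlong]
        constructor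
        · rintro ⟨y, hy, hyU', rfl⟩
          obtain ⟨x, hx, hxS, rfl⟩ := mem_imageAlong.mp hy
          have hxU := hRU hx
          exact ⟨afn π x, (mem_preimageAlong.mp hx).2, h₁.mem x hxU, (hK x hxU).symm⟩
        · rintro ⟨z, hz, hzV, rfl⟩
          obtain ⟨x, hx, rfl⟩ := h₁.surj z hzV
          exact ⟨afn θ x, mem_imageAlong.mpr ⟨x, mem_preimageAlong.mpr ⟨hx, hz⟩, hUS hx, rfl⟩,
            hmemU' x hx, hK x hx⟩
      rw [hsub] at hf''
      refine hf''.congr (fun y' hy' => ?_)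
      obtain ⟨z, hz, hzV, rfl⟩ := mem_imageAlong.mp hy'
      obtain ⟨x, hx, rfl⟩ := h₁.surj z hzV
      have hxR : x ∈ preimageAlong π P := mem_preimageAlong.mpr ⟨hx, hz⟩
      have h3 := hf''g (afn θ x) (mem_imageAlong.mpr ⟨x, hxR, hUS hx, rfl⟩)
      rw [hK x hx] at h3
      rw [h3, hff _ hz, hgf x hxR]
      show afn π' (afn θ (g (ainv θ (afn θ x)))) = _
      rw [ainv_afn h.inj (hUS hx), hK _ (hg.mem hxR)]

end Cfsg.Agent.Helper27
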