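import Cfsg.Agent.Helper27.Iso4
import Cfsg.Agent.S5134

set_option autoImplicit false

namespace Cfsg.Agent.Helper27

open Cfsg Cfsg.FusionSystem

variable {Ω : Type*} [Group Ω] {S : Subgroup Ω} {Ω' : Type*} [Group Ω']

namespace Push

theorem quasisimple [Finite S] {p : ℕ} [Fact p.Prime] (hS : IsPGroup p S) {θ : S →* Ω'}
    {U : Subgroup Ω} {C : FusionSystem U} {U' : Subgroup Ω'} {C' : FusionSystem U'}
    (h : Push θ C C') (hq : C.Quasisimple p) : C'.Quasisimple p := by
  have hinj := h.inj
  have hUS := h.le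
  have : Finite U := finite_of_le hUS
  have hpU : IsPGroup p U := hS.to_le hUS
  have hfinU' : Finite U' := by
    have h1 := h.grp
    rw [h1]
    exact finite_imageAlong θ U
  have hpU' : IsPGroup p U' := by
    have h1 := h.grp
    rw [h1]
    exact isPGroup_imageAlong hS θ U
  have hsat' := h.saturated hpU hq.1
  refine ⟨hsat', h.hyperfocal_top hq.2.1, ?_⟩
  intro E' hE'
  have hZc : C.IsCentral C.center := Cfsg.Agent.S5144.result C
  have hZsc : C.StronglyClosed C.center := central_stronglyClosed hZc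
  have hZc' : C'.IsCentral C'.center := Cfsg.Agent.S5144.result C'
  have hZsc' : C'.StronglyClosed C'.center := central_stronglyClosed hZc'
  have hker : ∀ s : U, QuotientGroup.mk' ((C.center).subgroupOf U) s = 1 ↔ (s : Ω) ∈ C.center := by
    intro s
    rw [QuotientGroup.mk'_apply, QuotientGroup.eq_one_iff]
    exact Subgroup.mem_subgroupOf
  have hrange : (QuotientGroup.mk' ((C.center).subgroupOf U)).range = ⊤ :=
    MonoidHom.range_eq_top.mpr (QuotientGroup.mk'_surjective _)
  obtain ⟨E₁, hE₁⟩ : ∃ E₁ : FusionSystem (⊤ : Subgroup (U ⧸ (C.center).subgroupOf U)),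
      C.IsFactorSystem C.center (QuotientGroup.mk' ((C.center).subgroupOf U)) E₁ :=
    ⟨factorSys C C.center hZsc (QuotientGroup.mk' ((C.center).subgroupOf U)) ⊤ hker hrange,
      isFactorSystem_factorSys C C.center hZsc _ ⊤ hker hrange⟩
  have hsim : E₁.IsSimple p := hq.2.2 E₁ hE₁
  have h₁ : SMor C E₁ (QuotientGroup.mk' ((C.center).subgroupOf U)) :=
    SMor.of_surjectiveMorphism (Cfsg.Agent.S5134.result p hpU C hq.1 C.center hZsc _ E₁ hE₁)
  have h₂ : SMor C' E' (QuotientGroup.mk' ((C'.center).subgroupOf U')) :=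
    SMor.of_surjectiveMorphism
      (Cfsg.Agent.S5134.result p hpU' C' hsat' C'.center hZsc' _ E' hE')
  have hmemU' : ∀ x ∈ U, afn θ x ∈ U' := by
    intro x hx
    have h3 := h.smor.mem x hx
    rwa [afn_comp_incl θ hUS hx] at h3
  let τ : U →* U' := MonoidHom.mk' (fun x => ⟨afn θ x, hmemU' x x.2⟩) (by
    intro a b
    apply Subtype.ext
    exact afn_mul θ (hUS a.2) (hUS b.2))
  have hτ : (C.center).subgroupOf U ≤ ((C'.center).subgroupOf U').comap τ := by
    intro u hu
    rw [Subgroup.mem_comap]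
    exact Subgroup.mem_subgroupOf.mpr
      ((h.center_mem_iff u.2).mpr (Subgroup.mem_subgroupOf.mp hu))
  have hᾱinj : Function.Injective
      (QuotientGroup.map ((C.center).subgroupOf U) ((C'.center).subgroupOf U') τ hτ) := by
    rw [injective_iff_map_eq_one]
    intro q hq1
    induction q using QuotientGroup.induction_on with
    | H u =>
      rw [QuotientGroup.map_mk, QuotientGroup.eq_one_iff] at hq1
      rw [QuotientGroup.eq_one_iff]
      exact Subgroup.mem_subgroupOf.mpr
        ((h.center_mem_iff u.2).mp (Subgroup.mem_subgroupOf.mp hq1))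
  obtain ⟨ι, hι, hK⟩ : ∃ ι : ↥(⊤ : Subgroup (U ⧸ (C.center).subgroupOf U)) →*
      U' ⧸ (C'.center).subgroupOf U', Function.Injective ι ∧
      ∀ x ∈ U, afn (QuotientGroup.mk' ((C'.center).subgroupOf U')) (afn θ x) =
        afn ι (afn (QuotientGroup.mk' ((C.center).subgroupOf U)) x) := by
    refine ⟨(QuotientGroup.map ((C.center).subgroupOf U) ((C'.center).subgroupOf U') τ hτ).comp
      (⊤ : Subgroup (U ⧸ (C.center).subgroupOf U)).subtype,
      hᾱinj.comp Subtype.val_injective, ?_⟩
    intro x hx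
    rw [afn_of_mem _ (hmemU' x hx), afn_of_mem (QuotientGroup.mk' ((C.center).subgroupOf U)) hx,
      afn_of_mem _ (Subgroup.mem_top _)]
    rfl
  have hpush : Push ι E₁ E' := factor_push h h₁ h₂ hι hK
  have hpT : IsPGroup p ↥(⊤ : Subgroup (U ⧸ (C.center).subgroupOf U)) :=
    (hpU.to_quotient ((C.center).subgroupOf U)).to_subgroup ⊤
  exact hpush.simple hpT hsim

theorem component [Finite S] {p : ℕ} [Fact p.Prime] (hS : IsPGroup p S) {θ : S →* Ω'}
    {T U : Subgroup Ω} {C : FusionSystem T} {F : FusionSystem U} {T' U' : Subgroup Ω'}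
    {C' : FusionSystem T'} {F' : FusionSystem U'} (hC : Push θ C C') (hF : Push θ F F')
    (h : C.IsComponentIn F p) : C'.IsComponentIn F' p :=
  ⟨subnormal_push_aux h.1 hS θ hC hF, hC.quasisimple hS h.2⟩

end Push

end Cfsg.Agent.Helper27
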