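import Cfsg.Agent.Helper27.Iso5

set_option autoImplicit false

namespace Cfsg.Agent.Helper27

open Cfsg Cfsg.FusionSystem

variable {Ω : Type*} [Group Ω] {S : Subgroup Ω}

theorem iso_subnormal_le {p : ℕ} {T U : Subgroup Ω} {E : FusionSystem T} {F : FusionSystem U}
    (h : E.IsSubnormalIn F p) : T ≤ U := by
  induction h with
  | refl F p => exact le_rfl
  | @step V U₀ E₀ D F₀ p₀ h1 h2 ih => exact le_trans ih h2.1.2.2.2.1.1

theorem imageAlong_round {θ θ₂ : S →* Ω}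
    (h12 : ∀ x ∈ S, afn θ₂ x ∈ S ∧ afn θ (afn θ₂ x) = x) {P : Subgroup Ω} (hP : P ≤ S) :
    imageAlong θ (imageAlong θ₂ P) = P := by
  ext y
  rw [mem_imageAlong]
  constructor
  · rintro ⟨z, hz, hzS, rfl⟩
    obtain ⟨x, hx, hxS, rfl⟩ := mem_imageAlong.mp hz
    rw [(h12 x hxS).2]
    exact hx
  · intro hy
    exact ⟨afn θ₂ y, mem_imageAlong.mpr ⟨y, hy, hP hy, rfl⟩, (h12 y (hP hy)).1, (h12 y (hP hy)).2⟩

/-- an automorphism of `S` that is a morphism of `F` in both directions carries `F` to itself -/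
theorem push_self_of_morphism {F : FusionSystem S} {θ θ₂ : S →* Ω} (hinj : Function.Injective θ)
    (h12 : ∀ x ∈ S, afn θ₂ x ∈ S ∧ afn θ (afn θ₂ x) = x)
    (h21 : ∀ x ∈ S, afn θ x ∈ S ∧ afn θ₂ (afn θ x) = x)
    (hm : F.IsMorphism F θ) (hm₂ : F.IsMorphism F θ₂) : Push θ F F := by
  refine ⟨hinj, le_rfl, ?_, ?_⟩
  · ext y
    rw [mem_imageAlong]
    constructor
    · intro hy
      exact ⟨afn θ₂ y, (h12 y hy).1, (h12 y hy).1, (h12 y hy).2⟩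
    · rintro ⟨x, hx, -, rfl⟩
      exact (h21 x hx).1
  · intro P' f'
    constructor
    · rintro ⟨φ', hφ', hφ'f⟩
      obtain ⟨φ, hφ, hP', hφ'S, hPP, hind⟩ := hm₂.2 P' φ' hφ'
      refine ⟨imageAlong θ₂ P', fn φ, mor_of_hom hφ, (imageAlong_round h12 hP').symm, ?_⟩
      intro x hx
      obtain ⟨y, hy, hyS, rfl⟩ := mem_imageAlong.mp hx
      have h1 := hind ⟨y, hy⟩
      rw [(h12 y hyS).2, ← hφ'f ⟨y, hy⟩, fn_of_mem φ hx]
      have h2 : (⟨afn θ₂ y, hx⟩ : ↥(imageAlong θ₂ P')) = ⟨θ₂ ⟨y, hP' hy⟩, hPP ⟨y, hy⟩⟩ :=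
        Subtype.ext (afn_of_mem θ₂ hyS)
      rw [h2, h1, ← afn_of_mem θ₂ (hφ'S ⟨y, hy⟩), (h12 _ (hφ'S ⟨y, hy⟩)).2]
    · rintro ⟨P, f, ⟨φ, hφ, hφf⟩, rfl, hff⟩
      obtain ⟨φ', hφ', hP, hφS, hPP, hind⟩ := hm.2 P φ hφ
      refine ⟨φ', hφ', fun y => ?_⟩
      obtain ⟨x, hx, hxS, hxy⟩ := mem_imageAlong.mp y.2
      have h1 := hind ⟨x, hx⟩
      have h2 : y = ⟨θ ⟨x, hP hx⟩, hPP ⟨x, hx⟩⟩ :=
        Subtype.ext (hxy.symm.trans (afn_of_mem θ hxS))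
      rw [h2, h1]
      show θ ⟨φ ⟨x, hx⟩, _⟩ = f' (θ ⟨x, hP hx⟩)
      rw [← afn_of_mem θ (hφS ⟨x, hx⟩), ← afn_of_mem θ (hP hx), hff x hx, ← hφf ⟨x, hx⟩]

theorem layer_le_push [Finite S] {p : ℕ} [Fact p.Prime] (hS : IsPGroup p S) {F : FusionSystem S}
    {θ θ₂ : S →* Ω} (hinj : Function.Injective θ) (hinj₂ : Function.Injective θ₂)
    (h12 : ∀ x ∈ S, afn θ₂ x ∈ S ∧ afn θ (afn θ₂ x) = x)
    (hFF : Push θ F F) (hFF₂ : Push θ₂ F F) {T : Subgroup Ω} {E : FusionSystem T}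
    (hE : E.IsLayerOf F p) {T₁ : Subgroup Ω} {E₁ : FusionSystem T₁} (hE₁ : Push θ E E₁) :
    E.IsSubsystemOf E₁ := by
  obtain ⟨hEn, hEc, hEmin⟩ := hE
  have hn₁ : E₁.IsNormalIn F p := hE₁.normalIn hS hFF hEn
  refine hEmin _ E₁ hn₁ ?_
  intro U C hC
  have hUS : U ≤ S := iso_subnormal_le hC.1
  have : Finite U := finite_of_le hUS
  obtain ⟨C₂, hC₂⟩ := exists_push hinj₂ hUS C
  have hcomp : C₂.IsComponentIn F p := hC₂.component hS hFF₂ hC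
  have hsub : C₂.IsSubsystemOf E := hEc _ C₂ hcomp
  intro P φ hφ
  have hm := hC₂.fwd' (mor_of_hom hφ)
  have hm2 := hm.of_subsystem hsub
  have hm3 := hE₁.fwd' hm2
  have hPS : P ≤ S := le_trans (C.le_of_mem hφ).1 hUS
  rw [imageAlong_round h12 hPS] at hm3
  apply hom_of_mor_fn
  refine hm3.congr (fun x hx => ?_)
  have hxS : x ∈ S := hPS hx
  have hfS : fn φ x ∈ S := by
    rw [fn_of_mem φ hx]
    exact hUS ((C.le_of_mem hφ).2 _)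
  show afn θ (afn θ₂ (fn φ (ainv θ₂ (ainv θ x)))) = fn φ x
  have h1 : ainv θ x = afn θ₂ x := by
    conv_lhs => rw [← (h12 x hxS).2]
    exact ainv_afn hinj (h12 x hxS).1
  rw [h1, ainv_afn hinj₂ hxS, (h12 _ hfS).2]

end Cfsg.Agent.Helper27
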