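import Cfsg.Agent.Helper27.Iso6

set_option autoImplicit false

namespace Cfsg.Agent.Helper27

open Cfsg Cfsg.FusionSystem

variable {Ω : Type*} [Group Ω]

theorem afn_aut {V : Subgroup Ω} (α : MulAut V) {x : Ω} (hx : x ∈ V) :
    afn (V.subtype.comp α.toMonoidHom) x = autFn α x := by
  rw [afn_of_mem _ hx, autFn_of_mem α hx]
  rfl

theorem autFn_inv_left {V : Subgroup Ω} (α : MulAut V) {x : Ω} (hx : x ∈ V) :
    autFn α⁻¹ (autFn α x) = x := by
  rw [autFn_of_mem α hx, autFn_apply]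
  rw [MulAut.inv_apply_self]

theorem autFn_inv_right {V : Subgroup Ω} (α : MulAut V) {x : Ω} (hx : x ∈ V) :
    autFn α (autFn α⁻¹ x) = x := by
  rw [autFn_of_mem α⁻¹ hx, autFn_apply]
  rw [MulAut.apply_inv_self]

/-- conjugation by an automorphism of the system preserves the system -/
theorem inv_self {U : Subgroup Ω} {F : FusionSystem U} {P : Subgroup Ω} {f : Ω → Ω}
    (hf : Mor F P f) {α : MulAut U} (hα : α ∈ F.autGroup U) :
    ∃ g, Mor F ((P.subgroupOf U).map (U.subtype.comp α.toMonoidHom)) g ∧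
      ∀ x ∈ P, g (autFn α x) = autFn α (f x) := by
  have ha : Mor F U (autFn α) := (mem_autGroup_iff le_rfl α).mp hα
  have ha' : Mor F U (autFn α⁻¹) := (mem_autGroup_iff le_rfl α⁻¹).mp (inv_mem hα)
  have hPU : P ≤ U := hf.le
  have hle : (P.subgroupOf U).map (U.subtype.comp α.toMonoidHom) ≤ U := by
    intro y hy
    obtain ⟨x, hx, hxU, rfl⟩ := (mem_amap α).mp hy
    exact autFn_mem α hxU
  have h1 : Mor F ((P.subgroupOf U).map (U.subtype.comp α.toMonoidHom)) (f ∘ autFn α⁻¹) := by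
    refine (ha'.restrict hle).comp hf ?_
    intro y hy
    obtain ⟨x, hx, hxU, rfl⟩ := (mem_amap α).mp hy
    rw [autFn_inv_left α hxU]
    exact hx
  have h2 : Mor F ((P.subgroupOf U).map (U.subtype.comp α.toMonoidHom))
      (autFn α ∘ (f ∘ autFn α⁻¹)) := by
    refine h1.comp ha ?_
    intro y hy
    exact h1.mem hy
  refine ⟨_, h2, fun x hx => ?_⟩
  show autFn α (f (autFn α⁻¹ (autFn α x))) = autFn α (f x)
  rw [autFn_inv_left α (hPU hx)]

/-- a subsystem invariant under an automorphism (and its inverse) is carried to itself -/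
theorem push_self_of_inv {V : Subgroup Ω} {D : FusionSystem V} {A : Subgroup (MulAut V)}
    (hinv : ∀ (P : Subgroup Ω) (f : Ω → Ω), Mor D P f → ∀ α ∈ A,
      ∃ g, Mor D ((P.subgroupOf V).map (V.subtype.comp α.toMonoidHom)) g ∧
        ∀ x ∈ P, g (autFn α x) = autFn α (f x))
    {α : MulAut V} (hα : α ∈ A) : Push (V.subtype.comp α.toMonoidHom) D D := by
  have hα' : α⁻¹ ∈ A := inv_mem hα
  have hinj : Function.Injective (V.subtype.comp α.toMonoidHom) :=
    Subtype.val_injective.comp α.injective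
  have h12 : ∀ x ∈ V, afn (V.subtype.comp α⁻¹.toMonoidHom) x ∈ V ∧
      afn (V.subtype.comp α.toMonoidHom) (afn (V.subtype.comp α⁻¹.toMonoidHom) x) = x := by
    intro x hx
    rw [afn_aut α⁻¹ hx, afn_aut α (autFn_mem α⁻¹ hx)]
    exact ⟨autFn_mem α⁻¹ hx, autFn_inv_right α hx⟩
  have h21 : ∀ x ∈ V, afn (V.subtype.comp α.toMonoidHom) x ∈ V ∧
      afn (V.subtype.comp α⁻¹.toMonoidHom) (afn (V.subtype.comp α.toMonoidHom) x) = x := by
    intro x hx
    rw [afn_aut α hx, afn_aut α⁻¹ (autFn_mem α hx)]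
    exact ⟨autFn_mem α hx, autFn_inv_left α hx⟩
  refine ⟨hinj, le_rfl, ?_, ?_⟩
  · ext y
    rw [mem_imageAlong]
    constructor
    · intro hy
      exact ⟨_, (h12 y hy).1, (h12 y hy).1, (h12 y hy).2⟩
    · rintro ⟨x, hx, -, rfl⟩
      exact (h21 x hx).1
  · intro P' f'
    constructor
    · intro hf'
      have hP'V : P' ≤ V := hf'.le
      obtain ⟨g, hg, hgp⟩ := hinv P' f' hf' α⁻¹ hα'
      refine ⟨imageAlong (V.subtype.comp α⁻¹.toMonoidHom) P', g, hg,
        (imageAlong_round h12 hP'V).symm, ?_⟩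
      intro x hx
      obtain ⟨y, hy, hyV, rfl⟩ := mem_imageAlong.mp hx
      rw [(h12 y hyV).2, afn_aut α⁻¹ hyV, hgp y hy, ← afn_aut α⁻¹ (hf'.mem hy),
        (h12 _ (hf'.mem hy)).2]
    · rintro ⟨P, f, hf, rfl, hff⟩
      obtain ⟨g, hg, hgp⟩ := hinv P f hf α hα
      have hPV : P ≤ V := hf.le
      refine Mor.congr (P := imageAlong (V.subtype.comp α.toMonoidHom) P) hg (fun y hy => ?_)
      obtain ⟨x, hx, hxV, rfl⟩ := mem_imageAlong.mp hy
      rw [hff x hx, afn_aut α hxV, hgp x hx, afn_aut α (hf.mem hx)]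

theorem imageAlong_comp_rel {T V : Subgroup Ω} {φ φ₀ : T →* Ω} {θ : V →* Ω}
    (hV : imageAlong φ₀ T ≤ V) (hrel : ∀ x ∈ T, afn φ x = afn θ (afn φ₀ x)) {P : Subgroup Ω}
    (hP : P ≤ T) : imageAlong φ P = imageAlong θ (imageAlong φ₀ P) := by
  ext y
  rw [mem_imageAlong, mem_imageAlong]
  constructor
  · rintro ⟨x, hx, hxT, rfl⟩
    exact ⟨afn φ₀ x, mem_imageAlong.mpr ⟨x, hx, hxT, rfl⟩,
      hV (mem_imageAlong.mpr ⟨x, hxT, hxT, rfl⟩), (hrel x hxT).symm⟩
  · rintro ⟨z, hz, hzV, rfl⟩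
    obtain ⟨x, hx, hxT, rfl⟩ := mem_imageAlong.mp hz
    exact ⟨x, hx, hxT, hrel x hxT⟩

theorem Push.comp_right {T V T₀ T' : Subgroup Ω} {C : FusionSystem T} {φ φ₀ : T →* Ω}
    {θ : V →* Ω} {E₀ : FusionSystem T₀} {E' : FusionSystem T'} (hC₀ : Push φ₀ C E₀)
    (hC : Push φ C E') (hθ : Function.Injective θ) (hV : T₀ ≤ V)
    (hrel : ∀ x ∈ T, afn φ x = afn θ (afn φ₀ x)) : Push θ E₀ E' := by
  have hg0 := hC₀.grp
  have hV' : imageAlong φ₀ T ≤ V := hg0 ▸ hV
  refine ⟨hθ, hV, ?_, ?_⟩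
  · rw [hC.grp, hg0]
    exact imageAlong_comp_rel hV' hrel le_rfl
  · intro P' f'
    constructor
    · intro hf'
      obtain ⟨P, f, hf, rfl, hff⟩ := (hC.hom _ _).mp hf'
      refine ⟨imageAlong φ₀ P, _, hC₀.fwd' hf, imageAlong_comp_rel hV' hrel hf.le, ?_⟩
      intro y hy
      obtain ⟨x, hx, hxT, rfl⟩ := mem_imageAlong.mp hy
      show f' (afn θ (afn φ₀ x)) = afn θ (afn φ₀ (f (ainv φ₀ (afn φ₀ x))))
      rw [ainv_afn hC₀.inj hxT, ← hrel x hxT, ← hrel _ (hf.mem hx), hff x hx]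
    · rintro ⟨P₀, f₀, hf₀, rfl, hff₀⟩
      obtain ⟨P, f, hf, rfl, hff⟩ := (hC₀.hom _ _).mp hf₀
      rw [← imageAlong_comp_rel hV' hrel hf.le]
      refine hC.fwd hf (fun x hx => ?_)
      have hxT := hf.le hx
      rw [hrel x hxT, hff₀ _ (mem_imageAlong.mpr ⟨x, hx, hxT, rfl⟩), hff x hx,
        hrel _ (hf.mem hx)]

theorem push_of_factor_bot {Ω' : Type*} [Group Ω'] {T : Subgroup Ω} {C : FusionSystem T}
    {γ : T →* Ω'} {T' : Subgroup Ω'} {E : FusionSystem T'} (h : C.IsFactorSystem ⊥ γ E) :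
    Push γ C E := by
  obtain ⟨-, hker, hrange, hHom⟩ := h
  have hinj : Function.Injective γ := by
    rw [injective_iff_map_eq_one]
    intro s hs
    exact Subtype.ext (Subgroup.mem_bot.mp ((hker s).mp hs))
  have hgrp : T' = imageAlong γ T := by
    rw [← hrange]
    ext y
    rw [mem_imageAlong]
    constructor
    · rintro ⟨s, rfl⟩
      exact ⟨s, s.2, s.2, afn_of_mem γ s.2⟩
    · rintro ⟨x, hx, hxS, rfl⟩
      exact ⟨⟨x, hx⟩, (afn_of_mem γ hxS).symm⟩
  refine ⟨hinj, le_rfl, hgrp, ?_⟩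
  intro P' f'
  constructor
  · rintro ⟨φ', hφ', hφf⟩
    obtain ⟨hP', f, hf, hff⟩ := mem_facHom_iff.mp ((hHom P' φ').mp hφ')
    refine ⟨preimageAlong γ P', f, hf, ?_, ?_⟩
    · ext y
      constructor
      · intro hy
        have hy2 : y ∈ imageAlong γ T := hgrp ▸ hP' hy
        obtain ⟨x, hx, hxT, rfl⟩ := mem_imageAlong.mp hy2
        exact mem_imageAlong.mpr ⟨x, mem_preimageAlong.mpr ⟨hx, hy⟩, hx, rfl⟩
      · intro hy
        obtain ⟨x, hx, hxT, rfl⟩ := mem_imageAlong.mp hy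
        exact (mem_preimageAlong.mp hx).2
    · intro x hx
      have h1 := hff x hx
      have h2 := (mem_preimageAlong.mp hx).2
      rw [fn_of_mem φ' h2, hφf] at h1
      exact h1
  · rintro ⟨P, f, hf, rfl, hff⟩
    obtain ⟨φ', hφ'⟩ := exists_hom_of_push_eq le_rfl hf hff
    refine ⟨φ', (hHom _ φ').mpr (mem_facHom_iff.mpr ?_), hφ'⟩
    have hPT : P ≤ T := hf.le
    have hpre : preimageAlong γ (imageAlong γ P) = P := by
      ext x
      rw [mem_preimageAlong]
      constructor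
      · rintro ⟨hxT, hx⟩
        exact (mem_imageAlong_afn hinj hxT).mp hx
      · intro hx
        exact ⟨hPT hx, (mem_imageAlong_afn hinj (hPT hx)).mpr hx⟩
    refine ⟨?_, f, ?_, ?_⟩
    · rw [hgrp]
      exact imageAlong_mono γ hPT
    · rw [hpre]
      exact hf
    · rw [hpre]
      intro x hx
      have hx' : afn γ x ∈ imageAlong γ P := (mem_imageAlong_afn hinj (hPT hx)).mpr hx
      rw [fn_of_mem φ' hx']
      exact (hφ' ⟨_, hx'⟩).trans (hff x hx)

/-- the image of a subnormal subsystem under a map of the big system is subnormal -/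
theorem subnormal_conj {p : ℕ} {T U : Subgroup Ω} {C : FusionSystem T} {F : FusionSystem U}
    (hsn : C.IsSubnormalIn F p) :
    ∀ [Fact p.Prime], Finite U → IsPGroup p U → ∀ (φ : T →* Ω), φ ∈ F.Hom T →
      ∀ {T' : Subgroup Ω} (E' : FusionSystem T'), Push φ C E' → E'.IsSubnormalIn F p := by
  induction hsn with
  | refl F p =>
    intro _ hfin hU φ hφ T' E' hE'
    have hmaps : ∀ x ∈ T, fn φ x ∈ T := by
      intro x hx
      rw [fn_of_mem φ hx]
      exact (F.le_of_mem hφ).2 _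
    obtain ⟨α, hα, hαf⟩ := exists_aut_of_mor (mor_of_hom hφ) hmaps
    have hφα : φ = T.subtype.comp α.toMonoidHom := by
      apply MonoidHom.ext
      intro x
      have h1 := hαf x
      rw [fn_apply] at h1
      exact h1.symm
    have hFF : Push (T.subtype.comp α.toMonoidHom) F F :=
      push_self_of_inv (A := F.autGroup T) (fun P f hf β hβ => inv_self hf hβ) hα
    rw [hφα] at hE'
    have hT' : T' = T := hE'.grp.trans hFF.grp.symm
    subst hT'
    rw [hE'.unique hFF]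
    exact IsSubnormalIn.refl _ _
  | @step V U₀ E₀ D F₀ p₀ h1 h2 ih =>
    intro _ hfin hU φ hφ T' E' hE'
    have hn := normFn_of h2
    have hVU : V ≤ U₀ := hn.sc.1
    have hTV : T ≤ V := iso_subnormal_le h1
    have hfinV : Finite V := finite_of_le hVU
    have hpV : IsPGroup p₀ V := hU.to_le hVU
    have : Finite T := finite_of_le hTV
    obtain ⟨α, hα, f₀, ⟨φ₀, hφ₀, hφ₀f⟩, hp⟩ := hn.frat T hTV (fn φ) (mor_of_hom hφ)
    have hinj₀ : Function.Injective φ₀ := D.injective_of_mem hφ₀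
    obtain ⟨C₀, hC₀⟩ := exists_push hinj₀ (le_refl T) E₀
    have hsn₀ : C₀.IsSubnormalIn D p₀ := ih hfinV hpV φ₀ hφ₀ C₀ hC₀
    have hDD : Push (V.subtype.comp α.toMonoidHom) D D :=
      push_self_of_inv (A := F₀.autGroup V) hn.inv hα
    have hC₀V : imageAlong φ₀ T ≤ V := by
      intro y hy
      obtain ⟨x, hx, -, rfl⟩ := mem_imageAlong.mp hy
      rw [afn_of_mem φ₀ hx]
      exact (D.le_of_mem hφ₀).2 _
    have hrel : ∀ x ∈ T, afn φ x = afn (V.subtype.comp α.toMonoidHom) (afn φ₀ x) := by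
      intro x hx
      have h3 := hp x hx
      rw [fn_of_mem φ hx, ← hφ₀f ⟨x, hx⟩] at h3
      have h4 : afn φ₀ x ∈ V := hC₀V (mem_imageAlong.mpr ⟨x, hx, hx, rfl⟩)
      rw [afn_of_mem φ hx, afn_aut α h4, afn_of_mem φ₀ hx]
      exact h3
    have hcomp : Push (V.subtype.comp α.toMonoidHom) C₀ E' :=
      hC₀.comp_right hE' hDD.inj hC₀V hrel
    exact IsSubnormalIn.step (subnormal_push_aux hsn₀ hpV _ hcomp hDD) h2

end Cfsg.Agent.Helper27
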