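import Cfsg.Agent.Helper27.OrderPCube

set_option autoImplicit false

namespace Cfsg.Agent.Helper27

open scoped commutatorElement

section
variable {G : Type*} [Group G]

/-- the elements whose commutator with `g` lies in the normal subgroup `N` -/
def brackSub (g : G) (N : Subgroup G) (hN : N.Normal) : Subgroup G where
  carrier := {y | ⁅g, y⁆ ∈ N}
  mul_mem' := by
    intro a b ha hb
    have e : ⁅g, a * b⁆ = ⁅g, a⁆ * (a * ⁅g, b⁆ * a⁻¹) := by
      simp only [commutatorElement_def]; group
    show ⁅g, a * b⁆ ∈ N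
    rw [e]
    exact Subgroup.mul_mem _ ha (hN.conj_mem _ hb a)
  one_mem' := by
    show ⁅g, (1 : G)⁆ ∈ N
    rw [commutatorElement_one_right]
    exact Subgroup.one_mem _
  inv_mem' := by
    intro a ha
    have e : ⁅g, a⁻¹⁆ = a⁻¹ * ⁅g, a⁆⁻¹ * a⁻¹⁻¹ := by
      simp only [commutatorElement_def]; group
    show ⁅g, a⁻¹⁆ ∈ N
    rw [e]
    exact hN.conj_mem _ (Subgroup.inv_mem _ ha) a⁻¹

theorem mem_brackSub {g : G} {N : Subgroup G} {hN : N.Normal} {y : G} :
    y ∈ brackSub g N hN ↔ ⁅g, y⁆ ∈ N := Iff.rfl

theorem ucs_stable {i : ℕ}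
    (h : Subgroup.upperCentralSeries G (i + 1) = Subgroup.upperCentralSeries G i) (j : ℕ) :
    Subgroup.upperCentralSeries G (i + j) = Subgroup.upperCentralSeries G i := by
  induction j with
  | zero => rfl
  | succ j ih =>
    rw [← h]
    ext x
    rw [← add_assoc, Subgroup.mem_upperCentralSeries_succ_iff,
      Subgroup.mem_upperCentralSeries_succ_iff, ih]

theorem ucs_lt [Group.IsNilpotent G] {i : ℕ} (h : Subgroup.upperCentralSeries G i ≠ ⊤) :
    Subgroup.upperCentralSeries G i < Subgroup.upperCentralSeries G (i + 1) := by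
  refine lt_of_le_of_ne (Subgroup.upperCentralSeries_mono G (Nat.le_succ i)) (fun heq => h ?_)
  obtain ⟨N, hN⟩ := Group.IsNilpotent.nilpotent (G := G)
  have h1 := ucs_stable heq.symm N
  have h2 : Subgroup.upperCentralSeries G N ≤ Subgroup.upperCentralSeries G (i + N) :=
    Subgroup.upperCentralSeries_mono G (Nat.le_add_left N i)
  rw [hN, h1] at h2
  exact top_le_iff.mp h2

/-- a term `Z_{i+1}` of the upper central series never has prime index -/
theorem ucs_index_ne_prime {p : ℕ} (hp : p.Prime) (i : ℕ) :
    (Subgroup.upperCentralSeries G (i + 1)).index ≠ p := by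
  intro hidx
  have hne : Subgroup.upperCentralSeries G (i + 1) ≠ ⊤ := by
    intro h
    rw [h, Subgroup.index_top] at hidx
    exact hp.one_lt.ne hidx
  obtain ⟨g, hg⟩ : ∃ g, g ∉ Subgroup.upperCentralSeries G (i + 1) := by
    by_contra hall
    push Not at hall
    exact hne (eq_top_iff.mpr (fun x _ => hall x))
  have hN : (Subgroup.upperCentralSeries G i).Normal := inferInstance
  obtain ⟨H, hHdef⟩ : ∃ H : Subgroup G, H = brackSub g (Subgroup.upperCentralSeries G i) hN := ⟨_, rfl⟩
  have hZH : Subgroup.upperCentralSeries G (i + 1) ≤ H := by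
    intro u hu
    have h1 := Subgroup.mem_upperCentralSeries_succ_iff.mp hu g
    rw [hHdef, mem_brackSub, ← commutatorElement_inv]
    exact Subgroup.inv_mem _ h1
  have hgH : g ∈ H := by
    rw [hHdef, mem_brackSub, commutatorElement_self]
    exact Subgroup.one_mem _
  have htop : H = ⊤ := eq_top_of_prime_index hp hZH hidx hgH hg
  apply hg
  rw [Subgroup.mem_upperCentralSeries_succ_iff]
  intro y
  have hy : y ∈ H := htop ▸ Subgroup.mem_top y
  rw [hHdef, mem_brackSub] at hy
  exact hy

/-- in a group of order `p^n` whose `(n-2)`-nd upper central term is proper, the `i`-th upper central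
term has order `p^i` for `i ≤ n - 2` -/
theorem ucs_card [Finite G] {p : ℕ} [Fact p.Prime] (hG : IsPGroup p G) {n : ℕ}
    (hn : Nat.card G = p ^ n) (h3 : 3 ≤ n) (hU : Subgroup.upperCentralSeries G (n - 2) ≠ ⊤) :
    ∀ i, i ≤ n - 2 → Nat.card (Subgroup.upperCentralSeries G i) = p ^ i := by
  have hp := (Fact.out : p.Prime)
  haveI : Group.IsNilpotent G := hG.isNilpotent
  obtain ⟨m, hm⟩ : ∃ m, m = n - 2 := ⟨_, rfl⟩
  rw [← hm] at hU ⊢
  have hne : ∀ i ≤ m, Subgroup.upperCentralSeries G i ≠ ⊤ := by
    intro i hi h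
    have h1 := Subgroup.upperCentralSeries_mono G hi
    rw [h] at h1
    exact hU (top_le_iff.mp h1)
  have hpow : ∀ H : Subgroup G, ∃ k, Nat.card H = p ^ k :=
    fun H => (hG.to_subgroup H).exists_card_eq
  have hlt : ∀ i ≤ m, Nat.card (Subgroup.upperCentralSeries G i) <
      Nat.card (Subgroup.upperCentralSeries G (i + 1)) := by
    intro i hi
    have h1 := ucs_lt (hne i hi)
    by_contra hc
    push Not at hc
    exact h1.ne (Subgroup.eq_of_le_of_card_ge h1.le hc)
  have htop : Nat.card (Subgroup.upperCentralSeries G m) ≤ p ^ m := by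
    obtain ⟨k, hk⟩ := hpow (Subgroup.upperCentralSeries G m)
    have hidx : Nat.card (Subgroup.upperCentralSeries G m) *
        (Subgroup.upperCentralSeries G m).index = p ^ n := by
      rw [Subgroup.card_mul_index, hn]
    have hkn : k ≤ n := by
      have h1 : p ^ k ∣ p ^ n := by
        rw [← hk, ← hidx]
        exact dvd_mul_right _ _
      exact (Nat.pow_dvd_pow_iff_le_right hp.one_lt).mp h1
    have hidx' : (Subgroup.upperCentralSeries G m).index = p ^ (n - k) := by
      have h1 : p ^ k * (Subgroup.upperCentralSeries G m).index = p ^ k * p ^ (n - k) := by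
        rw [← hk, hidx, hk, ← pow_add]
        congr 1
        omega
      exact Nat.eq_of_mul_eq_mul_left (pow_pos hp.pos k) h1
    have h1 : n - k ≠ 0 := by
      intro h0
      rw [h0, pow_zero] at hidx'
      exact hne m le_rfl (Subgroup.index_eq_one.mp hidx')
    have h2 : n - k ≠ 1 := by
      intro h0
      rw [h0, pow_one] at hidx'
      obtain ⟨m', hm'⟩ : ∃ m', m = m' + 1 := ⟨m - 1, by omega⟩
      rw [hm'] at hidx'
      exact ucs_index_ne_prime hp m' hidx'
    rw [hk]
    exact Nat.pow_le_pow_right hp.pos (by omega)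
  have hup : ∀ i, i ≤ m → p ^ i ≤ Nat.card (Subgroup.upperCentralSeries G i) := by
    intro i
    induction i with
    | zero =>
      intro _
      rw [pow_zero]
      exact Nat.card_pos
    | succ i ih =>
      intro hi
      have h1 := ih (by omega)
      have h2 := hlt i (by omega)
      obtain ⟨a, ha⟩ := hpow (Subgroup.upperCentralSeries G i)
      obtain ⟨b, hb⟩ := hpow (Subgroup.upperCentralSeries G (i + 1))
      rw [ha] at h1 h2
      rw [hb] at h2 ⊢
      have h3 : i ≤ a := (Nat.pow_le_pow_iff_right hp.one_lt).mp h1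
      have h4 : a < b := (Nat.pow_lt_pow_iff_right hp.one_lt).mp h2
      exact Nat.pow_le_pow_right hp.pos (by omega)
  have hdown : ∀ j, j ≤ m → Nat.card (Subgroup.upperCentralSeries G (m - j)) ≤ p ^ (m - j) := by
    intro j
    induction j with
    | zero =>
      intro _
      exact htop
    | succ j ih =>
      intro hj
      have h1 := ih (by omega)
      have h2 := hlt (m - (j + 1)) (by omega)
      have e : m - (j + 1) + 1 = m - j := by omega
      rw [e] at h2
      obtain ⟨a, ha⟩ := hpow (Subgroup.upperCentralSeries G (m - (j + 1)))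
      obtain ⟨b, hb⟩ := hpow (Subgroup.upperCentralSeries G (m - j))
      rw [hb] at h1 h2
      rw [ha] at h2 ⊢
      have h3 : b ≤ m - j := (Nat.pow_le_pow_iff_right hp.one_lt).mp h1
      have h4 : a < b := (Nat.pow_lt_pow_iff_right hp.one_lt).mp h2
      exact Nat.pow_le_pow_right hp.pos (by omega)
  intro i hi
  have h1 := hdown (m - i) (by omega)
  have e : m - (m - i) = i := by omega
  rw [e] at h1
  exact le_antisymm h1 (hup i hi)

/-- if `|Z(G)| = p` and `|Z₂(G)| = p²`, the centralizer of `Z₂(G)` has index `p` -/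
theorem centralizer_ucs_two_index [Finite G] {p : ℕ} [Fact p.Prime]
    (h1 : Nat.card (Subgroup.center G) = p)
    (h2 : Nat.card (Subgroup.upperCentralSeries G 2) = p ^ 2) :
    (Subgroup.centralizer (Subgroup.upperCentralSeries G 2 : Set G)).index = p := by
  have hp := (Fact.out : p.Prime)
  have hZle : Subgroup.center G ≤ Subgroup.upperCentralSeries G 2 := by
    rw [← Subgroup.upperCentralSeries_one]
    exact Subgroup.upperCentralSeries_mono G (by norm_num)
  obtain ⟨y, hyZ₂, hyZ⟩ : ∃ y ∈ Subgroup.upperCentralSeries G 2, y ∉ Subgroup.center G := by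
    by_contra hall
    push Not at hall
    have h3 : Subgroup.upperCentralSeries G 2 = Subgroup.center G := le_antisymm hall hZle
    rw [h3, h1] at h2
    have := hp.one_lt
    nlinarith
  have hcomm : ∀ g : G, ⁅g, y⁆ ∈ Subgroup.center G := by
    intro g
    have h3 := (Subgroup.mem_upperCentralSeries_succ_iff (n := 1)).mp hyZ₂ g
    rw [Subgroup.upperCentralSeries_one] at h3
    rw [← commutatorElement_inv]
    exact Subgroup.inv_mem _ h3
  let θ : G →* Subgroup.center G := MonoidHom.mk' (fun g => ⟨⁅g, y⁆, hcomm g⟩) (by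
    intro g h
    apply Subtype.ext
    show ⁅g * h, y⁆ = ⁅g, y⁆ * ⁅h, y⁆
    have hc := Subgroup.mem_center_iff.mp (hcomm h)
    rw [commutatorElement_def] at hc
    rw [commutatorElement_def, commutatorElement_def, commutatorElement_def]
    calc g * h * y * (g * h)⁻¹ * y⁻¹ = g * (h * y * h⁻¹ * y⁻¹) * (y * g⁻¹ * y⁻¹) := by group
      _ = g * ((y * g⁻¹ * y⁻¹) * (h * y * h⁻¹ * y⁻¹)) := by rw [mul_assoc, ← hc (y * g⁻¹ * y⁻¹)]
      _ = g * y * g⁻¹ * y⁻¹ * (h * y * h⁻¹ * y⁻¹) := by group)
  have hker_le : θ.ker ≤ Subgroup.centralizer (Subgroup.upperCentralSeries G 2 : Set G) := by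
    intro g hg
    have hgy : g * y = y * g := by
      have h3 := MonoidHom.mem_ker.mp hg
      have h4 : ⁅g, y⁆ = 1 := congrArg Subtype.val h3
      exact commutatorElement_eq_one_iff_mul_comm.mp h4
    have hK : Subgroup.center G ⊔ Subgroup.zpowers y = Subgroup.upperCentralSeries G 2 := by
      have hle : Subgroup.center G ⊔ Subgroup.zpowers y ≤ Subgroup.upperCentralSeries G 2 :=
        sup_le hZle (by rw [Subgroup.zpowers_le]; exact hyZ₂)
      apply Subgroup.eq_of_le_of_card_ge hle
      have hdvd : Nat.card (Subgroup.center G) ∣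
          Nat.card ↥(Subgroup.center G ⊔ Subgroup.zpowers y) := Subgroup.card_dvd_of_le le_sup_left
      have hKdvd : Nat.card ↥(Subgroup.center G ⊔ Subgroup.zpowers y) ∣ p ^ 2 :=
        h2 ▸ Subgroup.card_dvd_of_le hle
      obtain ⟨k, hk, hKk⟩ := (Nat.dvd_prime_pow hp).mp hKdvd
      have hne : Nat.card ↥(Subgroup.center G ⊔ Subgroup.zpowers y) ≠ p := by
        intro h
        have h3 : Subgroup.center G = Subgroup.center G ⊔ Subgroup.zpowers y :=
          Subgroup.eq_of_le_of_card_ge le_sup_left (by rw [h, h1])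
        apply hyZ
        rw [h3]
        exact (le_sup_right : Subgroup.zpowers y ≤ _) (Subgroup.mem_zpowers y)
      rw [h1] at hdvd
      rw [hKk] at hdvd hne ⊢
      rw [h2]
      interval_cases k
      · rw [pow_zero, Nat.dvd_one] at hdvd
        exact absurd hdvd hp.one_lt.ne'
      · rw [pow_one] at hne
        exact absurd rfl hne
      · exact le_rfl
    have hM : Subgroup.center G ⊔ Subgroup.zpowers y ≤ Subgroup.centralizer ({g} : Set G) := by
      refine sup_le (Subgroup.center_le_centralizer _) ?_
      rw [Subgroup.zpowers_le, Subgroup.mem_centralizer_iff]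
      intro h hh
      rw [Set.mem_singleton_iff] at hh
      rw [hh]
      exact hgy
    rw [Subgroup.mem_centralizer_iff]
    intro w hw
    have hw' : w ∈ Subgroup.center G ⊔ Subgroup.zpowers y := by rw [hK]; exact hw
    have h3 := hM hw'
    rw [Subgroup.mem_centralizer_iff] at h3
    exact (h3 g rfl).symm
  have hidx1 : θ.ker.index ∣ p := by
    rw [Subgroup.index_ker, ← h1]
    exact Subgroup.card_subgroup_dvd_card _
  have hidx2 := Subgroup.index_dvd_of_le hker_le
  have hne : (Subgroup.centralizer (Subgroup.upperCentralSeries G 2 : Set G)).index ≠ 1 := by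
    intro h
    have htop := Subgroup.index_eq_one.mp h
    apply hyZ
    rw [Subgroup.mem_center_iff]
    intro g
    have hg : g ∈ Subgroup.centralizer (Subgroup.upperCentralSeries G 2 : Set G) :=
      htop ▸ Subgroup.mem_top g
    rw [Subgroup.mem_centralizer_iff] at hg
    exact (hg y hyZ₂).symm
  rcases (Nat.dvd_prime hp).mp (hidx2.trans hidx1) with h | h
  · exact absurd h hne
  · exact h

/-- in a `p`-group with centre of order `p`, nontrivial subgroups of index `p` contain their centralizers -/
theorem centralizer_le_of_index_prime [Finite G] {p : ℕ} [Fact p.Prime] (hG : IsPGroup p G)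
    (h1 : Nat.card (Subgroup.center G) = p) {M : Subgroup G} (hM : M.index = p) (hMne : M ≠ ⊥) :
    Subgroup.centralizer (M : Set G) ≤ M := by
  intro x hx
  by_contra hxM
  have hp := (Fact.out : p.Prime)
  rw [Subgroup.mem_centralizer_iff] at hx
  have hcent : ∀ w ∈ M, (∀ m ∈ M, w * m = m * w) → w * x = x * w → w ∈ Subgroup.center G := by
    intro w _ hwM hwx
    have htop : Subgroup.centralizer ({w} : Set G) = ⊤ := by
      refine eq_top_of_prime_index hp (K := M) (fun m hm => ?_) hM (x := x) ?_ hxM
      · rw [Subgroup.mem_centralizer_iff]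
        intro h hh
        rw [Set.mem_singleton_iff] at hh
        rw [hh]
        exact hwM m hm
      · rw [Subgroup.mem_centralizer_iff]
        intro h hh
        rw [Set.mem_singleton_iff] at hh
        rw [hh]
        exact hwx
    rw [Subgroup.mem_center_iff]
    intro g
    have hg : g ∈ Subgroup.centralizer ({w} : Set G) := htop ▸ Subgroup.mem_top g
    rw [Subgroup.mem_centralizer_iff] at hg
    exact (hg w rfl).symm
  have hxc : x ∈ Subgroup.center G := by
    have htop : Subgroup.centralizer ({x} : Set G) = ⊤ := by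
      refine eq_top_of_prime_index hp (K := M) (fun m hm => ?_) hM (x := x) ?_ hxM
      · rw [Subgroup.mem_centralizer_iff]
        intro h hh
        rw [Set.mem_singleton_iff] at hh
        rw [hh]
        exact (hx m hm).symm
      · rw [Subgroup.mem_centralizer_iff]
        intro h hh
        rw [Set.mem_singleton_iff] at hh
        rw [hh]
    rw [Subgroup.mem_center_iff]
    intro g
    have hg : g ∈ Subgroup.centralizer ({x} : Set G) := htop ▸ Subgroup.mem_top g
    rw [Subgroup.mem_centralizer_iff] at hg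
    exact (hg x rfl).symm
  have hinf : Subgroup.center G ⊓ M = ⊥ := by
    have hdvd : Nat.card ↥(Subgroup.center G ⊓ M) ∣ p := h1 ▸ Subgroup.card_dvd_of_le inf_le_left
    rcases (Nat.dvd_prime hp).mp hdvd with h | h
    · exact Subgroup.card_eq_one.mp h
    · exfalso
      have h3 : Subgroup.center G ⊓ M = Subgroup.center G :=
        Subgroup.eq_of_le_of_card_ge inf_le_left (by rw [h, h1])
      have h4 : x ∈ Subgroup.center G ⊓ M := by rw [h3]; exact hxc
      exact hxM h4.2
  haveI : Nontrivial M := (Subgroup.nontrivial_iff_ne_bot M).mpr hMne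
  haveI : Nontrivial (Subgroup.center M) := (hG.to_subgroup M).center_nontrivial
  obtain ⟨w, hw⟩ := exists_ne (1 : Subgroup.center M)
  apply hw
  have hwc : ((w : M) : G) ∈ Subgroup.center G ⊓ M := by
    refine ⟨hcent _ (w : M).2 (fun m hm => ?_) (hx _ (w : M).2), (w : M).2⟩
    have h3 := Subgroup.mem_center_iff.mp w.2 ⟨m, hm⟩
    exact (congrArg Subtype.val h3).symm
  rw [hinf, Subgroup.mem_bot] at hwc
  exact Subtype.ext (Subtype.ext hwc)

end

end Cfsg.Agent.Helper27
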