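import Cfsg.Agent.Helper27.MaxClass
import Cfsg.Agent.Helper27.FrattiniCore
import Cfsg.Agent.Helper27.FusNormal

set_option autoImplicit false

namespace Cfsg.Agent.Helper27

open Cfsg Cfsg.FusionSystem

variable {Ω : Type*} [Group Ω] {S : Subgroup Ω}

/-- maximal class: an `F`-automorphism of `Z₂(S)` moving `Z(S)` makes `C_S(Z₂(S))` essential -/
theorem maxclass_essential [Finite S] (p : ℕ) [Fact p.Prime] (hS : IsPGroup p ↥S) (n : ℕ)
    (hn : Nat.card S = p ^ n) (h4 : 4 ≤ n) (hmax : Subgroup.lowerCentralSeries S (n - 2) ≠ ⊥)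
    (F : FusionSystem S) (hF : F.IsSaturated p) (Z₂ Z : Subgroup Ω)
    (hZ₂def : Z₂ = (Subgroup.upperCentralSeries ↥S 2).map S.subtype)
    (hZdef : Z = (Subgroup.center ↥S).map S.subtype)
    (φ : Z₂ →* Ω) (hφ : φ ∈ F.Hom Z₂) (hφZ : φ.range = Z₂)
    (hmove : ∃ (z : Ω) (hz : z ∈ Z₂), z ∈ Z ∧ φ ⟨z, hz⟩ ∉ Z) :
    F.IsEssential p (centralizerIn S Z₂) := by
  have hp := (Fact.out : p.Prime)
  have hU : Subgroup.upperCentralSeries ↥S (n - 2) ≠ ⊤ := by
    intro h
    apply hmax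
    rw [← Subgroup.top_subtype_lowerCentralSeries,
      Subgroup.lowerCentralSeries_eq_bot_iff_upperCentralSeries_eq_top.mpr h, Subgroup.map_bot]
  have hcards := ucs_card hS hn (by omega) hU
  have hZcard : Nat.card (Subgroup.center ↥S) = p := by
    have h1 := hcards 1 (by omega)
    rwa [Subgroup.upperCentralSeries_one, pow_one] at h1
  have hZ₂card : Nat.card (Subgroup.upperCentralSeries ↥S 2) = p ^ 2 := hcards 2 (by omega)
  have hCidx := centralizer_ucs_two_index hZcard hZ₂card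
  have hZ₂S : Z₂ ≤ S := by rw [hZ₂def]; exact Subgroup.map_subtype_le _
  have hZ₂mem : ∀ {x : Ω}, x ∈ Z₂ ↔
      ∃ hx : x ∈ S, (⟨x, hx⟩ : S) ∈ Subgroup.upperCentralSeries ↥S 2 := by
    intro x
    rw [hZ₂def]
    constructor
    · rintro ⟨y, hy, rfl⟩
      exact ⟨y.2, hy⟩
    · rintro ⟨hx, h⟩
      exact ⟨⟨x, hx⟩, h, rfl⟩
  have hZmem : ∀ {x : Ω}, x ∈ Z ↔ x ∈ S ∧ ∀ s ∈ S, s * x = x * s := by
    intro x
    rw [hZdef]
    constructor
    · rintro ⟨y, hy, rfl⟩
      refine ⟨y.2, fun s hs => ?_⟩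
      have h1 := Subgroup.mem_center_iff.mp hy ⟨s, hs⟩
      exact congrArg Subtype.val h1
    · rintro ⟨hx, h⟩
      exact ⟨⟨x, hx⟩, Subgroup.mem_center_iff.mpr (fun s => Subtype.ext (h s s.2)), rfl⟩
  obtain ⟨C, hCdef⟩ : ∃ C : Subgroup Ω, C = centralizerIn S Z₂ := ⟨_, rfl⟩
  rw [← hCdef]
  have hCmem : ∀ {c : Ω}, c ∈ C ↔ c ∈ S ∧ ∀ y ∈ Z₂, y * c = c * y := by
    intro c; rw [hCdef]; exact mem_centralizerIn
  have hCS : C ≤ S := fun c hc => (hCmem.mp hc).1
  haveI : Finite C := finite_of_le hCS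
  have hCsub : C.subgroupOf S =
      Subgroup.centralizer (Subgroup.upperCentralSeries ↥S 2 : Set S) := by
    ext ⟨c, hc⟩
    rw [Subgroup.mem_subgroupOf, hCmem, Subgroup.mem_centralizer_iff]
    constructor
    · rintro ⟨-, h⟩ y hy
      apply Subtype.ext
      exact h y (hZ₂mem.mpr ⟨y.2, hy⟩)
    · intro h
      refine ⟨hc, fun y hy => ?_⟩
      obtain ⟨hyS, hy'⟩ := hZ₂mem.mp hy
      exact congrArg Subtype.val (h ⟨y, hyS⟩ hy')
  have hCidx' : (C.subgroupOf S).index = p := by rw [hCsub]; exact hCidx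
  have hcardsub : ∀ M : Subgroup Ω, M ≤ S → Nat.card (M.subgroupOf S) = Nat.card M :=
    fun M hM => Nat.card_congr (Subgroup.subgroupOfEquivOfLe hM).toEquiv
  have hCcard : Nat.card C * p = p ^ n := by
    rw [← hn, ← hCidx', ← hcardsub C hCS]
    exact Subgroup.card_mul_index (C.subgroupOf S)
  have hmaxl : ∀ M : Subgroup Ω, M ≤ S → Nat.card M = Nat.card C → centralizerIn S M ≤ M := by
    intro M hMS hcard c hc
    have hidx : (M.subgroupOf S).index = p := by
      have h1 := Subgroup.card_mul_index (M.subgroupOf S)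
      rw [hcardsub M hMS, hcard, hn] at h1
      have h2 : Nat.card C * (M.subgroupOf S).index = Nat.card C * p := by rw [h1, hCcard]
      exact Nat.eq_of_mul_eq_mul_left Nat.card_pos h2
    have hne : M.subgroupOf S ≠ ⊥ := by
      intro h
      have h2 := hcardsub M hMS
      rw [h, Subgroup.card_bot] at h2
      rw [← hcard, ← h2, one_mul] at hCcard
      have h3 : p ^ 1 = p ^ n := by rw [pow_one]; exact hCcard
      have h5 := Nat.pow_right_injective hp.two_le h3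
      omega
    have h6 := centralizer_le_of_index_prime hS hZcard hidx hne
    rw [mem_centralizerIn] at hc
    have hcm : (⟨c, hc.1⟩ : S) ∈ Subgroup.centralizer ((M.subgroupOf S : Subgroup S) : Set S) := by
      rw [Subgroup.mem_centralizer_iff]
      intro m hm
      apply Subtype.ext
      exact hc.2 m (Subgroup.mem_subgroupOf.mp hm)
    exact Subgroup.mem_subgroupOf.mp (h6 hcm)
  have hZ₂norm : ∀ s ∈ S, ∀ y ∈ Z₂, s * y * s⁻¹ ∈ Z₂ := by
    intro s hs y hy
    obtain ⟨hyS, hy'⟩ := hZ₂mem.mp hy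
    have hN : (Subgroup.upperCentralSeries ↥S 2).Normal := inferInstance
    have h1 := hN.conj_mem _ hy' ⟨s, hs⟩
    exact hZ₂mem.mpr ⟨_, h1⟩
  have hCnorm : ∀ s ∈ S, ∀ c ∈ C, s * c * s⁻¹ ∈ C := by
    intro s hs c hc
    rw [hCmem] at hc ⊢
    refine ⟨S.mul_mem (S.mul_mem hs hc.1) (S.inv_mem hs), fun y hy => ?_⟩
    have h1 := hZ₂norm s⁻¹ (S.inv_mem hs) y hy
    rw [inv_inv] at h1
    have h2 := hc.2 _ h1
    calc y * (s * c * s⁻¹) = s * ((s⁻¹ * y * s) * c) * s⁻¹ := by group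
      _ = s * (c * (s⁻¹ * y * s)) * s⁻¹ := by rw [h2]
      _ = s * c * s⁻¹ * y := by group
  have hCfn : F.IsFullyNormalized C := fullyNormalized_of_normal F hCS hCnorm
  have hZ₂fn : F.IsFullyNormalized Z₂ := fullyNormalized_of_normal F hZ₂S hZ₂norm
  have hCc : F.IsCentric C :=
    ⟨hCS, fun Q hQ => hmaxl Q (isConj_le_right hQ) (isConj_card hQ)⟩
  obtain ⟨-, hCrec, hCfa⟩ := fullyNormalized_props hS hF hCfn
  obtain ⟨-, hZ₂rec, -⟩ := fullyNormalized_props hS hF hZ₂fn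
  -- extend φ to an automorphism of C
  have hfφ : Mor F Z₂ (fn φ) := mor_of_hom hφ
  have himgφ : img Z₂ (fn φ) = Z₂ := by
    rw [img_eq_range φ (fun x => (fn_apply φ x).symm)]
    exact hφZ
  obtain ⟨ψ, hψ, hψφ⟩ := exists_extension hZ₂rec hfφ himgφ
  have hCext : C ≤ ext S Z₂ (fn φ) := by rw [hCdef]; exact centralizerIn_le_ext S Z₂ (fn φ)
  have hψC : ∀ c ∈ C, ψ c ∈ C := by
    intro c hc
    have h1 := hψ.map_centralizerIn hfφ.le_ext (hCext hc) (by rw [← hCdef]; exact hc)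
    have h2 : img Z₂ ψ = Z₂ := by rw [img_congr hψφ]; exact himgφ
    rw [h2, ← hCdef] at h1
    exact h1
  obtain ⟨α, hαA, hα⟩ := exists_aut_of_mor (hψ.restrict hCext) hψC
  -- the outer automorphism group
  have hIn : ((Inn C).subgroupOf (F.autGroup C)).Normal := Inn_subgroupOf_normal (F.autGroup C)
  refine ⟨hCc, hCfn, hIn, ?_⟩
  obtain ⟨R, hR⟩ := hCfa.2
  haveI : Finite (MulAut C) := inferInstance
  obtain ⟨π, hπdef⟩ : ∃ π : F.autGroup C →* F.autGroup C ⧸ (Inn C).subgroupOf (F.autGroup C),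
      π = QuotientGroup.mk' ((Inn C).subgroupOf (F.autGroup C)) := ⟨_, rfl⟩
  have hπ : Function.Surjective π := by rw [hπdef]; exact QuotientGroup.mk'_surjective _
  have hπker : ∀ a b : F.autGroup C, π a = π b ↔ a⁻¹ * b ∈ (Inn C).subgroupOf (F.autGroup C) := by
    intro a b
    rw [hπdef]
    exact QuotientGroup.eq
  obtain ⟨Pbar, hPbar⟩ : ∃ Pbar : Sylow p (F.autGroup C ⧸ (Inn C).subgroupOf (F.autGroup C)),
      (Pbar : Subgroup _) = (R : Subgroup (F.autGroup C)).map π :=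
    ⟨R.mapSurjective hπ, Sylow.coe_mapSurjective hπ R⟩
  obtain ⟨PB, hPBdef⟩ : ∃ PB : Subgroup (F.autGroup C ⧸ (Inn C).subgroupOf (F.autGroup C)),
      PB = (Pbar : Subgroup _) := ⟨_, rfl⟩
  rw [← hPBdef] at hPbar
  obtain ⟨NB, hNBdef⟩ : ∃ NB : Subgroup (F.autGroup C ⧸ (Inn C).subgroupOf (F.autGroup C)),
      NB = Subgroup.normalizer (PB : Set (F.autGroup C ⧸ (Inn C).subgroupOf (F.autGroup C))) :=
    ⟨_, rfl⟩
  have hSn : ∀ s ∈ S, s ∈ Subgroup.normalizer (C : Set Ω) :=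
    fun s hs => mem_normalizer_of_forall (hCnorm s hs)
  have hκmem : ∀ s (hs : s ∈ S), conjAut C s (hSn s hs) ∈ F.autGroup C :=
    fun s hs => autInducedBy_le_autGroup F hCS (conjAut_mem_autInducedBy hs (hSn s hs))
  obtain ⟨κ, hκ⟩ : ∃ κ : S →* F.autGroup C,
      ∀ s : S, ((κ s : F.autGroup C) : MulAut C) = conjAut C s (hSn s s.2) :=
    ⟨MonoidHom.mk' (fun s => ⟨conjAut C s (hSn s s.2), hκmem s s.2⟩) (by
      intro a b
      apply Subtype.ext
      apply MulEquiv.ext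
      intro x
      apply Subtype.ext
      show ((a : Ω) * (b : Ω)) * x * ((a : Ω) * (b : Ω))⁻¹ = a * (b * x * (b : Ω)⁻¹) * (a : Ω)⁻¹
      group), fun s => rfl⟩
  have hker : C.subgroupOf S ≤ (π.comp κ).ker := by
    intro c hc
    rw [Subgroup.mem_subgroupOf] at hc
    rw [MonoidHom.mem_ker, MonoidHom.comp_apply, ← map_one π, hπker, mul_one]
    apply Subgroup.inv_mem
    rw [Subgroup.mem_subgroupOf, hκ, mem_Inn_iff]
    exact ⟨c, hc, fun x => rfl⟩
  have hρcard : Nat.card (π.comp κ).range ∣ p := by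
    rw [← Subgroup.index_ker, ← hCidx']
    exact Subgroup.index_dvd_of_le hker
  have hPle : PB ≤ (π.comp κ).range := by
    rw [hPbar]
    rintro _ ⟨β, hβ, rfl⟩
    have hβ' : β ∈ (R : Subgroup (F.autGroup C)) := hβ
    rw [hR, Subgroup.mem_subgroupOf, mem_autInducedBy_iff] at hβ'
    obtain ⟨g, hg, h⟩ := hβ'
    refine ⟨⟨g, hg⟩, ?_⟩
    rw [MonoidHom.comp_apply]
    congr 1
    apply Subtype.ext
    rw [hκ]
    apply MulEquiv.ext
    intro x
    apply Subtype.ext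
    exact (h x).symm
  have hrangeP : ∀ s : S, π (κ s) ∈ PB := by
    intro s
    rw [hPbar]
    refine ⟨κ s, ?_, rfl⟩
    show κ s ∈ (R : Subgroup (F.autGroup C))
    rw [hR, Subgroup.mem_subgroupOf, hκ]
    exact conjAut_mem_autInducedBy s.2 _
  have hIR : (Inn C).subgroupOf (F.autGroup C) ≤ (R : Subgroup (F.autGroup C)) := by
    intro β hβ
    rw [hR, Subgroup.mem_subgroupOf]
    exact Inn_le_autInducedBy hCS (Subgroup.mem_subgroupOf.mp hβ)
  have hnotnormal : NB ≠ ⊤ := by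
    intro htop
    have hconj : ∀ s : S, ∃ h ∈ S, ∀ x : C,
        ((α (conjAut C s (hSn s s.2) x) : C) : Ω) = h * (α x : Ω) * h⁻¹ := by
      intro s
      have h1 := hrangeP s
      have h2 : π ⟨α, hαA⟩ ∈ NB := htop ▸ Subgroup.mem_top _
      rw [hNBdef] at h2
      have h3 := (Subgroup.mem_normalizer_iff.mp h2 _).mp h1
      rw [hPbar] at h3
      obtain ⟨β, hβ, hβeq⟩ := h3
      have h4 : π β = π (⟨α, hαA⟩ * κ s * ⟨α, hαA⟩⁻¹) := by
        rw [hβeq, map_mul, map_mul, map_inv]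
      have h5 := (hπker _ _).mp h4
      have h6 : ⟨α, hαA⟩ * κ s * ⟨α, hαA⟩⁻¹ ∈ (R : Subgroup (F.autGroup C)) := by
        have h7 := Subgroup.mul_mem _ hβ (hIR h5)
        rwa [mul_inv_cancel_left] at h7
      rw [hR, Subgroup.mem_subgroupOf, mem_autInducedBy_iff] at h6
      obtain ⟨h, hh, hc⟩ := h6
      refine ⟨h, hh, fun x => ?_⟩
      have h8 := hc (α x)
      have e : (((⟨α, hαA⟩ * κ s * ⟨α, hαA⟩⁻¹ : F.autGroup C) : MulAut C)) (α x) =
          α (conjAut C s (hSn s s.2) x) := by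
        rw [Subgroup.coe_mul, Subgroup.coe_mul, Subgroup.coe_inv, hκ]
        show (α * conjAut C s (hSn s s.2) * α⁻¹) (α x) = _
        rw [MulAut.mul_apply, MulAut.mul_apply, MulAut.inv_apply_self]
      rw [e] at h8
      exact h8
    have hfα : Mor F C (autFn α) := (mem_autGroup_iff hCS α).mp hαA
    obtain ⟨f', hf', hf'α⟩ := exists_extension hCrec hfα (img_autFn α)
    have hSext : S ≤ ext S C (autFn α) := by
      intro s hs
      rw [mem_ext]
      obtain ⟨h, hh, hc⟩ := hconj ⟨s, hs⟩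
      refine ⟨hs, hSn s hs, h, hh, fun x hx => ?_⟩
      have h1 := hc ⟨x, hx⟩
      have e1 : autFn α (s * x * s⁻¹) = ((α (conjAut C s (hSn s hs) ⟨x, hx⟩) : C) : Ω) :=
        autFn_apply α (conjAut C s (hSn s hs) ⟨x, hx⟩)
      rw [e1, h1, autFn_of_mem α hx]
    have hf'S : Mor F S f' := hf'.restrict hSext
    have hsurj := hf'S.surj_on le_rfl (fun x hx => hf'S.mem hx)
    obtain ⟨z, hz, hzZ, hφz⟩ := hmove
    apply hφz
    have hzS : z ∈ S := hZ₂S hz
    have hzC : z ∈ C := by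
      rw [hCmem]
      exact ⟨hzS, fun y hy => (hZmem.mp hzZ).2 y (hZ₂S hy)⟩
    have e : φ ⟨z, hz⟩ = f' z := by
      rw [hf'α z hzC, autFn_of_mem α hzC, hα ⟨z, hzC⟩, hψφ z hz, fn_of_mem φ hz]
    rw [e, hZmem]
    refine ⟨hf'S.mem hzS, fun s hs => ?_⟩
    obtain ⟨s₀, hs₀, rfl⟩ := hsurj s hs
    rw [← hf'S.map_mul hs₀ hzS, ← hf'S.map_mul hzS hs₀, (hZmem.mp hzZ).2 s₀ hs₀]
  have hPne : PB ≠ ⊥ := by
    intro h
    apply hnotnormal
    rw [hNBdef, h]
    exact Subgroup.normalizer_eq_top_iff.mpr (by infer_instance)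
  have hPcard : Nat.card PB = p := by
    have h1 : Nat.card PB ∣ p := (Subgroup.card_dvd_of_le hPle).trans hρcard
    rcases (Nat.dvd_prime hp).mp h1 with h | h
    · exact absurd (Subgroup.card_eq_one.mp h) hPne
    · exact h
  refine ⟨NB, ?_, hnotnormal, Pbar, ?_⟩
  · rw [← hPcard]
    exact Subgroup.card_subgroup_dvd_card _
  · rw [← hPBdef, hNBdef]
    unfold kGeneratedCore
    apply iSup_le
    rintro ⟨Q, hQP, hQr⟩
    dsimp only
    have hQne : Q ≠ ⊥ := by
      intro h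
      subst h
      apply hQr
      intro A _ _
      have e : p ^ (1 - 1) = 1 := by norm_num
      rw [e]
      exact Finite.card_le_one_iff_subsingleton.mpr inferInstance
    have hQdvd : Nat.card Q ∣ p := hPcard ▸ Subgroup.card_dvd_of_le hQP
    have hQcard : Nat.card Q = p := by
      rcases (Nat.dvd_prime hp).mp hQdvd with h | h
      · exact absurd (Subgroup.card_eq_one.mp h) hQne
      · exact h
    have hPQ : Q = PB :=
      Subgroup.eq_of_le_of_card_ge hQP (by rw [hQcard, hPcard])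
    rw [hPQ]

end Cfsg.Agent.Helper27
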