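import Cfsg.Agent.Helper27.MetaNormalTwo

set_option autoImplicit false

namespace Cfsg.Agent.Helper27

open Cfsg

/-- an automorphism of odd order of an elementary abelian group of order dividing 4 has no nontrivial fixed
point, unless it is trivial -/
theorem no_fixed_of_odd {V : Type*} [Group V] [Finite V] (hV : Nat.card V ∣ 2 ^ 2)
    (hexp : ∀ v : V, v ^ 2 = 1)
    (ρ : MulAut V) (hodd : Odd (orderOf ρ)) (hρ : ρ ≠ 1) (v : V) (hv : ρ v = v) : v = 1 := by
  by_contra hv1
  let Fix : Subgroup V :=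
    { carrier := {u | ρ u = u}
      one_mem' := map_one ρ
      mul_mem' := by
        intro a b ha hb
        show ρ (a * b) = a * b
        rw [map_mul, ha, hb]
      inv_mem' := by
        intro a ha
        show ρ a⁻¹ = a⁻¹
        rw [map_inv, ha] }
  have hFmem : ∀ u, u ∈ Fix ↔ ρ u = u := fun _ => Iff.rfl
  have hFbot : Fix ≠ ⊥ := by
    intro h
    have h1 : v ∈ Fix := hv
    rw [h, Subgroup.mem_bot] at h1
    exact hv1 h1
  have hFtop : Fix ≠ ⊤ := by
    intro h
    apply hρ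
    ext u
    have h1 : u ∈ Fix := by rw [h]; exact Subgroup.mem_top u
    exact h1
  have hidx : Fix.index = 2 := by
    have h1 := Subgroup.card_mul_index Fix
    have h2 : Nat.card Fix ≠ 1 := fun h => hFbot (Subgroup.card_eq_one.mp h)
    have h3 : Fix.index ≠ 1 := fun h => hFtop (Subgroup.index_eq_one.mp h)
    have h5 : Nat.card Fix ≠ 0 := Nat.card_pos.ne'
    have h6 : Fix.index ≠ 0 := Subgroup.index_ne_zero_of_finite
    have h7 : Nat.card Fix * Fix.index ∣ 4 := by rw [h1]; exact hV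
    have h9 : Nat.card Fix * Fix.index ≤ 4 := Nat.le_of_dvd (by norm_num) h7
    have hc2 : 2 ≤ Nat.card Fix := by omega
    have hi2 : 2 ≤ Fix.index := by omega
    by_contra hne
    have hi3 : 3 ≤ Fix.index := by omega
    nlinarith
  have hsq : ρ ^ 2 = 1 := by
    ext u
    rw [pow_two, MulAut.mul_apply, MulAut.one_apply]
    by_cases hu : u ∈ Fix
    · rw [(hFmem u).mp hu, (hFmem u).mp hu]
    · have hρu : ρ u ∉ Fix := by
        intro h
        apply hu
        rw [hFmem] at h ⊢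
        exact ρ.injective h
      have h1 : u⁻¹ * ρ u ∈ Fix := by
        rw [Subgroup.mul_mem_iff_of_index_two hidx]
        constructor
        · intro h; exact absurd (Fix.inv_mem_iff.mp h) hu
        · intro h; exact absurd h hρu
      have hf2 : (u⁻¹ * ρ u) ^ 2 = 1 := hexp _
      calc ρ (ρ u) = ρ (u * (u⁻¹ * ρ u)) := by rw [mul_inv_cancel_left]
        _ = ρ u * ρ (u⁻¹ * ρ u) := map_mul _ _ _
        _ = ρ u * (u⁻¹ * ρ u) := by rw [(hFmem _).mp h1]
        _ = u * (u⁻¹ * ρ u) ^ 2 := by rw [pow_two]; group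
        _ = u := by rw [hf2, mul_one]
  have h1 := orderOf_dvd_of_pow_eq_one hsq
  have h2 : orderOf ρ = 1 := by
    rcases (Nat.dvd_prime Nat.prime_two).mp h1 with h | h
    · exact h
    · rw [h] at hodd; exact absurd hodd (by decide)
  exact hρ (orderOf_eq_one_iff.mp h2)

theorem comm_pow_left {G : Type*} [Group G] {A B Z : G} (hBA : B * A = A * B * Z)
    (hZ : ∀ g : G, Commute Z g) (j : ℕ) : B ^ j * A = A * B ^ j * Z ^ j := by
  induction j with
  | zero => simp
  | succ j ih =>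
    calc B ^ (j + 1) * A = B * (B ^ j * A) := by rw [pow_succ', mul_assoc]
      _ = B * (A * B ^ j * Z ^ j) := by rw [ih]
      _ = (B * A) * B ^ j * Z ^ j := by group
      _ = A * B * Z * B ^ j * Z ^ j := by rw [hBA]
      _ = A * B * (Z * B ^ j) * Z ^ j := by group
      _ = A * B * (B ^ j * Z) * Z ^ j := by rw [(hZ (B ^ j)).eq]
      _ = A * B ^ (j + 1) * Z ^ (j + 1) := by rw [pow_succ' B, pow_succ' Z]; group

theorem comm_pow_right {G : Type*} [Group G] {A B Z : G} (hBA : B * A = A * B * Z)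
    (hZ : ∀ g : G, Commute Z g) (i : ℕ) : B * A ^ i = A ^ i * B * Z ^ i := by
  induction i with
  | zero => simp
  | succ i ih =>
    calc B * A ^ (i + 1) = (B * A ^ i) * A := by rw [pow_succ, mul_assoc]
      _ = A ^ i * B * Z ^ i * A := by rw [ih]
      _ = A ^ i * B * (Z ^ i * A) := by group
      _ = A ^ i * B * (A * Z ^ i) := by rw [((hZ A).pow_left i).eq]
      _ = A ^ i * (B * A) * Z ^ i := by group
      _ = A ^ i * (A * B * Z) * Z ^ i := by rw [hBA]
      _ = A ^ (i + 1) * B * Z ^ (i + 1) := by rw [pow_succ A, pow_succ' Z]; group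

/-- the power formula in class two -/
theorem pow_mul_class_two {G : Type*} [Group G] {A B Z : G} (hBA : B * A = A * B * Z)
    (hZ : ∀ g : G, Commute Z g) (k : ℕ) :
    (A * B) ^ k = A ^ k * B ^ k * Z ^ (k * (k - 1) / 2) := by
  induction k with
  | zero => simp
  | succ k ih =>
    rw [pow_succ, ih, Nat.triangle_succ]
    generalize k * (k - 1) / 2 = T
    calc A ^ k * B ^ k * Z ^ T * (A * B)
        = A ^ k * B ^ k * (Z ^ T * A) * B := by group
      _ = A ^ k * B ^ k * (A * Z ^ T) * B := by rw [((hZ A).pow_left T).eq]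
      _ = A ^ k * (B ^ k * A) * (Z ^ T * B) := by group
      _ = A ^ k * (A * B ^ k * Z ^ k) * (B * Z ^ T) := by
        rw [comm_pow_left hBA hZ, ((hZ B).pow_left T).eq]
      _ = A ^ (k + 1) * B ^ k * (Z ^ k * B) * Z ^ T := by rw [pow_succ A]; group
      _ = A ^ (k + 1) * B ^ k * (B * Z ^ k) * Z ^ T := by rw [((hZ B).pow_left k).eq]
      _ = A ^ (k + 1) * B ^ (k + 1) * Z ^ (T + k) := by
        rw [pow_succ B, pow_add Z T k]; group

/-- the index of a normal cyclic subgroup complemented by a cyclic subgroup -/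
theorem idx_lemma {G : Type*} [Group G] [Finite G] (a b : G)
    (ha : ∀ g : G, g * a * g⁻¹ ∈ Subgroup.zpowers a)
    (hgen : ∀ g : G, ∃ x ∈ Subgroup.zpowers a, ∃ y ∈ Subgroup.zpowers b, g = x * y) :
    ∃ M : ℕ, Nat.card G = orderOf a * M ∧ ∀ k : ℕ, b ^ k ∈ Subgroup.zpowers a ↔ M ∣ k := by
  have hN : (Subgroup.zpowers a).Normal := by
    constructor
    intro n hn g
    obtain ⟨i, rfl⟩ := Subgroup.mem_zpowers_iff.mp hn
    rw [← conj_zpow]
    exact Subgroup.zpow_mem _ (ha g) i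
  refine ⟨orderOf ((b : G) : G ⧸ Subgroup.zpowers a), ?_, ?_⟩
  · rw [← Subgroup.card_mul_index (Subgroup.zpowers a), Nat.card_zpowers, Subgroup.index,
      ← Nat.card_zpowers ((b : G) : G ⧸ Subgroup.zpowers a)]
    congr 1
    have htop : Subgroup.zpowers ((b : G) : G ⧸ Subgroup.zpowers a) = ⊤ := by
      rw [Subgroup.eq_top_iff']
      intro v
      obtain ⟨g, rfl⟩ := QuotientGroup.mk_surjective v
      obtain ⟨x, hx, y, hy, rfl⟩ := hgen g
      obtain ⟨j, rfl⟩ := Subgroup.mem_zpowers_iff.mp hy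
      rw [QuotientGroup.mk_mul, (QuotientGroup.eq_one_iff x).mpr hx, one_mul, QuotientGroup.mk_zpow]
      exact Subgroup.zpow_mem_zpowers _ j
    rw [htop, Subgroup.card_top]
  · intro k
    rw [orderOf_dvd_iff_pow_eq_one, ← QuotientGroup.mk_pow, QuotientGroup.eq_one_iff]

/-- the internal direct product of two cyclic groups of the same order -/
theorem homocyclic_of_direct {G : Type*} [Group G] [Finite G] (a b : G) (q : ℕ) [NeZero q]
    (hoa : orderOf a = q) (hob : orderOf b = q) (hcomm : a * b = b * a)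
    (hD : ∀ x, x ∈ Subgroup.zpowers a → x ∈ Subgroup.zpowers b → x = 1)
    (hcard : Nat.card G = q * q) :
    Nonempty (G ≃* Multiplicative (Fin 2 → ZMod q)) := by
  have haq : a ^ q = 1 := by rw [← hoa]; exact pow_orderOf_eq_one a
  have hbq : b ^ q = 1 := by rw [← hob]; exact pow_orderOf_eq_one b
  have hc : ∀ i j : ZMod q, Commute (Helper9.zpw q a i) (Helper9.zpw q b j) := by
    intro i j
    unfold Helper9.zpw
    exact Commute.zpow_zpow (show Commute a b from hcomm) _ _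
  let f : Multiplicative (Fin 2 → ZMod q) → G := fun v =>
    Helper9.zpw q a (Multiplicative.toAdd v 0) * Helper9.zpw q b (Multiplicative.toAdd v 1)
  have hmul : ∀ v w, f (v * w) = f v * f w := by
    intro v w
    show Helper9.zpw q a (Multiplicative.toAdd v 0 + Multiplicative.toAdd w 0) *
      Helper9.zpw q b (Multiplicative.toAdd v 1 + Multiplicative.toAdd w 1) =
      Helper9.zpw q a (Multiplicative.toAdd v 0) * Helper9.zpw q b (Multiplicative.toAdd v 1) *
      (Helper9.zpw q a (Multiplicative.toAdd w 0) * Helper9.zpw q b (Multiplicative.toAdd w 1))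
    rw [Helper9.zpw_add haq, Helper9.zpw_add hbq]
    have h1 := (hc (Multiplicative.toAdd w 0) (Multiplicative.toAdd v 1)).eq
    generalize Helper9.zpw q a (Multiplicative.toAdd v 0) = A1 at *
    generalize Helper9.zpw q a (Multiplicative.toAdd w 0) = A2 at *
    generalize Helper9.zpw q b (Multiplicative.toAdd v 1) = B1 at *
    generalize Helper9.zpw q b (Multiplicative.toAdd w 1) = B2 at *
    calc A1 * A2 * (B1 * B2) = A1 * (A2 * B1) * B2 := by group
      _ = A1 * (B1 * A2) * B2 := by rw [h1]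
      _ = A1 * B1 * (A2 * B2) := by group
  let F : Multiplicative (Fin 2 → ZMod q) →* G := MonoidHom.mk' f hmul
  have hinj : Function.Injective F := by
    rw [injective_iff_map_eq_one]
    intro v hv
    have hv' : Helper9.zpw q a (Multiplicative.toAdd v 0) *
        Helper9.zpw q b (Multiplicative.toAdd v 1) = 1 := hv
    have h1 : Helper9.zpw q a (Multiplicative.toAdd v 0) =
        (Helper9.zpw q b (Multiplicative.toAdd v 1))⁻¹ := eq_inv_of_mul_eq_one_left hv'
    have h2 : Helper9.zpw q a (Multiplicative.toAdd v 0) = 1 :=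
      hD _ (Helper9.zpw_mem_zpowers _)
        (by rw [h1]; exact Subgroup.inv_mem _ (Helper9.zpw_mem_zpowers _))
    have h3 : Helper9.zpw q b (Multiplicative.toAdd v 1) = 1 := by
      rw [h2, one_mul] at hv'; exact hv'
    have h4 := (Helper9.zpw_eq_one_iff hoa).mp h2
    have h5 := (Helper9.zpw_eq_one_iff hob).mp h3
    apply Multiplicative.toAdd.injective
    funext i
    fin_cases i
    · exact h4
    · exact h5
  have hbij : Function.Bijective F := by
    apply Function.Injective.bijective_of_nat_card_le hinj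
    rw [hcard, Nat.card_congr Multiplicative.toAdd, Nat.card_fun, Nat.card_zmod, Nat.card_fin,
      pow_two]
  exact ⟨(MulEquiv.ofBijective F hbij).symm⟩

/-- the unique involution of a cyclic 2-group -/
theorem unique_involution {G : Type*} [Group G] {b x : G} {n : ℕ} (hob : orderOf b = 2 ^ (n + 1))
    (hx : x ∈ Subgroup.zpowers b) (hx2 : x ^ 2 = 1) (hx1 : x ≠ 1) : x = b ^ 2 ^ n := by
  have hbq : b ^ 2 ^ (n + 1) = 1 := by rw [← hob]; exact pow_orderOf_eq_one b
  obtain ⟨j, rfl⟩ := exists_npow_of_mem_zpowers hbq hx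
  have h1 : b ^ (j * 2) = 1 := by rw [pow_mul]; exact hx2
  have h2 := orderOf_dvd_of_pow_eq_one h1
  rw [hob, pow_succ] at h2
  obtain ⟨j', rfl⟩ := Nat.dvd_of_mul_dvd_mul_right (by norm_num) h2
  have hw2 : (b ^ 2 ^ n) ^ 2 = 1 := by rw [← pow_mul, ← pow_succ]; exact hbq
  rw [pow_mul] at hx1 ⊢
  rcases Nat.even_or_odd' j' with ⟨i, hi | hi⟩
  · exfalso
    apply hx1
    rw [hi, pow_mul, hw2, one_pow]
  · rw [hi, pow_succ, pow_mul, hw2, one_pow, one_mul]

/-- a 2-group which is the product of two normal cyclic subgroups `⟨a⟩`, `⟨b⟩` of the same order, and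
containing an element `a^s b^t` (`s`, `t` odd) of that order, is homocyclic or of maximal class -/
theorem core_struct {G : Type*} [Group G] [Finite G] (hG : IsPGroup 2 G) (a b c : G)
    (ha : ∀ g : G, g * a * g⁻¹ ∈ Subgroup.zpowers a)
    (hb : ∀ g : G, g * b * g⁻¹ ∈ Subgroup.zpowers b)
    (hgen : ∀ g : G, ∃ i j : ℕ, g = a ^ i * b ^ j)
    (hab : orderOf b = orderOf a) (hac : orderOf c = orderOf a)
    (s t : ℕ) (hs : Odd s) (ht : Odd t) (hc : c = a ^ s * b ^ t) :
    (∃ n k : ℕ, Nonempty (G ≃* Multiplicative (Fin k → ZMod (2 ^ n)))) ∨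
    (∃ m, Nonempty (G ≃* DihedralGroup m)) ∨ (∃ m, Nonempty (G ≃* QuaternionGroup m)) ∨
      Cfsg.IsQuasiDihedral G := by
  classical
  obtain ⟨e, he⟩ := hG a
  obtain ⟨n, hn, hoa⟩ := (Nat.dvd_prime_pow Nat.prime_two).mp (orderOf_dvd_of_pow_eq_one he)
  have hob : orderOf b = 2 ^ n := hab.trans hoa
  have hoc : orderOf c = 2 ^ n := hac.trans hoa
  have haq : a ^ 2 ^ n = 1 := by rw [← hoa]; exact pow_orderOf_eq_one a
  have hbq : b ^ 2 ^ n = 1 := by rw [← hob]; exact pow_orderOf_eq_one b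
  have hgen1 : ∀ g : G, ∃ x ∈ Subgroup.zpowers a, ∃ y ∈ Subgroup.zpowers b, g = x * y := by
    intro g
    obtain ⟨i, j, rfl⟩ := hgen g
    exact ⟨_, Subgroup.pow_mem _ (Subgroup.mem_zpowers a) i, _,
      Subgroup.pow_mem _ (Subgroup.mem_zpowers b) j, rfl⟩
  have hgen2 : ∀ g : G, ∃ y ∈ Subgroup.zpowers b, ∃ x ∈ Subgroup.zpowers a, g = y * x := by
    intro g
    obtain ⟨x, hx, y, hy, e⟩ := hgen1 g⁻¹
    refine ⟨y⁻¹, Subgroup.inv_mem _ hy, x⁻¹, Subgroup.inv_mem _ hx, ?_⟩
    rw [← mul_inv_rev, ← e, inv_inv]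
  obtain ⟨M, hM1, hM2⟩ := idx_lemma a b ha hgen1
  obtain ⟨M', hM1', hM2'⟩ := idx_lemma b a hb hgen2
  have hMM : M' = M := by
    rw [hM1, hoa, hob] at hM1'
    exact (Nat.eq_of_mul_eq_mul_left (by positivity) hM1').symm
  rw [hMM] at hM2'
  have hMdvd : M ∣ 2 ^ n := (hM2 (2 ^ n)).mp (by rw [hbq]; exact Subgroup.one_mem _)
  obtain ⟨m, hm, rfl⟩ := (Nat.dvd_prime_pow Nat.prime_two).mp hMdvd
  have hDc : ∀ x, x ∈ Subgroup.zpowers a → x ∈ Subgroup.zpowers b → ∀ g : G, Commute x g := by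
    intro x hxa hxb g
    obtain ⟨i, j, rfl⟩ := hgen g
    have h1 : Commute x a := by
      obtain ⟨k, rfl⟩ := Subgroup.mem_zpowers_iff.mp hxa
      exact (Commute.refl a).zpow_left k
    have h2 : Commute x b := by
      obtain ⟨k, rfl⟩ := Subgroup.mem_zpowers_iff.mp hxb
      exact (Commute.refl b).zpow_left k
    exact (h1.pow_right i).mul_right (h2.pow_right j)
  obtain ⟨z, hz⟩ : ∃ z, z = b * a * b⁻¹ * a⁻¹ := ⟨_, rfl⟩
  have hza : z ∈ Subgroup.zpowers a := by
    rw [hz]; exact Subgroup.mul_mem _ (ha b) (Subgroup.inv_mem _ (Subgroup.mem_zpowers a))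
  have hzb : z ∈ Subgroup.zpowers b := by
    have e : z = b * (a * b * a⁻¹)⁻¹ := by rw [hz]; group
    rw [e]; exact Subgroup.mul_mem _ (Subgroup.mem_zpowers b) (Subgroup.inv_mem _ (hb a))
  have hzc := hDc z hza hzb
  have hba : b * a = a * b * z := by
    have e : b * a = z * a * b := by rw [hz]; group
    rw [e, (hzc a).eq, mul_assoc, (hzc b).eq, ← mul_assoc]
  rcases Nat.lt_or_ge m n with hlt | hge
  swap
  · have hmn : m = n := le_antisymm hm hge
    left
    have hD : ∀ x, x ∈ Subgroup.zpowers a → x ∈ Subgroup.zpowers b → x = 1 := by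
      intro x hxa hxb
      obtain ⟨k, rfl⟩ := exists_npow_of_mem_zpowers haq hxa
      have h1 := (hM2' k).mp hxb
      rw [hmn, ← hoa] at h1
      exact orderOf_dvd_iff_pow_eq_one.mp h1
    have hz1 : z = 1 := hD z hza hzb
    have hcomm : a * b = b * a := by rw [hba, hz1, mul_one]
    have : NeZero (2 ^ n) := ⟨by positivity⟩
    exact ⟨n, 2, homocyclic_of_direct a b (2 ^ n) hoa hob hcomm hD (by rw [hM1, hoa, hmn])⟩
  · right
    obtain ⟨n', rfl⟩ : ∃ n', n = n' + 1 := ⟨n - 1, by omega⟩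
    obtain ⟨ω, hω⟩ : ∃ ω, ω = a ^ 2 ^ n' := ⟨_, rfl⟩
    have hω2 : ω ^ 2 = 1 := by rw [hω, ← pow_mul, ← pow_succ]; exact haq
    have hω1 : ω ≠ 1 := by
      rw [hω]
      apply pow_ne_one_of_lt_orderOf (by positivity)
      rw [hoa]; exact Nat.pow_lt_pow_right (by norm_num) (Nat.lt_succ_self n')
    have hωb : ω ∈ Subgroup.zpowers b := by
      rw [hω]
      exact (hM2' _).mpr (Nat.pow_dvd_pow 2 (by omega))
    have hωb' : ω = b ^ 2 ^ n' := unique_involution hob hωb hω2 hω1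
    have hZc : ∀ g : G, Commute ((z ^ t) ^ s) g := fun g => ((hzc g).pow_left t).pow_left s
    have hBA : b ^ t * a ^ s = a ^ s * b ^ t * (z ^ t) ^ s :=
      comm_pow_right (comm_pow_left hba hzc t) (fun g => (hzc g).pow_left t) s
    have hpw := pow_mul_class_two hBA hZc (2 ^ n')
    rw [← hc] at hpw
    have hAK : (a ^ s) ^ 2 ^ n' = ω := by
      rw [← pow_mul, mul_comm, pow_mul, ← hω]
      obtain ⟨s', rfl⟩ := hs
      rw [pow_succ, pow_mul, hω2, one_pow, one_mul]
    have hBK : (b ^ t) ^ 2 ^ n' = ω := by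
      rw [← pow_mul, mul_comm, pow_mul, ← hωb']
      obtain ⟨t', rfl⟩ := ht
      rw [pow_succ, pow_mul, hω2, one_pow, one_mul]
    rw [hAK, hBK, ← pow_two, hω2, one_mul] at hpw
    have hcK : c ^ 2 ^ n' ≠ 1 := by
      apply pow_ne_one_of_lt_orderOf (by positivity)
      rw [hoc]; exact Nat.pow_lt_pow_right (by norm_num) (Nat.lt_succ_self n')
    rw [hpw] at hcK
    have hw_b : a ^ 2 ^ m ∈ Subgroup.zpowers b := (hM2' _).mpr dvd_rfl
    have hwc := hDc (a ^ 2 ^ m) (Subgroup.pow_mem _ (Subgroup.mem_zpowers a) _) hw_b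
    have hzM : z ^ 2 ^ m = 1 := by
      have h1 : b * a * b⁻¹ = z * a := by rw [hz]; group
      have h2 : b * a ^ 2 ^ m * b⁻¹ = z ^ 2 ^ m * a ^ 2 ^ m := by
        rw [← conj_pow, h1, (hzc a).mul_pow]
      have h3 : b * a ^ 2 ^ m * b⁻¹ = a ^ 2 ^ m := by
        rw [← (hwc b).eq, mul_inv_cancel_right]
      rw [h3] at h2
      have h4 : 1 * a ^ 2 ^ m = z ^ 2 ^ m * a ^ 2 ^ m := by rw [one_mul]; exact h2
      exact (mul_right_cancel h4).symm
    obtain ⟨k, hk⟩ := exists_npow_of_mem_zpowers haq hza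
    have hkm : 2 ^ m ∣ k := (hM2' k).mp (hk ▸ hzb)
    rcases Nat.eq_zero_or_pos n' with hn0 | hn0
    · exfalso
      subst hn0
      apply hcK
      simp
    obtain ⟨n'', rfl⟩ : ∃ n'', n' = n'' + 1 := ⟨n' - 1, by omega⟩
    have hT : 2 ^ (n'' + 1) * (2 ^ (n'' + 1) - 1) / 2 = 2 ^ n'' * (2 ^ (n'' + 1) - 1) := by
      rw [pow_succ, mul_comm (2 ^ n'') 2, mul_assoc, Nat.mul_div_cancel_left _ (by norm_num)]
    rw [hT] at hcK
    have hm1 : n'' + 1 ≤ m := by
      by_contra hlt'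
      apply hcK
      obtain ⟨d, hd⟩ : 2 ^ m ∣ 2 ^ n'' := Nat.pow_dvd_pow 2 (by omega)
      rw [← pow_mul, ← pow_mul, hd]
      have e : t * (s * (2 ^ m * d * (2 ^ (n'' + 1) - 1)))
          = 2 ^ m * (t * s * (d * (2 ^ (n'' + 1) - 1))) := by ring
      rw [e, pow_mul, hzM, one_pow]
    have hm2 : m ≤ 1 := by
      by_contra hlt'
      apply hcK
      obtain ⟨k', hk'⟩ := hkm
      obtain ⟨d, hd⟩ : 2 ^ 2 ∣ 2 ^ m := Nat.pow_dvd_pow 2 (by omega)
      rw [hk, ← pow_mul, ← pow_mul, ← pow_mul, hk', hd]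
      have e : 2 ^ 2 * d * k' * (t * (s * (2 ^ n'' * (2 ^ (n'' + 1) - 1))))
          = 2 ^ (n'' + 1 + 1) * (d * k' * t * s * (2 ^ (n'' + 1) - 1)) := by ring
      rw [e, pow_mul, haq, one_pow]
    have hmeq : m = 1 := by omega
    have hn''0 : n'' = 0 := by omega
    subst hmeq
    subst hn''0
    have hz1 : z ≠ 1 := by
      intro h
      apply hcK
      rw [h]; simp
    refine max_class_of_index_two hG a b (ha b) ?_ ?_ ?_ ?_
    · intro hbmem
      have h1 := (hM2 1).mp (by rw [pow_one]; exact hbmem)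
      norm_num at h1
    · exact (hM2 2).mpr (by norm_num)
    · intro g
      obtain ⟨i, j, rfl⟩ := hgen g
      exact ⟨_, Subgroup.pow_mem _ (Subgroup.mem_zpowers a) i, j, rfl⟩
    · intro u hu hu4
      apply hz1
      have h1 : a ^ u = a := by
        have h2 : u = 4 * (u / 4) + 1 := by omega
        rw [h2, pow_succ, pow_mul]
        have h3 : a ^ 4 = 1 := by
          have h4 := haq
          norm_num at h4
          exact h4
        rw [h3, one_pow, one_mul]
      rw [h1] at hu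
      rw [hz, hu, mul_inv_cancel]

/-- a metacyclic 2-group with a nontrivial automorphism of odd order is homocyclic or of maximal class -/
theorem metacyclic_odd_aut {G : Type*} [Group G] [Finite G] (hG : IsPGroup 2 G)
    (hm : Cfsg.IsMetacyclic G) (β : MulAut G) (hodd : Odd (orderOf β)) (hβ : β ≠ 1) :
    (∃ n k : ℕ, Nonempty (G ≃* Multiplicative (Fin k → ZMod (2 ^ n)))) ∨
    (∃ m, Nonempty (G ≃* DihedralGroup m)) ∨ (∃ m, Nonempty (G ≃* QuaternionGroup m)) ∨
      Cfsg.IsQuasiDihedral G := by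
  classical
  have hVexp : ∀ v : G ⧸ frattini G, v ^ 2 = 1 := by
    intro v
    obtain ⟨x, rfl⟩ := QuotientGroup.mk_surjective v
    rw [← QuotientGroup.mk_pow, QuotientGroup.eq_one_iff]
    exact (Cfsg.Agent.S0012.result 2 hG).2 x
  have hVcard : Nat.card (G ⧸ frattini G) ∣ 2 ^ 2 :=
    metacyclic_card_dvd_sq (metacyclic_of_surjective hm (QuotientGroup.mk' _)
      (QuotientGroup.mk'_surjective _)) hVexp
  obtain ⟨ρ, hρdef⟩ : ∃ ρ : MulAut (G ⧸ frattini G), ρ = frattiniAct G β := ⟨_, rfl⟩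
  have hρmk : ∀ x : G, ρ (x : G ⧸ frattini G) = ((β x : G) : G ⧸ frattini G) := by
    intro x; rw [hρdef]; rfl
  have hcop : (orderOf β).Coprime 2 := Nat.coprime_two_right.mpr hodd
  have hρ1 : ρ ≠ 1 := by
    intro h
    apply hβ
    apply burnside_frattini hG β hcop
    intro x
    have h1 := hρmk x
    rw [h, MulAut.one_apply] at h1
    exact QuotientGroup.eq.mp h1
  have hρodd : Odd (orderOf ρ) := by
    have h1 : orderOf ρ ∣ orderOf β := by rw [hρdef]; exact orderOf_map_dvd _ β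
    exact hodd.of_dvd_nat h1
  have hfix := no_fixed_of_odd hVcard hVexp ρ hρodd hρ1
  have hfix2 : ∀ v, ρ (ρ v) = v → v = 1 := by
    intro v hv
    obtain ⟨j, hj⟩ := hρodd
    have h1 : ρ ^ (2 * (j + 1)) = ρ := by
      have e : 2 * (j + 1) = orderOf ρ + 1 := by omega
      rw [e, pow_succ, pow_orderOf_eq_one, one_mul]
    apply hfix
    have h2 : (ρ ^ 2) v = v := by rw [pow_two, MulAut.mul_apply]; exact hv
    have h3 : ((ρ ^ 2) ^ (j + 1)) v = v := by
      rw [← aut_iterate_apply]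
      exact Function.iterate_fixed h2 _
    rw [← pow_mul, h1] at h3
    exact h3
  have hpowV : ∀ (v : G ⧸ frattini G) (j : ℕ), v ^ j = 1 ∨ v ^ j = v := by
    intro v j
    rcases Nat.even_or_odd' j with ⟨i, hi | hi⟩
    · left; rw [hi, pow_mul, hVexp, one_pow]
    · right; rw [hi, pow_succ, pow_mul, hVexp, one_pow, one_mul]
  have hevenV : ∀ (v : G ⧸ frattini G) (j : ℕ), Even j → v ^ j = 1 := by
    intro v j hj
    obtain ⟨i, rfl⟩ := hj
    rw [← two_mul, pow_mul, hVexp, one_pow]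
  obtain ⟨N, hNn, hNc, hZc⟩ := hm
  obtain ⟨a', ha'⟩ := IsCyclic.exists_generator (α := N)
  obtain ⟨a, hadef⟩ : ∃ a : G, a = (a' : G) := ⟨_, rfl⟩
  have haN : a ∈ N := by rw [hadef]; exact a'.2
  have hNa : N = Subgroup.zpowers a := by
    apply le_antisymm
    · intro g hg
      obtain ⟨i, hi⟩ := Subgroup.mem_zpowers_iff.mp (ha' ⟨g, hg⟩)
      rw [Subgroup.mem_zpowers_iff]
      refine ⟨i, ?_⟩
      have h1 := congrArg (fun z : N => (z : G)) hi
      simpa [hadef] using h1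
    · rw [Subgroup.zpowers_le]; exact haN
  have ha_norm : ∀ g : G, g * a * g⁻¹ ∈ Subgroup.zpowers a := by
    intro g
    rw [← hNa]
    exact hNn.conj_mem a haN g
  obtain ⟨e, he⟩ := hG a
  obtain ⟨z₀, hz₀⟩ := IsCyclic.exists_generator (α := G ⧸ N)
  obtain ⟨h₀, rfl⟩ := QuotientGroup.mk_surjective z₀
  obtain ⟨e₀, he₀⟩ := hG h₀
  have he₀' : ((h₀ : G) : G ⧸ N) ^ 2 ^ e₀ = 1 := by rw [← QuotientGroup.mk_pow, he₀]; rfl
  have hdec : ∀ g : G, ∃ i j : ℕ, g = a ^ i * h₀ ^ j := by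
    intro g
    obtain ⟨j, hj⟩ := exists_npow_of_mem_zpowers he₀' (hz₀ (g : G ⧸ N))
    have h1 : g * (h₀ ^ j)⁻¹ ∈ N := by
      rw [← QuotientGroup.eq_one_iff, QuotientGroup.mk_mul, QuotientGroup.mk_inv,
        QuotientGroup.mk_pow, ← hj, mul_inv_cancel]
    rw [hNa] at h1
    obtain ⟨i, hi⟩ := exists_npow_of_mem_zpowers he h1
    exact ⟨i, j, by rw [← hi]; group⟩
  have hmkpow : ∀ (x : G) (i : ℕ), ((x ^ i : G) : G ⧸ frattini G) = (x : G ⧸ frattini G) ^ i :=
    fun x i => QuotientGroup.mk_pow _ x i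
  have ha1 : ((a : G) : G ⧸ frattini G) ≠ 1 := by
    intro hā
    have hall : ∀ g : G, (g : G ⧸ frattini G) = 1 ∨
        (g : G ⧸ frattini G) = (h₀ : G ⧸ frattini G) := by
      intro g
      obtain ⟨i, j, rfl⟩ := hdec g
      rw [QuotientGroup.mk_mul, hmkpow, hmkpow, hā, one_pow, one_mul]
      exact hpowV _ j
    have hh1 : ((h₀ : G) : G ⧸ frattini G) = 1 := by
      rcases hall (β h₀) with h | h
      · rw [← hρmk] at h
        exact (map_eq_one_iff ρ ρ.injective).mp h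
      · rw [← hρmk] at h
        exact hfix _ h
    apply hρ1
    ext v
    obtain ⟨g, rfl⟩ := QuotientGroup.mk_surjective v
    have h1 : ∀ g : G, (g : G ⧸ frattini G) = 1 := by
      intro g
      rcases hall g with h | h
      · exact h
      · rw [h, hh1]
    rw [MulAut.one_apply, hρmk, h1, h1]
  obtain ⟨b, hbdef⟩ : ∃ b : G, b = β a := ⟨_, rfl⟩
  obtain ⟨c, hcdef⟩ : ∃ c : G, c = β b := ⟨_, rfl⟩
  have hbV : (b : G ⧸ frattini G) = ρ (a : G ⧸ frattini G) := by rw [hbdef, hρmk]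
  have hcV : (c : G ⧸ frattini G) = ρ (b : G ⧸ frattini G) := by rw [hcdef, hρmk]
  have hb1 : (b : G ⧸ frattini G) ≠ 1 := by
    rw [hbV]; intro h; exact ha1 ((map_eq_one_iff ρ ρ.injective).mp h)
  have hba : (b : G ⧸ frattini G) ≠ (a : G ⧸ frattini G) := by
    rw [hbV]; intro h; exact ha1 (hfix _ h)
  have hc1 : (c : G ⧸ frattini G) ≠ 1 := by
    rw [hcV]; intro h; exact hb1 ((map_eq_one_iff ρ ρ.injective).mp h)
  have hcb : (c : G ⧸ frattini G) ≠ (b : G ⧸ frattini G) := by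
    rw [hcV]; intro h; exact hb1 (hfix _ h)
  have hca : (c : G ⧸ frattini G) ≠ (a : G ⧸ frattini G) := by
    rw [hcV, hbV]; intro h; exact ha1 (hfix2 _ h)
  have hb_norm : ∀ g : G, g * b * g⁻¹ ∈ Subgroup.zpowers b := by
    intro g
    have e1 : g * b * g⁻¹ = β (β.symm g * a * (β.symm g)⁻¹) := by
      rw [map_mul, map_mul, map_inv, MulEquiv.apply_symm_apply, hbdef]
    obtain ⟨k, hk⟩ := Subgroup.mem_zpowers_iff.mp (ha_norm (β.symm g))
    rw [e1, ← hk, map_zpow, ← hbdef]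
    exact Subgroup.zpow_mem_zpowers b k
  obtain ⟨ib, jb, hbdec⟩ := hdec b
  have hjb : Odd jb := by
    by_contra hev
    rw [Nat.not_odd_iff_even] at hev
    have h1 : (b : G ⧸ frattini G) = (a : G ⧸ frattini G) ^ ib := by
      rw [hbdec, QuotientGroup.mk_mul, hmkpow, hmkpow, hevenV _ _ hev, mul_one]
    rcases hpowV (a : G ⧸ frattini G) ib with h | h
    · exact hb1 (h1.trans h)
    · exact hba (h1.trans h)
  have hgen : ∀ g : G, ∃ i j : ℕ, g = a ^ i * b ^ j := by
    intro g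
    have hbN : ((b : G) : G ⧸ N) = (h₀ : G ⧸ N) ^ jb := by
      rw [hbdec, QuotientGroup.mk_mul, QuotientGroup.mk_pow, QuotientGroup.mk_pow,
        (QuotientGroup.eq_one_iff a).mpr haN, one_pow, one_mul]
    have h1 : ((h₀ : G) : G ⧸ N) ∈ Subgroup.zpowers ((b : G) : G ⧸ N) := by
      rw [hbN]; exact mem_zpowers_pow_odd he₀' hjb
    have h2 : ((g : G) : G ⧸ N) ∈ Subgroup.zpowers ((b : G) : G ⧸ N) := by
      obtain ⟨k, hk⟩ := Subgroup.mem_zpowers_iff.mp (hz₀ (g : G ⧸ N))
      rw [← hk]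
      exact Subgroup.zpow_mem _ h1 k
    obtain ⟨eb, heb⟩ := hG b
    have heb' : ((b : G) : G ⧸ N) ^ 2 ^ eb = 1 := by rw [← QuotientGroup.mk_pow, heb]; rfl
    obtain ⟨j, hj⟩ := exists_npow_of_mem_zpowers heb' h2
    have h3 : g * (b ^ j)⁻¹ ∈ N := by
      rw [← QuotientGroup.eq_one_iff, QuotientGroup.mk_mul, QuotientGroup.mk_inv,
        QuotientGroup.mk_pow, ← hj, mul_inv_cancel]
    rw [hNa] at h3
    obtain ⟨i, hi⟩ := exists_npow_of_mem_zpowers he h3
    exact ⟨i, j, by rw [← hi]; group⟩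
  obtain ⟨s, t, hcst⟩ := hgen c
  have hcVst : (c : G ⧸ frattini G) = (a : G ⧸ frattini G) ^ s * (b : G ⧸ frattini G) ^ t := by
    rw [← hmkpow, ← hmkpow, ← QuotientGroup.mk_mul, ← hcst]
  have hs : Odd s := by
    by_contra hev
    rw [Nat.not_odd_iff_even] at hev
    rw [hevenV _ _ hev, one_mul] at hcVst
    rcases hpowV (b : G ⧸ frattini G) t with h | h
    · exact hc1 (hcVst.trans h)
    · exact hcb (hcVst.trans h)
  have ht : Odd t := by
    by_contra hev
    rw [Nat.not_odd_iff_even] at hev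
    rw [hevenV _ _ hev, mul_one] at hcVst
    rcases hpowV (a : G ⧸ frattini G) s with h | h
    · exact hc1 (hcVst.trans h)
    · exact hca (hcVst.trans h)
  have hob : orderOf b = orderOf a := by rw [hbdef]; exact MulEquiv.orderOf_eq β a
  have hoc : orderOf c = orderOf a := by rw [hcdef, MulEquiv.orderOf_eq β b, hob]
  exact core_struct hG a b c ha_norm hb_norm hgen hob hoc s t hs ht hcst

/-- the automorphism group of a metacyclic 2-group that is neither homocyclic nor of maximal class is a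
2-group -/
theorem aut_pow_two_of_metacyclic {G : Type*} [Group G] [Finite G] (hG : IsPGroup 2 G)
    (hm : Cfsg.IsMetacyclic G)
    (hnot : ¬ ((∃ n k : ℕ, Nonempty (G ≃* Multiplicative (Fin k → ZMod (2 ^ n)))) ∨
      (∃ m, Nonempty (G ≃* DihedralGroup m)) ∨ (∃ m, Nonempty (G ≃* QuaternionGroup m)) ∨
      Cfsg.IsQuasiDihedral G)) (α : MulAut G) : ∃ k : ℕ, α ^ 2 ^ k = 1 := by
  have hpos : orderOf α ≠ 0 := (orderOf_pos α).ne'
  obtain ⟨k, m, hmodd, hkm⟩ := Nat.exists_eq_two_pow_mul_odd hpos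
  refine ⟨k, ?_⟩
  by_contra hne
  apply hnot
  apply metacyclic_odd_aut hG hm (α ^ 2 ^ k) ?_ hne
  have h1 : (α ^ 2 ^ k) ^ m = 1 := by rw [← pow_mul, ← hkm, pow_orderOf_eq_one]
  exact hmodd.of_dvd_nat (orderOf_dvd_of_pow_eq_one h1)

end Cfsg.Agent.Helper27
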