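import Cfsg.Agent.Helper27.ClosedRadical

set_option autoImplicit false

namespace Cfsg.Agent.Helper27

open Cfsg Cfsg.FusionSystem

open scoped commutatorElement

variable {Ω : Type*} [Group Ω] {S : Subgroup Ω}

/-- a strongly closed metacyclic subgroup (`p` odd) lies in every fully normalized centric radical subgroup -/
theorem closed_le_radical_of_metacyclic [Finite S] {p : ℕ} [Fact p.Prime] (hS : IsPGroup p S)
    {F : FusionSystem S} (hF : F.IsSaturated p) {P : Subgroup Ω} (hP : F.StronglyClosed P)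
    (hp2 : p ≠ 2) (hm : Cfsg.IsMetacyclic ↥P) {R : Subgroup Ω} (hRn : F.IsFullyNormalized R)
    (hRc : F.IsCentric R) (hRr : F.IsRadical p R) : P ≤ R := by
  by_contra hPR
  have hRS : R ≤ S := hRn.1
  have hPS := hP.1
  have : Finite R := finite_of_le hRS
  have : Finite P := finite_of_le hPS
  have hRp : IsPGroup p R := hS.to_le hRS
  obtain ⟨x, hxP, hxN, hxR, hxp, hcA, hcI, ⟨n, hcn⟩, hcQ⟩ := exists_outer_closed hS hP hRS hRc hPR
  have hxS : x ∈ S := hPS hxP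
  obtain ⟨c, hcdef⟩ : ∃ c : MulAut R, c = conjAut R x hxN := ⟨_, rfl⟩
  rw [← hcdef] at hcA hcI hcn hcQ
  have hcapp : ∀ w : R, ((c w : R) : Ω) = x * w * x⁻¹ := by
    intro w; rw [hcdef]; rfl
  -- the subgroup Q = P ∩ R of R
  obtain ⟨Q, hQdef⟩ : ∃ Q : Subgroup R, Q = P.subgroupOf R := ⟨_, rfl⟩
  have hQmem : ∀ r : R, r ∈ Q ↔ (r : Ω) ∈ P := by
    intro r; rw [hQdef, Subgroup.mem_subgroupOf]
  have hQinv : ∀ α ∈ F.autGroup R, ∀ q ∈ Q, α q ∈ Q := by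
    intro α hα q hq
    rw [hQmem] at hq ⊢
    have hmor : Mor F R (autFn α) := (mem_autGroup_iff hRS α).mp hα
    have h1 := (Mor.mem_closed_iff hP hmor q.2).mpr hq
    rw [autFn_apply] at h1
    exact h1
  have hQp : IsPGroup p Q := hRp.to_subgroup Q
  obtain ⟨ι, hι⟩ : ∃ ι : Q →* P, ∀ q : Q, ((ι q : P) : Ω) = ((q : R) : Ω) :=
    ⟨MonoidHom.mk' (fun q => ⟨((q : R) : Ω), (hQmem q).mp q.2⟩) (fun a b => rfl), fun _ => rfl⟩
  have hιinj : Function.Injective ι := by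
    intro a b hab
    apply Subtype.ext
    apply Subtype.ext
    have h1 := congrArg (fun z : P => (z : Ω)) hab
    simp only [hι] at h1
    exact h1
  have hmQ : Cfsg.IsMetacyclic Q := metacyclic_of_injective hm ι hιinj
  have hidx : Nat.card (Q ⧸ frattini Q) ∣ p ^ 2 := by
    apply metacyclic_card_dvd_sq (metacyclic_of_surjective hmQ (QuotientGroup.mk' _)
      (QuotientGroup.mk'_surjective _))
    intro v
    obtain ⟨y, rfl⟩ := QuotientGroup.mk_surjective v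
    rw [← QuotientGroup.mk_pow, QuotientGroup.eq_one_iff]
    exact (Cfsg.Agent.S0012.result p hQp).2 y
  have hrad : ∀ N : Subgroup (F.autGroup R), N.Normal → IsPGroup p N →
      N.map (F.autGroup R).subtype ≤ Inn R := by
    intro N hN hNp
    rw [← hRr.2]
    exact Subgroup.map_mono (le_pCore' hN hNp)
  have hcQ' : ∀ r : R, r⁻¹ * c r ∈ Q := fun r => (hQmem _).mpr (hcQ r)
  obtain ⟨⟨q₁, hq₁Q, hq₁⟩, τ, hτA, hτQ, hτinv, hτc⟩ :=
    aut_invert hRp (F.autGroup R) (Inn R) hrad Q hQinv hidx c hcA n hcn hcI hcQ'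
  rw [hcdef] at hτc
  obtain ⟨N, σ, hσ, hRN, hxN', hσy, hσx⟩ := exists_extension_comm hS hF hRn hRc hτA hxS hxN hτc
  -- the Frattini subgroup of Q inside Ω
  obtain ⟨Φ, hΦdef⟩ : ∃ Φ : Subgroup Ω, Φ = ((frattini Q).map Q.subtype).map R.subtype := ⟨_, rfl⟩
  have hΦmem : ∀ w : Q, w ∈ frattini Q → (((w : R) : Ω)) ∈ Φ := by
    intro w hw
    rw [hΦdef]
    exact ⟨(w : R), ⟨w, hw, rfl⟩, rfl⟩
  have hΦmem' : ∀ r : R, (r : Ω) ∈ Φ → r ∈ (frattini Q).map Q.subtype := by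
    intro r hr
    rw [hΦdef] at hr
    obtain ⟨z, hz, hzr⟩ := hr
    have h1 : z = r := Subtype.ext hzr
    rw [← h1]
    exact hz
  have hΦle : Φ ≤ P ⊓ R := by
    intro z hz
    rw [hΦdef] at hz
    obtain ⟨r, ⟨w, hw, rfl⟩, rfl⟩ := hz
    exact ⟨(hQmem _).mp w.2, (w : R).2⟩
  have hlift : ∀ a ∈ P ⊓ R, ∃ a' : Q, ((a' : R) : Ω) = a := by
    intro a ha
    exact ⟨⟨⟨a, ha.2⟩, (hQmem _).mpr ha.1⟩, rfl⟩
  have hpow : ∀ a ∈ P ⊓ R, a ^ p ∈ Φ := by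
    intro a ha
    obtain ⟨a', rfl⟩ := hlift a ha
    have h1 := hΦmem _ ((Cfsg.Agent.S0012.result p hQp).2 a')
    simpa using h1
  have hcomm : ∀ a ∈ P ⊓ R, ∀ b ∈ P ⊓ R, a * b * a⁻¹ * b⁻¹ ∈ Φ := by
    intro a ha b hb
    obtain ⟨a', rfl⟩ := hlift a ha
    obtain ⟨b', rfl⟩ := hlift b hb
    have h1 : a' * b' * a'⁻¹ * b'⁻¹ ∈ frattini Q := by
      apply (Cfsg.Agent.S0012.result p hQp).1
      rw [← commutatorElement_def]
      exact Subgroup.commutator_mem_commutator (Subgroup.mem_top _) (Subgroup.mem_top _)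
    have h2 := hΦmem _ h1
    simpa using h2
  have hxQ : ∀ a ∈ P ⊓ R, x * a * x⁻¹ ∈ P ⊓ R := by
    intro a ha
    exact ⟨StronglyClosed.conj_mem hP hxS ha.1, (Subgroup.mem_normalizer_iff.mp hxN a).mp ha.2⟩
  have hxΦ : ∀ z ∈ Φ, x * z * x⁻¹ ∈ Φ := by
    intro z hz
    rw [hΦdef] at hz
    obtain ⟨r, ⟨w, hw, rfl⟩, rfl⟩ := hz
    have h1 := frattini_aut_mem_gen (Helper1.restrictAut c Q (hQinv c hcA)) hw
    have h2 := hΦmem _ h1
    rw [Helper1.restrictAut_apply, hcapp] at h2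
    exact h2
  have hxpQ : x ^ p ∈ P ⊓ R := ⟨P.pow_mem hxP p, hxp⟩
  have hσmul : ∀ a ∈ (P ⊓ R) ⊔ Subgroup.zpowers x, ∀ b ∈ (P ⊓ R) ⊔ Subgroup.zpowers x,
      σ (a * b) = σ a * σ b := by
    have hle : (P ⊓ R) ⊔ Subgroup.zpowers x ≤ N :=
      sup_le (inf_le_right.trans hRN) ((Subgroup.zpowers_le).mpr hxN')
    intro a ha b hb
    exact hσ.map_mul (hle ha) (hle hb)
  have hσinv : ∀ a ∈ P ⊓ R, a * σ a ∈ Φ := by
    intro a ha
    have h1 := hτinv ⟨a, ha.2⟩ ((hQmem _).mpr ha.1)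
    have h2 : ((⟨a, ha.2⟩ * τ ⟨a, ha.2⟩ : R) : Ω) ∈ Φ := by
      rw [hΦdef]
      exact ⟨_, h1, rfl⟩
    rw [Subgroup.coe_mul, ← hσy] at h2
    exact h2
  have hq₀ : x⁻¹ * σ x ∈ P ⊓ R :=
    ⟨P.mul_mem (P.inv_mem hxP) ((Mor.mem_closed_iff hP hσ hxN').mpr hxP), hσx⟩
  have hσx' : σ x = x * (x⁻¹ * σ x) := by group
  have hfin := meta_end hp2 P hm (P ⊓ R) Φ inf_le_left hΦle hpow hcomm x hxP hxQ hxΦ hxpQ σ hσmul
    hσinv _ hq₀ hσx'
  -- contradiction with q₁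
  apply hq₁
  apply hΦmem'
  have ha : ((q₁ : R) : Ω) ∈ P ⊓ R := ⟨(hQmem _).mp hq₁Q, q₁.2⟩
  have h1 := hfin _ ha
  have h2 : ∀ z ∈ Φ, (q₁ : Ω)⁻¹ * z * (q₁ : Ω) ∈ Φ := by
    intro z hz
    have h3 := hcomm _ (Subgroup.inv_mem _ ha) z (hΦle hz)
    have e : (q₁ : Ω)⁻¹ * z * (q₁ : Ω) = ((q₁ : Ω)⁻¹ * z * ((q₁ : Ω)⁻¹)⁻¹ * z⁻¹) * z := by group
    rw [e]
    exact Φ.mul_mem h3 hz
  have h4 := h2 _ h1
  rw [Subgroup.coe_mul, hcapp, Subgroup.coe_inv]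
  have e : (q₁ : Ω)⁻¹ * (x * q₁ * x⁻¹) = (q₁ : Ω)⁻¹ * (x * q₁ * x⁻¹ * (q₁ : Ω)⁻¹) * q₁ := by
    group
  rw [e]
  exact h4

/-- a strongly closed metacyclic subgroup is normal in a saturated fusion system, for `p` odd -/
theorem metacyclic_closed_normal [Finite S] {p : ℕ} [Fact p.Prime] (hS : IsPGroup p S)
    {F : FusionSystem S} (hF : F.IsSaturated p) {P : Subgroup Ω} (hP : F.StronglyClosed P)
    (hp2 : p ≠ 2) (hm : Cfsg.IsMetacyclic ↥P) : F.IsNormal P :=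
  normal_of_le_radicals hS hF hP (fun _ hRn hRc hRr =>
    closed_le_radical_of_metacyclic hS hF hP hp2 hm hRn hRc hRr)

end Cfsg.Agent.Helper27
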