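import Cfsg.Agent.Helper27.MetaTwo

set_option autoImplicit false

namespace Cfsg.Agent.Helper27

open Cfsg

/-- Let `P` be a metacyclic 2-group, `Q ≤ P` with a normal subgroup `Φ` containing all squares and commutators of
`Q`, and `x ∈ P` normalizing `Q` and `Φ` with `x² ∈ Q`.  If some automorphism-like map `α` of `Q` (preserving `Φ`)
moves an element on which `x` acts trivially modulo `Φ` to one on which it does not, then `P` has a cyclic normal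
subgroup `⟨a⟩` of index two and an element `h` outside it which does not act on `⟨a⟩` by a power `≡ 1 (mod 4)`. -/
theorem meta_two_struct {Ω : Type*} [Group Ω] (P : Subgroup Ω) [Finite P] (hP2 : IsPGroup 2 P)
    (hm : Cfsg.IsMetacyclic ↥P)
    (Q Φ : Subgroup Ω) (hQP : Q ≤ P) (hΦQ : Φ ≤ Q)
    (hpow : ∀ q ∈ Q, q ^ 2 ∈ Φ) (hcomm : ∀ q ∈ Q, ∀ q' ∈ Q, q * q' * q⁻¹ * q'⁻¹ ∈ Φ)
    (x : Ω) (hxP : x ∈ P) (hxQ : ∀ q ∈ Q, x * q * x⁻¹ ∈ Q) (hxΦ : ∀ z ∈ Φ, x * z * x⁻¹ ∈ Φ)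
    (hx2 : x ^ 2 ∈ Q)
    (α : Ω → Ω) (hαmul : ∀ q ∈ Q, ∀ q' ∈ Q, α (q * q') = α q * α q') (hαQ : ∀ q ∈ Q, α q ∈ Q)
    (hαinj : ∀ q ∈ Q, ∀ q' ∈ Q, α q = α q' → q = q') (hαΦ : ∀ z ∈ Φ, α z ∈ Φ)
    (q₁ : Ω) (hq₁ : q₁ ∈ Q) (hq₁T : q₁⁻¹ * (x * q₁ * x⁻¹) ∈ Φ)
    (hq₁α : (α q₁)⁻¹ * (x * α q₁ * x⁻¹) ∉ Φ) :
    ∃ a ∈ P, ∃ h ∈ P, (∀ g ∈ P, g * a * g⁻¹ ∈ Subgroup.zpowers a) ∧ h ∉ Subgroup.zpowers a ∧
      h ^ 2 ∈ Subgroup.zpowers a ∧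
      (∀ g ∈ P, ∃ n ∈ Subgroup.zpowers a, ∃ j : ℕ, g = n * h ^ j) ∧
      ∀ u : ℕ, h * a * h⁻¹ = a ^ u → u % 4 ≠ 1 := by
  classical
  obtain ⟨N', hN'n, hN'c, hZc⟩ := hm
  have hpow2 : ∀ g ∈ P, ∃ e : ℕ, g ^ 2 ^ e = 1 := by
    intro g hg
    obtain ⟨e, he⟩ := hP2 ⟨g, hg⟩
    refine ⟨e, ?_⟩
    have h1 := congrArg (fun z : P => (z : Ω)) he
    simpa using h1
  have : Finite Q := Finite.of_injective (Subgroup.inclusion hQP) (Subgroup.inclusion_injective hQP)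
  -- the quotient
  obtain ⟨π, hπ⟩ : ∃ π : P →* (P ⧸ N'), π = QuotientGroup.mk' N' := ⟨_, rfl⟩
  have hZcomm : ∀ u v : P ⧸ N', u * v = v * u := fun u v => by
    let _ := IsCyclic.commGroup (α := P ⧸ N')
    exact mul_comm u v
  have hZ2 : IsPGroup 2 (P ⧸ N') := hP2.to_quotient N'
  obtain ⟨N, hNdef⟩ : ∃ N : Subgroup Ω, N = N'.map P.subtype := ⟨_, rfl⟩
  have hNP : N ≤ P := by
    rw [hNdef]; exact Subgroup.map_subtype_le N'
  have hN1 : ∀ g ∈ P, (afn π g = 1 ↔ g ∈ N) := by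
    intro g hg
    rw [afn_of_mem π hg, hπ, QuotientGroup.mk'_apply, QuotientGroup.eq_one_iff, hNdef]
    constructor
    · intro h
      exact ⟨⟨g, hg⟩, h, rfl⟩
    · rintro ⟨g', hg', hgg'⟩
      have h1 : g' = ⟨g, hg⟩ := Subtype.ext hgg'
      rw [← h1]
      exact hg'
  -- generator of N
  obtain ⟨a', ha'⟩ := IsCyclic.exists_generator (α := N')
  obtain ⟨a, hadef⟩ : ∃ a : Ω, a = ((a' : P) : Ω) := ⟨_, rfl⟩
  have haN : a ∈ N := by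
    rw [hNdef, hadef]; exact ⟨(a' : P), a'.2, rfl⟩
  have haP : a ∈ P := hNP haN
  have hNa : N = Subgroup.zpowers a := by
    apply le_antisymm
    · intro g hg
      rw [hNdef] at hg
      obtain ⟨g', hg', rfl⟩ := hg
      obtain ⟨i, hi⟩ := Subgroup.mem_zpowers_iff.mp (ha' ⟨g', hg'⟩)
      rw [Subgroup.mem_zpowers_iff]
      refine ⟨i, ?_⟩
      have h1 := congrArg (fun z : N' => ((z : P) : Ω)) hi
      simpa [hadef] using h1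
    · rw [Subgroup.zpowers_le]; exact haN
  have hNnorm : ∀ g ∈ P, ∀ n ∈ N, g * n * g⁻¹ ∈ N := by
    intro g hg n hn
    have hn' := (hN1 n (hNP hn)).mpr hn
    rw [← hN1 _ (P.mul_mem (P.mul_mem hg (hNP hn)) (P.inv_mem hg)), afn_conj π hg (hNP hn), hn']
    group
  have hΦn : ∀ q ∈ Q, ∀ z ∈ Φ, q * z * q⁻¹ ∈ Φ := by
    intro q hq z hz
    have e : q * z * q⁻¹ = (q * z * q⁻¹ * z⁻¹) * z := by group
    rw [e]
    exact Φ.mul_mem (hcomm q hq z (hΦQ hz)) hz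
  -- the elements on which x acts trivially modulo Φ
  let ℓ : Subgroup Ω :=
    { carrier := {q | q ∈ Q ∧ q⁻¹ * (x * q * x⁻¹) ∈ Φ}
      one_mem' := ⟨Q.one_mem, by
        have e : (1 : Ω)⁻¹ * (x * 1 * x⁻¹) = 1 := by group
        rw [e]; exact Φ.one_mem⟩
      mul_mem' := by
        rintro q q' ⟨hq, hqT⟩ ⟨hq', hq'T⟩
        refine ⟨Q.mul_mem hq hq', ?_⟩
        have e : (q * q')⁻¹ * (x * (q * q') * x⁻¹)
            = (q'⁻¹ * (q⁻¹ * (x * q * x⁻¹)) * q'⁻¹⁻¹) * (q'⁻¹ * (x * q' * x⁻¹)) := by group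
        rw [e]
        exact Φ.mul_mem (hΦn _ (Q.inv_mem hq') _ hqT) hq'T
      inv_mem' := by
        rintro q ⟨hq, hqT⟩
        refine ⟨Q.inv_mem hq, ?_⟩
        have e : q⁻¹⁻¹ * (x * q⁻¹ * x⁻¹) = q * (q⁻¹ * (x * q * x⁻¹))⁻¹ * q⁻¹ := by group
        rw [e]
        exact hΦn q hq _ (Φ.inv_mem hqT) }
  have hℓmem : ∀ q, q ∈ ℓ ↔ q ∈ Q ∧ q⁻¹ * (x * q * x⁻¹) ∈ Φ := fun _ => Iff.rfl
  have hΦℓ : Φ ≤ ℓ := by
    intro z hz
    exact ⟨hΦQ hz, Φ.mul_mem (Φ.inv_mem hz) (hxΦ z hz)⟩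
  -- C = Q ∩ N is cyclic
  have hCle : Q ⊓ N ≤ Subgroup.zpowers a := hNa ▸ inf_le_right
  obtain ⟨a₁, ha₁C, ha₁gen⟩ : ∃ a₁ ∈ Q ⊓ N, ∀ c ∈ Q ⊓ N, c ∈ Subgroup.zpowers a₁ := by
    have : IsCyclic ↥(Q ⊓ N) := Subgroup.isCyclic_of_le hCle
    obtain ⟨g, hg⟩ := IsCyclic.exists_generator (α := ↥(Q ⊓ N))
    refine ⟨g, g.2, fun c hc => ?_⟩
    obtain ⟨i, hi⟩ := Subgroup.mem_zpowers_iff.mp (hg ⟨c, hc⟩)
    refine Subgroup.mem_zpowers_iff.mpr ⟨i, ?_⟩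
    have h1 := congrArg Subtype.val hi
    simpa using h1
  have ha₁Q : a₁ ∈ Q := ha₁C.1
  have ha₁N : a₁ ∈ N := ha₁C.2
  have ha₁P : a₁ ∈ P := hQP ha₁Q
  obtain ⟨e₁, he₁⟩ := hpow2 a₁ ha₁P
  -- C ≤ ℓ
  have hxC : x * a₁ * x⁻¹ ∈ Q ⊓ N := ⟨hxQ a₁ ha₁Q, hNnorm x hxP a₁ ha₁N⟩
  have hCℓ : Q ⊓ N ≤ ℓ := by
    intro c hc
    refine ⟨hc.1, ?_⟩
    by_cases ha₁1 : a₁ = 1
    · have hc1 : c = 1 := by
        have h1 := ha₁gen c hc
        rw [ha₁1, Subgroup.zpowers_one_eq_bot, Subgroup.mem_bot] at h1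
        exact h1
      rw [hc1]
      have e : (1 : Ω)⁻¹ * (x * 1 * x⁻¹) = 1 := by group
      rw [e]; exact Φ.one_mem
    obtain ⟨r, hr⟩ := exists_npow_of_mem_zpowers he₁ (ha₁gen _ hxC)
    have hrodd : Odd r := by
      by_contra hev
      rw [Nat.not_odd_iff_even] at hev
      obtain ⟨r', hr'⟩ := hev
      obtain ⟨k, hk, hok⟩ := (Nat.dvd_prime_pow Nat.prime_two).mp (orderOf_dvd_of_pow_eq_one he₁)
      have hk0 : k ≠ 0 := by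
        rintro rfl
        rw [pow_zero] at hok
        exact ha₁1 (orderOf_eq_one_iff.mp hok)
      obtain ⟨k', rfl⟩ := Nat.exists_eq_succ_of_ne_zero hk0
      have h1 : (x * a₁ * x⁻¹) ^ 2 ^ k' = 1 := by
        rw [hr, hr', ← pow_mul]
        have e3 : (r' + r') * 2 ^ k' = 2 ^ (k' + 1) * r' := by ring
        rw [e3, pow_mul, ← hok, pow_orderOf_eq_one, one_pow]
      rw [conj_pow] at h1
      have h2 : a₁ ^ 2 ^ k' = 1 := by
        have h3 : a₁ ^ 2 ^ k' = x⁻¹ * (x * a₁ ^ 2 ^ k' * x⁻¹) * x := by group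
        rw [h3, h1]; group
      have h4 := orderOf_dvd_of_pow_eq_one h2
      rw [hok] at h4
      have h5 := Nat.le_of_dvd (by positivity) h4
      have h6 : 2 ^ k' < 2 ^ (k' + 1) := Nat.pow_lt_pow_right (by norm_num) (Nat.lt_succ_self k')
      omega
    obtain ⟨m, hm⟩ := hrodd
    obtain ⟨i, rfl⟩ := Subgroup.mem_zpowers_iff.mp (ha₁gen c hc)
    have e : (a₁ ^ i)⁻¹ * (x * a₁ ^ i * x⁻¹) = ((a₁ ^ i) ^ m) ^ 2 := by
      rw [← conj_zpow, hr, hm]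
      have e2 : (a₁ ^ (2 * m + 1)) ^ i = ((a₁ ^ i) ^ m) ^ 2 * a₁ ^ i := by
        rw [← zpow_natCast, ← zpow_mul, ← zpow_natCast (a₁ ^ i), ← zpow_mul, ← zpow_natCast, ← zpow_mul,
          ← zpow_add]
        congr 1
        push_cast
        ring
      rw [e2]
      have hcm : Commute ((a₁ ^ i) ^ m) (a₁ ^ i) := (Commute.refl (a₁ ^ i)).pow_left m
      have hcm2 : Commute (((a₁ ^ i) ^ m) ^ 2) (a₁ ^ i) := hcm.pow_left 2
      rw [hcm2.eq, inv_mul_cancel_left]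
    rw [e]
    exact hpow _ (Q.pow_mem hc.1 m)
  -- generator of Q modulo C
  obtain ⟨g, hgQ, hggen⟩ : ∃ g ∈ Q, ∀ q ∈ Q, ∃ j : ℕ, ∃ c ∈ Q ⊓ N, q = c * g ^ j := by
    obtain ⟨M, hM⟩ : ∃ M : Subgroup (P ⧸ N'), M = (Q.subgroupOf P).map π := ⟨_, rfl⟩
    obtain ⟨g₀, hg₀⟩ := IsCyclic.exists_generator (α := M)
    have hg₀M : (g₀ : P ⧸ N') ∈ (Q.subgroupOf P).map π := hM ▸ g₀.2
    obtain ⟨g', hg'Q, hg'⟩ := hg₀M
    have hg'Q' : (g' : Ω) ∈ Q := Subgroup.mem_subgroupOf.mp hg'Q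
    refine ⟨(g' : Ω), hg'Q', fun q hq => ?_⟩
    have hqM : π ⟨q, hQP hq⟩ ∈ M := by
      rw [hM]; exact ⟨⟨q, hQP hq⟩, Subgroup.mem_subgroupOf.mpr hq, rfl⟩
    have h1 := hg₀ ⟨_, hqM⟩
    rw [← mem_powers_iff_mem_zpowers] at h1
    obtain ⟨j, hj⟩ := h1
    have hj' : (π g') ^ j = π ⟨q, hQP hq⟩ := by
      have h2 := congrArg Subtype.val hj
      simp only [Subgroup.coe_pow] at h2
      rw [hg']
      exact h2
    have hmemP : q * ((g' : Ω) ^ j)⁻¹ ∈ P := P.mul_mem (hQP hq) (P.inv_mem (P.pow_mem g'.2 j))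
    refine ⟨j, q * ((g' : Ω) ^ j)⁻¹, ⟨Q.mul_mem hq (Q.inv_mem (Q.pow_mem hg'Q' j)), ?_⟩, by group⟩
    show q * ((g' : Ω) ^ j)⁻¹ ∈ N
    rw [← hN1 _ hmemP, afn_mul π (hQP hq) (P.inv_mem (P.pow_mem g'.2 j)),
      afn_inv π (P.pow_mem g'.2 j), afn_pow π g'.2, afn_of_mem π (hQP hq), afn_of_mem π g'.2, ← hj']
    exact mul_inv_cancel _
  have hαq₁ : α q₁ ∉ ℓ := fun h => hq₁α h.2
  have hq₁ℓ : q₁ ∈ ℓ := ⟨hq₁, hq₁T⟩
  have hgℓ : g ∉ ℓ := by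
    intro hg
    apply hαq₁
    obtain ⟨j, c, hc, e⟩ := hggen (α q₁) (hαQ q₁ hq₁)
    rw [e]
    exact ℓ.mul_mem (hCℓ hc) (ℓ.pow_mem hg j)
  obtain ⟨j, c, hc, hq₁e⟩ := hggen q₁ hq₁
  have hjeven : Even j := by
    by_contra hodd
    rw [Nat.not_even_iff_odd] at hodd
    obtain ⟨m, hm⟩ := hodd
    apply hgℓ
    have h1 : g ^ j ∈ ℓ := by
      have e : g ^ j = c⁻¹ * q₁ := by rw [hq₁e]; group
      rw [e]
      exact ℓ.mul_mem (ℓ.inv_mem (hCℓ hc)) hq₁ℓ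
    have h2 : g ^ (2 * m) ∈ ℓ := by
      rw [pow_mul]
      exact ℓ.pow_mem (hΦℓ (hpow g hgQ)) m
    have e : g = g ^ j * (g ^ (2 * m))⁻¹ := by
      rw [hm, pow_succ]; group
    rw [e]
    exact ℓ.mul_mem h1 (ℓ.inv_mem h2)
  obtain ⟨m, hm⟩ := hjeven
  have hgjΦ : g ^ j ∈ Φ := by
    rw [hm, ← two_mul, pow_mul]
    exact Φ.pow_mem (hpow g hgQ) m
  -- multiplicativity of α
  have hα1 : α 1 = 1 := by
    have h1 := hαmul 1 Q.one_mem 1 Q.one_mem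
    rw [mul_one] at h1
    exact (mul_eq_left.mp h1.symm)
  have hαpow : ∀ q ∈ Q, ∀ k : ℕ, α (q ^ k) = α q ^ k := by
    intro q hq k
    induction k with
    | zero => simpa using hα1
    | succ k ih => rw [pow_succ, hαmul _ (Q.pow_mem hq k) _ hq, ih, pow_succ]
  have hαinv : ∀ q ∈ Q, α q⁻¹ = (α q)⁻¹ := by
    intro q hq
    have h1 := hαmul q hq q⁻¹ (Q.inv_mem hq)
    rw [mul_inv_cancel, hα1] at h1
    exact (inv_eq_of_mul_eq_one_right h1.symm).symm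
  have hαsurj : ∀ y ∈ Q, ∃ q ∈ Q, α q = y := by
    have hinj : Function.Injective (fun q : Q => (⟨α q, hαQ q q.2⟩ : Q)) := by
      intro q q' hqq'
      exact Subtype.ext (hαinj q q.2 q' q'.2 (congrArg Subtype.val hqq'))
    have hsurj := Finite.surjective_of_injective hinj
    intro y hy
    obtain ⟨q, hq⟩ := hsurj ⟨y, hy⟩
    exact ⟨q, q.2, congrArg Subtype.val hq⟩
  obtain ⟨h, hhdef⟩ : ∃ h, h = α a₁ := ⟨_, rfl⟩
  have hhQ : h ∈ Q := hhdef ▸ hαQ a₁ ha₁Q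
  have hhP : h ∈ P := hQP hhQ
  have hhℓ : h ∉ ℓ := by
    intro hh
    apply hαq₁
    rw [hq₁e, hαmul c hc.1 (g ^ j) (Q.pow_mem hgQ j)]
    refine ℓ.mul_mem ?_ (hΦℓ (hαΦ _ hgjΦ))
    obtain ⟨i, rfl⟩ := exists_npow_of_mem_zpowers he₁ (ha₁gen c hc)
    rw [hαpow a₁ ha₁Q i, ← hhdef]
    exact ℓ.pow_mem hh i
  -- ⟨h⟩ is normalized by Q
  have hhnorm : ∀ q ∈ Q, q * h * q⁻¹ ∈ Subgroup.zpowers h := by
    intro q hq
    obtain ⟨q', hq', rfl⟩ := hαsurj q hq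
    have hconj : q' * a₁ * q'⁻¹ ∈ Q ⊓ N :=
      ⟨Q.mul_mem (Q.mul_mem hq' ha₁Q) (Q.inv_mem hq'), hNnorm q' (hQP hq') a₁ ha₁N⟩
    obtain ⟨i, hi⟩ := exists_npow_of_mem_zpowers he₁ (ha₁gen _ hconj)
    have h1 : α (q' * a₁ * q'⁻¹) = α q' * h * (α q')⁻¹ := by
      rw [hαmul _ (Q.mul_mem hq' ha₁Q) _ (Q.inv_mem hq'), hαmul _ hq' _ ha₁Q, hαinv q' hq', hhdef]
    rw [← h1, hi, hαpow a₁ ha₁Q i, ← hhdef]
    exact Subgroup.pow_mem _ (Subgroup.mem_zpowers h) i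
  have hhord : orderOf h = orderOf a₁ := by
    rw [orderOf_eq_orderOf_iff]
    intro k
    rw [hhdef, ← hαpow a₁ ha₁Q k]
    constructor
    · intro h1
      have h2 : α (a₁ ^ k) = α 1 := by rw [h1, hα1]
      exact hαinj _ (Q.pow_mem ha₁Q k) _ Q.one_mem h2
    · intro h1
      rw [h1, hα1]
  have hhN : h ∉ N := fun hn => hhℓ (hCℓ ⟨hhQ, hn⟩)
  obtain ⟨eh, heh⟩ := hpow2 h hhP
  -- the case distinction in the cyclic quotient
  have hcaseI : afn π x ∈ Subgroup.zpowers (afn π h) := by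
    rcases cyclic_two_dichotomy hZ2 (afn π x) (afn π h) with hI | ⟨i, hII⟩
    · exact hI
    · exfalso
      apply hhℓ
      have hx2i : x ^ (2 * i) ∈ Q := by
        rw [pow_mul]; exact Q.pow_mem hx2 i
      obtain ⟨c', hc'⟩ : ∃ c', c' = (x ^ (2 * i))⁻¹ * h := ⟨_, rfl⟩
      have hc'Q : c' ∈ Q := hc' ▸ Q.mul_mem (Q.inv_mem hx2i) hhQ
      have hc'N : c' ∈ N := by
        have hmem : c' ∈ P := hQP hc'Q
        rw [← hN1 _ hmem, hc', afn_mul π (P.inv_mem (hQP hx2i)) hhP, afn_inv π (hQP hx2i),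
          afn_pow π hxP, hII]
        exact inv_mul_cancel _
      have hc'ℓ := hCℓ ⟨hc'Q, hc'N⟩
      have hhe : h = x ^ (2 * i) * c' := by rw [hc']; group
      refine ⟨hhQ, ?_⟩
      have e : h⁻¹ * (x * h * x⁻¹) = c'⁻¹ * (x * c' * x⁻¹) := by
        rw [hhe]
        have hcx : Commute x (x ^ (2 * i)) := (Commute.refl x).pow_right _
        calc (x ^ (2 * i) * c')⁻¹ * (x * (x ^ (2 * i) * c') * x⁻¹)
            = c'⁻¹ * ((x ^ (2 * i))⁻¹ * (x * x ^ (2 * i))) * c' * x⁻¹ := by group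
          _ = c'⁻¹ * ((x ^ (2 * i))⁻¹ * (x ^ (2 * i) * x)) * c' * x⁻¹ := by rw [hcx.eq]
          _ = c'⁻¹ * (x * c' * x⁻¹) := by group
      rw [e]
      exact hc'ℓ.2
  rw [← mem_powers_iff_mem_zpowers] at hcaseI
  obtain ⟨i, hi⟩ := hcaseI
  have hi' : afn π h ^ i = afn π x := hi
  obtain ⟨c₁, hc₁⟩ : ∃ c₁, c₁ = x * (h ^ i)⁻¹ := ⟨_, rfl⟩
  have hc₁P : c₁ ∈ P := hc₁ ▸ P.mul_mem hxP (P.inv_mem (P.pow_mem hhP i))
  have hc₁N : c₁ ∈ N := by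
    rw [← hN1 _ hc₁P, hc₁, afn_mul π hxP (P.inv_mem (P.pow_mem hhP i)), afn_inv π (P.pow_mem hhP i),
      afn_pow π hhP, hi']
    exact mul_inv_cancel _
  have hxe : x = c₁ * h ^ i := by rw [hc₁]; group
  obtain ⟨ec, hec⟩ := hpow2 c₁ hc₁P
  -- the key property
  have hkey : ∀ u : ℕ, h * a * h⁻¹ = a ^ u → u % 4 ≠ 1 := by
    intro u hu hu4
    have hconj : ∀ n ∈ N, h * n * h⁻¹ = n ^ u := by
      intro n hn
      rw [hNa] at hn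
      obtain ⟨k, rfl⟩ := Subgroup.mem_zpowers_iff.mp hn
      rw [← conj_zpow, hu, ← zpow_natCast, ← zpow_mul, mul_comm, zpow_mul, zpow_natCast]
    have hconji : ∀ (i : ℕ), ∀ n ∈ N, h ^ i * n * (h ^ i)⁻¹ = n ^ (u ^ i) := by
      intro i
      induction i with
      | zero => intro n _; simp
      | succ i ih =>
        intro n hn
        have e : h ^ (i + 1) * n * (h ^ (i + 1))⁻¹ = h * (h ^ i * n * (h ^ i)⁻¹) * h⁻¹ := by
          rw [pow_succ']; group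
        rw [e, ih n hn, hconj _ (N.pow_mem hn _), ← pow_mul, pow_succ]
    obtain ⟨u', hu'⟩ : ∃ u', u = 1 + 4 * u' := ⟨u / 4, by omega⟩
    have hui4 : (u ^ i) % 4 = 1 := by
      rw [Nat.pow_mod, hu4]; simp
    obtain ⟨u'', hu''⟩ : ∃ u'', u ^ i = 1 + 4 * u'' := ⟨u ^ i / 4, by omega⟩
    obtain ⟨κ, hκ⟩ : ∃ κ, κ = c₁ * (h * c₁ * h⁻¹)⁻¹ := ⟨_, rfl⟩
    have hκ4 : κ ∈ Subgroup.zpowers (c₁ ^ 4) := by
      have e : κ = ((c₁ ^ 4) ^ u')⁻¹ := by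
        rw [hκ, hconj c₁ hc₁N, hu', ← pow_mul, pow_add, pow_one, mul_inv_rev]
        have hcm : Commute c₁ ((c₁ ^ (4 * u'))⁻¹) := ((Commute.refl c₁).pow_right _).inv_right
        rw [← mul_assoc, hcm.eq, mul_inv_cancel_right]
      rw [e]
      exact Subgroup.inv_mem _ (Subgroup.pow_mem _ (Subgroup.mem_zpowers _) u')
    have hTh : h⁻¹ * (x * h * x⁻¹) = h⁻¹ * κ * h := by
      rw [hκ, hxe]
      have hch : Commute h (h ^ i) := (Commute.refl h).pow_right _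
      calc h⁻¹ * (c₁ * h ^ i * h * (c₁ * h ^ i)⁻¹)
          = h⁻¹ * c₁ * ((h ^ i * h) * (h ^ i)⁻¹) * c₁⁻¹ := by group
        _ = h⁻¹ * c₁ * ((h * h ^ i) * (h ^ i)⁻¹) * c₁⁻¹ := by rw [hch.eq]
        _ = h⁻¹ * (c₁ * (h * c₁ * h⁻¹)⁻¹) * h := by group
    have hκQ : κ ∈ Q := by
      have e : κ = h * (h⁻¹ * (x * h * x⁻¹)) * h⁻¹ := by rw [hTh]; group
      rw [e]
      exact Q.mul_mem (Q.mul_mem hhQ (Q.mul_mem (Q.inv_mem hhQ) (hxQ h hhQ))) (Q.inv_mem hhQ)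
    have hκN : κ ∈ N := by
      rw [hκ]
      exact N.mul_mem hc₁N (N.inv_mem (hNnorm h hhP c₁ hc₁N))
    have hκΦ : κ ∉ Φ := by
      intro hκΦ
      apply hhℓ
      refine ⟨hhQ, ?_⟩
      rw [hTh]
      have h1 := hΦn h⁻¹ (Q.inv_mem hhQ) κ hκΦ
      rwa [inv_inv] at h1
    -- κ generates C
    obtain ⟨jκ, hjκ⟩ := exists_npow_of_mem_zpowers he₁ (ha₁gen κ ⟨hκQ, hκN⟩)
    have hjκodd : Odd jκ := by
      by_contra hev
      rw [Nat.not_odd_iff_even] at hev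
      obtain ⟨m', hm'⟩ := hev
      apply hκΦ
      rw [hjκ, hm', ← two_mul, mul_comm, pow_mul]
      exact hpow _ (Q.pow_mem ha₁Q m')
    have ha₁κ : a₁ ∈ Subgroup.zpowers (c₁ ^ 4) := by
      have h1 : a₁ ∈ Subgroup.zpowers κ := by
        rw [hjκ]; exact mem_zpowers_pow_odd he₁ hjκodd
      exact (Subgroup.zpowers_le.mpr hκ4) h1
    -- the square of x
    obtain ⟨w, hw⟩ : ∃ w, w = c₁ * (h ^ i * c₁ * (h ^ i)⁻¹) := ⟨_, rfl⟩
    have hwe : w = x ^ 2 * (h ^ (2 * i))⁻¹ := by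
      rw [hw, hxe, pow_two, two_mul, pow_add]; group
    have hwQ : w ∈ Q := by
      rw [hwe]
      exact Q.mul_mem hx2 (Q.inv_mem (Q.pow_mem hhQ _))
    have hwN : w ∈ N := by
      rw [hw]
      exact N.mul_mem hc₁N (hNnorm _ (P.pow_mem hhP i) c₁ hc₁N)
    have hw4 : w ∈ Subgroup.zpowers (c₁ ^ 4) :=
      (Subgroup.zpowers_le.mpr ha₁κ) (ha₁gen w ⟨hwQ, hwN⟩)
    have hc₁sq : c₁ ^ 2 ∈ Subgroup.zpowers ((c₁ ^ 2) ^ 2) := by
      have e : c₁ ^ 2 = w * ((c₁ ^ 4) ^ u'')⁻¹ := by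
        rw [hw, hconji i c₁ hc₁N, hu'', ← pow_mul, ← pow_succ', eq_mul_inv_iff_mul_eq, ← pow_add]
        congr 1
        omega
      have e4 : (c₁ ^ 2) ^ 2 = c₁ ^ 4 := by rw [← pow_mul]
      rw [e4]
      nth_rewrite 1 [e]
      exact Subgroup.mul_mem _ hw4 (Subgroup.inv_mem _ (Subgroup.pow_mem _ (Subgroup.mem_zpowers _) u''))
    have hc₁sq1 : c₁ ^ 2 = 1 := by
      apply eq_one_of_mem_zpowers_sq (e := ec) _ hc₁sq
      rw [← pow_mul, mul_comm, pow_mul, hec, one_pow]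
    have hc₁4 : c₁ ^ 4 = 1 := by
      have e4 : c₁ ^ 4 = (c₁ ^ 2) ^ 2 := by rw [← pow_mul]
      rw [e4, hc₁sq1, one_pow]
    rw [hc₁4, Subgroup.zpowers_one_eq_bot, Subgroup.mem_bot] at hκ4
    apply hκΦ
    rw [hκ4]
    exact Φ.one_mem
  have ha1 : a ≠ 1 := by
    intro h1
    apply hkey 1 _ rfl
    rw [h1]; group
  obtain ⟨ea, hea⟩ := hpow2 a haP
  have hconjN : ∀ g ∈ P, g * a * g⁻¹ ∈ Subgroup.zpowers a := by
    intro g hg
    rw [← hNa]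
    exact hNnorm g hg a haN
  -- an element acting on N by an even power is impossible
  have hnoteven : ∀ g ∈ P, ∀ k : ℕ, g * a * g⁻¹ ≠ a ^ (2 * k) := by
    intro g hg k hgk
    apply ha1
    apply eq_one_of_mem_zpowers_sq hea
    have h1 : g⁻¹ * a ^ k * g⁻¹⁻¹ ∈ Subgroup.zpowers a := by
      rw [← hNa]
      exact hNnorm g⁻¹ (P.inv_mem hg) _ (N.pow_mem haN k)
    obtain ⟨l, hl⟩ := exists_npow_of_mem_zpowers hea h1
    have e : a = (g⁻¹ * a ^ k * g⁻¹⁻¹) ^ 2 := by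
      rw [conj_pow, ← pow_mul, mul_comm k 2, ← hgk]; group
    have e' : a = (a ^ 2) ^ l := by
      rw [← pow_mul, mul_comm 2 l, pow_mul, ← hl]; exact e
    have h2 := Subgroup.pow_mem _ (Subgroup.mem_zpowers (a ^ 2)) l
    rwa [← e'] at h2
  -- h generates P modulo N
  have hgenP : ∀ g ∈ P, ∃ n ∈ Subgroup.zpowers a, ∃ j : ℕ, g = n * h ^ j := by
    obtain ⟨z₀, hz₀⟩ := IsCyclic.exists_generator (α := P ⧸ N')
    obtain ⟨b', hb'⟩ := QuotientGroup.mk_surjective z₀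
    have hb'π : π b' = z₀ := by rw [hπ]; exact hb'
    obtain ⟨ez, hez⟩ := hZ2 z₀
    have h1 : afn π h ∈ Subgroup.zpowers z₀ := hz₀ _
    obtain ⟨t, ht⟩ := exists_npow_of_mem_zpowers hez h1
    have htodd : Odd t := by
      by_contra hev
      rw [Nat.not_odd_iff_even] at hev
      obtain ⟨t', ht'⟩ := hev
      obtain ⟨b₁, hb₁⟩ : ∃ b₁ : Ω, b₁ = (b' : Ω) ^ t' := ⟨_, rfl⟩
      have hb₁P : b₁ ∈ P := hb₁ ▸ P.pow_mem b'.2 t'
      have hπb₁ : afn π (b₁ ^ 2) = afn π h := by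
        rw [afn_pow π hb₁P, hb₁, afn_pow π b'.2, afn_of_mem π b'.2, hb'π, ht, ht', ← pow_mul, mul_two]
      obtain ⟨n₁, hn₁⟩ : ∃ n₁, n₁ = (b₁ ^ 2)⁻¹ * h := ⟨_, rfl⟩
      have hn₁N : n₁ ∈ Subgroup.zpowers a := by
        rw [← hNa]
        have hmem : n₁ ∈ P := hn₁ ▸ P.mul_mem (P.inv_mem (P.pow_mem hb₁P 2)) hhP
        rw [← hN1 _ hmem, hn₁, afn_mul π (P.inv_mem (P.pow_mem hb₁P 2)) hhP,
          afn_inv π (P.pow_mem hb₁P 2), hπb₁]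
        exact inv_mul_cancel _
      obtain ⟨u₁, hu₁⟩ := exists_npow_of_mem_zpowers hea (hconjN b₁ hb₁P)
      have hn₁a : n₁ * a * n₁⁻¹ = a := by
        obtain ⟨l, rfl⟩ := Subgroup.mem_zpowers_iff.mp hn₁N
        have hc : Commute (a ^ l) a := (Commute.refl a).zpow_left l
        rw [hc.eq, mul_inv_cancel_right]
      have hha : h * a * h⁻¹ = a ^ (u₁ * u₁) := by
        have e : h = b₁ ^ 2 * n₁ := by rw [hn₁]; group
        calc h * a * h⁻¹ = b₁ * (b₁ * (n₁ * a * n₁⁻¹) * b₁⁻¹) * b₁⁻¹ := by rw [e, pow_two]; group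
          _ = b₁ * (b₁ * a * b₁⁻¹) * b₁⁻¹ := by rw [hn₁a]
          _ = a ^ (u₁ * u₁) := by rw [hu₁, ← conj_pow, hu₁, ← pow_mul]
      have h4 := hkey _ hha
      rcases Nat.even_or_odd u₁ with hu₁e | hu₁o
      · obtain ⟨k, hk⟩ := hu₁e
        exact hnoteven b₁ hb₁P k (by rw [hu₁, hk, two_mul])
      · obtain ⟨k, hk⟩ := hu₁o
        have e : u₁ * u₁ = 4 * (k * k + k) + 1 := by rw [hk]; ring
        omega
    have hz₀h : z₀ ∈ Subgroup.zpowers (afn π h) := by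
      rw [ht]; exact mem_zpowers_pow_odd hez htodd
    intro g hg
    have h2 : afn π g ∈ Subgroup.zpowers (afn π h) := (Subgroup.zpowers_le.mpr hz₀h) (hz₀ _)
    rw [← mem_powers_iff_mem_zpowers] at h2
    obtain ⟨j, hj⟩ := h2
    have hj' : afn π h ^ j = afn π g := hj
    refine ⟨g * (h ^ j)⁻¹, ?_, j, by group⟩
    rw [← hNa]
    have hmem : g * (h ^ j)⁻¹ ∈ P := P.mul_mem hg (P.inv_mem (P.pow_mem hhP j))
    rw [← hN1 _ hmem, afn_mul π hg (P.inv_mem (P.pow_mem hhP j)), afn_inv π (P.pow_mem hhP j),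
      afn_pow π hhP, hj']
    exact mul_inv_cancel _
  -- h² ∈ N
  have hh2 : h ^ 2 ∈ Subgroup.zpowers a := by
    obtain ⟨u, hu⟩ := exists_npow_of_mem_zpowers hea (hconjN h hhP)
    have hu4 := hkey u hu
    have hu3 : u % 4 = 3 := by
      rcases Nat.even_or_odd u with hue | huo
      · obtain ⟨k, hk⟩ := hue
        exact absurd (by rw [hu, hk, two_mul]) (hnoteven h hhP k)
      · obtain ⟨k, hk⟩ := huo
        omega
    obtain ⟨m', hm'⟩ : ∃ m', u = 4 * m' + 3 := ⟨u / 4, by omega⟩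
    have hha₁ : h * a₁ * h⁻¹ = a₁ ^ u := by
      rw [hNa] at ha₁N
      obtain ⟨k, rfl⟩ := Subgroup.mem_zpowers_iff.mp ha₁N
      rw [← conj_zpow, hu, ← zpow_natCast, ← zpow_mul, mul_comm, zpow_mul, zpow_natCast]
    have h1 : a₁ * h⁻¹ * a₁⁻¹ ∈ Subgroup.zpowers h := by
      have h2 := Subgroup.inv_mem _ (hhnorm a₁ ha₁Q)
      have e : (a₁ * h * a₁⁻¹)⁻¹ = a₁ * h⁻¹ * a₁⁻¹ := by group
      rwa [e] at h2
    have h3 : (a₁ ^ 2) ^ (2 * m' + 1) ∈ Subgroup.zpowers h := by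
      have e : (a₁ ^ 2) ^ (2 * m' + 1) = h * (a₁ * h⁻¹ * a₁⁻¹) := by
        have e2 : h * (a₁ * h⁻¹ * a₁⁻¹) = (h * a₁ * h⁻¹) * a₁⁻¹ := by group
        rw [e2, hha₁, hm', ← pow_mul, eq_mul_inv_iff_mul_eq, ← pow_succ]
        congr 1
        ring
      rw [e]
      exact Subgroup.mul_mem _ (Subgroup.mem_zpowers h) h1
    have he₁' : (a₁ ^ 2) ^ 2 ^ e₁ = 1 := by
      rw [← pow_mul, mul_comm, pow_mul, he₁, one_pow]
    have h4 : a₁ ^ 2 ∈ Subgroup.zpowers h :=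
      (Subgroup.zpowers_le.mpr h3) (mem_zpowers_pow_odd he₁' ⟨m', rfl⟩)
    obtain ⟨jj, hjj⟩ := exists_npow_of_mem_zpowers heh h4
    have ha₁sqN : a₁ ^ 2 ∈ N := N.pow_mem ha₁N 2
    rcases Nat.even_or_odd jj with hjje | hjjo
    · obtain ⟨j', hj'⟩ := hjje
      have hle : Subgroup.zpowers (a₁ ^ 2) ≤ Subgroup.zpowers (h ^ 2) := by
        rw [Subgroup.zpowers_le, hjj, hj', ← two_mul, pow_mul]
        exact Subgroup.pow_mem _ (Subgroup.mem_zpowers _) j'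
      have hfin : Finite (Subgroup.zpowers (h ^ 2)) := by
        have hle2 : Subgroup.zpowers (h ^ 2) ≤ P := Subgroup.zpowers_le.mpr (P.pow_mem hhP 2)
        exact Finite.of_injective (Subgroup.inclusion hle2) (Subgroup.inclusion_injective hle2)
      have hcard : Nat.card (Subgroup.zpowers (h ^ 2)) ≤ Nat.card (Subgroup.zpowers (a₁ ^ 2)) := by
        rw [Nat.card_zpowers, Nat.card_zpowers, orderOf_pow' h two_ne_zero, orderOf_pow' a₁ two_ne_zero,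
          hhord]
      have heq := Subgroup.eq_of_le_of_card_ge hle hcard
      rw [← hNa]
      have h5 : h ^ 2 ∈ Subgroup.zpowers (a₁ ^ 2) := by
        rw [heq]; exact Subgroup.mem_zpowers _
      exact (Subgroup.zpowers_le.mpr ha₁sqN) h5
    · exfalso
      apply hhN
      have h5 : h ∈ Subgroup.zpowers (a₁ ^ 2) := by
        rw [hjj]; exact mem_zpowers_pow_odd heh hjjo
      exact (Subgroup.zpowers_le.mpr ha₁sqN) h5
  exact ⟨a, haP, h, hhP, hconjN, fun hn => hhN (hNa ▸ hn), hh2, hgenP, hkey⟩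

end Cfsg.Agent.Helper27
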