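import Cfsg.Agent.Helper27.MetaNormal
import Cfsg.Agent.Helper27.AutAxis
import Cfsg.Agent.Helper27.MetaTwoStruct
import Cfsg.Agent.Helper27.MaxClassTwo

set_option autoImplicit false

namespace Cfsg.Agent.Helper27

open Cfsg Cfsg.FusionSystem

open scoped commutatorElement

theorem coe_mem_zpowers_iff {Ω : Type*} [Group Ω] {P : Subgroup Ω} (a g : P) :
    g ∈ Subgroup.zpowers a ↔ (g : Ω) ∈ Subgroup.zpowers (a : Ω) := by
  rw [Subgroup.mem_zpowers_iff, Subgroup.mem_zpowers_iff]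
  constructor
  · rintro ⟨k, hk⟩
    exact ⟨k, by rw [← hk]; simp⟩
  · rintro ⟨k, hk⟩
    exact ⟨k, Subtype.ext (by simpa using hk)⟩

/-- a subgroup with the structure produced by `meta_two_struct` is dihedral, quaternion or quasi-dihedral -/
theorem max_class_of_struct {Ω : Type*} [Group Ω] (P : Subgroup Ω) [Finite P] (hP2 : IsPGroup 2 P)
    (h : ∃ a ∈ P, ∃ h ∈ P, (∀ g ∈ P, g * a * g⁻¹ ∈ Subgroup.zpowers a) ∧ h ∉ Subgroup.zpowers a ∧
      h ^ 2 ∈ Subgroup.zpowers a ∧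
      (∀ g ∈ P, ∃ n ∈ Subgroup.zpowers a, ∃ j : ℕ, g = n * h ^ j) ∧
      ∀ u : ℕ, h * a * h⁻¹ = a ^ u → u % 4 ≠ 1) :
    (∃ m, Nonempty (↥P ≃* DihedralGroup m)) ∨ (∃ m, Nonempty (↥P ≃* QuaternionGroup m)) ∨
      Cfsg.IsQuasiDihedral ↥P := by
  obtain ⟨a₀, ha₀P, h₀, hh₀P, hnorm, hhn, hh2, hgen, hkey⟩ := h
  refine max_class_of_index_two (D := ↥P) hP2 ⟨a₀, ha₀P⟩ ⟨h₀, hh₀P⟩ ?_ ?_ ?_ ?_ ?_
  · rw [coe_mem_zpowers_iff]
    simpa using hnorm h₀ hh₀P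
  · intro hc
    rw [coe_mem_zpowers_iff] at hc
    exact hhn hc
  · rw [coe_mem_zpowers_iff]
    simpa using hh2
  · intro g
    obtain ⟨n, hn, j, e⟩ := hgen g g.2
    have hnP : n ∈ P := by
      have e2 : n = g * (h₀ ^ j)⁻¹ := by rw [e]; group
      rw [e2]
      exact P.mul_mem g.2 (P.inv_mem (P.pow_mem hh₀P j))
    refine ⟨⟨n, hnP⟩, ?_, j, Subtype.ext ?_⟩
    · rw [coe_mem_zpowers_iff]; exact hn
    · simpa using e
  · intro u hu
    apply hkey u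
    have h1 := congrArg Subtype.val hu
    simpa using h1

variable {Ω : Type*} [Group Ω] {S : Subgroup Ω}

/-- a strongly closed metacyclic subgroup not of maximal class lies in every fully normalized centric radical
subgroup (`p = 2`) -/
theorem closed_le_radical_of_metacyclic_two [Finite S] (hS : IsPGroup 2 S)
    {F : FusionSystem S} (hF : F.IsSaturated 2) {P : Subgroup Ω} (hP : F.StronglyClosed P)
    (hm : Cfsg.IsMetacyclic ↥P)
    (hmc : ¬ ((∃ m, Nonempty (↥P ≃* DihedralGroup m)) ∨ (∃ m, Nonempty (↥P ≃* QuaternionGroup m)) ∨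
      Cfsg.IsQuasiDihedral ↥P))
    {R : Subgroup Ω} (hRn : F.IsFullyNormalized R)
    (hRc : F.IsCentric R) (hRr : F.IsRadical 2 R) : P ≤ R := by
  by_contra hPR
  have hRS : R ≤ S := hRn.1
  have hPS := hP.1
  have : Finite R := finite_of_le hRS
  have : Finite P := finite_of_le hPS
  have hRp : IsPGroup 2 R := hS.to_le hRS
  have hP2 : IsPGroup 2 P := hS.to_le hPS
  obtain ⟨x, hxP, hxN, hxR, hxp, hcA, hcI, ⟨n, hcn⟩, hcQ⟩ := exists_outer_closed hS hP hRS hRc hPR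
  have hxS : x ∈ S := hPS hxP
  obtain ⟨c, hcdef⟩ : ∃ c : MulAut R, c = conjAut R x hxN := ⟨_, rfl⟩
  rw [← hcdef] at hcA hcI hcn hcQ
  have hcapp : ∀ w : R, ((c w : R) : Ω) = x * w * x⁻¹ := by
    intro w; rw [hcdef]; rfl
  -- the subgroup Q = P ∩ R of R
  obtain ⟨Q, hQdef⟩ : ∃ Q : Subgroup R, Q = P.subgroupOf R := ⟨_, rfl⟩
  have hQmem : ∀ r : R, r ∈ Q ↔ (r : Ω) ∈ P := by
    intro r; rw [hQdef, Subgroup.mem_subgroupOf]
  have hQinv : ∀ α ∈ F.autGroup R, ∀ q ∈ Q, α q ∈ Q := by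
    intro α hα q hq
    rw [hQmem] at hq ⊢
    have hmor : Mor F R (autFn α) := (mem_autGroup_iff hRS α).mp hα
    have h1 := (Mor.mem_closed_iff hP hmor q.2).mpr hq
    rw [autFn_apply] at h1
    exact h1
  have hQp : IsPGroup 2 Q := hRp.to_subgroup Q
  obtain ⟨ι, hι⟩ : ∃ ι : Q →* P, ∀ q : Q, ((ι q : P) : Ω) = ((q : R) : Ω) :=
    ⟨MonoidHom.mk' (fun q => ⟨((q : R) : Ω), (hQmem q).mp q.2⟩) (fun a b => rfl), fun _ => rfl⟩
  have hιinj : Function.Injective ι := by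
    intro a b hab
    apply Subtype.ext
    apply Subtype.ext
    have h1 := congrArg (fun z : P => (z : Ω)) hab
    simp only [hι] at h1
    exact h1
  have hmQ : Cfsg.IsMetacyclic Q := metacyclic_of_injective hm ι hιinj
  have hidx : Nat.card (Q ⧸ frattini Q) ∣ 2 ^ 2 := by
    apply metacyclic_card_dvd_sq (metacyclic_of_surjective hmQ (QuotientGroup.mk' _)
      (QuotientGroup.mk'_surjective _))
    intro v
    obtain ⟨y, rfl⟩ := QuotientGroup.mk_surjective v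
    rw [← QuotientGroup.mk_pow, QuotientGroup.eq_one_iff]
    exact (Cfsg.Agent.S0012.result 2 hQp).2 y
  have hrad : ∀ N : Subgroup (F.autGroup R), N.Normal → IsPGroup 2 N →
      N.map (F.autGroup R).subtype ≤ Inn R := by
    intro N hN hNp
    rw [← hRr.2]
    exact Subgroup.map_mono (le_pCore' hN hNp)
  have hcQ' : ∀ r : R, r⁻¹ * c r ∈ Q := fun r => (hQmem _).mpr (hcQ r)
  obtain ⟨a, haA, q, hqQ, hq1, hq2⟩ :=
    aut_moves_axis hRp (F.autGroup R) (Inn R) hrad Q hQinv hidx c hcA n hcn hcI hcQ'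
  -- the Frattini subgroup of Q inside Ω
  obtain ⟨Φ, hΦdef⟩ : ∃ Φ : Subgroup Ω, Φ = ((frattini Q).map Q.subtype).map R.subtype := ⟨_, rfl⟩
  have hΦmem : ∀ w : Q, w ∈ frattini Q → (((w : R) : Ω)) ∈ Φ := by
    intro w hw
    rw [hΦdef]
    exact ⟨(w : R), ⟨w, hw, rfl⟩, rfl⟩
  have hΦmem' : ∀ r : R, (r : Ω) ∈ Φ → r ∈ (frattini Q).map Q.subtype := by
    intro r hr
    rw [hΦdef] at hr
    obtain ⟨z, hz, hzr⟩ := hr
    have h1 : z = r := Subtype.ext hzr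
    rw [← h1]
    exact hz
  have hΦle : Φ ≤ P ⊓ R := by
    intro z hz
    rw [hΦdef] at hz
    obtain ⟨r, ⟨w, hw, rfl⟩, rfl⟩ := hz
    exact ⟨(hQmem _).mp w.2, (w : R).2⟩
  have hlift : ∀ a ∈ P ⊓ R, ∃ a' : Q, ((a' : R) : Ω) = a := by
    intro a ha
    exact ⟨⟨⟨a, ha.2⟩, (hQmem _).mpr ha.1⟩, rfl⟩
  have hpow : ∀ a ∈ P ⊓ R, a ^ 2 ∈ Φ := by
    intro a ha
    obtain ⟨a', rfl⟩ := hlift a ha
    have h1 := hΦmem _ ((Cfsg.Agent.S0012.result 2 hQp).2 a')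
    simpa using h1
  have hcomm : ∀ a ∈ P ⊓ R, ∀ b ∈ P ⊓ R, a * b * a⁻¹ * b⁻¹ ∈ Φ := by
    intro a ha b hb
    obtain ⟨a', rfl⟩ := hlift a ha
    obtain ⟨b', rfl⟩ := hlift b hb
    have h1 : a' * b' * a'⁻¹ * b'⁻¹ ∈ frattini Q := by
      apply (Cfsg.Agent.S0012.result 2 hQp).1
      rw [← commutatorElement_def]
      exact Subgroup.commutator_mem_commutator (Subgroup.mem_top _) (Subgroup.mem_top _)
    have h2 := hΦmem _ h1
    simpa using h2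
  have hxQ : ∀ a ∈ P ⊓ R, x * a * x⁻¹ ∈ P ⊓ R := by
    intro a ha
    exact ⟨StronglyClosed.conj_mem hP hxS ha.1, (Subgroup.mem_normalizer_iff.mp hxN a).mp ha.2⟩
  have hxΦ : ∀ z ∈ Φ, x * z * x⁻¹ ∈ Φ := by
    intro z hz
    rw [hΦdef] at hz
    obtain ⟨r, ⟨w, hw, rfl⟩, rfl⟩ := hz
    have h1 := frattini_aut_mem_gen (Helper1.restrictAut c Q (hQinv c hcA)) hw
    have h2 := hΦmem _ h1
    rw [Helper1.restrictAut_apply, hcapp] at h2
    exact h2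
  have hxpQ : x ^ 2 ∈ P ⊓ R := ⟨P.pow_mem hxP 2, hxp⟩
  -- the automorphism `a` as a map on Ω
  have hmor : Mor F R (autFn a) := (mem_autGroup_iff hRS a).mp haA
  have hαmul : ∀ u ∈ P ⊓ R, ∀ v ∈ P ⊓ R, autFn a (u * v) = autFn a u * autFn a v :=
    fun u hu v hv => hmor.map_mul hu.2 hv.2
  have hαQ : ∀ u ∈ P ⊓ R, autFn a u ∈ P ⊓ R :=
    fun u hu => ⟨(Mor.mem_closed_iff hP hmor hu.2).mpr hu.1, autFn_mem a hu.2⟩
  have hαinj : ∀ u ∈ P ⊓ R, ∀ v ∈ P ⊓ R, autFn a u = autFn a v → u = v :=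
    fun u hu v hv h => hmor.inj hu.2 hv.2 h
  have hαΦ : ∀ z ∈ Φ, autFn a z ∈ Φ := by
    intro z hz
    rw [hΦdef] at hz
    obtain ⟨r, ⟨w, hw, rfl⟩, rfl⟩ := hz
    have h1 := frattini_aut_mem_gen (Helper1.restrictAut a Q (hQinv a haA)) hw
    have h2 := hΦmem _ h1
    rw [Helper1.restrictAut_apply] at h2
    show autFn a ((w : R) : Ω) ∈ Φ
    rw [autFn_apply]
    exact h2
  have hqPR : (q : Ω) ∈ P ⊓ R := ⟨(hQmem q).mp hqQ, q.2⟩
  have hq₁T : (q : Ω)⁻¹ * (x * q * x⁻¹) ∈ Φ := by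
    have h2 : ((q⁻¹ * c q : R) : Ω) ∈ Φ := by
      rw [hΦdef]; exact ⟨_, hq1, rfl⟩
    rw [Subgroup.coe_mul, Subgroup.coe_inv, hcapp] at h2
    exact h2
  have hq₁α : (autFn a q)⁻¹ * (x * autFn a q * x⁻¹) ∉ Φ := by
    intro h
    apply hq2
    apply hΦmem'
    rw [Subgroup.coe_mul, Subgroup.coe_inv, hcapp, ← autFn_apply]
    exact h
  exact hmc (max_class_of_struct P hP2 (meta_two_struct P hP2 hm (P ⊓ R) Φ inf_le_left hΦle hpow
    hcomm x hxP hxQ hxΦ hxpQ (autFn a) hαmul hαQ hαinj hαΦ (q : Ω) hqPR hq₁T hq₁α))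

/-- a strongly closed metacyclic subgroup which is not dihedral, quaternion or quasi-dihedral is normal in a
saturated fusion system (`p = 2`) -/
theorem metacyclic_closed_normal_two [Finite S] (hS : IsPGroup 2 S)
    {F : FusionSystem S} (hF : F.IsSaturated 2) {P : Subgroup Ω} (hP : F.StronglyClosed P)
    (hm : Cfsg.IsMetacyclic ↥P)
    (hmc : ¬ ((∃ m, Nonempty (↥P ≃* DihedralGroup m)) ∨ (∃ m, Nonempty (↥P ≃* QuaternionGroup m)) ∨
      Cfsg.IsQuasiDihedral ↥P)) : F.IsNormal P :=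
  normal_of_le_radicals hS hF hP (fun _ hRn hRc hRr =>
    closed_le_radical_of_metacyclic_two hS hF hP hm hmc hRn hRc hRr)

end Cfsg.Agent.Helper27
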