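import Cfsg.Agent.Helper27.PearlSat
import Cfsg.Agent.Helper9.Recog
import Cfsg.Agent.Helper9.QD5

set_option autoImplicit false

namespace Cfsg.Agent.Helper27

open Cfsg Cfsg.FusionSystem

/-- the map `i ↦ j ↦ k ↦ i` of the quaternion group of order eight -/
def q8Fun : QuaternionGroup 2 → QuaternionGroup 2
  | .a i => if i = 0 then .a 0 else if i = 1 then .xa 0 else if i = 2 then .a 2 else .xa 2
  | .xa i => if i = 0 then .xa 3 else if i = 1 then .a 3 else if i = 2 then .xa 1 else .a 1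

/-- the inverse map -/
def q8Inv : QuaternionGroup 2 → QuaternionGroup 2
  | .a i => if i = 0 then .a 0 else if i = 1 then .xa 3 else if i = 2 then .a 2 else .xa 1
  | .xa i => if i = 0 then .a 1 else if i = 1 then .xa 2 else if i = 2 then .a 3 else .xa 0

set_option maxRecDepth 100000 in
/-- an automorphism of `Q_8` of order three moving every cyclic subgroup of order four -/
theorem exists_q8_twist : ∃ ρ : MulAut (QuaternionGroup 2),
    ∀ u : QuaternionGroup 2, u * u ≠ 1 → ρ u ≠ u ∧ ρ u ≠ u⁻¹ := by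
  have h1 : ∀ x : QuaternionGroup 2, q8Inv (q8Fun x) = x := by decide
  have h2 : ∀ x : QuaternionGroup 2, q8Fun (q8Inv x) = x := by decide
  have h3 : ∀ x y : QuaternionGroup 2, q8Fun (x * y) = q8Fun x * q8Fun y := by decide
  have h4 : ∀ u : QuaternionGroup 2, u * u ≠ 1 → q8Fun u ≠ u ∧ q8Fun u ≠ u⁻¹ := by decide
  exact ⟨{ toFun := q8Fun, invFun := q8Inv, left_inv := h1, right_inv := h2, map_mul' := h3 }, h4⟩

variable {Ω : Type*} [Group Ω]

theorem autFn_map_inv {V : Subgroup Ω} (α : MulAut V) {x : Ω} (hx : x ∈ V) :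
    autFn α x⁻¹ = (autFn α x)⁻¹ := by
  apply eq_inv_of_mul_eq_one_left
  rw [← autFn_map_mul α (V.inv_mem hx) hx, inv_mul_cancel, autFn_map_one]

theorem autFn_map_zpow {V : Subgroup Ω} (α : MulAut V) {x : Ω} (hx : x ∈ V) (k : ℤ) :
    autFn α (x ^ k) = (autFn α x) ^ k := by
  rw [autFn_of_mem α hx, autFn_of_mem α (V.zpow_mem hx k)]
  have e : (⟨x ^ k, V.zpow_mem hx k⟩ : V) = ⟨x, hx⟩ ^ k := rfl
  rw [e, map_zpow]
  rfl

theorem autFn_zpw {V : Subgroup Ω} (α : MulAut V) {x : Ω} (hx : x ∈ V) (N : ℕ) (i : ZMod N) :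
    autFn α (Helper9.zpw N x i) = Helper9.zpw N (autFn α x) i :=
  autFn_map_zpow α hx _

/-- a `2`-group with a quaternion subgroup `V = ⟨a, y⟩` of order eight whose cyclic subgroups `⟨a^i y⟩` have
normalizer `V`, and an element `b` centralizing `a` with `b y b⁻¹ = a y`, has a saturated fusion system in
which it is not normal -/
theorem q8_pearl (S : Subgroup Ω) [Finite S] (hS : IsPGroup 2 S) (a y b : Ω) (haS : a ∈ S)
    (hyS : y ∈ S) (hbS : b ∈ S) (hoa : orderOf a = 4) (hy2 : y * y = a * a)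
    (hya : y * a * y⁻¹ = a⁻¹) (hba : b * a * b⁻¹ = a) (hby : b * y * b⁻¹ = a * y)
    (hQ1 : ∀ g ∈ S, g * a * g⁻¹ = a ∨ g * a * g⁻¹ = a⁻¹)
    (hQ3 : ∀ g ∈ S, ∀ c ∈ Subgroup.zpowers a,
      (g * (c * y) * g⁻¹ = c * y ∨ g * (c * y) * g⁻¹ = (c * y)⁻¹) →
        g ∈ Subgroup.zpowers a ∨ g * y⁻¹ ∈ Subgroup.zpowers a) :
    ∃ F : FusionSystem S, F.IsSaturated 2 ∧ ¬ F.IsNormal S := by
  have key : ∀ k : ZMod 4, k = 0 ∨ k = 1 ∨ k = 2 ∨ k = -1 := by decide
  have hk1 : ∀ k : ZMod 4, k ≠ k + 1 := by decide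
  have hk2 : ∀ k : ZMod 4, k + 2 ≠ k + 1 := by decide
  have hd1 : ∀ i : ZMod 4, i + 1 + -i ≠ -1 := by decide
  have hd2 : ∀ j : ZMod 4, j - -j ≠ 1 := by decide
  have hd3 : ∀ j : ZMod 4, j + 2 + (j + 2) ≠ 1 := by decide
  have ha4 : a ^ 4 = 1 := by rw [← hoa]; exact pow_orderOf_eq_one a
  obtain ⟨P, hP⟩ : ∃ P : ZMod 4 → Ω, ∀ i, P i = Helper9.zpw 4 a i := ⟨_, fun _ => rfl⟩
  have hP1 : P 1 = a := by rw [hP]; exact Helper9.zpw_one ha4
  have hP0 : P 0 = 1 := by rw [hP]; exact Helper9.zpw_zero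
  have hPadd : ∀ i j, P i * P j = P (i + j) := fun i j => by
    rw [hP, hP, hP]; exact (Helper9.zpw_add ha4 i j).symm
  have hPinv : ∀ i, (P i)⁻¹ = P (-i) := fun i => by
    rw [hP, hP]; exact (Helper9.zpw_neg ha4 i).symm
  have hPinj : ∀ i j, P i = P j → i = j := fun i j h => by
    rw [hP, hP] at h; exact Helper9.zpw_inj hoa h
  have hPS : ∀ i, P i ∈ S := fun i => by rw [hP]; exact S.zpow_mem haS _
  have hPz : ∀ i, P i ∈ Subgroup.zpowers a := fun i => by rw [hP]; exact Helper9.zpw_mem_zpowers i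
  have hzP : ∀ c ∈ Subgroup.zpowers a, ∃ i, c = P i := by
    intro c hc
    obtain ⟨i, hi⟩ := (Helper9.mem_zpowers_iff_zpw ha4).mp hc
    exact ⟨i, by rw [hP]; exact hi⟩
  have hconj : ∀ (g : Ω) (e : ZMod 4), g * a * g⁻¹ = P e → ∀ i, g * P i * g⁻¹ = P (e * i) := by
    intro g e hc i
    rw [hP, hP]
    rw [hP] at hc
    exact Helper9.zpw_conj ha4 e hc i
  have hPm1 : P (-1) = a⁻¹ := by rw [← hPinv, hP1]
  have hyP : ∀ i, y * P i = P (-i) * y := by
    intro i
    have h1 := hconj y (-1) (hya.trans hPm1.symm) i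
    rw [neg_one_mul] at h1
    rw [← h1]
    group
  have hyy : y * y = P 2 := by
    rw [hy2, show (2 : ZMod 4) = 1 + 1 by decide, ← hPadd, hP1]
  have ha1 : a ≠ 1 := by
    intro h
    rw [← hP1, ← hP0] at h
    exact absurd (hPinj _ _ h) (by decide)
  have haa : a * a ≠ 1 := by
    intro h
    rw [← hP1, hPadd, ← hP0] at h
    exact absurd (hPinj _ _ h) (by decide)
  have hyne : ∀ i, y ≠ P i := by
    intro i h
    have h1 := hya
    rw [h, ← hP1, hPinv, hPinv, hPadd, hPadd] at h1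
    exact hd1 i (hPinj _ _ h1)
  have M2 : ∀ i j, P i * (P j * y) = P (i + j) * y := fun i j => by rw [← mul_assoc, hPadd]
  have M3 : ∀ i j, (P i * y) * P j = P (i - j) * y := fun i j => by
    rw [mul_assoc, hyP, ← mul_assoc, hPadd, sub_eq_add_neg]
  have M4 : ∀ i j, (P i * y) * (P j * y) = P (i - j + 2) := fun i j => by
    rw [← mul_assoc, M3, mul_assoc, hyy, hPadd]
  have hinvs : ∀ i, (P i * y)⁻¹ = P (i + 2) * y := by
    intro i
    apply inv_eq_of_mul_eq_one_right
    rw [M4, show i - (i + 2) + 2 = 0 by ring, hP0]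
  have hne : ∀ i j, P i ≠ P j * y := by
    intro i j h
    apply hyne (-j + i)
    rw [← hPadd, ← hPinv, h]
    group
  obtain ⟨V, hmemV⟩ : ∃ V : Subgroup Ω, ∀ x, x ∈ V ↔ (∃ i, x = P i) ∨ (∃ i, x = P i * y) :=
    ⟨{ carrier := {x | (∃ i, x = P i) ∨ (∃ i, x = P i * y)}
       one_mem' := Or.inl ⟨0, hP0.symm⟩
       mul_mem' := by
         rintro _ _ (⟨i, rfl⟩ | ⟨i, rfl⟩) (⟨j, rfl⟩ | ⟨j, rfl⟩)
         · exact Or.inl ⟨i + j, hPadd i j⟩
         · exact Or.inr ⟨i + j, M2 i j⟩
         · exact Or.inr ⟨i - j, M3 i j⟩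
         · exact Or.inl ⟨i - j + 2, M4 i j⟩
       inv_mem' := by
         rintro _ (⟨i, rfl⟩ | ⟨i, rfl⟩)
         · exact Or.inl ⟨-i, hPinv i⟩
         · exact Or.inr ⟨i + 2, hinvs i⟩ }, fun x => Iff.rfl⟩
  have hPV : ∀ i, P i ∈ V := fun i => (hmemV _).mpr (Or.inl ⟨i, rfl⟩)
  have hPyV : ∀ i, P i * y ∈ V := fun i => (hmemV _).mpr (Or.inr ⟨i, rfl⟩)
  have haV : a ∈ V := hP1 ▸ hPV 1
  have hyV : y ∈ V := by
    have h := hPyV 0
    rwa [hP0, one_mul] at h
  have hVS : V ≤ S := by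
    intro x hx
    rcases (hmemV x).mp hx with ⟨i, rfl⟩ | ⟨i, rfl⟩
    · exact hPS i
    · exact S.mul_mem (hPS i) hyS
  haveI : Finite V := finite_of_le hVS
  have hQ1' : ∀ g ∈ S, ∃ ε : ZMod 4, (ε = 1 ∨ ε = -1) ∧ ∀ i, g * P i * g⁻¹ = P (ε * i) := by
    intro g hg
    rcases hQ1 g hg with h | h
    · exact ⟨1, Or.inl rfl, hconj g 1 (h.trans hP1.symm)⟩
    · exact ⟨-1, Or.inr rfl, hconj g (-1) (h.trans hPm1.symm)⟩
  have hQ3' : ∀ g ∈ S, ∀ i, (g * (P i * y) * g⁻¹ = P i * y ∨
      g * (P i * y) * g⁻¹ = P (i + 2) * y) → g ∈ V := by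
    intro g hg i h
    rw [← hinvs] at h
    rcases hQ3 g hg (P i) (hPz i) h with h1 | h1
    · obtain ⟨j, hj⟩ := hzP g h1
      rw [hj]; exact hPV j
    · obtain ⟨j, hj⟩ := hzP _ h1
      have e : g = P j * y := by rw [← hj]; group
      rw [e]; exact hPyV j
  have hb1 : ∀ k, b * P k * b⁻¹ = P k := by
    intro k
    have h1 := hconj b 1 (hba.trans hP1.symm) k
    rwa [one_mul] at h1
  have hbV : b ∉ V := by
    intro h
    rcases (hmemV b).mp h with ⟨j, hj⟩ | ⟨j, hj⟩
    · have h1 := hby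
      rw [hj, hPinv, M3, ← hP1] at h1
      exact hd2 j (hPinj _ _ (mul_right_cancel h1))
    · have h1 := hby
      rw [hj, hinvs, mul_assoc (P j), hyy, hPadd, M2, ← hP1] at h1
      exact hd3 j (hPinj _ _ (mul_right_cancel h1))
  have hSV : ¬ S ≤ V := fun h => hbV (h hbS)
  have hK : ∀ w ∈ S, ∃ β ∈ (⊤ : Subgroup (MulAut V)), ∀ v ∈ V, w * v * w⁻¹ ∈ V →
      autFn β v = w * v * w⁻¹ := by
    intro w hwS
    obtain ⟨ε, hε, hwP⟩ := hQ1' w hwS
    by_cases hw : w * y * w⁻¹ ∈ V
    · have hwn : ∀ v ∈ V, w * v * w⁻¹ ∈ V := by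
        intro v hv
        rcases (hmemV v).mp hv with ⟨i, rfl⟩ | ⟨i, rfl⟩
        · rw [hwP]; exact hPV _
        · have e : w * (P i * y) * w⁻¹ = (w * P i * w⁻¹) * (w * y * w⁻¹) := by group
          rw [e, hwP]; exact V.mul_mem (hPV _) hw
      refine ⟨conjAut V w (mem_normalizer_of_forall hwn), Subgroup.mem_top _, fun v hv _ => ?_⟩
      rw [autFn_of_mem _ hv]
      rfl
    · have hvP : ∀ v ∈ V, w * v * w⁻¹ ∈ V → ∃ i, v = P i := by
        intro v hv hvw
        rcases (hmemV v).mp hv with ⟨i, rfl⟩ | ⟨i, rfl⟩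
        · exact ⟨i, rfl⟩
        · exfalso
          apply hw
          have e : w * y * w⁻¹ = (w * P i * w⁻¹)⁻¹ * (w * (P i * y) * w⁻¹) := by group
          rw [e, hwP]; exact V.mul_mem (V.inv_mem (hPV _)) hvw
      rcases hε with rfl | rfl
      · refine ⟨1, Subgroup.mem_top _, ?_⟩
        intro v hv hvw
        obtain ⟨i, rfl⟩ := hvP v hv hvw
        rw [autFn_one_apply (hPV i), hwP, one_mul]
      · have hyn : ∀ v ∈ V, y * v * y⁻¹ ∈ V := fun v hv =>
          V.mul_mem (V.mul_mem hyV hv) (V.inv_mem hyV)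
        refine ⟨conjAut V y (mem_normalizer_of_forall hyn), Subgroup.mem_top _, ?_⟩
        intro v hv hvw
        obtain ⟨i, rfl⟩ := hvP v hv hvw
        rw [autFn_of_mem _ (hPV i), hwP]
        show y * P i * y⁻¹ = P (-1 * i)
        rw [hyP, mul_assoc, mul_inv_cancel, mul_one, neg_one_mul]
  have hN : ∀ α ∈ (⊤ : Subgroup (MulAut V)), ∀ x₀ ∈ S, x₀ ∉ V → (∀ v ∈ V, x₀ * v * x₀⁻¹ ∈ V) →
      ∀ y' ∈ S, (∀ v ∈ V, autFn α (x₀ * v * x₀⁻¹) = y' * autFn α v * y'⁻¹) →
        ∃ w ∈ S, ∀ v ∈ V, autFn α v = w * v * w⁻¹ := by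
    intro α _ x₀ hx₀S hx₀V hx₀n y' hy'S hrel
    have huV : autFn α⁻¹ a ∈ V := autFn_mem α⁻¹ haV
    have hαu : autFn α (autFn α⁻¹ a) = a := autFn_apply_inv α haV
    have h1 := hrel _ huV
    rw [hαu] at h1
    have hcase : x₀ * autFn α⁻¹ a * x₀⁻¹ = autFn α⁻¹ a ∨
        x₀ * autFn α⁻¹ a * x₀⁻¹ = (autFn α⁻¹ a)⁻¹ := by
      rcases hQ1 y' hy'S with h | h
      · left
        rw [h] at h1
        exact autFn_injOn α (hx₀n _ huV) huV (h1.trans hαu.symm)
      · right
        rw [h] at h1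
        have h2 : autFn α (autFn α⁻¹ a)⁻¹ = a⁻¹ := by rw [autFn_map_inv α huV, hαu]
        exact autFn_injOn α (hx₀n _ huV) (V.inv_mem huV) (h1.trans h2.symm)
    have hαa : ∃ ε : ZMod 4, (ε = 1 ∨ ε = -1) ∧ autFn α a = P ε := by
      rcases (hmemV _).mp huV with ⟨i, hi⟩ | ⟨i, hi⟩
      · rw [hi] at hαu
        rcases key i with rfl | rfl | rfl | rfl
        · exfalso
          rw [hP0, autFn_map_one] at hαu
          exact ha1 hαu.symm
        · rw [hP1] at hαu
          exact ⟨1, Or.inl rfl, hαu.trans hP1.symm⟩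
        · exfalso
          have h2 : autFn α (P 2 * P 2) = a * a := by
            rw [autFn_map_mul α (hPV 2) (hPV 2), hαu]
          rw [hPadd, show (2 : ZMod 4) + 2 = 0 by decide, hP0, autFn_map_one] at h2
          exact haa h2.symm
        · rw [hPm1, autFn_map_inv α haV] at hαu
          exact ⟨-1, Or.inr rfl, (inv_eq_iff_eq_inv.mp hαu).trans hPm1.symm⟩
      · exfalso
        apply hx₀V
        apply hQ3' x₀ hx₀S i
        rw [hi, hinvs] at hcase
        exact hcase
    obtain ⟨ε, hε, hαa⟩ := hαa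
    have hαP : ∀ k, autFn α (P k) = P (ε * k) := by
      intro k
      rw [hP k, autFn_zpw α haV, hαa, hP ε, Helper9.zpw_zpw ha4, ← hP]
    have hαy : ∃ j, autFn α y = P j * y := by
      rcases (hmemV _).mp (autFn_mem α hyV) with ⟨j, hj⟩ | ⟨j, hj⟩
      · exfalso
        have hεε : ε * (ε * j) = j := by rcases hε with rfl | rfl <;> ring
        have h2 : autFn α (P (ε * j)) = P j := by rw [hαP, hεε]
        exact hyne _ (autFn_injOn α hyV (hPV _) (hj.trans h2.symm))
      · exact ⟨j, hj⟩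
    obtain ⟨j, hαy⟩ := hαy
    have hbP : ∀ (m : ℕ) (k : ZMod 4), b ^ m * P k * (b ^ m)⁻¹ = P k := by
      intro m k
      have h2 : Commute b (P k) := mul_inv_eq_iff_eq_mul.mp (hb1 k)
      exact mul_inv_eq_iff_eq_mul.mpr (h2.pow_left m).eq
    have hby' : ∀ m : ℕ, b ^ m * y * (b ^ m)⁻¹ = P (m : ZMod 4) * y := by
      intro m
      induction m with
      | zero => rw [pow_zero, Nat.cast_zero, hP0]; group
      | succ m ih =>
        have e : b ^ (m + 1) * y * (b ^ (m + 1))⁻¹ = b * (b ^ m * y * (b ^ m)⁻¹) * b⁻¹ := by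
          rw [pow_succ']; group
        have e2 : b * (P (m : ZMod 4) * y) * b⁻¹ =
            (b * P (m : ZMod 4) * b⁻¹) * (b * y * b⁻¹) := by group
        rw [e, ih, e2, hb1, hby, ← hP1, M2, Nat.cast_succ]
    have hjm : ((j.val : ℕ) : ZMod 4) = j := ZMod.natCast_zmod_val j
    rcases hε with rfl | rfl
    · refine ⟨b ^ j.val, S.pow_mem hbS _, ?_⟩
      intro v hv
      rcases (hmemV v).mp hv with ⟨k, rfl⟩ | ⟨k, rfl⟩
      · rw [hαP, one_mul, hbP]
      · have e : b ^ j.val * (P k * y) * (b ^ j.val)⁻¹ =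
            (b ^ j.val * P k * (b ^ j.val)⁻¹) * (b ^ j.val * y * (b ^ j.val)⁻¹) := by group
        rw [autFn_map_mul α (hPV k) hyV, hαP, one_mul, hαy, e, hbP, hby', hjm, M2]
    · refine ⟨b ^ j.val * y, S.mul_mem (S.pow_mem hbS _) hyS, ?_⟩
      have hw1 : ∀ k, (b ^ j.val * y) * P k * (b ^ j.val * y)⁻¹ = P (-1 * k) := by
        intro k
        have e : (b ^ j.val * y) * P k * (b ^ j.val * y)⁻¹ =
            b ^ j.val * (y * P k * y⁻¹) * (b ^ j.val)⁻¹ := by group
        rw [e, hyP, mul_assoc (P (-k)), mul_inv_cancel, mul_one, hbP, neg_one_mul]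
      have hw2 : (b ^ j.val * y) * y * (b ^ j.val * y)⁻¹ = P j * y := by
        have e : (b ^ j.val * y) * y * (b ^ j.val * y)⁻¹ = b ^ j.val * y * (b ^ j.val)⁻¹ := by
          group
        rw [e, hby', hjm]
      intro v hv
      rcases (hmemV v).mp hv with ⟨k, rfl⟩ | ⟨k, rfl⟩
      · rw [hαP, hw1]
      · have e : (b ^ j.val * y) * (P k * y) * (b ^ j.val * y)⁻¹ =
            ((b ^ j.val * y) * P k * (b ^ j.val * y)⁻¹) *
              ((b ^ j.val * y) * y * (b ^ j.val * y)⁻¹) := by group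
        rw [autFn_map_mul α (hPV k) hyV, hαP, hαy, e, hw1, hw2]
  have hE : ∀ α ∈ (⊤ : Subgroup (MulAut V)), ∀ Q₀ : Subgroup Ω, Q₀ ≤ V → Q₀ ≠ V →
      (∀ n ∈ S, (∀ v ∈ Q₀, n * v * n⁻¹ ∈ Q₀) → n ∈ V) ∨
      ((∀ n ∈ S, ∀ v ∈ Q₀, n * v * n⁻¹ ∈ Q₀) ∧
        ((∀ n ∈ S, ∀ v ∈ Q₀, ∃ v' ∈ Q₀, autFn α v' = n * autFn α v * n⁻¹) →
          ∃ w ∈ S, ∀ v ∈ Q₀, autFn α v = w * v * w⁻¹)) := by
    intro α _ Q₀ hQ₀V hQ₀ne
    by_cases hex : ∃ i, P i * y ∈ Q₀
    · left
      obtain ⟨i, hi⟩ := hex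
      have hfull : P 1 ∈ Q₀ → False := by
        intro h1
        apply hQ₀ne
        apply le_antisymm hQ₀V
        have haQ : a ∈ Q₀ := hP1 ▸ h1
        have hPk : ∀ k, P k ∈ Q₀ := by
          intro k
          rw [hP k]
          exact Q₀.zpow_mem haQ _
        intro v hv
        rcases (hmemV v).mp hv with ⟨k, rfl⟩ | ⟨k, rfl⟩
        · exact hPk k
        · have e : P k * y = P (k - i) * (P i * y) := by rw [M2, sub_add_cancel]
          rw [e]; exact Q₀.mul_mem (hPk _) hi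
      have hQ₀' : ∀ k, P k ∈ Q₀ → k = 0 ∨ k = 2 := by
        intro k hk
        rcases key k with rfl | rfl | rfl | rfl
        · exact Or.inl rfl
        · exact absurd hk hfull
        · exact Or.inr rfl
        · exfalso
          apply hfull
          have := Q₀.inv_mem hk
          rwa [hPinv, neg_neg] at this
      intro n hn hnQ
      apply hQ3' n hn i
      have h1 := hnQ _ hi
      rcases (hmemV _).mp (hQ₀V h1) with ⟨k, hk⟩ | ⟨k, hk⟩
      · exfalso
        obtain ⟨ε₂, hε₂, hnP₂⟩ := hQ1' n⁻¹ (S.inv_mem hn)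
        have e : P i * y = n⁻¹ * (n * (P i * y) * n⁻¹) * n⁻¹⁻¹ := by group
        rw [hk, hnP₂] at e
        exact hne _ _ e.symm
      · rw [hk] at h1
        have h2 : P (k - i) ∈ Q₀ := by
          have e : P (k - i) = (P k * y) * (P i * y)⁻¹ := by
            rw [hinvs, M4]; congr 1; ring
          rw [e]; exact Q₀.mul_mem h1 (Q₀.inv_mem hi)
        rcases hQ₀' _ h2 with h3 | h3
        · left
          rw [hk, sub_eq_zero.mp h3]
        · right
          rw [hk]
          congr 2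
          linear_combination h3
    · right
      push Not at hex
      have hQ₀P : ∀ v ∈ Q₀, ∃ k, v = P k := by
        intro v hv
        rcases (hmemV v).mp (hQ₀V hv) with ⟨k, hk⟩ | ⟨k, hk⟩
        · exact ⟨k, hk⟩
        · exact absurd (hk ▸ hv) (hex k)
      refine ⟨?_, ?_⟩
      · intro n hn v hv
        obtain ⟨k, rfl⟩ := hQ₀P v hv
        obtain ⟨ε, hε, hnP⟩ := hQ1' n hn
        rw [hnP]
        rcases hε with rfl | rfl
        · rw [one_mul]; exact hv
        · rw [neg_one_mul, ← hPinv]; exact Q₀.inv_mem hv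
      · intro hαn
        have hα2 : autFn α (P 2) = P 2 := by
          have hd : autFn α (P 2) * autFn α (P 2) = 1 := by
            rw [← autFn_map_mul α (hPV 2) (hPV 2), hPadd, show (2 : ZMod 4) + 2 = 0 by decide, hP0,
              autFn_map_one]
          have hd1 : autFn α (P 2) ≠ 1 := by
            intro h
            have h' := autFn_injOn α (hPV 2) V.one_mem (h.trans (autFn_map_one α).symm)
            rw [← hP0] at h'
            exact absurd (hPinj _ _ h') (by decide)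
          rcases (hmemV _).mp (autFn_mem α (hPV 2)) with ⟨k, hk⟩ | ⟨k, hk⟩
          · rw [hk] at hd hd1 ⊢
            rw [hPadd, ← hP0] at hd
            have h3 := hPinj _ _ hd
            rcases key k with rfl | rfl | rfl | rfl
            · exact absurd hP0 hd1
            · exact absurd h3 (by decide)
            · rfl
            · exact absurd h3 (by decide)
          · exfalso
            rw [hk, M4, sub_self, zero_add, ← hP0] at hd
            exact absurd (hPinj _ _ hd) (by decide)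
        by_cases ha : P 1 ∈ Q₀
        · have hαa : ∃ ε : ZMod 4, (ε = 1 ∨ ε = -1) ∧ autFn α (P 1) = P ε := by
            rcases (hmemV _).mp (autFn_mem α (hPV 1)) with ⟨k, hk⟩ | ⟨k, hk⟩
            · rcases key k with rfl | rfl | rfl | rfl
              · exfalso
                rw [hP0] at hk
                have h' := autFn_injOn α (hPV 1) V.one_mem (hk.trans (autFn_map_one α).symm)
                rw [← hP0] at h'
                exact absurd (hPinj _ _ h') (by decide)
              · exact ⟨1, Or.inl rfl, hk⟩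
              · exfalso
                have h' := autFn_injOn α (hPV 1) (hPV 2) (hk.trans hα2.symm)
                exact absurd (hPinj _ _ h') (by decide)
              · exact ⟨-1, Or.inr rfl, hk⟩
            · exfalso
              obtain ⟨v', hv', hve⟩ := hαn b hbS (P 1) ha
              obtain ⟨m, rfl⟩ := hQ₀P v' hv'
              have e2 : b * (P k * y) * b⁻¹ = (b * P k * b⁻¹) * (b * y * b⁻¹) := by group
              rw [hk, e2, hb1, hby, ← hP1, M2] at hve
              rcases key m with rfl | rfl | rfl | rfl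
              · rw [hP0, autFn_map_one, ← hP0] at hve
                exact hne _ _ hve
              · rw [hk] at hve
                exact hk1 k (hPinj _ _ (mul_right_cancel hve))
              · rw [hα2] at hve
                exact hne _ _ hve
              · rw [← hPinv, autFn_map_inv α (hPV 1), hk, hinvs] at hve
                exact hk2 k (hPinj _ _ (mul_right_cancel hve))
          obtain ⟨ε, hε, hαa⟩ := hαa
          rw [hP1] at hαa
          have hαP : ∀ k, autFn α (P k) = P (ε * k) := by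
            intro k
            rw [hP k, autFn_zpw α haV, hαa, hP ε, Helper9.zpw_zpw ha4, ← hP]
          rcases hε with rfl | rfl
          · refine ⟨1, S.one_mem, ?_⟩
            intro v hv
            obtain ⟨k, rfl⟩ := hQ₀P v hv
            rw [hαP, one_mul]; group
          · refine ⟨y, hyS, ?_⟩
            intro v hv
            obtain ⟨k, rfl⟩ := hQ₀P v hv
            rw [hαP, hyP, mul_assoc, mul_inv_cancel, mul_one, neg_one_mul]
        · refine ⟨1, S.one_mem, ?_⟩
          intro v hv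
          obtain ⟨k, rfl⟩ := hQ₀P v hv
          rcases key k with rfl | rfl | rfl | rfl
          · rw [hP0, autFn_map_one]; group
          · exact absurd hv ha
          · rw [hα2]; group
          · exfalso
            apply ha
            have := Q₀.inv_mem hv
            rwa [hPinv, neg_neg] at this
  have hX : ∃ α ∈ (⊤ : Subgroup (MulAut V)), ¬ ∃ w ∈ S, ∀ v ∈ V, autFn α v = w * v * w⁻¹ := by
    have hcardV : Nat.card V = 4 * 2 := by
      obtain ⟨fV, hfV⟩ : ∃ fV : ZMod 4 ⊕ ZMod 4 → V,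
          (∀ i, (fV (Sum.inl i) : Ω) = P i) ∧ ∀ i, (fV (Sum.inr i) : Ω) = P i * y :=
        ⟨fun s => Sum.rec (fun i => ⟨P i, hPV i⟩) (fun i => ⟨P i * y, hPyV i⟩) s,
          fun _ => rfl, fun _ => rfl⟩
      have hbij : Function.Bijective fV := by
        constructor
        · rintro (i | i) (j | j) h
          · have h' := congrArg Subtype.val h
            rw [hfV.1, hfV.1] at h'
            rw [hPinj _ _ h']
          · have h' := congrArg Subtype.val h
            rw [hfV.1, hfV.2] at h'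
            exact absurd h' (hne _ _)
          · have h' := congrArg Subtype.val h
            rw [hfV.1, hfV.2] at h'
            exact absurd h'.symm (hne _ _)
          · have h' := congrArg Subtype.val h
            rw [hfV.2, hfV.2] at h'
            rw [hPinj _ _ (mul_right_cancel h')]
        · rintro ⟨v, hv⟩
          rcases (hmemV v).mp hv with ⟨i, rfl⟩ | ⟨i, rfl⟩
          · exact ⟨Sum.inl i, Subtype.ext (hfV.1 i)⟩
          · exact ⟨Sum.inr i, Subtype.ext (hfV.2 i)⟩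
      rw [← Nat.card_eq_of_bijective fV hbij, Nat.card_sum, Nat.card_zmod]
    have hnot : (⟨y, hyV⟩ : V) ∉ Subgroup.zpowers (⟨a, haV⟩ : V) := by
      rintro ⟨k, hk⟩
      have h' : a ^ k = y := by
        have := congrArg Subtype.val hk
        simpa using this
      obtain ⟨i, hi⟩ := hzP y ⟨k, h'⟩
      exact hyne i hi
    obtain ⟨ψ⟩ := Helper9.quaternion_equiv_of 2 (⟨a, haV⟩ : V) ⟨y, hyV⟩
      (by rw [Subgroup.orderOf_mk, hoa])
      (Subtype.ext (by show y * y = a ^ 2; rw [hy2, pow_two]))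
      (Subtype.ext hya) hnot hcardV
    obtain ⟨ρ, hρ⟩ := exists_q8_twist
    refine ⟨ψ.trans (ρ.trans ψ.symm), Subgroup.mem_top _, ?_⟩
    rintro ⟨w, hw, hwe⟩
    have h1 := hwe a haV
    rw [autFn_of_mem _ haV] at h1
    have hu2 : ψ ⟨a, haV⟩ * ψ ⟨a, haV⟩ ≠ 1 := by
      intro h
      have h' : (⟨a, haV⟩ : V) * ⟨a, haV⟩ = 1 := by
        apply ψ.injective
        rw [map_mul, map_one]
        exact h
      exact haa (congrArg Subtype.val h')
    obtain ⟨hρ1, hρ2⟩ := hρ _ hu2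
    rcases hQ1 w hw with h | h
    · rw [h] at h1
      apply hρ1
      have h2 : (ψ.trans (ρ.trans ψ.symm)) ⟨a, haV⟩ = ⟨a, haV⟩ := Subtype.ext h1
      have h3 := congrArg ψ h2
      simpa using h3
    · rw [h] at h1
      apply hρ2
      have h2 : (ψ.trans (ρ.trans ψ.symm)) ⟨a, haV⟩ = (⟨a, haV⟩ : V)⁻¹ := Subtype.ext h1
      have h3 := congrArg ψ h2
      simpa using h3
  exact ⟨pearlSys S V ⊤ hVS hK, pearl_saturated 2 hS hSV hN hE, pearl_not_normal hSV hX⟩

end Cfsg.Agent.Helper27
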