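import Cfsg.Agent.Helper27.AbSuperE
import Cfsg.Agent.Helper27.MetaAut
import Cfsg.Agent.Helper27.CycFactor
import Cfsg.Agent.Helper27.PearlQ8

set_option autoImplicit false

namespace Cfsg.Agent.Helper27

open Cfsg

universe u

/-- a metacyclic `p`-group that is not homocyclic of rank two has no repeated invariant -/
theorem norep_of_metacyclic {G : Type u} [Group G] [Finite G] {p : ℕ} [Fact p.Prime]
    (hG : IsPGroup p G) (hm : Cfsg.IsMetacyclic G)
    (hnh : ¬ ∃ n : ℕ, 0 < n ∧
      Nonempty (G ≃* Multiplicative (ZMod (p ^ n)) × Multiplicative (ZMod (p ^ n)))) :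
    ¬ ∃ (n : ℕ) (H : Type) (_ : CommGroup H), 0 < n ∧
      Nonempty (G ≃* (Multiplicative (ZMod (p ^ n)) × Multiplicative (ZMod (p ^ n))) × H) := by
  rintro ⟨n, H₁, _, hn, ⟨φ⟩⟩
  have hp := (Fact.out : p.Prime)
  haveI : NeZero p := ⟨hp.ne_zero⟩
  by_cases htriv : ∀ h : H₁, h = 1
  · apply hnh
    haveI : Unique H₁ := ⟨⟨1⟩, htriv⟩
    exact ⟨n, hn, ⟨φ.trans MulEquiv.prodUnique⟩⟩
  · push Not at htriv
    obtain ⟨h, hh⟩ := htriv
    obtain ⟨f₁, hf₁⟩ : ∃ f₁ : H₁ →* G, ∀ t, f₁ t = φ.symm (1, t) :=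
      ⟨φ.symm.toMonoidHom.comp (MonoidHom.inr _ H₁), fun _ => rfl⟩
    have hf₁inj : Function.Injective f₁ := by
      intro s t hst
      rw [hf₁, hf₁] at hst
      have := φ.symm.injective hst
      exact (Prod.mk.inj this).2
    haveI : Finite H₁ := Finite.of_injective f₁ hf₁inj
    have hH₁ : IsPGroup p H₁ := hG.of_injective f₁ hf₁inj
    haveI : Nontrivial H₁ := ⟨⟨h, 1, hh⟩⟩
    obtain ⟨t, ht0, ht⟩ := hH₁.nontrivial_iff_card.mp inferInstance
    have hdvd₁ : p ∣ Nat.card H₁ := by rw [ht]; exact dvd_pow_self p (ne_of_gt ht0)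
    obtain ⟨h₀, hh₀⟩ := exists_prime_orderOf_dvd_card' p hdvd₁
    have hcC : Nat.card (Multiplicative (ZMod (p ^ n))) = p ^ n := Nat.card_zmod (p ^ n)
    have hdvd₂ : p ∣ Nat.card (Multiplicative (ZMod (p ^ n))) := by
      rw [hcC]; exact dvd_pow_self p (ne_of_gt hn)
    obtain ⟨c₀, hc₀⟩ := exists_prime_orderOf_dvd_card' p hdvd₂
    obtain ⟨E, hE⟩ : ∃ E : Subgroup ((Multiplicative (ZMod (p ^ n)) ×
        Multiplicative (ZMod (p ^ n))) × H₁),
        E = ((Subgroup.zpowers c₀).prod (Subgroup.zpowers c₀)).prod (Subgroup.zpowers h₀) :=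
      ⟨_, rfl⟩
    have hcardE : Nat.card E = p * p * p := by
      rw [hE, Nat.card_congr (Subgroup.prodEquiv _ _).toEquiv, Nat.card_prod,
        Nat.card_congr (Subgroup.prodEquiv _ _).toEquiv, Nat.card_prod, Nat.card_zpowers,
        Nat.card_zpowers, hc₀, hh₀]
    have hzp : ∀ {A : Type} [Group A] (g x : A), g ^ p = 1 → x ∈ Subgroup.zpowers g →
        x ^ p = 1 := by
      intro A _ g x hg hx
      obtain ⟨k, rfl⟩ := hx
      show (g ^ k) ^ p = 1
      rw [← zpow_natCast, ← zpow_mul, mul_comm, zpow_mul, zpow_natCast, hg, one_zpow]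
    have hc₀p : c₀ ^ p = 1 := by
      have h := pow_orderOf_eq_one c₀
      rwa [hc₀] at h
    have hh₀p : h₀ ^ p = 1 := by
      have h := pow_orderOf_eq_one h₀
      rwa [hh₀] at h
    have hexp : ∀ g : E, g ^ p = 1 := by
      rintro ⟨⟨⟨c₁, c₂⟩, h₁⟩, hg⟩
      rw [hE, Subgroup.mem_prod, Subgroup.mem_prod] at hg
      apply Subtype.ext
      show ((c₁, c₂), h₁) ^ p = 1
      rw [Prod.pow_mk, Prod.pow_mk, hzp c₀ c₁ hc₀p hg.1.1, hzp c₀ c₂ hc₀p hg.1.2,
        hzp h₀ h₁ hh₀p hg.2]
      rfl
    have hEm : Cfsg.IsMetacyclic E := by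
      refine metacyclic_of_injective hm (φ.symm.toMonoidHom.comp E.subtype) ?_
      intro a b hab
      exact Subtype.ext (φ.symm.injective hab)
    haveI : Finite E := Nat.finite_of_card_ne_zero (by
      rw [hcardE]; exact (Nat.mul_pos (Nat.mul_pos hp.pos hp.pos) hp.pos).ne')
    have h1 := metacyclic_card_dvd_sq hEm hexp
    rw [hcardE] at h1
    have h2 := Nat.le_of_dvd (pow_pos hp.pos 2) h1
    have h3 := hp.two_le
    nlinarith

/-- the action of automorphisms on the quotient by an invariant normal subgroup -/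
theorem exists_char_action {G : Type*} [Group G] (N : Subgroup G) [N.Normal]
    (hN : ∀ (α : MulAut G), ∀ x ∈ N, α x ∈ N) :
    ∃ ρ : MulAut G →* MulAut (G ⧸ N), ∀ (α : MulAut G) (x : G),
      ρ α (x : G ⧸ N) = ((α x : G) : G ⧸ N) := by
  have hmap : ∀ α : MulAut G, N.map ((α : MulAut G) : G →* G) = N := by
    intro α
    apply le_antisymm
    · rintro _ ⟨y, hy, rfl⟩
      exact hN α y hy
    · intro y hy
      refine ⟨α⁻¹ y, hN α⁻¹ y hy, ?_⟩
      show α (α⁻¹ y) = y
      rw [MulAut.apply_inv_self]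
  refine ⟨{ toFun := fun α => QuotientGroup.congr N N α (hmap α)
            map_one' := ?_
            map_mul' := ?_ }, fun α x => rfl⟩
  · ext x
    induction x using QuotientGroup.induction_on with
    | H x => rfl
  · intro a b
    ext x
    induction x using QuotientGroup.induction_on with
    | H x => rfl

/-- a `p'`-automorphism stabilizing a chain `Φ ≤ M ≤ G` is trivial -/
theorem aut_eq_one_of_two_step {G : Type*} [Group G] [Finite G] {p : ℕ} [Fact p.Prime]
    (hG : IsPGroup p G) (γ : MulAut G) (hcop : (orderOf γ).Coprime p) (M : Subgroup G)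
    (s1 : ∀ x : G, x⁻¹ * γ x ∈ M) (s2 : ∀ x ∈ M, x⁻¹ * γ x ∈ frattini G) : γ = 1 := by
  have hfix : ∀ v : G ⧸ frattini G,
      frattiniAct G γ (v⁻¹ * frattiniAct G γ v) = v⁻¹ * frattiniAct G γ v := by
    intro v
    obtain ⟨x, rfl⟩ := QuotientGroup.mk_surjective v
    have e : ((x : G) : G ⧸ frattini G)⁻¹ * frattiniAct G γ (x : G ⧸ frattini G) =
        ((x⁻¹ * γ x : G) : G ⧸ frattini G) := by
      rw [frattiniAct_mk]
      rfl
    rw [e, frattiniAct_mk]
    exact (QuotientGroup.eq.mpr (s2 _ (s1 x))).symm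
  have hcop' : (orderOf (frattiniAct G γ)).Coprime p :=
    Nat.Coprime.coprime_dvd_left (orderOf_map_dvd _ γ) hcop
  have h1 := Helper1.aut_eq_one_of_fixes (hG.to_quotient (frattini G)) (frattiniAct G γ) hcop' hfix
  apply burnside_frattini hG γ hcop
  intro x
  have h2 := frattiniAct_mk G γ x
  rw [h1, MulAut.one_apply] at h2
  exact QuotientGroup.eq.mp h2

/-- a metacyclic `p`-group with an invariant proper normal subgroup with cyclic quotient has only abelian
`p'`-groups of automorphisms, of exponent dividing `p - 1` -/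
theorem pprime_abelian_of_line {G : Type*} [Group G] [Finite G] {p : ℕ} [Fact p.Prime]
    (hG : IsPGroup p G) (hm : Cfsg.IsMetacyclic G) (H : Subgroup (MulAut G))
    (hH : (Nat.card H).Coprime p) (K : Subgroup G) [K.Normal]
    (hKH : ∀ α ∈ H, ∀ x ∈ K, α x ∈ K) (hKtop : K ≠ ⊤) (hcyc : IsCyclic (G ⧸ K)) :
    (∀ a ∈ H, ∀ b ∈ H, a * b = b * a) ∧ ∀ h ∈ H, h ^ (p - 1) = 1 := by
  have hp := (Fact.out : p.Prime)
  obtain ⟨M, hMdef⟩ : ∃ M : Subgroup G, M = K ⊔ frattini G := ⟨_, rfl⟩
  have hMtop : M ≠ ⊤ := by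
    intro h
    rw [hMdef] at h
    exact hKtop (frattini_nongenerating h)
  haveI hMn : M.Normal := by rw [hMdef]; infer_instance
  have hΦM : frattini G ≤ M := by rw [hMdef]; exact le_sup_right
  have hKM : K ≤ M := by rw [hMdef]; exact le_sup_left
  have hMH : ∀ α ∈ H, ∀ x ∈ M, α x ∈ M := by
    intro α hα x hx
    have h1 : M.map ((α : MulAut G) : G →* G) ≤ M := by
      rw [hMdef, Subgroup.map_sup]
      apply sup_le
      · rintro _ ⟨y, hy, rfl⟩
        exact le_sup_left (a := K) (b := frattini G) (hKH α hα y hy)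
      · rintro _ ⟨y, hy, rfl⟩
        exact le_sup_right (a := K) (b := frattini G) (frattini_aut_mem_gen α hy)
    exact h1 ⟨x, hx, rfl⟩
  have hΦH : ∀ α ∈ H, ∀ x ∈ frattini G, α x ∈ frattini G := fun α _ x hx =>
    frattini_aut_mem_gen α hx
  have hTH : ∀ α ∈ H, ∀ x ∈ (⊤ : Subgroup G), α x ∈ (⊤ : Subgroup G) := fun _ _ _ _ =>
    Subgroup.mem_top _
  haveI hc1 : IsCyclic (↥(⊤ : Subgroup G) ⧸ M.subgroupOf ⊤) := by
    have hle : K ≤ (M.subgroupOf ⊤).comap (Subgroup.topEquiv (G := G)).symm.toMonoidHom := by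
      intro x hx
      rw [Subgroup.mem_comap, Subgroup.mem_subgroupOf]
      exact hKM hx
    refine isCyclic_of_surjective (QuotientGroup.map K (M.subgroupOf ⊤)
      (Subgroup.topEquiv (G := G)).symm.toMonoidHom hle) ?_
    intro v
    obtain ⟨⟨x, hx⟩, rfl⟩ := QuotientGroup.mk_surjective v
    exact ⟨(x : G ⧸ K), rfl⟩
  haveI hc2 : IsCyclic (↥M ⧸ (frattini G).subgroupOf M) := by
    have hVexp : ∀ v : G ⧸ frattini G, v ^ p = 1 := by
      intro v
      obtain ⟨x, rfl⟩ := QuotientGroup.mk_surjective v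
      rw [← QuotientGroup.mk_pow, QuotientGroup.eq_one_iff]
      exact (Cfsg.Agent.S0012.result p hG).2 x
    have hVcard : (frattini G).index ∣ p ^ 2 :=
      metacyclic_card_dvd_sq (metacyclic_of_surjective hm (QuotientGroup.mk' _)
        (QuotientGroup.mk'_surjective _)) hVexp
    have hmul := Subgroup.relIndex_mul_index hΦM
    have hM1 : M.index ≠ 1 := fun h => hMtop (Subgroup.index_eq_one.mp h)
    obtain ⟨i, hi, hi'⟩ := (Nat.dvd_prime_pow hp).mp hVcard
    have hMd : M.index ∣ p ^ i := by rw [← hi', ← hmul]; exact dvd_mul_left _ _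
    obtain ⟨j, hj, hj'⟩ := (Nat.dvd_prime_pow hp).mp hMd
    have hj0 : j ≠ 0 := by
      rintro rfl
      exact hM1 (by rw [hj', pow_zero])
    have hrel : (frattini G).relIndex M = p ^ (i - j) := by
      rw [hi', hj'] at hmul
      have hpos : 0 < p ^ j := pow_pos hp.pos j
      have e : p ^ i = p ^ (i - j) * p ^ j := by rw [← pow_add]; congr 1; omega
      rw [e] at hmul
      exact Nat.eq_of_mul_eq_mul_right hpos hmul
    have hcard : Nat.card (↥M ⧸ (frattini G).subgroupOf M) = p ^ (i - j) := hrel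
    have hij : i - j = 0 ∨ i - j = 1 := by omega
    rcases hij with h0 | h0
    · rw [h0, pow_zero] at hcard
      haveI : Subsingleton (↥M ⧸ (frattini G).subgroupOf M) :=
        (Nat.card_eq_one_iff_unique.mp hcard).1
      exact isCyclic_of_subsingleton
    · rw [h0, pow_one] at hcard
      exact isCyclic_of_prime_card hcard
  have hord : ∀ γ ∈ H, (orderOf γ).Coprime p := by
    intro γ hγ
    have h1 : orderOf γ ∣ Nat.card H := by
      have := orderOf_dvd_natCard (⟨γ, hγ⟩ : H)
      rwa [Subgroup.orderOf_mk] at this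
    exact Nat.Coprime.coprime_dvd_left h1 hH
  refine ⟨fun a ha b hb => ?_, fun h hh => ?_⟩
  · have h1 : a * b * a⁻¹ * b⁻¹ = 1 := by
      apply aut_eq_one_of_two_step hG _
        (hord _ (H.mul_mem (H.mul_mem (H.mul_mem ha hb) (H.inv_mem ha)) (H.inv_mem hb))) M
      · intro x
        exact comm_mem_of_cyclic_factor H M ⊤ (hcyc := hc1) hMH hTH ha hb x (Subgroup.mem_top x)
      · intro x hx
        exact comm_mem_of_cyclic_factor H (frattini G) M (hcyc := hc2) hΦH hMH ha hb x hx
    calc a * b = (a * b * a⁻¹ * b⁻¹) * (b * a) := by group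
      _ = b * a := by rw [h1, one_mul]
  · apply aut_eq_one_of_two_step hG _ (hord _ (H.pow_mem hh _)) M
    · intro x
      exact pow_mem_of_cyclic_factor H M ⊤ (hcyc := hc1) (hG.to_subgroup _) hMH hTH hh
        (hord h hh) x (Subgroup.mem_top x)
    · intro x hx
      exact pow_mem_of_cyclic_factor H (frattini G) M (hcyc := hc2) (hG.to_subgroup _) hΦH hMH hh
        (hord h hh) x hx

/-- a metacyclic `p`-group (`p` odd) that is not homocyclic of rank two has only abelian `p'`-groups of
automorphisms, of exponent dividing `p - 1` -/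
theorem meta_odd_pprime {G : Type u} [Group G] [Finite G] {p : ℕ} [Fact p.Prime] (hp2 : p ≠ 2)
    (hG : IsPGroup p G) (hm : Cfsg.IsMetacyclic G)
    (hnh : ¬ ∃ n : ℕ, 0 < n ∧
      Nonempty (G ≃* Multiplicative (ZMod (p ^ n)) × Multiplicative (ZMod (p ^ n))))
    (H : Subgroup (MulAut G)) (hH : (Nat.card H).Coprime p) :
    (∀ a ∈ H, ∀ b ∈ H, a * b = b * a) ∧ ∀ h ∈ H, h ^ (p - 1) = 1 := by
  have hp := (Fact.out : p.Prime)
  by_cases hab : ∀ a b : G, a * b = b * a
  · exact pprime_abelian_of_norep hab hG (norep_of_metacyclic hG hm hnh) H hH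
  have hm' := hm
  obtain ⟨N, hNn, hNc, hQc⟩ := hm
  have hord : ∀ γ ∈ H, (orderOf γ).Coprime p := by
    intro γ hγ
    have h1 : orderOf γ ∣ Nat.card H := by
      have := orderOf_dvd_natCard (⟨γ, hγ⟩ : H)
      rwa [Subgroup.orderOf_mk] at this
    exact Nat.Coprime.coprime_dvd_left h1 hH
  have hQcomm : ∀ u v : G ⧸ N, u * v = v * u := by
    intro u v
    letI := IsCyclic.commGroup (α := G ⧸ N)
    exact mul_comm u v
  have hNcomm : ∀ u v : N, u * v = v * u := by
    intro u v
    letI := IsCyclic.commGroup (α := N)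
    exact mul_comm u v
  have hcomN : ∀ a b : G, a * b * a⁻¹ * b⁻¹ ∈ N := by
    intro a b
    rw [← QuotientGroup.eq_one_iff, QuotientGroup.mk_mul, QuotientGroup.mk_mul,
      QuotientGroup.mk_mul, QuotientGroup.mk_inv, QuotientGroup.mk_inv,
      hQcomm (a : G ⧸ N) (b : G ⧸ N)]
    group
  have hG'N : commutator G ≤ N := by
    rw [commutator_def, Subgroup.commutator_le]
    intro a _ b _
    exact hcomN a b
  have hcomm_mem : ∀ a b : G, a * b * a⁻¹ * b⁻¹ ∈ commutator G := by
    intro a b
    rw [commutator_def]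
    exact Subgroup.commutator_mem_commutator (Subgroup.mem_top a) (Subgroup.mem_top b)
  have hG'char : ∀ (α : MulAut G), ∀ x ∈ commutator G, α x ∈ commutator G := by
    intro α x hx
    have h1 := Subgroup.characteristic_iff_map_le.mp
      (inferInstance : (commutator G).Characteristic) α
    exact h1 (Subgroup.mem_map_of_mem _ hx)
  have hG'Φ : commutator G ≤ frattini G := (Cfsg.Agent.S0012.result p hG).1
  by_cases hcent : ∀ c ∈ commutator G, ∀ g : G, c * g = g * c
  swap
  · push Not at hcent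
    obtain ⟨c₀, hc₀, g₀, hg₀⟩ := hcent
    have hKH : ∀ α ∈ H, ∀ x ∈ Subgroup.centralizer (commutator G : Set G),
        α x ∈ Subgroup.centralizer (commutator G : Set G) := by
      intro α _ x hx
      rw [Subgroup.mem_centralizer_iff] at hx ⊢
      intro c hc
      have h1 := hx (α⁻¹ c) (hG'char α⁻¹ c hc)
      have h2 := congrArg α h1
      rw [map_mul, map_mul, MulAut.apply_inv_self] at h2
      exact h2
    have hKtop : Subgroup.centralizer (commutator G : Set G) ≠ ⊤ := by
      intro h
      have h1 : g₀ ∈ Subgroup.centralizer (commutator G : Set G) := by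
        rw [h]; exact Subgroup.mem_top _
      rw [Subgroup.mem_centralizer_iff] at h1
      exact hg₀ (h1 c₀ hc₀)
    have hNK : N ≤ Subgroup.centralizer (commutator G : Set G) := by
      intro n hn
      rw [Subgroup.mem_centralizer_iff]
      intro c hc
      exact congrArg Subtype.val (hNcomm ⟨c, hG'N hc⟩ ⟨n, hn⟩)
    have hcyc : IsCyclic (G ⧸ Subgroup.centralizer (commutator G : Set G)) := by
      refine isCyclic_of_surjective (QuotientGroup.map N
        (Subgroup.centralizer (commutator G : Set G)) (MonoidHom.id G) hNK) ?_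
      intro v
      obtain ⟨x, rfl⟩ := QuotientGroup.mk_surjective v
      exact ⟨(x : G ⧸ N), rfl⟩
    exact pprime_abelian_of_line hG hm' H hH _ hKH hKtop hcyc
  · obtain ⟨ρ, hρ⟩ := exists_char_action (commutator G) hG'char
    by_cases hhom : ∃ k : ℕ, 0 < k ∧ Nonempty ((G ⧸ commutator G) ≃*
        Multiplicative (ZMod (p ^ k)) × Multiplicative (ZMod (p ^ k)))
    swap
    · have hAcomm : ∀ u v : G ⧸ commutator G, u * v = v * u := by
        intro u v
        obtain ⟨a, rfl⟩ := QuotientGroup.mk_surjective u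
        obtain ⟨b, rfl⟩ := QuotientGroup.mk_surjective v
        show ((a * b : G) : G ⧸ commutator G) = ((b * a : G) : G ⧸ commutator G)
        rw [QuotientGroup.eq]
        have e : (a * b)⁻¹ * (b * a) = b⁻¹ * a⁻¹ * b⁻¹⁻¹ * a⁻¹⁻¹ := by group
        rw [e]
        exact hcomm_mem _ _
      have hAp : IsPGroup p (G ⧸ commutator G) := hG.to_quotient _
      have hAm : Cfsg.IsMetacyclic (G ⧸ commutator G) :=
        metacyclic_of_surjective hm' (QuotientGroup.mk' _) (QuotientGroup.mk'_surjective _)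
      have hcardH : (Nat.card (H.map ρ)).Coprime p :=
        Nat.Coprime.coprime_dvd_left (Subgroup.card_map_dvd H ρ) hH
      obtain ⟨h1, h2⟩ := pprime_abelian_of_norep hAcomm hAp (norep_of_metacyclic hAp hAm hhom)
        (H.map ρ) hcardH
      have key : ∀ γ ∈ H, ρ γ = 1 → γ = 1 := by
        intro γ hγ h
        apply burnside_frattini hG γ (hord γ hγ)
        intro x
        apply hG'Φ
        have h3 := hρ γ x
        rw [h, MulAut.one_apply] at h3
        exact QuotientGroup.eq.mp h3
      refine ⟨fun a ha b hb => ?_, fun h hh => ?_⟩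
      · have h3 : a * b * a⁻¹ * b⁻¹ = 1 := by
          apply key _ (H.mul_mem (H.mul_mem (H.mul_mem ha hb) (H.inv_mem ha)) (H.inv_mem hb))
          rw [map_mul, map_mul, map_mul, map_inv, map_inv, h1 _ ⟨a, ha, rfl⟩ _ ⟨b, hb, rfl⟩]
          group
        calc a * b = (a * b * a⁻¹ * b⁻¹) * (b * a) := by group
          _ = b * a := by rw [h3, one_mul]
      · apply key _ (H.pow_mem hh _)
        rw [map_pow]
        exact h2 _ ⟨h, hh, rfl⟩
    · obtain ⟨k, hk, ⟨e⟩⟩ := hhom
      haveI : NeZero p := ⟨hp.ne_zero⟩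
      have hC : ∀ c : Multiplicative (ZMod (p ^ k)), c ^ (p ^ k) = 1 := by
        intro c
        apply Multiplicative.toAdd.injective
        rw [toAdd_pow, toAdd_one, nsmul_eq_mul, ZMod.natCast_self, zero_mul]
      have hpowG' : ∀ g : G, g ^ (p ^ k) ∈ commutator G := by
        intro g
        rw [← QuotientGroup.eq_one_iff, QuotientGroup.mk_pow]
        apply e.injective
        rw [map_pow, map_one]
        ext
        · exact hC _
        · exact hC _
      have hmul : ∀ a b : G, (a * b) ^ (p ^ k) = a ^ (p ^ k) * b ^ (p ^ k) := by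
        intro a b
        obtain ⟨Z, hZdef⟩ : ∃ Z : G, Z = (a * b)⁻¹ * (b * a) := ⟨_, rfl⟩
        have hBA : b * a = a * b * Z := by rw [hZdef]; group
        have hZG' : Z ∈ commutator G := by
          have e1 : Z = b⁻¹ * a⁻¹ * b⁻¹⁻¹ * a⁻¹⁻¹ := by rw [hZdef]; group
          rw [e1]
          exact hcomm_mem _ _
        have hZc : ∀ g : G, Commute Z g := fun g => hcent Z hZG' g
        have h1 := comm_pow_left hBA hZc (p ^ k)
        have h2 : b ^ (p ^ k) * a = a * b ^ (p ^ k) := hcent _ (hpowG' b) a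
        have hZp : Z ^ (p ^ k) = 1 := by
          rw [h2] at h1
          have h1' : a * b ^ (p ^ k) * 1 = a * b ^ (p ^ k) * Z ^ (p ^ k) := by
            rw [mul_one]; exact h1
          exact (mul_left_cancel h1').symm
        have h3 := pow_mul_class_two hBA hZc (p ^ k)
        have heven : 2 ∣ p ^ k - 1 := by
          have hodd : Odd (p ^ k) := (hp.odd_of_ne_two hp2).pow
          obtain ⟨t, ht⟩ := hodd
          exact ⟨t, by omega⟩
        rw [Nat.mul_div_assoc _ heven, pow_mul, hZp, one_pow, mul_one] at h3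
        exact h3
      obtain ⟨ψ, hψ⟩ : ∃ ψ : G →* G, ∀ g, ψ g = g ^ (p ^ k) :=
        ⟨MonoidHom.mk' (fun g => g ^ (p ^ k)) hmul, fun g => rfl⟩
      have hKH : ∀ α ∈ H, ∀ x ∈ ψ.ker, α x ∈ ψ.ker := by
        intro α _ x hx
        rw [MonoidHom.mem_ker, hψ] at hx ⊢
        rw [← map_pow, hx, map_one]
      have hKtop : ψ.ker ≠ ⊤ := by
        intro htop
        have hexp : ∀ g : G, g ^ (p ^ k) = 1 := fun g => by
          rw [← hψ, ← MonoidHom.mem_ker, htop]
          exact Subgroup.mem_top g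
        have h1 : Nat.card N ∣ p ^ k := by
          obtain ⟨g, hg⟩ := IsCyclic.exists_generator (α := N)
          rw [← orderOf_eq_card_of_forall_mem_zpowers hg]
          apply orderOf_dvd_of_pow_eq_one
          apply Subtype.ext
          simpa using hexp g
        have h2 : Nat.card (G ⧸ N) ∣ p ^ k := by
          obtain ⟨g, hg⟩ := IsCyclic.exists_generator (α := G ⧸ N)
          rw [← orderOf_eq_card_of_forall_mem_zpowers hg]
          apply orderOf_dvd_of_pow_eq_one
          obtain ⟨g', rfl⟩ := QuotientGroup.mk_surjective g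
          rw [← QuotientGroup.mk_pow, hexp]
          rfl
        have h3 : Nat.card G ∣ p ^ k * p ^ k := by
          rw [Subgroup.card_eq_card_quotient_mul_card_subgroup N]
          exact Nat.mul_dvd_mul h2 h1
        have h4 : Nat.card G = Nat.card (G ⧸ commutator G) * Nat.card (commutator G) :=
          Subgroup.card_eq_card_quotient_mul_card_subgroup _
        have hcC : Nat.card (Multiplicative (ZMod (p ^ k))) = p ^ k := Nat.card_zmod (p ^ k)
        have h5 : Nat.card (G ⧸ commutator G) = p ^ k * p ^ k := by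
          rw [Nat.card_congr e.toEquiv, Nat.card_prod, hcC]
        have h6 : 1 < Nat.card (commutator G) := by
          rw [Subgroup.one_lt_card_iff_ne_bot]
          intro hbot
          apply hab
          intro a b
          have h7 := hcomm_mem a b
          rw [hbot, Subgroup.mem_bot] at h7
          calc a * b = (a * b * a⁻¹ * b⁻¹) * (b * a) := by group
            _ = b * a := by rw [h7, one_mul]
        rw [h4, h5] at h3
        have hpos : 0 < p ^ k * p ^ k := Nat.mul_pos (pow_pos hp.pos k) (pow_pos hp.pos k)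
        have h8 := Nat.le_of_dvd hpos h3
        nlinarith
      have hcyc : IsCyclic (G ⧸ ψ.ker) := by
        have hrange : ψ.range ≤ N := by
          rintro _ ⟨g, rfl⟩
          rw [hψ]
          exact hG'N (hpowG' g)
        haveI : IsCyclic (ψ.range.subgroupOf N) := inferInstance
        haveI hc2 : IsCyclic ψ.range :=
          isCyclic_of_surjective (Subgroup.subgroupOfEquivOfLe hrange).toMonoidHom
            (Subgroup.subgroupOfEquivOfLe hrange).surjective
        exact isCyclic_of_surjective (QuotientGroup.quotientKerEquivRange ψ).symm.toMonoidHom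
          (QuotientGroup.quotientKerEquivRange ψ).symm.surjective
      exact pprime_abelian_of_line hG hm' H hH ψ.ker hKH hKtop hcyc

end Cfsg.Agent.Helper27
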