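import Cfsg.Agent.Helper27.PearlV4
import Cfsg.Agent.Helper27.PearlQ8
import Cfsg.Agent.Helper9.DQ1
import Cfsg.Agent.Helper9.QD3

set_option autoImplicit false

namespace Cfsg.Agent.Helper27

open Cfsg Cfsg.FusionSystem
open Cfsg.Agent.Helper9 (zpw hf qt ot)

variable {Ω : Type*} [Group Ω]

/-- a `2`-group in split metacyclic normal form `⟨x⟩ ⋊ ⟨y⟩` (dihedral or quasi-dihedral type) has a saturated
fusion system in which it is not normal -/
theorem mc_pearl (S : Subgroup Ω) [Finite S] (hS : IsPGroup 2 S)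
    {G : Type*} [Group G] (φ : S ≃* G) {n : ℕ} (hn : 2 ≤ n) {e : ZMod (2 ^ n)} {x y : G}
    (m : Helper9.MC (2 ^ n) e x y) (he : ∀ i : ZMod (2 ^ n), e * i = i → 2 * i = 0)
    (hez : e * hf n = hf n) (ht : (1 - e) * qt n = hf n) :
    ∃ F : FusionSystem S, F.IsSaturated 2 ∧ ¬ F.IsNormal S := by
  have hn1 : 1 ≤ n := by omega
  obtain ⟨Z, hZ⟩ : ∃ Z : G, Z = zpw (2 ^ n) x (hf n) := ⟨_, rfl⟩
  obtain ⟨T, hT⟩ : ∃ T : G, T = zpw (2 ^ n) x (qt n) := ⟨_, rfl⟩
  have hZZ : Z * Z = 1 := by rw [hZ, m.mul_rr, Helper9.add_hf_self hn1, Helper9.zpw_zero]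
  have hZ1 : Z ≠ 1 := by
    rw [hZ, Ne, m.px_eq_one]
    exact Helper9.hf_ne hn1
  have hyZ : y ≠ Z := by
    intro h
    have h2 := m.px_ne_pxy (hf n) 0
    rw [Helper9.zpw_zero, one_mul] at h2
    apply h2
    rw [← hZ]
    exact h.symm
  have hZc : ∀ g : G, g * Z = Z * g := by
    intro g
    rcases m.cases g with ⟨i, rfl⟩ | ⟨i, rfl⟩
    · rw [hZ, m.mul_rr, m.mul_rr, add_comm]
    · rw [hZ, m.mul_sr, m.mul_rs, hez, add_comm]
  have hcy : ∀ g : G, g * y = y * g → g = 1 ∨ g = Z ∨ g = y ∨ g = Z * y := by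
    intro g hg
    rcases m.cases g with ⟨i, rfl⟩ | ⟨i, rfl⟩
    · rw [m.y_px, m.pxy_inj] at hg
      rcases Helper9.two_mul_eq_zero' hn1 (he i hg.symm) with h | h
      · left; rw [h, Helper9.zpw_zero]
      · right; left; rw [h, hZ]
    · have h1 : zpw (2 ^ n) x i * y * y = zpw (2 ^ n) x i := by rw [mul_assoc, m.yy, mul_one]
      have h2 : y * (zpw (2 ^ n) x i * y) = zpw (2 ^ n) x (e * i) := by
        rw [← mul_assoc, m.y_px, mul_assoc, m.yy, mul_one]
      rw [h1, h2, m.px_inj] at hg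
      rcases Helper9.two_mul_eq_zero' hn1 (he i hg.symm) with h | h
      · right; right; left; rw [h, Helper9.zpw_zero, one_mul]
      · right; right; right; rw [h, hZ]
  have hTy : T * y * T⁻¹ = Z * y := by
    have h1 := m.conj_r_s (qt n) 0
    rw [Helper9.zpw_zero, one_mul, zero_add, ht] at h1
    rw [hT, hZ]
    exact h1
  have hcoe : ∀ u v : G, ((φ.symm u : S) : Ω) * ((φ.symm v : S) : Ω) =
      ((φ.symm (u * v) : S) : Ω) := fun u v => by rw [map_mul]; rfl
  have hcoe1 : ((φ.symm 1 : S) : Ω) = 1 := by rw [map_one]; rfl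
  have hcoeinv : ∀ u : G, ((φ.symm u : S) : Ω)⁻¹ = ((φ.symm u⁻¹ : S) : Ω) := fun u => by
    rw [map_inv]; rfl
  have hinj : ∀ u v : G, ((φ.symm u : S) : Ω) = ((φ.symm v : S) : Ω) → u = v :=
    fun u v h => φ.symm.injective (Subtype.ext h)
  have hrep : ∀ g ∈ S, ∃ u : G, g = ((φ.symm u : S) : Ω) := fun g hg =>
    ⟨φ ⟨g, hg⟩, by rw [φ.symm_apply_apply]⟩
  refine v4_pearl S hS (φ.symm Z : S) (φ.symm y : S) (φ.symm T : S) (φ.symm Z).2 (φ.symm y).2
    (φ.symm T).2 ?_ ?_ ?_ ?_ ?_ ?_ ?_ ?_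
  · rw [hcoe, hZZ, hcoe1]
  · rw [hcoe, m.yy, hcoe1]
  · intro h
    rw [← hcoe1] at h
    exact hZ1 (hinj _ _ h)
  · intro h
    rw [← hcoe1] at h
    exact m.y_ne_one (hinj _ _ h)
  · intro h
    exact hyZ (hinj _ _ h)
  · intro g hg
    obtain ⟨u, rfl⟩ := hrep g hg
    rw [hcoe, hcoe, hZc]
  · intro g hg hgs
    obtain ⟨u, rfl⟩ := hrep g hg
    rw [hcoe, hcoe] at hgs
    rcases hcy u (hinj _ _ hgs) with h | h | h | h
    · left; rw [h, hcoe1]
    · right; left; rw [h]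
    · right; right; left; rw [h]
    · right; right; right; rw [h, hcoe]
  · rw [hcoeinv, hcoe, hcoe, hTy, hcoe]

/-- a generalized quaternion `2`-group of order at least `16` has a saturated fusion system in which it is not
normal -/
theorem quat_pearl (S : Subgroup Ω) [Finite S] (hS : IsPGroup 2 S)
    {G : Type*} [Group G] (φ : S ≃* G) {n : ℕ} (hn : 3 ≤ n) {x y : G}
    (hx : orderOf x = 2 ^ n) (hyy : y * y = x ^ 2 ^ (n - 1)) (hyx : y * x * y⁻¹ = x⁻¹)
    (hcases : ∀ g : G, ∃ k : ℕ, g = x ^ k ∨ g = x ^ k * y) :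
    ∃ F : FusionSystem S, F.IsSaturated 2 ∧ ¬ F.IsNormal S := by
  have hn1 : 1 ≤ n := by omega
  have hn2 : 2 ≤ n := by omega
  have hxN : x ^ (2 ^ n) = 1 := by rw [← hx]; exact pow_orderOf_eq_one x
  obtain ⟨R, hR⟩ : ∃ R : ZMod (2 ^ n) → G, ∀ i, R i = zpw (2 ^ n) x i := ⟨_, fun _ => rfl⟩
  have hR0 : R 0 = 1 := by rw [hR]; exact Helper9.zpw_zero
  have hRadd : ∀ i j, R i * R j = R (i + j) := fun i j => by
    rw [hR, hR, hR]; exact (Helper9.zpw_add hxN i j).symm
  have hRinv : ∀ i, (R i)⁻¹ = R (-i) := fun i => by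
    rw [hR, hR]; exact (Helper9.zpw_neg hxN i).symm
  have hRinj : ∀ i j, R i = R j → i = j := fun i j h => by
    rw [hR, hR] at h; exact Helper9.zpw_inj hx h
  have hRnat : ∀ k : ℕ, x ^ k = R (k : ZMod (2 ^ n)) := fun k => by
    rw [hR]; exact (Helper9.zpw_natCast hxN k).symm
  have hyR : ∀ i, y * R i = R (-i) * y := by
    intro i
    have hc : y * x * y⁻¹ = zpw (2 ^ n) x (-1) := by
      rw [hyx, Helper9.zpw_neg hxN, Helper9.zpw_one hxN]
    have h1 := Helper9.zpw_conj hxN (-1) hc i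
    rw [neg_one_mul] at h1
    rw [hR, hR, ← h1]
    group
  have hyy' : y * y = R (hf n) := by
    rw [hyy, hRnat]
    congr 1
    unfold Helper9.hf
    push_cast
    rfl
  have hcases' : ∀ g : G, (∃ i, g = R i) ∨ (∃ i, g = R i * y) := by
    intro g
    obtain ⟨k, h | h⟩ := hcases g
    · exact Or.inl ⟨k, by rw [h, hRnat]⟩
    · exact Or.inr ⟨k, by rw [h, hRnat]⟩
  have M2 : ∀ i j, R i * (R j * y) = R (i + j) * y := fun i j => by rw [← mul_assoc, hRadd]
  have M3 : ∀ i j, (R i * y) * R j = R (i - j) * y := fun i j => by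
    rw [mul_assoc, hyR, ← mul_assoc, hRadd, sub_eq_add_neg]
  have M4 : ∀ i j, (R i * y) * (R j * y) = R (i - j + hf n) := fun i j => by
    rw [← mul_assoc, M3, mul_assoc, hyy', hRadd]
  have hinvs : ∀ i, (R i * y)⁻¹ = R (i + hf n) * y := by
    intro i
    apply inv_eq_of_mul_eq_one_right
    rw [M4, show i - (i + hf n) + hf n = 0 by ring, hR0]
  have C2 : ∀ k j, R k * (R j * y) * (R k)⁻¹ = R (j + 2 * k) * y := by
    intro k j
    rw [hRinv, M2, M3]
    congr 2
    ring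
  have C4 : ∀ k j, (R k * y) * (R j * y) * (R k * y)⁻¹ = R (2 * k - j) * y := by
    intro k j
    rw [hinvs, M4, M2]
    congr 2
    have := Helper9.add_hf_self hn1
    linear_combination this
  obtain ⟨A, hA⟩ : ∃ A : G, A = R (qt n) := ⟨_, rfl⟩
  obtain ⟨B, hB⟩ : ∃ B : G, B = R (ot n) := ⟨_, rfl⟩
  have hAA : A * A = R (hf n) := by rw [hA, hRadd, ← two_mul, Helper9.two_qt hn2]
  have hoA : orderOf A = 4 := by
    rw [Helper9.orderOf_eq_four_iff]
    constructor
    · rw [hAA, ← hR0]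
      intro h
      exact Helper9.hf_ne hn1 (hRinj _ _ h)
    · rw [hAA, hRadd, Helper9.add_hf_self hn1, hR0]
  have hyA : y * A * y⁻¹ = A⁻¹ := by
    rw [hA, hyR, hRinv]
    group
  have hBA : B * A * B⁻¹ = A := by
    rw [hA, hB, hRinv, hRadd, hRadd]
    congr 1
    ring
  have hBy : B * y * B⁻¹ = A * y := by
    have h := C2 (ot n) 0
    rw [hR0, one_mul, zero_add, Helper9.two_ot hn] at h
    rw [hA, hB]
    exact h
  have hG1 : ∀ g : G, g * A * g⁻¹ = A ∨ g * A * g⁻¹ = A⁻¹ := by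
    intro g
    rcases hcases' g with ⟨i, rfl⟩ | ⟨i, rfl⟩
    · left
      rw [hA, hRinv, hRadd, hRadd]
      congr 1
      ring
    · right
      rw [hA, hinvs, M3, M4, hRinv]
      congr 1
      ring
  have hG3 : ∀ g : G, ∀ C ∈ Subgroup.zpowers A,
      (g * (C * y) * g⁻¹ = C * y ∨ g * (C * y) * g⁻¹ = (C * y)⁻¹) →
        g ∈ Subgroup.zpowers A ∨ g * y⁻¹ ∈ Subgroup.zpowers A := by
    intro g C hC h
    have hCx : ∃ j, C = R j := by
      obtain ⟨k, hk⟩ := hC
      have hAx : A ∈ Subgroup.zpowers x := by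
        rw [hA, hR]
        exact Helper9.zpw_mem_zpowers _
      have h1 : A ^ k ∈ Subgroup.zpowers x := Subgroup.zpow_mem _ hAx k
      obtain ⟨j, hj⟩ := (Helper9.mem_zpowers_iff_zpw hxN).mp h1
      exact ⟨j, by rw [hR, ← hj]; exact hk.symm⟩
    obtain ⟨j, hj⟩ := hCx
    have hA1 : A ∈ Subgroup.zpowers A := Subgroup.mem_zpowers A
    have h0 : R 0 ∈ Subgroup.zpowers A := by rw [hR0]; exact Subgroup.one_mem _
    have hhf : R (hf n) ∈ Subgroup.zpowers A := by
      rw [← hAA]; exact Subgroup.mul_mem _ hA1 hA1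
    have hqt : R (qt n) ∈ Subgroup.zpowers A := by rw [← hA]; exact hA1
    have hqh : R (qt n + hf n) ∈ Subgroup.zpowers A := by
      rw [← hRadd]; exact Subgroup.mul_mem _ hqt hhf
    have hCj : R j ∈ Subgroup.zpowers A := hj ▸ hC
    rw [hj, hinvs] at h
    rcases hcases' g with ⟨k, rfl⟩ | ⟨k, rfl⟩
    · left
      rw [C2] at h
      rcases h with h | h
      · have h1 := hRinj _ _ (mul_right_cancel h)
        have h2 : 2 * k = 0 := by linear_combination h1
        rcases Helper9.two_mul_eq_zero' hn1 h2 with h3 | h3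
        · rw [h3]; exact h0
        · rw [h3]; exact hhf
      · have h1 := hRinj _ _ (mul_right_cancel h)
        have h2 : 2 * k = hf n := by linear_combination h1
        rcases Helper9.two_mul_eq_hf hn2 h2 with h3 | h3
        · rw [h3]; exact hqt
        · rw [h3]; exact hqh
    · right
      have e : R k * y * y⁻¹ = R k := by group
      rw [e]
      rw [C4] at h
      rcases h with h | h
      · have h1 := hRinj _ _ (mul_right_cancel h)
        have h2 : 2 * k = 2 * j := by linear_combination h1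
        rcases Helper9.two_mul_eq_two_mul hn1 h2 with h3 | h3
        · rw [h3]; exact hCj
        · rw [h3, ← hRadd]; exact Subgroup.mul_mem _ hCj hhf
      · have h1 := hRinj _ _ (mul_right_cancel h)
        have h2 : 2 * k = 2 * (j + qt n) := by
          have := Helper9.two_qt hn2
          linear_combination h1 - this
        rcases Helper9.two_mul_eq_two_mul hn1 h2 with h3 | h3
        · rw [h3, ← hRadd]; exact Subgroup.mul_mem _ hCj hqt
        · rw [h3, ← hRadd, ← hRadd]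
          exact Subgroup.mul_mem _ (Subgroup.mul_mem _ hCj hqt) hhf
  have hcoe : ∀ u v : G, ((φ.symm u : S) : Ω) * ((φ.symm v : S) : Ω) =
      ((φ.symm (u * v) : S) : Ω) := fun u v => by rw [map_mul]; rfl
  have hcoeinv : ∀ u : G, ((φ.symm u : S) : Ω)⁻¹ = ((φ.symm u⁻¹ : S) : Ω) := fun u => by
    rw [map_inv]; rfl
  have hinj : ∀ u v : G, ((φ.symm u : S) : Ω) = ((φ.symm v : S) : Ω) → u = v :=
    fun u v h => φ.symm.injective (Subtype.ext h)
  have hrep : ∀ g ∈ S, ∃ u : G, g = ((φ.symm u : S) : Ω) := fun g hg =>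
    ⟨φ ⟨g, hg⟩, by rw [φ.symm_apply_apply]⟩
  have hzp : ∀ u : G, u ∈ Subgroup.zpowers A →
      ((φ.symm u : S) : Ω) ∈ Subgroup.zpowers ((φ.symm A : S) : Ω) := by
    rintro u ⟨k, rfl⟩
    refine ⟨k, ?_⟩
    show ((φ.symm A : S) : Ω) ^ k = ((φ.symm (A ^ k) : S) : Ω)
    rw [map_zpow]
    rfl
  have hzp' : ∀ u : G, ((φ.symm u : S) : Ω) ∈ Subgroup.zpowers ((φ.symm A : S) : Ω) →
      u ∈ Subgroup.zpowers A := by
    rintro u ⟨k, hk⟩
    refine ⟨k, ?_⟩
    apply hinj
    show ((φ.symm (A ^ k) : S) : Ω) = _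
    rw [map_zpow]
    exact hk
  refine q8_pearl S hS (φ.symm A : S) (φ.symm y : S) (φ.symm B : S) (φ.symm A).2 (φ.symm y).2
    (φ.symm B).2 ?_ ?_ ?_ ?_ ?_ ?_ ?_
  · rw [Subgroup.orderOf_coe, MulEquiv.orderOf_eq, hoA]
  · rw [hcoe, hcoe, hyy', hAA]
  · rw [hcoeinv y, hcoeinv A, hcoe, hcoe, hyA]
  · rw [hcoeinv B, hcoe, hcoe, hBA]
  · rw [hcoeinv B, hcoe, hcoe, hBy, hcoe]
  · intro g hg
    obtain ⟨u, rfl⟩ := hrep g hg
    rw [hcoeinv u, hcoe, hcoe, hcoeinv A]
    rcases hG1 u with h | h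
    · left; rw [h]
    · right; rw [h]
  · intro g hg c hc h
    obtain ⟨u, rfl⟩ := hrep g hg
    obtain ⟨C, rfl⟩ := hrep c (Subgroup.zpowers_le.mpr (φ.symm A).2 hc)
    have hC := hzp' C hc
    rw [hcoe, hcoeinv u, hcoe, hcoe, hcoeinv (C * y)] at h
    have h' : u * (C * y) * u⁻¹ = C * y ∨ u * (C * y) * u⁻¹ = (C * y)⁻¹ := by
      rcases h with h | h
      · exact Or.inl (hinj _ _ h)
      · exact Or.inr (hinj _ _ h)
    rcases hG3 u C hC h' with h1 | h1
    · left; exact hzp u h1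
    · right
      rw [hcoeinv y, hcoe]
      exact hzp _ h1

theorem exists_pow_of_two_mul {k K : ℕ} (h : 2 * k = 2 ^ K) : ∃ n, k = 2 ^ n ∧ K = n + 1 := by
  cases K with
  | zero => omega
  | succ n =>
    refine ⟨n, ?_, rfl⟩
    rw [pow_succ] at h
    omega

/-- dihedral `2`-groups of order at least `8` are not resistant -/
theorem dihedral_pearl (S : Subgroup Ω) [Finite S] (hS : IsPGroup 2 S) (k : ℕ) (hk : 4 ≤ k)
    (φ : S ≃* DihedralGroup k) : ∃ F : FusionSystem S, F.IsSaturated 2 ∧ ¬ F.IsNormal S := by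
  obtain ⟨K, hK⟩ := IsPGroup.iff_card.mp hS
  rw [Nat.card_congr φ.toEquiv, DihedralGroup.nat_card] at hK
  obtain ⟨n, rfl, -⟩ := exists_pow_of_two_mul hK
  have hn : 2 ≤ n := by
    by_contra hcon
    have : n = 0 ∨ n = 1 := by omega
    rcases this with rfl | rfl <;> norm_num at hk
  have hn1 : 1 ≤ n := by omega
  refine mc_pearl S hS φ hn (Helper9.dihedral_mc_h9 (2 ^ n) (by positivity)) ?_ ?_ ?_
  · intro i hi
    linear_combination (-1 : ZMod (2 ^ n)) * hi
  · rw [neg_one_mul, Helper9.neg_hf hn1]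
  · rw [sub_neg_eq_add, one_add_one_eq_two, Helper9.two_qt hn]

/-- quasi-dihedral `2`-groups are not resistant -/
theorem qd_pearl (S : Subgroup Ω) [Finite S] (hS : IsPGroup 2 S) (h : Cfsg.IsQuasiDihedral S) :
    ∃ F : FusionSystem S, F.IsSaturated 2 ∧ ¬ F.IsNormal S := by
  obtain ⟨n, x, y, hn, m⟩ := Helper9.exists_mc_of_qd h
  have hn1 : 1 ≤ n := by omega
  have hn2 : 2 ≤ n := by omega
  refine mc_pearl S hS (MulEquiv.refl S) hn2 m ?_ ?_ ?_
  · intro i hi
    have h1 : (2 - hf n) * i = 0 := by linear_combination (-1 : ZMod (2 ^ n)) * hi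
    rcases Helper9.two_sub_hf_mul_eq_zero hn h1 with h2 | h2
    · rw [h2, mul_zero]
    · rw [h2]; exact Helper9.two_hf hn1
  · have h1 := Helper9.hf_mul_hf hn2
    have h2 := Helper9.two_hf hn1
    linear_combination h1 - h2
  · have h1 := Helper9.two_qt hn2
    have h2 := Helper9.hf_mul_qt hn
    linear_combination h1 - h2

/-- generalized quaternion `2`-groups of order at least `16` are not resistant -/
theorem quaternion_pearl (S : Subgroup Ω) [Finite S] (hS : IsPGroup 2 S) (k : ℕ) (hk : 4 ≤ k)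
    (φ : S ≃* QuaternionGroup k) : ∃ F : FusionSystem S, F.IsSaturated 2 ∧ ¬ F.IsNormal S := by
  haveI : NeZero k := ⟨by omega⟩
  obtain ⟨K, hK⟩ := IsPGroup.iff_card.mp hS
  rw [Nat.card_congr φ.toEquiv, Nat.card_eq_fintype_card, QuaternionGroup.card] at hK
  obtain ⟨n₁, h1, -⟩ := exists_pow_of_two_mul (show 2 * (2 * k) = 2 ^ K by rw [← hK]; ring)
  obtain ⟨n, rfl, rfl⟩ := exists_pow_of_two_mul h1
  have hn : 2 ≤ n := by
    by_contra hcon
    have : n = 0 ∨ n = 1 := by omega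
    rcases this with rfl | rfl <;> norm_num at hk
  refine quat_pearl S hS φ (n := n + 1) (x := QuaternionGroup.a 1) (y := QuaternionGroup.xa 0)
    (by omega) ?_ ?_ ?_ ?_
  · rw [QuaternionGroup.orderOf_a_one, pow_succ, mul_comm]
  · rw [Nat.add_sub_cancel, QuaternionGroup.xa_mul_xa, QuaternionGroup.a_one_pow, add_zero,
      sub_zero]
  · rw [mul_inv_eq_iff_eq_mul, eq_inv_mul_iff_mul_eq, QuaternionGroup.xa_mul_a,
      QuaternionGroup.a_mul_xa, zero_add, sub_self]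
  · intro g
    rcases g with i | i
    · refine ⟨i.val, Or.inl ?_⟩
      rw [QuaternionGroup.a_one_pow, ZMod.natCast_zmod_val]
    · refine ⟨(-i).val, Or.inr ?_⟩
      rw [QuaternionGroup.a_one_pow, ZMod.natCast_zmod_val, QuaternionGroup.a_mul_xa,
        sub_neg_eq_add, zero_add]

end Cfsg.Agent.Helper27
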