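import Cfsg.Agent.Helper27.MetaOdd
import Cfsg.Agent.Helper27.PearlInst
import Cfsg.Agent.Helper27.MetaNormal
import Cfsg.Agent.Helper27.MetaNormalTwo
import Cfsg.Agent.Helper27.FusInner

set_option autoImplicit false

namespace Cfsg.Agent.Helper27

open Cfsg Cfsg.FusionSystem

/-- a rotation of the three involutions of the four-group -/
def d2Fun : DihedralGroup 2 → DihedralGroup 2
  | .r i => if i = 0 then .r 0 else .sr 0
  | .sr i => if i = 0 then .sr 1 else .r 1

/-- the inverse rotation -/
def d2Inv : DihedralGroup 2 → DihedralGroup 2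
  | .r i => if i = 0 then .r 0 else .sr 1
  | .sr i => if i = 0 then .r 1 else .sr 0

theorem exists_d2_order_three : ∃ ρ : MulAut (DihedralGroup 2), ρ ^ 3 = 1 ∧ ρ ≠ 1 := by
  have h1 : ∀ x : DihedralGroup 2, d2Inv (d2Fun x) = x := by decide
  have h2 : ∀ x : DihedralGroup 2, d2Fun (d2Inv x) = x := by decide
  have h3 : ∀ x y : DihedralGroup 2, d2Fun (x * y) = d2Fun x * d2Fun y := by decide
  have h4 : ∀ x : DihedralGroup 2, d2Fun (d2Fun (d2Fun x)) = x := by decide
  have h5 : d2Fun (DihedralGroup.r 1) ≠ DihedralGroup.r 1 := by decide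
  refine ⟨{ toFun := d2Fun, invFun := d2Inv, left_inv := h1, right_inv := h2, map_mul' := h3 },
    ?_, ?_⟩
  · ext x
    rw [pow_succ, pow_succ, pow_one, MulAut.mul_apply, MulAut.mul_apply]
    exact h4 x
  · intro h
    apply h5
    have := congrArg (fun f : MulAut (DihedralGroup 2) => f (DihedralGroup.r 1)) h
    exact this

set_option maxRecDepth 100000 in
theorem exists_q8_order_three : ∃ ρ : MulAut (QuaternionGroup 2), ρ ^ 3 = 1 ∧ ρ ≠ 1 := by
  have h1 : ∀ x : QuaternionGroup 2, q8Inv (q8Fun x) = x := by decide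
  have h2 : ∀ x : QuaternionGroup 2, q8Fun (q8Inv x) = x := by decide
  have h3 : ∀ x y : QuaternionGroup 2, q8Fun (x * y) = q8Fun x * q8Fun y := by decide
  have h4 : ∀ x : QuaternionGroup 2, q8Fun (q8Fun (q8Fun x)) = x := by decide
  have h5 : q8Fun (QuaternionGroup.a 1) ≠ QuaternionGroup.a 1 := by decide
  refine ⟨{ toFun := q8Fun, invFun := q8Inv, left_inv := h1, right_inv := h2, map_mul' := h3 },
    ?_, ?_⟩
  · ext x
    rw [pow_succ, pow_succ, pow_one, MulAut.mul_apply, MulAut.mul_apply]
    exact h4 x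
  · intro h
    apply h5
    have := congrArg (fun f : MulAut (QuaternionGroup 2) => f (QuaternionGroup.a 1)) h
    exact this

/-- a group isomorphic to a group with an automorphism of order three has a bad group of automorphisms of odd
order -/
theorem bad_of_equiv_order_three {G G' : Type*} [Group G] [Group G'] (φ : G ≃* G')
    (ρ : MulAut G') (h3 : ρ ^ 3 = 1) (h1 : ρ ≠ 1) :
    ¬ ∀ H : Subgroup (MulAut G), (Nat.card H).Coprime 2 →
      (∀ a ∈ H, ∀ b ∈ H, a * b = b * a) ∧ ∀ h ∈ H, h ^ (2 - 1) = 1 := by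
  intro hall
  obtain ⟨γ, hγ⟩ : ∃ γ : MulAut G, MulAut.congr φ γ = ρ :=
    ⟨(MulAut.congr φ).symm ρ, MulEquiv.apply_symm_apply _ _⟩
  have hγ3 : γ ^ 3 = 1 := by
    apply (MulAut.congr φ).injective
    rw [map_pow, hγ, h3, map_one]
  have hγ1 : γ ≠ 1 := by
    intro h
    apply h1
    rw [← hγ, h, map_one]
  haveI : Fact (Nat.Prime 3) := ⟨by norm_num⟩
  have ho : orderOf γ = 3 := orderOf_eq_prime hγ3 hγ1
  have hcard : Nat.card (Subgroup.zpowers γ) = 3 := by rw [Nat.card_zpowers, ho]
  have h2 := (hall (Subgroup.zpowers γ) (by rw [hcard]; decide)).2 γ (Subgroup.mem_zpowers γ)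
  apply hγ1
  simpa using h2

/-- a non-cyclic metacyclic `2`-group that is not `C_{2^n} × C_{2^n}` is not homocyclic -/
theorem not_fin_homocyclic {G : Type*} [Group G] [Finite G] (hm : Cfsg.IsMetacyclic G)
    (hnc : ¬ IsCyclic G)
    (hnh : ¬ ∃ n : ℕ, 0 < n ∧
      Nonempty (G ≃* Multiplicative (ZMod (2 ^ n)) × Multiplicative (ZMod (2 ^ n)))) :
    ¬ ∃ n k : ℕ, Nonempty (G ≃* Multiplicative (Fin k → ZMod (2 ^ n))) := by
  rintro ⟨n, k, ⟨φ⟩⟩
  rcases Nat.eq_zero_or_pos n with hn0 | hn
  · apply hnc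
    have hcard : Nat.card G = 1 := by
      rw [Nat.card_congr φ.toEquiv, Nat.card_congr Multiplicative.toAdd, Nat.card_fun,
        Nat.card_zmod, hn0, pow_zero, one_pow]
    haveI : Subsingleton G := (Nat.card_eq_one_iff_unique.mp hcard).1
    exact isCyclic_of_subsingleton
  · haveI : NeZero (2 ^ n) := ⟨by positivity⟩
    have hdvd : 2 ∣ 2 ^ n := dvd_pow_self 2 hn.ne'
    obtain ⟨f, hf⟩ : ∃ f : Multiplicative (Fin k → ZMod (2 ^ n)) →*
        Multiplicative (Fin k → ZMod 2), ∀ v i, Multiplicative.toAdd (f v) i =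
          ZMod.castHom hdvd (ZMod 2) (Multiplicative.toAdd v i) :=
      ⟨{ toFun := fun v => Multiplicative.ofAdd
            (fun i => ZMod.castHom hdvd (ZMod 2) (Multiplicative.toAdd v i))
         map_one' := by
           apply Multiplicative.toAdd.injective
           funext i
           show ZMod.castHom hdvd (ZMod 2) 0 = 0
           rw [map_zero]
         map_mul' := by
           intro v w
           apply Multiplicative.toAdd.injective
           funext i
           show ZMod.castHom hdvd (ZMod 2) (Multiplicative.toAdd v i + Multiplicative.toAdd w i) =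
             ZMod.castHom hdvd (ZMod 2) (Multiplicative.toAdd v i) +
               ZMod.castHom hdvd (ZMod 2) (Multiplicative.toAdd w i)
           rw [map_add] }, fun v i => rfl⟩
    have hfsurj : Function.Surjective f := by
      intro w
      refine ⟨Multiplicative.ofAdd
        (fun i => (((Multiplicative.toAdd w i).val : ℕ) : ZMod (2 ^ n))), ?_⟩
      apply Multiplicative.toAdd.injective
      funext i
      rw [hf]
      show ZMod.castHom hdvd (ZMod 2) (((Multiplicative.toAdd w i).val : ℕ) : ZMod (2 ^ n)) = _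
      rw [map_natCast, ZMod.natCast_zmod_val]
    have hTm : Cfsg.IsMetacyclic (Multiplicative (Fin k → ZMod 2)) :=
      metacyclic_of_surjective hm (f.comp φ.toMonoidHom) (hfsurj.comp φ.surjective)
    have hTexp : ∀ v : Multiplicative (Fin k → ZMod 2), v ^ 2 = 1 := by
      intro v
      apply Multiplicative.toAdd.injective
      funext i
      show ((2 : ℕ) • Multiplicative.toAdd v) i = 0
      rw [Pi.smul_apply, nsmul_eq_mul]
      have h2 : ((2 : ℕ) : ZMod 2) = 0 := by decide
      rw [h2, zero_mul]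
    have hTcard : Nat.card (Multiplicative (Fin k → ZMod 2)) = 2 ^ k := by
      rw [Nat.card_congr Multiplicative.toAdd, Nat.card_fun, Nat.card_zmod, Nat.card_fin]
    have h1 := metacyclic_card_dvd_sq hTm hTexp
    rw [hTcard] at h1
    have hk : k ≤ 2 := (Nat.pow_dvd_pow_iff_le_right (by norm_num)).mp h1
    interval_cases k
    · apply hnc
      have hcard : Nat.card G = 1 := by
        rw [Nat.card_congr φ.toEquiv, Nat.card_congr Multiplicative.toAdd, Nat.card_fun,
          Nat.card_fin, pow_zero]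
      haveI : Subsingleton G := (Nat.card_eq_one_iff_unique.mp hcard).1
      exact isCyclic_of_subsingleton
    · apply hnc
      obtain ⟨g, hg⟩ : ∃ g : Multiplicative (ZMod (2 ^ n)) →* G,
          ∀ z, g z = φ.symm (Multiplicative.ofAdd (fun _ => Multiplicative.toAdd z)) :=
        ⟨φ.symm.toMonoidHom.comp
          { toFun := fun z => Multiplicative.ofAdd (fun _ => Multiplicative.toAdd z)
            map_one' := rfl
            map_mul' := fun _ _ => rfl }, fun z => rfl⟩
      refine isCyclic_of_surjective g ?_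
      intro x
      refine ⟨Multiplicative.ofAdd (Multiplicative.toAdd (φ x) 0), ?_⟩
      rw [hg]
      apply φ.injective
      rw [φ.apply_symm_apply]
      apply Multiplicative.toAdd.injective
      funext i
      have hi : i = 0 := Subsingleton.elim _ _
      rw [hi]
      rfl
    · apply hnh
      refine ⟨n, hn, ⟨φ.trans
        { toFun := fun v => (Multiplicative.ofAdd (Multiplicative.toAdd v 0),
            Multiplicative.ofAdd (Multiplicative.toAdd v 1))
          invFun := fun ab => Multiplicative.ofAdd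
            ![Multiplicative.toAdd ab.1, Multiplicative.toAdd ab.2]
          left_inv := by
            intro v
            apply Multiplicative.toAdd.injective
            funext i
            fin_cases i <;> rfl
          right_inv := fun ab => rfl
          map_mul' := fun _ _ => rfl }⟩⟩

variable {Ω : Type*} [Group Ω] {S : Subgroup Ω}

/-- a cyclic `S` has the trivial strongly closed chain -/
theorem cyclic_chain [Finite S] (hc : IsCyclic S) (F : FusionSystem S) :
    ∃ (m : ℕ) (c : Fin (m + 1) → Subgroup Ω), c 0 = ⊥ ∧ c (Fin.last m) = S ∧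
      (∀ i : Fin (m + 1), F.StronglyClosed (c i)) ∧
      ∀ i : Fin m, c i.castSucc ≤ c i.succ ∧
        ∃ x ∈ S, c i.succ = c i.castSucc ⊔ Subgroup.zpowers x := by
  have hbot : F.StronglyClosed ⊥ := by
    refine ⟨bot_le, ?_⟩
    intro R hR φ _ x
    have hx : (x : Ω) = 1 := Subgroup.mem_bot.mp (hR x.2)
    have hx' : x = 1 := Subtype.ext hx
    rw [hx', map_one]
    exact Subgroup.one_mem _
  obtain ⟨g, hg⟩ := IsCyclic.exists_generator (α := S)
  have hgen : Subgroup.zpowers (g : Ω) = S := by
    apply le_antisymm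
    · exact Subgroup.zpowers_le.mpr g.2
    · intro x hx
      obtain ⟨k, hk⟩ := hg ⟨x, hx⟩
      refine ⟨k, ?_⟩
      have := congrArg Subtype.val hk
      simpa using this
  refine ⟨1, ![⊥, S], rfl, rfl, ?_, ?_⟩
  · intro i
    fin_cases i
    · exact hbot
    · exact stronglyClosed_top F
  · intro i
    fin_cases i
    refine ⟨bot_le, (g : Ω), g.2, ?_⟩
    show S = ⊥ ⊔ Subgroup.zpowers (g : Ω)
    rw [bot_sup_eq, hgen]

/-- the excluded metacyclic groups are not resistant or have a bad `p'`-group of automorphisms -/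
theorem metacyclic_excluded [Finite S] (p : ℕ) [Fact p.Prime] (hS : IsPGroup p S)
    (hres : ∀ F : FusionSystem S, F.IsSaturated p → F.IsNormal S)
    (hH : ∀ H : Subgroup (MulAut S), (Nat.card H).Coprime p →
      (∀ a ∈ H, ∀ b ∈ H, a * b = b * a) ∧ ∀ h ∈ H, h ^ (p - 1) = 1) :
    ¬ ((∃ n : ℕ, 0 < n ∧
        Nonempty (S ≃* Multiplicative (ZMod (p ^ n)) × Multiplicative (ZMod (p ^ n)))) ∨
      (p = 2 ∧ ((∃ n : ℕ, 2 ≤ n ∧ Nonempty (S ≃* DihedralGroup n)) ∨ Cfsg.IsQuasiDihedral S ∨
        (∃ n : ℕ, 2 ≤ n ∧ Nonempty (S ≃* QuaternionGroup n))))) := by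
  rintro (⟨n, hn, ⟨φ⟩⟩ | ⟨rfl, h⟩)
  · obtain ⟨K, hK, hbad⟩ := exists_bad_pprime (p := p) hn (H₁ := PUnit.{1})
      (φ.trans MulEquiv.prodUnique.symm)
    exact hbad (hH K hK)
  · rcases h with ⟨n, hn, ⟨φ⟩⟩ | hqd | ⟨n, hn, ⟨φ⟩⟩
    · obtain ⟨K, hK⟩ := IsPGroup.iff_card.mp hS
      rw [Nat.card_congr φ.toEquiv, DihedralGroup.nat_card] at hK
      obtain ⟨n', rfl, -⟩ := exists_pow_of_two_mul hK
      by_cases h4 : 4 ≤ 2 ^ n'
      · obtain ⟨F, hF, hFn⟩ := dihedral_pearl S hS _ h4 φ
        exact hFn (hres F hF)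
      · have hn' : n' = 1 := by
          by_contra hne
          have h2 : 2 ≤ n' := by
            rcases Nat.lt_or_ge n' 2 with h | h
            · interval_cases n'
              · norm_num at hn
              · exact absurd rfl hne
            · exact h
          have := Nat.pow_le_pow_right (show 0 < 2 by norm_num) h2
          omega
        subst hn'
        obtain ⟨ρ, h3, h1⟩ := exists_d2_order_three
        exact bad_of_equiv_order_three φ ρ h3 h1 hH
    · obtain ⟨F, hF, hFn⟩ := qd_pearl S hS hqd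
      exact hFn (hres F hF)
    · haveI : NeZero n := ⟨by omega⟩
      obtain ⟨K, hK⟩ := IsPGroup.iff_card.mp hS
      rw [Nat.card_congr φ.toEquiv, Nat.card_eq_fintype_card, QuaternionGroup.card] at hK
      obtain ⟨n₁, h1, -⟩ := exists_pow_of_two_mul (show 2 * (2 * n) = 2 ^ K by rw [← hK]; ring)
      obtain ⟨n', rfl, -⟩ := exists_pow_of_two_mul h1
      by_cases h4 : 4 ≤ 2 ^ n'
      · obtain ⟨F, hF, hFn⟩ := quaternion_pearl S hS _ h4 φ
        exact hFn (hres F hF)
      · have hn' : n' = 1 := by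
          by_contra hne
          have h2 : 2 ≤ n' := by
            rcases Nat.lt_or_ge n' 2 with h | h
            · interval_cases n'
              · norm_num at hn
              · exact absurd rfl hne
            · exact h
          have := Nat.pow_le_pow_right (show 0 < 2 by norm_num) h2
          omega
        subst hn'
        obtain ⟨ρ, h3, h1⟩ := exists_q8_order_three
        exact bad_of_equiv_order_three φ ρ h3 h1 hH

/-- the remaining non-cyclic metacyclic groups are resistant and have only good `p'`-groups of automorphisms -/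
theorem metacyclic_good [Finite S] (p : ℕ) [Fact p.Prime] (hS : IsPGroup p S)
    (hm : Cfsg.IsMetacyclic S) (hnc : ¬ IsCyclic S)
    (hnot : ¬ ((∃ n : ℕ, 0 < n ∧
        Nonempty (S ≃* Multiplicative (ZMod (p ^ n)) × Multiplicative (ZMod (p ^ n)))) ∨
      (p = 2 ∧ ((∃ n : ℕ, 2 ≤ n ∧ Nonempty (S ≃* DihedralGroup n)) ∨ Cfsg.IsQuasiDihedral S ∨
        (∃ n : ℕ, 2 ≤ n ∧ Nonempty (S ≃* QuaternionGroup n)))))) :
    (∀ F : FusionSystem S, F.IsSaturated p → F.IsNormal S) ∧
    ∀ H : Subgroup (MulAut S), (Nat.card H).Coprime p →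
      (∀ a ∈ H, ∀ b ∈ H, a * b = b * a) ∧ ∀ h ∈ H, h ^ (p - 1) = 1 := by
  have hnh : ¬ ∃ n : ℕ, 0 < n ∧
      Nonempty (S ≃* Multiplicative (ZMod (p ^ n)) × Multiplicative (ZMod (p ^ n))) :=
    fun h => hnot (Or.inl h)
  by_cases hp2 : p = 2
  · subst hp2
    have hD : ¬ ∃ m, Nonempty (S ≃* DihedralGroup m) := by
      rintro ⟨m, ⟨φ⟩⟩
      have hcard : Nat.card S = 2 * m := by
        rw [Nat.card_congr φ.toEquiv, DihedralGroup.nat_card]
      rcases Nat.lt_or_ge m 2 with h | h
      · interval_cases m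
        · have := Nat.card_pos (α := S)
          omega
        · apply hnc
          haveI : Fact (Nat.Prime 2) := ⟨Nat.prime_two⟩
          exact isCyclic_of_prime_card (p := 2) (by rw [hcard])
      · exact hnot (Or.inr ⟨rfl, Or.inl ⟨m, h, ⟨φ⟩⟩⟩)
    have hQ : ¬ ∃ m, Nonempty (S ≃* QuaternionGroup m) := by
      rintro ⟨m, ⟨φ⟩⟩
      rcases Nat.lt_or_ge m 2 with h | h
      · interval_cases m
        · exact hD ⟨0, ⟨φ.trans QuaternionGroup.quaternionGroupZeroEquivDihedralGroupZero⟩⟩
        · apply hnc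
          haveI := QuaternionGroup.quaternionGroup_one_isCyclic
          exact isCyclic_of_surjective φ.symm.toMonoidHom φ.symm.surjective
      · exact hnot (Or.inr ⟨rfl, Or.inr (Or.inr ⟨m, h, ⟨φ⟩⟩)⟩)
    have hQD : ¬ Cfsg.IsQuasiDihedral S := fun h => hnot (Or.inr ⟨rfl, Or.inr (Or.inl h)⟩)
    refine ⟨fun F hF => ?_, fun H hH => ?_⟩
    · apply metacyclic_closed_normal_two hS hF (stronglyClosed_top F) hm
      rintro (h | h | h)
      · exact hD h
      · exact hQ h
      · exact hQD h
    · have hone : ∀ h ∈ H, h = 1 := by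
        intro h hh
        obtain ⟨k, hk⟩ := aut_pow_two_of_metacyclic hS hm (by
          rintro (h' | h' | h' | h')
          · exact not_fin_homocyclic hm hnc hnh h'
          · exact hD h'
          · exact hQ h'
          · exact hQD h') h
        have h1 : orderOf h ∣ 2 ^ k := orderOf_dvd_of_pow_eq_one hk
        have h2 : orderOf h ∣ Nat.card H := by
          have := orderOf_dvd_natCard (⟨h, hh⟩ : H)
          rwa [Subgroup.orderOf_mk] at this
        have h3 : (orderOf h).Coprime (2 ^ k) :=
          Nat.Coprime.pow_right k (Nat.Coprime.coprime_dvd_left h2 hH)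
        exact orderOf_eq_one_iff.mp (Nat.Coprime.eq_one_of_dvd h3 h1)
      refine ⟨fun a ha b hb => ?_, fun h hh => ?_⟩
      · rw [hone a ha, hone b hb]
      · rw [hone h hh, one_pow]
  · exact ⟨fun F hF => metacyclic_closed_normal hS hF (stronglyClosed_top F) hp2 hm,
      fun H hH => meta_odd_pprime hp2 hS hm hnh H hH⟩

end Cfsg.Agent.Helper27
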