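import Cfsg.Agent.Helper27.MetaEnd

set_option autoImplicit false

namespace Cfsg.Agent.Helper27

open Cfsg

/-- in a 2-group, an element lying in the subgroup generated by its square is trivial -/
theorem eq_one_of_mem_zpowers_sq {G : Type*} [Group G] {y : G} {e : ℕ} (hy : y ^ 2 ^ e = 1)
    (h : y ∈ Subgroup.zpowers (y ^ 2)) : y = 1 := by
  obtain ⟨j, hj⟩ := Subgroup.mem_zpowers_iff.mp h
  have h1 : y ^ (2 * j - 1) = 1 := by
    have e1 : (y ^ 2) ^ j = y ^ (2 * j) := by
      rw [← zpow_natCast, ← zpow_mul]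
      rfl
    rw [zpow_sub, zpow_one, ← e1, hj, mul_inv_cancel]
  have h2 : (orderOf y : ℤ) ∣ 2 * j - 1 := orderOf_dvd_iff_zpow_eq_one.mpr h1
  have h3 : orderOf y ∣ 2 ^ e := orderOf_dvd_of_pow_eq_one hy
  obtain ⟨i, hi, hoi⟩ := (Nat.dvd_prime_pow Nat.prime_two).mp h3
  rcases Nat.eq_zero_or_pos i with h0 | h0
  · rw [h0, pow_zero] at hoi
    exact orderOf_eq_one_iff.mp hoi
  · exfalso
    have h4 : (2 : ℤ) ∣ 2 * j - 1 := by
      refine dvd_trans ?_ h2
      rw [hoi]
      push_cast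
      exact dvd_pow_self 2 (by omega)
    omega

/-- in a 2-group an element is a power of each of its odd powers -/
theorem mem_zpowers_pow_odd {G : Type*} [Group G] {y : G} {e : ℕ} (hy : y ^ 2 ^ e = 1) {t : ℕ}
    (ht : Odd t) : y ∈ Subgroup.zpowers (y ^ t) := by
  have h3 : orderOf y ∣ 2 ^ e := orderOf_dvd_of_pow_eq_one hy
  have hcop : Nat.Coprime t (orderOf y) :=
    Nat.Coprime.coprime_dvd_right h3 (Nat.Coprime.pow_right e (Nat.coprime_two_right.mpr ht))
  obtain ⟨m, hm⟩ := exists_pow_eq_self_of_coprime hcop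
  have h4 : (y ^ t) ^ m ∈ Subgroup.zpowers (y ^ t) := Subgroup.pow_mem _ (Subgroup.mem_zpowers _) m
  rwa [hm] at h4

theorem exists_npow_of_mem_zpowers {G : Type*} [Group G] {y z : G} {e : ℕ} (hz : z ^ 2 ^ e = 1)
    (h : y ∈ Subgroup.zpowers z) : ∃ i : ℕ, y = z ^ i := by
  have hfin : IsOfFinOrder z := isOfFinOrder_iff_pow_eq_one.mpr ⟨2 ^ e, by positivity, hz⟩
  obtain ⟨i, hi⟩ := hfin.mem_powers_iff_mem_zpowers.mpr h
  exact ⟨i, hi.symm⟩

/-- two elements of a cyclic 2-group: one lies in the subgroup generated by the other, or the other is an even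
power of the first -/
theorem cyclic_two_dichotomy {Z : Type*} [Group Z] [Finite Z] [IsCyclic Z] (hZ : IsPGroup 2 Z)
    (u w : Z) : u ∈ Subgroup.zpowers w ∨ ∃ i : ℕ, w = u ^ (2 * i) := by
  obtain ⟨K, hK⟩ : ∃ K : Subgroup Z, K = Subgroup.closure {u, w} := ⟨_, rfl⟩
  have huK : u ∈ K := by rw [hK]; exact Subgroup.subset_closure (by simp)
  have hwK : w ∈ K := by rw [hK]; exact Subgroup.subset_closure (by simp)
  obtain ⟨g, hg⟩ := IsCyclic.exists_generator (α := K)
  obtain ⟨y, hy⟩ : ∃ y : Z, y = (g : Z) := ⟨_, rfl⟩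
  have hyK : y ∈ K := by rw [hy]; exact g.2
  have hKy : ∀ k ∈ K, k ∈ Subgroup.zpowers y := by
    intro k hk
    obtain ⟨i, hi⟩ := Subgroup.mem_zpowers_iff.mp (hg ⟨k, hk⟩)
    rw [Subgroup.mem_zpowers_iff]
    refine ⟨i, ?_⟩
    have h1 := congrArg Subtype.val hi
    simpa [hy] using h1
  obtain ⟨ey, hey⟩ := hZ y
  obtain ⟨eu, heu⟩ := hZ u
  obtain ⟨s, hs⟩ := exists_npow_of_mem_zpowers hey (hKy u huK)
  obtain ⟨t, ht⟩ := exists_npow_of_mem_zpowers hey (hKy w hwK)
  rcases Nat.even_or_odd t with ht2 | ht2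
  · rcases Nat.even_or_odd s with hs2 | hs2
    · -- both even: y = 1
      left
      have hle : K ≤ Subgroup.zpowers (y ^ 2) := by
        rw [hK, Subgroup.closure_le]
        intro k hk
        rcases hk with hk | hk
        · obtain ⟨m, hm⟩ := hs2
          rw [hk, hs, hm, ← two_mul, pow_mul]
          exact Subgroup.pow_mem _ (Subgroup.mem_zpowers _) m
        · obtain ⟨m, hm⟩ := ht2
          have hk' : k = w := hk
          rw [hk', ht, hm, ← two_mul, pow_mul]
          exact Subgroup.pow_mem _ (Subgroup.mem_zpowers _) m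
      have hy1 := eq_one_of_mem_zpowers_sq hey (hle hyK)
      rw [hs, hy1, one_pow]
      exact Subgroup.one_mem _
    · -- s odd: y ∈ ⟨u⟩
      have h1 : y ∈ Subgroup.zpowers u := by
        rw [hs]; exact mem_zpowers_pow_odd hey hs2
      have h2 : w ∈ Subgroup.zpowers u := by
        rw [ht]; exact Subgroup.pow_mem _ h1 t
      obtain ⟨k, hk⟩ := exists_npow_of_mem_zpowers heu h2
      rcases Nat.even_or_odd k with hk2 | hk2
      · right
        obtain ⟨m, hm⟩ := hk2
        exact ⟨m, by rw [hk, hm, two_mul]⟩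
      · left
        rw [hk]; exact mem_zpowers_pow_odd heu hk2
  · left
    have h1 : y ∈ Subgroup.zpowers w := by
      rw [ht]; exact mem_zpowers_pow_odd hey ht2
    rw [hs]; exact Subgroup.pow_mem _ h1 s

end Cfsg.Agent.Helper27
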