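import Mathlib
import Cfsg.Prelude.Def_Transfer
import Cfsg.Agent.Helper1.Class2
import Cfsg.Agent.S0012
import Cfsg.Agent.Helper27.EssChain

set_option autoImplicit false

namespace Cfsg.Agent.Helper27

open Cfsg Cfsg.FusionSystem
open scoped commutatorElement

/-- a chain `1 ≤ D₁ ≤ D₂ ≤ G` of characteristic subgroups with factors of order dividing `p` -/
def HasCharChain (p : ℕ) (G : Type*) [Group G] : Prop :=
  ∃ D₁ D₂ : Subgroup G, D₁ ≤ D₂ ∧ (∀ α : MulAut G, ∀ x ∈ D₁, α x ∈ D₁) ∧
    (∀ α : MulAut G, ∀ x ∈ D₂, α x ∈ D₂) ∧ Nat.card D₁ ∣ p ∧ D₁.relIndex D₂ ∣ p ∧ D₂.index ∣ p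

theorem essential_no_charChain {Ω : Type*} [Group Ω] {S : Subgroup Ω} [Finite S] {p : ℕ}
    [Fact p.Prime] (hS : IsPGroup p S) {F : FusionSystem S} {H : Subgroup Ω}
    (hH : F.IsEssential p H) : ¬ HasCharChain p H := by
  rintro ⟨D₁, D₂, h12, hi1, hi2, hc1, hc2, hc3⟩
  have hn1 : ∀ l : H, ∀ k ∈ D₁, l * k * l⁻¹ ∈ D₁ := fun l k hk => hi1 (MulAut.conj l) k hk
  have hn2 : ∀ l : H, ∀ k ∈ D₂, l * k * l⁻¹ ∈ D₂ := fun l k hk => hi2 (MulAut.conj l) k hk
  refine essential_no_chain hS hH 3
    (fun i => if i = 0 then ⊥ else if i = 1 then D₁ else if i = 2 then D₂ else ⊤)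
    (by simp) (by simp) ?_ ?_ ?_ ?_
  · intro i
    rcases i with _ | _ | _ | i
    · simp
    · simpa using h12
    · simp
    · simp
  · intro i
    rcases i with _ | _ | _ | i
    · intro l _ k hk
      simp only [if_true] at hk
      rw [Subgroup.mem_bot] at hk
      simp [hk]
    · intro l _ k hk
      simpa using hn1 l k (by simpa using hk)
    · intro l _ k hk
      simpa using hn2 l k (by simpa using hk)
    · intro l _ k _
      simp
  · intro i α _ x hx
    rcases i with _ | _ | _ | i
    · simp only [if_true] at hx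
      rw [Subgroup.mem_bot] at hx
      simp [hx]
    · simpa using hi1 α x (by simpa using hx)
    · simpa using hi2 α x (by simpa using hx)
    · simp
  · intro i
    rcases i with _ | _ | _ | i
    · simpa using hc1
    · simpa using hc2
    · simpa using hc3
    · simp

/-- a subgroup containing a subgroup of prime index properly is everything -/
theorem eq_top_of_prime_index {G : Type*} [Group G] {p : ℕ} (hp : p.Prime) {K L : Subgroup G}
    (hKL : K ≤ L) (hidx : K.index = p) {x : G} (hxL : x ∈ L) (hxK : x ∉ K) : L = ⊤ := by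
  have h1 := Subgroup.relIndex_mul_index hKL
  rw [hidx] at h1
  have h2 : L.index ∣ p := Dvd.intro_left _ h1
  rcases (Nat.dvd_prime hp).mp h2 with h3 | h3
  · exact Subgroup.index_eq_one.mp h3
  · exfalso
    rw [h3] at h1
    have h4 : K.relIndex L = 1 := by
      have hp0 := hp.pos
      nlinarith
    exact hxK (Subgroup.relIndex_eq_one.mp h4 hxL)

theorem card_relIndex {G : Type*} [Group G] {K L : Subgroup G} (hKL : K ≤ L) :
    Nat.card K * K.relIndex L = Nat.card L := by
  have h := Subgroup.relIndex_mul_relIndex (H := (⊥ : Subgroup G)) (K := K) (L := L) bot_le hKL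
  rwa [Subgroup.relIndex_bot_left, Subgroup.relIndex_bot_left] at h

/-- abelian groups of order `p³`: elementary abelian or with a characteristic chain -/
theorem abelian_cube {G : Type*} [Group G] [Finite G] {p : ℕ} [Fact p.Prime]
    (hcard : Nat.card G = p ^ 3) (hcomm : ∀ x y : G, x * y = y * x) :
    (∀ x : G, x ^ p = 1) ∨ HasCharChain p G := by
  have hp := (Fact.out : p.Prime)
  obtain ⟨π, hπ⟩ : ∃ π : G →* G, ∀ x, π x = x ^ p :=
    ⟨MonoidHom.mk' (fun x => x ^ p) (fun x y => Commute.mul_pow (hcomm x y) p), fun _ => rfl⟩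
  by_cases hK : π.ker = ⊤
  · left
    intro x
    have h1 : x ∈ π.ker := by rw [hK]; exact Subgroup.mem_top x
    rw [MonoidHom.mem_ker, hπ] at h1
    exact h1
  right
  have hidx : π.ker.index = Nat.card π.range := Subgroup.index_ker π
  have hmul : Nat.card π.ker * Nat.card π.range = p ^ 3 := by
    rw [← hidx, Subgroup.card_mul_index, hcard]
  have hKinv : ∀ α : MulAut G, ∀ x ∈ π.ker, α x ∈ π.ker := by
    intro α x hx
    rw [MonoidHom.mem_ker, hπ] at hx ⊢
    rw [← map_pow, hx, map_one]
  have hPinv : ∀ α : MulAut G, ∀ x ∈ π.range, α x ∈ π.range := by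
    rintro α _ ⟨y, rfl⟩
    exact ⟨α y, by rw [hπ, hπ, map_pow]⟩
  -- the kernel is nontrivial
  obtain ⟨x₀, hx₀⟩ := exists_prime_orderOf_dvd_card' p (G := G) (by rw [hcard]; exact dvd_pow_self p (by norm_num))
  have hx₀K : x₀ ∈ π.ker := by
    rw [MonoidHom.mem_ker, hπ, ← hx₀]
    exact pow_orderOf_eq_one x₀
  have hx₀1 : x₀ ≠ 1 := by
    intro h
    rw [h, orderOf_one] at hx₀
    exact hp.one_lt.ne hx₀
  obtain ⟨k, hk3, hkc⟩ := (Nat.dvd_prime_pow hp).mp (hcard ▸ Subgroup.card_subgroup_dvd_card π.ker)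
  have hk0 : k ≠ 0 := by
    intro h
    rw [h, pow_zero] at hkc
    have h1 : π.ker = ⊥ := Subgroup.card_eq_one.mp hkc
    rw [h1, Subgroup.mem_bot] at hx₀K
    exact hx₀1 hx₀K
  have hk3' : k ≠ 3 := by
    intro h
    rw [h, ← hcard] at hkc
    exact hK (Subgroup.eq_top_of_card_eq _ hkc)
  have hp0 := hp.pos
  have hk12 : k = 1 ∨ k = 2 := by omega
  rcases hk12 with rfl | rfl
  · -- kernel of order `p`, image of order `p²`
    rw [pow_one] at hkc
    have hPc : Nat.card π.range = p ^ 2 := by
      rw [hkc] at hmul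
      have : p * Nat.card π.range = p * p ^ 2 := by rw [hmul]; ring
      exact Nat.eq_of_mul_eq_mul_left hp0 this
    have hKP : π.ker ≤ π.range := by
      obtain ⟨y, hy⟩ := exists_prime_orderOf_dvd_card' p (G := π.range)
        (by rw [hPc]; exact dvd_pow_self p (by norm_num))
      have hyK : (y : G) ∈ π.ker := by
        rw [MonoidHom.mem_ker, hπ, ← hy, ← Subgroup.orderOf_coe]
        exact pow_orderOf_eq_one (y : G)
      have hy1 : (⟨(y : G), hyK⟩ : π.ker) ≠ 1 := by
        intro h
        have h2 : (y : G) = 1 := congrArg Subtype.val h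
        have h3 : y = 1 := Subtype.ext h2
        rw [h3, orderOf_one] at hy
        exact hp.one_lt.ne hy
      intro z hz
      have h4 := mem_zpowers_of_prime_card (G := π.ker) hkc hy1 (g' := ⟨z, hz⟩)
      obtain ⟨m, hm⟩ := Subgroup.mem_zpowers_iff.mp h4
      have h5 : z = (y : G) ^ m := by
        have := congrArg Subtype.val hm
        simpa using this.symm
      rw [h5]
      exact π.range.zpow_mem y.2 m
    refine ⟨π.ker, π.range, hKP, hKinv, hPinv, by rw [hkc], ?_, ?_⟩
    · have h6 := card_relIndex hKP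
      rw [hkc, hPc] at h6
      have : p * π.ker.relIndex π.range = p * p := by rw [h6]; ring
      rw [Nat.eq_of_mul_eq_mul_left hp0 this]
    · have h6 := Subgroup.card_mul_index π.range
      rw [hPc, hcard] at h6
      have : p ^ 2 * π.range.index = p ^ 2 * p := by rw [h6]; ring
      rw [Nat.eq_of_mul_eq_mul_left (by positivity) this]
  · -- kernel of order `p²`, image of order `p`
    have hPc : Nat.card π.range = p := by
      rw [hkc] at hmul
      have : p ^ 2 * Nat.card π.range = p ^ 2 * p := by rw [hmul]; ring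
      exact Nat.eq_of_mul_eq_mul_left (by positivity) this
    have hPK : π.range ≤ π.ker := by
      intro y hy
      rw [MonoidHom.mem_ker, hπ]
      have h1 : (⟨y, hy⟩ : π.range) ^ p = 1 := by
        rw [← hPc]
        exact pow_card_eq_one'
      exact congrArg Subtype.val h1
    refine ⟨π.range, π.ker, hPK, hPinv, hKinv, by rw [hPc], ?_, ?_⟩
    · have h6 := card_relIndex hPK
      rw [hkc, hPc] at h6
      have : p * π.range.relIndex π.ker = p * p := by rw [h6]; ring
      rw [Nat.eq_of_mul_eq_mul_left hp0 this]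
    · rw [hidx, hPc]

theorem center_inv {G : Type*} [Group G] (α : MulAut G) {z : G} (hz : z ∈ Subgroup.center G) :
    α z ∈ Subgroup.center G := by
  rw [Subgroup.mem_center_iff] at hz ⊢
  intro g
  have h1 := hz (α⁻¹ g)
  have h2 := congrArg α h1
  rwa [map_mul, map_mul, MulAut.apply_inv_self] at h2

/-- nonabelian groups of order `p³` are extraspecial -/
theorem nonabelian_cube_basic {G : Type*} [Group G] [Finite G] {p : ℕ} [Fact p.Prime]
    (hcard : Nat.card G = p ^ 3) (hnc : ¬ ∀ x y : G, x * y = y * x) :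
    Nat.card (Subgroup.center G) = p ∧ (∀ x y : G, ⁅x, y⁆ ∈ Subgroup.center G) ∧
      (∀ x : G, x ^ p ∈ Subgroup.center G) ∧ Cfsg.IsExtraspecial p G := by
  have hp := (Fact.out : p.Prime)
  have hp0 := hp.pos
  have hG : IsPGroup p G := IsPGroup.of_card hcard
  haveI : Nontrivial G := by
    rw [← Finite.one_lt_card_iff_nontrivial, hcard]
    exact Nat.one_lt_pow (by norm_num) hp.one_lt
  haveI hZnt : Nontrivial (Subgroup.center G) := hG.center_nontrivial
  have hcyc : ∀ (N : Subgroup G) [N.Normal], N ≤ Subgroup.center G → ¬ IsCyclic (G ⧸ N) := by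
    intro N _ hN hc
    apply hnc
    exact commutative_of_cyclic_center_quotient (QuotientGroup.mk' N)
      (by rw [QuotientGroup.ker_mk']; exact hN)
  -- the centre has order `p`
  have hZ : Nat.card (Subgroup.center G) = p := by
    obtain ⟨k, hk3, hkc⟩ := (Nat.dvd_prime_pow hp).mp
      (hcard ▸ Subgroup.card_subgroup_dvd_card (Subgroup.center G))
    have hk0 : k ≠ 0 := by
      intro h
      rw [h, pow_zero] at hkc
      have := Finite.one_lt_card_iff_nontrivial.mpr hZnt
      omega
    have hk3' : k ≠ 3 := by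
      intro h
      rw [h, ← hcard] at hkc
      have h1 : Subgroup.center G = ⊤ := Subgroup.eq_top_of_card_eq _ hkc
      apply hnc
      intro x y
      have h2 : y ∈ Subgroup.center G := by rw [h1]; exact Subgroup.mem_top y
      exact Subgroup.mem_center_iff.mp h2 x
    have hk2 : k ≠ 2 := by
      intro h
      rw [h] at hkc
      have h1 := Subgroup.card_mul_index (Subgroup.center G)
      rw [hkc, hcard] at h1
      have h2 : (Subgroup.center G).index = p := by
        have : p ^ 2 * (Subgroup.center G).index = p ^ 2 * p := by rw [h1]; ring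
        exact Nat.eq_of_mul_eq_mul_left (by positivity) this
      have h3 : Nat.card (G ⧸ Subgroup.center G) = p := by
        rw [← Subgroup.index_eq_card]; exact h2
      exact hcyc (Subgroup.center G) le_rfl (isCyclic_of_prime_card h3)
    have hk1 : k = 1 := by omega
    rw [hk1, pow_one] at hkc
    exact hkc
  have hidx : Nat.card (G ⧸ Subgroup.center G) = p ^ 2 := by
    rw [← Subgroup.index_eq_card]
    have h1 := Subgroup.card_mul_index (Subgroup.center G)
    rw [hZ, hcard] at h1
    have : p * (Subgroup.center G).index = p * p ^ 2 := by rw [h1]; ring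
    exact Nat.eq_of_mul_eq_mul_left hp0 this
  have hqc : ∀ q₁ q₂ : G ⧸ Subgroup.center G, q₁ * q₂ = q₂ * q₁ :=
    IsPGroup.commutative_of_card_eq_prime_sq hidx
  have hcomm : ∀ x y : G, ⁅x, y⁆ ∈ Subgroup.center G := by
    intro x y
    rw [← QuotientGroup.eq_one_iff]
    have e : ((⁅x, y⁆ : G) : G ⧸ Subgroup.center G) =
        (x : G ⧸ Subgroup.center G) * (y : G ⧸ Subgroup.center G) *
          (x : G ⧸ Subgroup.center G)⁻¹ * (y : G ⧸ Subgroup.center G)⁻¹ := rfl
    rw [e, hqc (x : G ⧸ Subgroup.center G) (y : G ⧸ Subgroup.center G)]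
    group
  have hpow : ∀ x : G, x ^ p ∈ Subgroup.center G := by
    intro x
    rw [← QuotientGroup.eq_one_iff]
    have e : ((x ^ p : G) : G ⧸ Subgroup.center G) = (x : G ⧸ Subgroup.center G) ^ p := rfl
    rw [e]
    obtain ⟨j, hj2, hjc⟩ := (Nat.dvd_prime_pow hp).mp
      (hidx ▸ orderOf_dvd_natCard (x : G ⧸ Subgroup.center G))
    have hj : j ≠ 2 := by
      intro h
      rw [h, ← hidx] at hjc
      exact hcyc (Subgroup.center G) le_rfl (isCyclic_of_orderOf_eq_card _ hjc)
    have hj1 : j = 0 ∨ j = 1 := by omega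
    apply orderOf_dvd_iff_pow_eq_one.mp
    rw [hjc]
    rcases hj1 with rfl | rfl
    · simp
    · simp
  -- the commutator subgroup
  have hcle : commutator G ≤ Subgroup.center G := by
    rw [commutator_def, Subgroup.commutator_le]
    intro x _ y _
    exact hcomm x y
  have hcne : commutator G ≠ ⊥ := by
    intro h
    rw [commutator_eq_bot_iff_center_eq_top] at h
    apply hnc
    intro x y
    have h2 : y ∈ Subgroup.center G := by rw [h]; exact Subgroup.mem_top y
    exact Subgroup.mem_center_iff.mp h2 x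
  have hceq : commutator G = Subgroup.center G := by
    apply Subgroup.eq_of_le_of_card_ge hcle
    have h1 : Nat.card (commutator G) ∣ p := hZ ▸ Subgroup.card_dvd_of_le hcle
    rcases (Nat.dvd_prime hp).mp h1 with h2 | h2
    · exact absurd (Subgroup.card_eq_one.mp h2) hcne
    · rw [h2, hZ]
  obtain ⟨h12a, h12b⟩ := Cfsg.Agent.S0012.result p hG
  have hZΦ : Subgroup.center G ≤ frattini G := hceq ▸ h12a
  have hΦtop : frattini G ≠ ⊤ := by
    intro htop
    have h1 : (⊥ : Subgroup G) ⊔ frattini G = ⊤ := by rw [htop, bot_sup_eq]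
    have h2 := frattini_nongenerating h1
    exact bot_ne_top h2
  have hΦeq : frattini G = Subgroup.center G := by
    symm
    apply Subgroup.eq_of_le_of_card_ge hZΦ
    obtain ⟨k, hk3, hkc⟩ := (Nat.dvd_prime_pow hp).mp
      (hcard ▸ Subgroup.card_subgroup_dvd_card (frattini G))
    have hk3' : k ≠ 3 := by
      intro h
      rw [h, ← hcard] at hkc
      exact hΦtop (Subgroup.eq_top_of_card_eq _ hkc)
    have hk2 : k ≠ 2 := by
      intro h
      rw [h] at hkc
      have h1 := Subgroup.card_mul_index (frattini G)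
      rw [hkc, hcard] at h1
      have h2 : (frattini G).index = p := by
        have : p ^ 2 * (frattini G).index = p ^ 2 * p := by rw [h1]; ring
        exact Nat.eq_of_mul_eq_mul_left (by positivity) this
      obtain ⟨x, hx⟩ : ∃ x : G, x ∉ frattini G := by
        by_contra hcon
        push Not at hcon
        exact hΦtop (top_le_iff.mp (fun x _ => hcon x))
      have h3 : Subgroup.zpowers x ⊔ frattini G = ⊤ :=
        eq_top_of_prime_index hp le_sup_right h2
          ((le_sup_left : Subgroup.zpowers x ≤ _) (Subgroup.mem_zpowers x)) hx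
      have h4 := frattini_nongenerating h3
      apply hnc
      intro a b
      have ha : a ∈ Subgroup.zpowers x := by rw [h4]; exact Subgroup.mem_top a
      have hb : b ∈ Subgroup.zpowers x := by rw [h4]; exact Subgroup.mem_top b
      obtain ⟨i, rfl⟩ := Subgroup.mem_zpowers_iff.mp ha
      obtain ⟨j, rfl⟩ := Subgroup.mem_zpowers_iff.mp hb
      exact (Commute.zpow_zpow_self x i j).eq
    have hk1 : k ≤ 1 := by omega
    rw [hkc, hZ]
    calc p ^ k ≤ p ^ 1 := Nat.pow_le_pow_right hp0 hk1
      _ = p := pow_one p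
  exact ⟨hZ, hcomm, hpow, ⟨hG, hΦeq, hceq⟩, hZ⟩

/-- nonabelian groups of order `p³`, `p` odd: exponent `p` or a characteristic chain -/
theorem nonabelian_cube_odd {G : Type*} [Group G] [Finite G] {p : ℕ} [Fact p.Prime]
    (hp2 : p ≠ 2) (hcard : Nat.card G = p ^ 3) (hnc : ¬ ∀ x y : G, x * y = y * x) :
    (∀ x : G, x ^ p = 1) ∨ HasCharChain p G := by
  have hp := (Fact.out : p.Prime)
  have hp0 := hp.pos
  obtain ⟨hZ, hcomm, hpow, -⟩ := nonabelian_cube_basic hcard hnc
  have hzp : ∀ z ∈ Subgroup.center G, z ^ p = 1 := by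
    intro z hz
    have h1 : (⟨z, hz⟩ : Subgroup.center G) ^ p = 1 := by
      rw [← hZ]
      exact pow_card_eq_one'
    exact congrArg Subtype.val h1
  have hmul : ∀ x y : G, (x * y) ^ p = x ^ p * y ^ p := by
    intro x y
    have hc : ∀ g : G, Commute ⁅y, x⁆ g := fun g =>
      (Subgroup.mem_center_iff.mp (hcomm y x) g).symm
    obtain ⟨t, ht, hxy⟩ := Helper1.exists_mul_pow_eq x y hc p
    have hpt : p ∣ t := by
      have h2 : p ∣ 2 * t := by rw [ht]; exact dvd_mul_right p (p - 1)
      have hcop : Nat.Coprime p 2 := (Nat.coprime_primes hp Nat.prime_two).mpr hp2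
      exact hcop.dvd_of_dvd_mul_left h2
    obtain ⟨s, rfl⟩ := hpt
    rw [hxy, pow_mul, hzp _ (hcomm y x), one_pow, one_mul]
  obtain ⟨π, hπ⟩ : ∃ π : G →* G, ∀ x, π x = x ^ p :=
    ⟨MonoidHom.mk' (fun x => x ^ p) hmul, fun _ => rfl⟩
  by_cases hK : π.ker = ⊤
  · left
    intro x
    have h1 : x ∈ π.ker := by rw [hK]; exact Subgroup.mem_top x
    rw [MonoidHom.mem_ker, hπ] at h1
    exact h1
  right
  have hidx : π.ker.index = Nat.card π.range := Subgroup.index_ker π
  have hPZ : π.range ≤ Subgroup.center G := by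
    rintro _ ⟨y, rfl⟩
    rw [hπ]
    exact hpow y
  have hPc : Nat.card π.range = p := by
    have h1 : Nat.card π.range ∣ p := hZ ▸ Subgroup.card_dvd_of_le hPZ
    rcases (Nat.dvd_prime hp).mp h1 with h2 | h2
    · exfalso
      apply hK
      rw [eq_top_iff]
      intro x _
      rw [MonoidHom.mem_ker]
      have h3 : π.range = ⊥ := Subgroup.card_eq_one.mp h2
      have h4 : π x ∈ π.range := ⟨x, rfl⟩
      rw [h3, Subgroup.mem_bot] at h4
      exact h4
    · exact h2
  have hKc : Nat.card π.ker = p ^ 2 := by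
    have h1 := Subgroup.card_mul_index π.ker
    rw [hidx, hPc, hcard] at h1
    have : Nat.card π.ker * p = p ^ 2 * p := by rw [h1]; ring
    exact Nat.eq_of_mul_eq_mul_right hp0 this
  have hZK : Subgroup.center G ≤ π.ker := by
    intro z hz
    rw [MonoidHom.mem_ker, hπ]
    exact hzp z hz
  refine ⟨Subgroup.center G, π.ker, hZK, fun α x hx => center_inv α hx, ?_, by rw [hZ], ?_, ?_⟩
  · intro α x hx
    rw [MonoidHom.mem_ker, hπ] at hx ⊢
    rw [← map_pow, hx, map_one]
  · have h6 := card_relIndex hZK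
    rw [hKc, hZ] at h6
    have : p * (Subgroup.center G).relIndex π.ker = p * p := by rw [h6]; ring
    rw [Nat.eq_of_mul_eq_mul_left hp0 this]
  · rw [hidx, hPc]

/-- recognizing the quaternion group of order `8` -/
theorem quaternion_iso {G : Type*} [Group G] [Finite G] (hcard : Nat.card G = 8) (a b : G)
    (ha4 : a ^ 4 = 1) (ha2 : a ^ 2 ≠ 1) (hb : b ∉ Subgroup.zpowers a) (hb2 : b ^ 2 = a ^ 2)
    (hconj : b * a * b⁻¹ = a⁻¹) : Nonempty (G ≃* QuaternionGroup 2) := by
  obtain ⟨g, hg⟩ : ∃ g : ZMod (2 * 2) → G, ∀ i, g i = a ^ i.val := ⟨fun i => a ^ i.val, fun _ => rfl⟩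
  have hpm : ∀ m : ℕ, a ^ (m % 4) = a ^ m := by
    intro m
    conv_rhs => rw [← Nat.mod_add_div m 4, pow_add, pow_mul, ha4, one_pow, mul_one]
  have hg_add : ∀ i j, g (i + j) = g i * g j := by
    intro i j
    rw [hg, hg, hg, ZMod.val_add, ← pow_add]
    exact hpm _
  have hg0 : g 0 = 1 := by
    rw [hg, ZMod.val_zero, pow_zero]
  have hg_neg : ∀ i, g (-i) = (g i)⁻¹ := by
    intro i
    have h1 := hg_add i (-i)
    rw [add_neg_cancel, hg0] at h1
    exact eq_inv_of_mul_eq_one_right h1.symm
  have hbg' : ∀ i, b * g i * b⁻¹ = g (-i) := by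
    intro i
    rw [hg_neg, hg, ← conj_pow, hconj, inv_pow]
  have hbg : ∀ i, g i * b = b * g (-i) := by
    intro i
    have h1 := hbg' (-i)
    rw [neg_neg] at h1
    rw [← h1]
    group
  have hg2 : g ((2 : ℕ) : ZMod (2 * 2)) = b * b := by
    rw [hg]
    have e : (((2 : ℕ) : ZMod (2 * 2))).val = 2 := rfl
    rw [e, ← hb2, pow_two]
  have hord : orderOf a = 4 := by
    have h1 : ¬ a ^ 2 ^ 1 = 1 := by rw [pow_one]; exact ha2
    have h2 : a ^ 2 ^ (1 + 1) = 1 := ha4
    have h3 := orderOf_eq_prime_pow h1 h2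
    exact h3.trans (by norm_num)
  obtain ⟨f, hfa, hfxa⟩ : ∃ f : QuaternionGroup 2 → G,
      (∀ i, f (QuaternionGroup.a i) = g i) ∧ ∀ i, f (QuaternionGroup.xa i) = b * g i :=
    ⟨fun x => match x with
      | QuaternionGroup.a i => g i
      | QuaternionGroup.xa i => b * g i, fun _ => rfl, fun _ => rfl⟩
  have hmul : ∀ x y, f (x * y) = f x * f y := by
    rintro (i | i) (j | j)
    · rw [QuaternionGroup.a_mul_a, hfa, hfa, hfa, hg_add]
    · rw [QuaternionGroup.a_mul_xa, hfa, hfxa, hfxa, ← mul_assoc, hbg i, mul_assoc, ← hg_add]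
      congr 2
      ring
    · rw [QuaternionGroup.xa_mul_a, hfa, hfxa, hfxa, mul_assoc, ← hg_add]
    · rw [QuaternionGroup.xa_mul_xa, hfa, hfxa, hfxa]
      have e : b * g i * (b * g j) = (b * b) * (g (-i) * g j) := by
        calc b * g i * (b * g j) = b * (g i * b) * g j := by simp only [mul_assoc]
          _ = b * (b * g (-i)) * g j := by rw [hbg i]
          _ = (b * b) * (g (-i) * g j) := by simp only [mul_assoc]
      rw [e, ← hg2, ← hg_add, ← hg_add]
      congr 1
      ring
  obtain ⟨Fh, hFh⟩ : ∃ Fh : QuaternionGroup 2 →* G, ∀ x, Fh x = f x :=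
    ⟨MonoidHom.mk' f hmul, fun _ => rfl⟩
  have hinj : Function.Injective Fh := by
    rw [injective_iff_map_eq_one]
    rintro (i | i) hx
    · rw [hFh, hfa, hg] at hx
      have h1 : orderOf a ∣ i.val := orderOf_dvd_of_pow_eq_one hx
      rw [hord] at h1
      have h2 : i.val < 4 := ZMod.val_lt i
      have h3 : i.val = 0 := Nat.eq_zero_of_dvd_of_lt h1 h2
      have h4 : i = 0 := (ZMod.val_eq_zero i).mp h3
      rw [h4]
      rfl
    · exfalso
      rw [hFh, hfxa, hg] at hx
      apply hb
      have h1 : b = (a ^ i.val)⁻¹ := eq_inv_of_mul_eq_one_left hx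
      rw [h1]
      exact Subgroup.inv_mem _ (Subgroup.pow_mem _ (Subgroup.mem_zpowers a) _)
  have hbij : Function.Bijective Fh := by
    rw [Nat.bijective_iff_injective_and_card]
    refine ⟨hinj, ?_⟩
    rw [Nat.card_eq_fintype_card, QuaternionGroup.card, hcard]
  exact ⟨(MulEquiv.ofBijective Fh hbij).symm⟩

/-- nonabelian groups of order `8`: quaternion or with a characteristic chain -/
theorem nonabelian_cube_two {G : Type*} [Group G] [Finite G] (hcard : Nat.card G = 2 ^ 3)
    (hnc : ¬ ∀ x y : G, x * y = y * x) : Nonempty (G ≃* QuaternionGroup 2) ∨ HasCharChain 2 G := by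
  obtain ⟨hZ, hcomm, hpow, -⟩ := nonabelian_cube_basic hcard hnc
  -- the centre is `{1, z}`
  obtain ⟨a, ha⟩ : ∃ a : G, a ^ 2 ≠ 1 := by
    by_contra hcon
    push Not at hcon
    apply hnc
    have hinv : ∀ x : G, x⁻¹ = x := by
      intro x
      have h1 := hcon x
      rw [pow_two] at h1
      exact inv_eq_of_mul_eq_one_left h1
    intro x y
    calc x * y = (x * y)⁻¹ := (hinv _).symm
      _ = y⁻¹ * x⁻¹ := mul_inv_rev _ _
      _ = y * x := by rw [hinv, hinv]
  have hzZ : a ^ 2 ∈ Subgroup.center G := hpow a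
  have hZ2 : ∀ w ∈ Subgroup.center G, w = 1 ∨ w = a ^ 2 := by
    intro w hw
    obtain ⟨y, hy, huniq⟩ := (Nat.card_eq_two_iff' (1 : Subgroup.center G)).mp hZ
    by_cases hw1 : w = 1
    · exact Or.inl hw1
    · right
      have h1 : (⟨w, hw⟩ : Subgroup.center G) = y := huniq _ (fun h => hw1 (congrArg Subtype.val h))
      have h2 : (⟨a ^ 2, hzZ⟩ : Subgroup.center G) = y :=
        huniq _ (fun h => ha (congrArg Subtype.val h))
      have h3 := h1.trans h2.symm
      exact congrArg Subtype.val h3
  have hz2 : (a ^ 2) ^ 2 = 1 := by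
    have h1 : (⟨a ^ 2, hzZ⟩ : Subgroup.center G) ^ Nat.card (Subgroup.center G) = 1 :=
      pow_card_eq_one'
    rw [hZ] at h1
    exact congrArg Subtype.val h1
  have ha4 : a ^ 4 = 1 := by
    rw [show 4 = 2 * 2 from rfl, pow_mul]
    exact hz2
  have hord : orderOf a = 4 := by
    have h1 : ¬ a ^ 2 ^ 1 = 1 := by rw [pow_one]; exact ha
    have h2 : a ^ 2 ^ (1 + 1) = 1 := ha4
    have h3 := orderOf_eq_prime_pow h1 h2
    exact h3.trans (by norm_num)
  have hCc : Nat.card (Subgroup.zpowers a) = 4 := by rw [Nat.card_zpowers, hord]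
  have hCi : (Subgroup.zpowers a).index = 2 := by
    have h1 := Subgroup.card_mul_index (Subgroup.zpowers a)
    rw [hCc, hcard] at h1
    omega
  have hsq : ∀ x : G, x ^ 2 = 1 ∨ x ^ 2 = a ^ 2 := fun x => hZ2 _ (hpow x)
  have hconj : ∀ b : G, b ∉ Subgroup.zpowers a → b * a * b⁻¹ = a⁻¹ := by
    intro b hb
    rcases hZ2 _ (hcomm b a) with h1 | h1
    · exfalso
      have h2 : b ∈ Subgroup.centralizer ({a} : Set G) := by
        rw [Subgroup.mem_centralizer_iff]
        intro x hx
        rw [Set.mem_singleton_iff] at hx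
        rw [hx]
        rw [commutatorElement_def] at h1
        have : b * a = (b * a * b⁻¹ * a⁻¹) * (a * b) := by group
        rw [this, h1, one_mul]
      have h3 : Subgroup.zpowers a ≤ Subgroup.centralizer ({a} : Set G) := by
        rw [Subgroup.zpowers_le]
        rw [Subgroup.mem_centralizer_iff]
        intro x hx
        rw [Set.mem_singleton_iff] at hx
        rw [hx]
      have h4 := eq_top_of_prime_index Nat.prime_two h3 hCi h2 hb
      have h5 : a ∈ Subgroup.center G := by
        rw [Subgroup.mem_center_iff]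
        intro g
        have h6 : g ∈ Subgroup.centralizer ({a} : Set G) := by rw [h4]; exact Subgroup.mem_top g
        exact (Subgroup.mem_centralizer_iff.mp h6 a rfl).symm
      rcases hZ2 a h5 with h7 | h7
      · apply ha
        rw [h7, one_pow]
      · apply ha
        have h8 : a = 1 := by
          have : a * a = a * 1 := by rw [mul_one, ← pow_two]; exact h7.symm
          exact mul_left_cancel this
        rw [h8, one_pow]
    · rw [commutatorElement_def] at h1
      have h2 : b * a * b⁻¹ = a ^ 2 * a := by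
        rw [← h1]; group
      rw [h2]
      have h3 : a ^ 2 * a * a = 1 := by
        rw [mul_assoc, ← pow_two, ← pow_add]
        exact ha4
      exact eq_inv_of_mul_eq_one_left h3
  by_cases hQ : ∃ b : G, b ∉ Subgroup.zpowers a ∧ b ^ 2 = a ^ 2
  · left
    obtain ⟨b, hb, hb2⟩ := hQ
    exact quaternion_iso (by rw [hcard]; norm_num) a b ha4 ha hb hb2 (hconj b hb)
  · right
    push Not at hQ
    have hD : ∀ b : G, b ∉ Subgroup.zpowers a → b ^ 2 = 1 := by
      intro b hb
      rcases hsq b with h | h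
      · exact h
      · exact absurd h (hQ b hb)
    have hZC : Subgroup.center G ≤ Subgroup.zpowers a := by
      intro w hw
      rcases hZ2 w hw with h | h
      · rw [h]; exact Subgroup.one_mem _
      · rw [h]; exact Subgroup.pow_mem _ (Subgroup.mem_zpowers a) _
    refine ⟨Subgroup.center G, Subgroup.zpowers a, hZC, fun α x hx => center_inv α hx, ?_,
      by rw [hZ], ?_, by rw [hCi]⟩
    · intro α x hx
      obtain ⟨m, rfl⟩ := Subgroup.mem_zpowers_iff.mp hx
      rw [map_zpow]
      apply Subgroup.zpow_mem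
      by_contra hcon
      have h1 := hD _ hcon
      rw [← map_pow] at h1
      have h2 : a ^ 2 = 1 := by
        have := congrArg α.symm h1
        rwa [MulEquiv.symm_apply_apply, map_one] at this
      exact ha h2
    · have h6 := card_relIndex hZC
      rw [hCc, hZ] at h6
      have : (Subgroup.center G).relIndex (Subgroup.zpowers a) = 2 := by omega
      rw [this]

/-- groups of order `p³` -/
theorem cube_cases {G : Type*} [Group G] [Finite G] {p : ℕ} [Fact p.Prime]
    (hcard : Nat.card G = p ^ 3) :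
    ((∀ x y : G, x * y = y * x) ∧ ∀ x : G, x ^ p = 1) ∨
      (Odd p ∧ Cfsg.IsExtraspecial p G ∧ ∀ x : G, x ^ p = 1) ∨
      (p = 2 ∧ Nonempty (G ≃* QuaternionGroup 2)) ∨ HasCharChain p G := by
  have hp := (Fact.out : p.Prime)
  by_cases hc : ∀ x y : G, x * y = y * x
  · rcases abelian_cube hcard hc with h | h
    · exact Or.inl ⟨hc, h⟩
    · exact Or.inr (Or.inr (Or.inr h))
  · by_cases hp2 : p = 2
    · subst hp2
      rcases nonabelian_cube_two hcard hc with h | h
      · exact Or.inr (Or.inr (Or.inl ⟨rfl, h⟩))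
      · exact Or.inr (Or.inr (Or.inr h))
    · rcases nonabelian_cube_odd hp2 hcard hc with h | h
      · exact Or.inr (Or.inl ⟨hp.odd_of_ne_two hp2, (nonabelian_cube_basic hcard hc).2.2.2, h⟩)
      · exact Or.inr (Or.inr (Or.inr h))

end Cfsg.Agent.Helper27
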