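import Cfsg.Agent.Helper27.SubnConstr
import Cfsg.Agent.Helper27.Iso1
import Cfsg.Agent.Helper26.NormalSubSys
import Cfsg.Agent.Helper26.HypFocalGroup
import Cfsg.Agent.Helper26.Alperin
import Cfsg.Agent.Helper26.HypFocal
import Cfsg.Agent.Helper13.PRes

set_option autoImplicit false

namespace Cfsg.Agent.Helper27

open Cfsg Cfsg.FusionSystem

variable {G : Type*} [Group G]

theorem mor_groupFusionSystem {S : Subgroup G} {P : Subgroup G} {f : G → G}
    (h : Mor (groupFusionSystem S) P f) : ∃ g : G, ∀ x ∈ P, f x = g * x * g⁻¹ := by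
  obtain ⟨φ, ⟨-, -, g, hg⟩, hφf⟩ := h
  exact ⟨g, fun x hx => by rw [← hφf ⟨x, hx⟩]; exact hg ⟨x, hx⟩⟩

/-- uniqueness of the saturated subsystem of `p`-power index over `S ∩ O^p(G)` in the fusion system of a group -/
theorem pres_unique [Finite G] (p : ℕ) [Fact p.Prime] (S : Sylow p G) {T : Subgroup G}
    (hT : T = (S : Subgroup G) ⊓ pResidual p G) (E : FusionSystem T) (hEsat : E.IsSaturated p)
    (hsub : E.IsSubsystemOf (groupFusionSystem (S : Subgroup G)))
    (hidx : ∀ P : Subgroup G, P ≤ T →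
      (pResidual p ((groupFusionSystem (S : Subgroup G)).autGroup P)).map
        ((groupFusionSystem (S : Subgroup G)).autGroup P).subtype ≤ E.autGroup P) :
    ∀ P : Subgroup G, E.Hom P = (fusionSystemOfSubgroup (pResidual p G)
      ((S : Subgroup G) ⊓ pResidual p G) inf_le_right).Hom P := by
  subst hT
  haveI := Cfsg.Agent.Helper13.pResidual_normal p G
  have hTp : IsPGroup p ↥((S : Subgroup G) ⊓ pResidual p G) := S.isPGroup'.to_le inf_le_left
  have hR₀sat := Cfsg.Agent.Helper26.subgroupSystem_saturated p S (pResidual p G)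
  obtain ⟨R₀, hR₀⟩ : ∃ R₀ : FusionSystem ((S : Subgroup G) ⊓ pResidual p G),
      R₀ = fusionSystemOfSubgroup (pResidual p G) ((S : Subgroup G) ⊓ pResidual p G)
        inf_le_right := ⟨_, rfl⟩
  rw [← hR₀] at hR₀sat ⊢
  have hmorR : ∀ {P : Subgroup G} {f : G → G}, Mor R₀ P f ↔
      P ≤ (S : Subgroup G) ⊓ pResidual p G ∧
        (∀ x ∈ P, f x ∈ (S : Subgroup G) ⊓ pResidual p G) ∧
        ∃ g ∈ pResidual p G, ∀ x ∈ P, f x = g * x * g⁻¹ := by
    intro P f
    rw [hR₀]
    exact mor_subgroupSystem_iff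
  have hsubR : R₀.IsSubsystemOf (groupFusionSystem (S : Subgroup G)) := by
    intro P φ hφ
    rw [hR₀] at hφ
    obtain ⟨hP, hφT, g, -, hg⟩ := hφ
    exact ⟨le_trans hP inf_le_left, fun x => (Subgroup.mem_inf.mp (hφT x)).1, g, hg⟩
  have hI : ∀ P : Subgroup G, (P = (S : Subgroup G) ⊓ pResidual p G ∨ E.IsEssential p P) →
      E.autGroup P ≤ R₀.autGroup P := by
    intro P hPc α hα
    have hPfn : E.IsFullyNormalized P := by
      rcases hPc with hPe | hess
      · rw [hPe]
        exact Cfsg.Agent.Helper26.fullyNormalized_top E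
      · exact hess.2.1
    have hP : P ≤ (S : Subgroup G) ⊓ pResidual p G := hPfn.1
    obtain ⟨g, hg, u, hu, hgu⟩ := Cfsg.Agent.Helper26.aut_decomp p hTp E hEsat hPfn ⟨α, hα⟩
    have hu' : ((u : E.autGroup P) : MulAut P) ∈ autInducedBy (pResidual p G) P := by
      have hle : (pResidual p (E.autGroup P)).map (E.autGroup P).subtype ≤
          autInducedBy (pResidual p G) P := by
        rw [Subgroup.map_le_iff_le_comap]
        have h0 : pResidual p ↥(E.autGroup P) =
            Subgroup.closure {g | Nat.Coprime (orderOf g) p} := rfl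
        rw [h0, Subgroup.closure_le]
        intro β hβ
        show ((β : E.autGroup P) : MulAut P) ∈ autInducedBy (pResidual p G) P
        have hβF : Mor (groupFusionSystem (S : Subgroup G)) P (autFn (β : MulAut P)) :=
          ((mem_autGroup_iff hP (β : MulAut P)).mp β.2).of_subsystem hsub
        obtain ⟨g₀, hg₀⟩ := mor_groupFusionSystem hβF
        have hcop : (orderOf (β : MulAut P)).Coprime p := by
          rw [Subgroup.orderOf_coe]
          exact hβ
        obtain ⟨g', hg', hg'β⟩ := Cfsg.Agent.Helper26.exists_pprime_inducing p hcop (g := g₀)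
          (fun x => by rw [← autFn_apply]; exact hg₀ x x.2)
        exact (mem_autInducedBy_iff _ _ _).mpr ⟨g', hg', hg'β⟩
      exact hle (Subgroup.mem_map_of_mem _ hu)
    obtain ⟨y, hy, hyu⟩ := (mem_autInducedBy_iff _ _ _).mp hu'
    rw [mem_autGroup_iff hP α]
    apply hmorR.mpr
    refine ⟨hP, fun x hx => hP (autFn_mem α hx), g * y,
      (pResidual p G).mul_mem (Subgroup.mem_inf.mp hg).2 hy, fun x hx => ?_⟩
    rw [autFn_of_mem α hx]
    have h1 := hgu ⟨x, hx⟩
    have h2 := hyu ⟨x, hx⟩
    rw [h2] at h1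
    refine h1.trans ?_
    group
  have hII : ∀ P : Subgroup G, (P = (S : Subgroup G) ⊓ pResidual p G ∨ R₀.IsEssential p P) →
      R₀.autGroup P ≤ E.autGroup P := by
    intro P hPc α hα
    have hPfn : R₀.IsFullyNormalized P := by
      rcases hPc with hPe | hess
      · rw [hPe]
        exact Cfsg.Agent.Helper26.fullyNormalized_top R₀
      · exact hess.2.1
    have hP : P ≤ (S : Subgroup G) ⊓ pResidual p G := hPfn.1
    obtain ⟨g, hg, u, hu, hgu⟩ := Cfsg.Agent.Helper26.aut_decomp p hTp R₀ hR₀sat hPfn ⟨α, hα⟩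
    have hu' : ((u : R₀.autGroup P) : MulAut P) ∈ E.autGroup P := by
      have hle : (pResidual p (R₀.autGroup P)).map (R₀.autGroup P).subtype ≤ E.autGroup P := by
        rw [Subgroup.map_le_iff_le_comap]
        have h0 : pResidual p ↥(R₀.autGroup P) =
            Subgroup.closure {g | Nat.Coprime (orderOf g) p} := rfl
        rw [h0, Subgroup.closure_le]
        intro β hβ
        show ((β : R₀.autGroup P) : MulAut P) ∈ E.autGroup P
        have hβF : (β : MulAut P) ∈ (groupFusionSystem (S : Subgroup G)).autGroup P :=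
          (mem_autGroup_iff (le_trans hP inf_le_left) _).mpr
            (((mem_autGroup_iff hP (β : MulAut P)).mp β.2).of_subsystem hsubR)
        apply hidx P hP
        refine ⟨⟨(β : MulAut P), hβF⟩, Subgroup.subset_closure ?_, rfl⟩
        show Nat.Coprime (orderOf (⟨(β : MulAut P), hβF⟩ :
          (groupFusionSystem (S : Subgroup G)).autGroup P)) p
        have h3 : orderOf (⟨(β : MulAut P), hβF⟩ :
            (groupFusionSystem (S : Subgroup G)).autGroup P) = orderOf (β : MulAut P) :=
          (Subgroup.orderOf_coe (⟨(β : MulAut P), hβF⟩ :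
            (groupFusionSystem (S : Subgroup G)).autGroup P)).symm
        rw [h3, Subgroup.orderOf_coe]
        exact hβ
      exact hle (Subgroup.mem_map_of_mem _ hu)
    rw [mem_autGroup_iff hP α]
    have hm := (mem_autGroup_iff hP _).mp hu'
    have hc : Mor E P (fun x => g * x * g⁻¹) := Mor.conj E hP hg
    have hcomp := hm.comp hc (fun x hx => autFn_mem _ hx)
    refine hcomp.congr (fun x hx => ?_)
    show g * autFn ((u : R₀.autGroup P) : MulAut P) x * g⁻¹ = autFn α x
    rw [autFn_of_mem _ hx, autFn_of_mem α hx]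
    exact (hgu ⟨x, hx⟩).symm
  intro P
  ext φ
  constructor
  · intro hφ
    exact Cfsg.Agent.Helper26.alperin_goldschmidt p hTp E hEsat R₀ hI _ P (E.le_of_mem hφ).1 rfl
      φ hφ
  · intro hφ
    exact Cfsg.Agent.Helper26.alperin_goldschmidt p hTp R₀ hR₀sat E hII _ P (R₀.le_of_mem hφ).1
      rfl φ hφ

end Cfsg.Agent.Helper27
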