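import Cfsg.Agent.Helper27.FusReal
import Cfsg.Agent.Helper27.FusSat

set_option autoImplicit false

namespace Cfsg.Agent.Helper27

open Cfsg Cfsg.FusionSystem

variable {Ω : Type*} [Group Ω] {S : Subgroup Ω}

/-! ### the `p`-core of a subgroup, seen inside the big group -/

theorem mem_pCore_map_iff {G : Type*} [Group G] [Finite G] (p : ℕ) (A : Subgroup G) (x : G) :
    x ∈ (pCore p A).map A.subtype ↔
      ∃ N : Subgroup G, N ≤ A ∧ (∀ a ∈ A, ∀ n ∈ N, a * n * a⁻¹ ∈ N) ∧ IsPGroup p N ∧ x ∈ N := by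
  constructor
  · intro hx
    refine ⟨(pCore p A).map A.subtype, ?_, ?_, ?_, hx⟩
    · rintro _ ⟨y, -, rfl⟩
      exact y.2
    · rintro a ha _ ⟨n, hn, rfl⟩
      exact ⟨⟨a, ha⟩ * n * ⟨a, ha⟩⁻¹, (pCore_normal' p A).conj_mem n hn ⟨a, ha⟩, rfl⟩
    · exact (isPGroup_pCore' p A).map A.subtype
  · rintro ⟨N, hNA, hNn, hNp, hx⟩
    have h1 : (N.subgroupOf A).Normal := by
      constructor
      intro n hn a
      rw [Subgroup.mem_subgroupOf] at hn ⊢
      exact hNn a a.2 n hn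
    have h2 : IsPGroup p (N.subgroupOf A) := hNp.comap_subtype
    have h3 := le_pCore' h1 h2
    exact ⟨⟨x, hNA hx⟩, h3 (Subgroup.mem_subgroupOf.mpr hx), rfl⟩

theorem pcore_map_equiv_aux {G G' : Type*} [Group G] [Group G'] [Finite G] [Finite G'] (p : ℕ)
    (ε : G ≃* G') (A : Subgroup G) (B : Subgroup G') (hAB : ∀ α : G, α ∈ A ↔ ε α ∈ B) (χ : G)
    (hχ : χ ∈ (pCore p A).map A.subtype) : ε χ ∈ (pCore p B).map B.subtype := by
  rw [mem_pCore_map_iff] at hχ ⊢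
  obtain ⟨N, hNA, hNn, hNp, hx⟩ := hχ
  refine ⟨N.map ε.toMonoidHom, ?_, ?_, hNp.map _, ⟨χ, hx, rfl⟩⟩
  · rintro _ ⟨n, hn, rfl⟩
    exact (hAB n).mp (hNA hn)
  · rintro b hb _ ⟨n, hn, rfl⟩
    obtain ⟨a, rfl⟩ := ε.surjective b
    have ha : a ∈ A := (hAB a).mpr hb
    exact ⟨a * n * a⁻¹, hNn a ha n hn, by simp⟩

theorem pcore_map_equiv {G G' : Type*} [Group G] [Group G'] [Finite G] [Finite G'] (p : ℕ)
    (ε : G ≃* G') (A : Subgroup G) (B : Subgroup G') (hAB : ∀ α : G, α ∈ A ↔ ε α ∈ B) (χ : G) :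
    χ ∈ (pCore p A).map A.subtype ↔ ε χ ∈ (pCore p B).map B.subtype := by
  constructor
  · exact pcore_map_equiv_aux p ε A B hAB χ
  · intro h
    have h1 := pcore_map_equiv_aux p ε.symm B A
      (fun β => by rw [hAB, ε.apply_symm_apply]) (ε χ) h
    rwa [ε.symm_apply_apply] at h1

/-! ### quadratic automorphisms -/

theorem quad_pow {Q : Type*} [Group Q] (χ : MulAut Q)
    (hq : ∀ a : Q, χ a⁻¹ * a * χ a⁻¹ * χ (χ a) = 1) (n : ℕ) (a : Q) :
    (χ ^ n) a = a * (a⁻¹ * χ a) ^ n := by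
  have hfix : ∀ a : Q, χ (a⁻¹ * χ a) = a⁻¹ * χ a := by
    intro a
    have h := hq a
    rw [map_inv] at h
    have h2 : χ (χ a) = χ a * a⁻¹ * χ a := by
      have h3 : χ (χ a) = ((χ a)⁻¹ * a * (χ a)⁻¹)⁻¹ := eq_inv_of_mul_eq_one_right h
      rw [h3]
      group
    rw [map_mul, map_inv, h2]
    group
  induction n with
  | zero => simp
  | succ n ih =>
    rw [pow_succ', MulAut.mul_apply, ih, map_mul, map_pow, hfix, pow_succ']
    simp [mul_assoc]

theorem quad_pow_card {Q : Type*} [Group Q] [Finite Q] (χ : MulAut Q)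
    (hq : ∀ a : Q, χ a⁻¹ * a * χ a⁻¹ * χ (χ a) = 1) : χ ^ Nat.card Q = 1 := by
  apply MulEquiv.ext
  intro a
  rw [quad_pow χ hq, pow_card_eq_one']
  simp

theorem quad_congr {P Q : Type*} [Group P] [Group Q] (e : P ≃* Q) (χ : MulAut P)
    (hq : ∀ a : P, χ a⁻¹ * a * χ a⁻¹ * χ (χ a) = 1) (b : Q) :
    (MulAut.congr e χ) b⁻¹ * b * (MulAut.congr e χ) b⁻¹ *
      (MulAut.congr e χ) ((MulAut.congr e χ) b) = 1 := by
  have h1 : ∀ y : Q, (MulAut.congr e χ) y = e (χ (e.symm y)) := fun y => rfl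
  have h := congrArg e (hq (e.symm b))
  rw [h1, h1, h1]
  simpa using h

theorem mulAut_comm_of_cyclic {Q : Type*} [Group Q] [IsCyclic Q] (α β : MulAut Q) :
    α * β = β * α := by
  obtain ⟨m, hm⟩ := MonoidHom.map_cyclic α.toMonoidHom
  obtain ⟨n, hn⟩ := MonoidHom.map_cyclic β.toMonoidHom
  apply MulEquiv.ext
  intro g
  have h1 : α (β g) = (g ^ n) ^ m := by
    have := hm (β g)
    have h2 := hn g
    simp only [MulEquiv.coe_toMonoidHom] at this h2
    rw [this, h2]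
  have h3 : β (α g) = (g ^ m) ^ n := by
    have := hn (α g)
    have h2 := hm g
    simp only [MulEquiv.coe_toMonoidHom] at this h2
    rw [this, h2]
  show α (β g) = β (α g)
  rw [h1, h3, ← zpow_mul, ← zpow_mul, mul_comm]

/-! ### automorphism groups of a normalizer system -/

theorem autGroup_normalizerSys_le {F : FusionSystem S} {R : Subgroup Ω}
    {M : FusionSystem (normalizerIn S R)} (hM : F.IsNormalizerSystem R M) {Q : Subgroup Ω}
    (hQN : Q ≤ normalizerIn S R) : M.autGroup Q ≤ F.autGroup Q := by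
  intro α hα
  rw [mem_autGroup_iff hQN] at hα
  rw [mem_autGroup_iff (hQN.trans (normalizerIn_le S R))]
  exact ((mor_normalizerSys_iff hM).mp hα).1

theorem aut_mem_normalizerSys {F : FusionSystem S} {R : Subgroup Ω} [Finite R] (hRS : R ≤ S)
    {M : FusionSystem (normalizerIn S R)} (hM : F.IsNormalizerSystem R M) {Q : Subgroup Ω}
    (hQR : Q ≤ R) (β : MulAut Q) (g : Ω → Ω) (hg : Mor F R g) (hgR : ∀ x ∈ R, g x ∈ R)
    (hgβ : ∀ x : Q, g x = (β x : Ω)) : β ∈ M.autGroup Q := by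
  have hQN : Q ≤ normalizerIn S R := hQR.trans (le_normalizerIn hRS)
  rw [mem_autGroup_iff hQN, mor_normalizerSys_iff hM]
  have h1 : ∀ x ∈ Q, g x = autFn β x := fun x hx => by
    rw [autFn_of_mem β hx]; exact hgβ ⟨x, hx⟩
  refine ⟨(hg.restrict hQR).congr h1, hQN, fun x hx => hQN (autFn_mem β hx), g, ?_, h1, hgR,
    hg.surj_on le_rfl hgR⟩
  rw [sup_eq_right.mpr hQR]
  exact hg

/-- `p`-stability passes to normalizer systems -/
theorem pstable_normalizer [Finite S] {p : ℕ} [Fact p.Prime] (hS : IsPGroup p S)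
    {F : FusionSystem S} (hF : F.IsSaturated p)
    (hst : ∀ Q : Subgroup Ω, F.IsFullyNormalized Q → ∀ χ : MulAut ↥Q, χ ∈ F.autGroup Q →
      (∀ a : ↥Q, (χ a⁻¹) * a * (χ a⁻¹) * (χ (χ a)) = 1) →
      χ ∈ ((Cfsg.pCore p ↥(F.autGroup Q)).map (F.autGroup Q).subtype : Subgroup (MulAut ↥Q)))
    {R : Subgroup Ω} (N : FusionSystem (normalizerIn S R)) (hN : F.IsNormalizerSystem R N)
    (Q : Subgroup Ω) (hQN : Q ≤ normalizerIn S R) (χ : MulAut Q) (hχ : χ ∈ N.autGroup Q)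
    (hq : ∀ a : ↥Q, (χ a⁻¹) * a * (χ a⁻¹) * (χ (χ a)) = 1) :
    χ ∈ ((Cfsg.pCore p ↥(N.autGroup Q)).map (N.autGroup Q).subtype : Subgroup (MulAut ↥Q)) := by
  have hQS : Q ≤ S := hQN.trans (normalizerIn_le S R)
  haveI : Finite Q := finite_of_le hQS
  have hle := autGroup_normalizerSys_le hN hQN
  obtain ⟨Q', f', hQ'n, -, -, hf', hi⟩ := exists_fn_map hS hF hQS
  have hfQ : Mor F Q f' := hf'.restrict (le_normalizerIn hQS)
  obtain ⟨e, he⟩ := hfQ.exists_equiv hi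
  haveI : Finite Q' := finite_of_le hQ'n.1
  have hAB := congr_mem_autGroup_iff hfQ hi e he
  have h1 := hst Q' hQ'n (MulAut.congr e χ) ((hAB χ).mp (hle hχ)) (quad_congr e χ hq)
  have h2 : χ ∈ (pCore p (F.autGroup Q)).map (F.autGroup Q).subtype :=
    (pcore_map_equiv p (MulAut.congr e) _ _ hAB χ).mpr h1
  rw [mem_pCore_map_iff] at h2 ⊢
  obtain ⟨N₀, -, hN₀n, hN₀p, hx⟩ := h2
  refine ⟨N₀ ⊓ N.autGroup Q, inf_le_right, ?_, hN₀p.to_le inf_le_left, ⟨hx, hχ⟩⟩
  rintro a ha n ⟨hn1, hn2⟩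
  exact ⟨hN₀n a (hle ha) n hn1,
    (N.autGroup Q).mul_mem ((N.autGroup Q).mul_mem ha hn2) ((N.autGroup Q).inv_mem ha)⟩

/-! ### the subgroup of the normalizer inducing automorphisms in a given group -/

/-- the elements of `N_S(Q)` inducing on `Q` an automorphism in `K` -/
def nK (S Q : Subgroup Ω) (K : Subgroup (MulAut Q)) : Subgroup Ω where
  carrier := {y | y ∈ normalizerIn S Q ∧ ∃ k ∈ K, ∀ x : Q, ((k x : Q) : Ω) = y * x * y⁻¹}
  mul_mem' := by
    rintro a b ⟨ha, k₁, hk₁, e₁⟩ ⟨hb, k₂, hk₂, e₂⟩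
    refine ⟨mul_mem ha hb, k₁ * k₂, K.mul_mem hk₁ hk₂, fun x => ?_⟩
    rw [MulAut.mul_apply, e₁, e₂]
    group
  one_mem' := ⟨one_mem _, 1, K.one_mem, fun x => by simp⟩
  inv_mem' := by
    rintro a ⟨ha, k, hk, e⟩
    refine ⟨inv_mem ha, k⁻¹, K.inv_mem hk, fun x => ?_⟩
    have h1 := e (k⁻¹ x)
    rw [MulAut.apply_inv_self] at h1
    rw [h1]
    group

theorem mem_nK {Q : Subgroup Ω} {K : Subgroup (MulAut Q)} {y : Ω} :
    y ∈ nK S Q K ↔ y ∈ normalizerIn S Q ∧ ∃ k ∈ K, ∀ x : Q, ((k x : Q) : Ω) = y * x * y⁻¹ :=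
  Iff.rfl

theorem nK_le (Q : Subgroup Ω) (K : Subgroup (MulAut Q)) : nK S Q K ≤ normalizerIn S Q :=
  fun _ hy => hy.1

theorem le_nK {Q : Subgroup Ω} {K : Subgroup (MulAut Q)} (hQS : Q ≤ S) (hK : Inn Q ≤ K) :
    Q ≤ nK S Q K := by
  intro y hy
  have hyN := le_normalizerIn hQS hy
  refine ⟨hyN, conjAut Q y hyN.2, hK ?_, fun x => rfl⟩
  rw [mem_Inn_iff]
  exact ⟨y, hy, fun x => rfl⟩

theorem centralizerIn_le_nK (Q : Subgroup Ω) (K : Subgroup (MulAut Q)) :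
    centralizerIn S Q ≤ nK S Q K := by
  intro y hy
  refine ⟨centralizerIn_le_normalizerIn S Q hy, 1, K.one_mem, fun x => ?_⟩
  have h := (mem_centralizerIn.mp hy).2 x x.2
  show (x : Ω) = y * x * y⁻¹
  rw [← h, mul_inv_cancel_right]

theorem nK_conj_mem {Q : Subgroup Ω} {K : Subgroup (MulAut Q)}
    (hKn : ∀ a ∈ autInducedBy S Q, ∀ k ∈ K, a * k * a⁻¹ ∈ K) {g y : Ω}
    (hg : g ∈ normalizerIn S Q) (hy : y ∈ nK S Q K) : g * y * g⁻¹ ∈ nK S Q K := by
  obtain ⟨hyN, k, hk, e⟩ := hy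
  refine ⟨mul_mem (mul_mem hg hyN) (inv_mem hg), conjAut Q g hg.2 * k * (conjAut Q g hg.2)⁻¹,
    hKn _ (conjAut_mem_autInducedBy hg.1 hg.2) k hk, fun x => ?_⟩
  show g * ((k ((conjAut Q g hg.2)⁻¹ x) : Q) : Ω) * g⁻¹ = _
  rw [e]
  show g * (y * (g⁻¹ * x * g) * y⁻¹) * g⁻¹ = _
  group

theorem pCore_map_conj {G : Type*} [Group G] (p : ℕ) (A : Subgroup G) {a k : G} (ha : a ∈ A)
    (hk : k ∈ (pCore p A).map A.subtype) : a * k * a⁻¹ ∈ (pCore p A).map A.subtype := by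
  obtain ⟨n, hn, rfl⟩ := hk
  exact ⟨⟨a, ha⟩ * n * ⟨a, ha⟩⁻¹, (pCore_normal' p A).conj_mem n hn ⟨a, ha⟩, rfl⟩

/-- automorphisms of a fully normalized `Q` extend to `N_S^K(Q)` for `K = O_p(Aut_F(Q))` -/
theorem nK_extend [Finite S] {p : ℕ} [Fact p.Prime] {F : FusionSystem S} {Q : Subgroup Ω}
    (hQr : F.IsReceptive Q) (hQa : F.IsFullyAutomized p Q) (α : MulAut Q)
    (hα : α ∈ F.autGroup Q) :
    ∃ g, Mor F (nK S Q ((pCore p (F.autGroup Q)).map (F.autGroup Q).subtype)) g ∧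
      (∀ x ∈ nK S Q ((pCore p (F.autGroup Q)).map (F.autGroup Q).subtype),
        g x ∈ nK S Q ((pCore p (F.autGroup Q)).map (F.autGroup Q).subtype)) ∧
      ∀ x : Q, g x = (α x : Ω) := by
  have hQS : Q ≤ S := hQr.1
  haveI : Finite Q := finite_of_le hQS
  have hαm : Mor F Q (autFn α) := (mem_autGroup_iff hQS α).mp hα
  have hi : img Q (autFn α) = Q := img_autFn α
  obtain ⟨f', hf', hff'⟩ := exists_extension hQr hαm hi
  have hKS : (pCore p (F.autGroup Q)).map (F.autGroup Q).subtype ≤ autInducedBy S Q :=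
    pCore_map_le_autS hQa
  have hconj : ∀ k ∈ (pCore p (F.autGroup Q)).map (F.autGroup Q).subtype,
      α * k * α⁻¹ ∈ (pCore p (F.autGroup Q)).map (F.autGroup Q).subtype :=
    fun k hk => pCore_map_conj p _ hα hk
  have hle : nK S Q ((pCore p (F.autGroup Q)).map (F.autGroup Q).subtype) ≤
      ext S Q (autFn α) := by
    rintro y ⟨hyN, k, hk, e⟩
    rw [mem_ext]
    refine ⟨hyN.1, hyN.2, ?_⟩
    obtain ⟨h, hh, eh⟩ := (mem_autInducedBy_iff S Q _).mp (hKS (hconj k hk))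
    refine ⟨h, hh, fun x hx => ?_⟩
    have e1 : y * x * y⁻¹ = ((k ⟨x, hx⟩ : Q) : Ω) := (e ⟨x, hx⟩).symm
    rw [e1, autFn_apply, autFn_of_mem α hx, ← eh]
    show _ = ((α (k (α⁻¹ (α ⟨x, hx⟩))) : Q) : Ω)
    rw [MulAut.inv_apply_self]
  have hQle : Q ≤ ext S Q (autFn α) := hαm.le_ext
  have hiQ : img Q f' = Q := by rw [img_congr hff', hi]
  refine ⟨f', hf'.restrict hle, ?_, fun x => ?_⟩
  · rintro y ⟨hyN, k, hk, e⟩
    have hyE : y ∈ ext S Q (autFn α) := hle ⟨hyN, k, hk, e⟩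
    have h1 := hf'.map_normalizerIn hQle hyE hyN
    rw [hiQ] at h1
    refine ⟨h1, α * k * α⁻¹, hconj k hk, fun x => ?_⟩
    have hx0 : f' ((α⁻¹ x : Q) : Ω) = x := by
      rw [hff' _ (α⁻¹ x).2, autFn_apply, MulAut.apply_inv_self]
    have h2 := hf'.map_conj hyE (hQle (α⁻¹ x).2)
    rw [hx0] at h2
    rw [← h2, ← e (α⁻¹ x), hff' _ (k (α⁻¹ x)).2, autFn_apply]
    rfl
  · rw [hff' x x.2, autFn_apply]

/-! ### the chain up to a centric radical subgroup -/

theorem frc_of_nK_eq [Finite S] {p : ℕ} [Fact p.Prime] (hS : IsPGroup p S) {F : FusionSystem S}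
    (hF : F.IsSaturated p) {Q : Subgroup Ω} (hQ : F.IsFullyNormalized Q)
    (h : nK S Q ((pCore p (F.autGroup Q)).map (F.autGroup Q).subtype) = Q) :
    F.IsCentric Q ∧ F.IsRadical p Q := by
  obtain ⟨hfc, hQr, hQa⟩ := fullyNormalized_props hS hF hQ
  have hQS := hQ.1
  haveI : Finite Q := finite_of_le hQS
  constructor
  · apply centric_of_fc hfc
    have h1 := centralizerIn_le_nK (S := S) Q ((pCore p (F.autGroup Q)).map (F.autGroup Q).subtype)
    rwa [h] at h1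
  · refine ⟨hQS, le_antisymm ?_ (Inn_le_pCore_map hS F hQS)⟩
    intro k hk
    obtain ⟨y, hyS, hyN, e⟩ := (mem_autInducedBy_iff' S Q k).mp (pCore_map_le_autS hQa hk)
    have hy : y ∈ nK S Q ((pCore p (F.autGroup Q)).map (F.autGroup Q).subtype) :=
      ⟨⟨hyS, hyN⟩, k, hk, e⟩
    rw [h] at hy
    rw [mem_Inn_iff]
    exact ⟨y, hy, e⟩

theorem exists_frc_over [Finite S] {p : ℕ} [Fact p.Prime] (hS : IsPGroup p S) {F : FusionSystem S}
    (hF : F.IsSaturated p) (n : ℕ) :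
    ∀ Q : Subgroup Ω, F.IsFullyNormalized Q → Nat.card S ≤ Nat.card Q + n →
    ∃ (R : Subgroup Ω) (f : Ω → Ω), Mor F (normalizerIn S Q) f ∧ F.IsFullyNormalized R ∧
      F.IsCentric R ∧ F.IsRadical p R ∧ (∀ x ∈ Q, f x ∈ R) ∧
      (∀ x ∈ normalizerIn S Q, f x ∈ normalizerIn S R) ∧
      ∀ α ∈ F.autGroup Q, ∃ g, Mor F R g ∧ (∀ x ∈ R, g x ∈ R) ∧
        ∀ x : Q, g (f x) = f (α x) := by
  have base : ∀ Q : Subgroup Ω, F.IsFullyNormalized Q →
      nK S Q ((pCore p (F.autGroup Q)).map (F.autGroup Q).subtype) = Q →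
      ∃ (R : Subgroup Ω) (f : Ω → Ω), Mor F (normalizerIn S Q) f ∧ F.IsFullyNormalized R ∧
      F.IsCentric R ∧ F.IsRadical p R ∧ (∀ x ∈ Q, f x ∈ R) ∧
      (∀ x ∈ normalizerIn S Q, f x ∈ normalizerIn S R) ∧
      ∀ α ∈ F.autGroup Q, ∃ g, Mor F R g ∧ (∀ x ∈ R, g x ∈ R) ∧
        ∀ x : Q, g (f x) = f (α x) := by
    intro Q hQ h
    obtain ⟨hc, hr⟩ := frc_of_nK_eq hS hF hQ h
    refine ⟨Q, fun x => x, Mor.id F (normalizerIn_le S Q), hQ, hc, hr, fun x hx => hx,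
      fun x hx => hx, ?_⟩
    intro α hα
    exact ⟨autFn α, (mem_autGroup_iff hQ.1 α).mp hα, fun x hx => autFn_mem α hx,
      fun x => autFn_apply α x⟩
  induction n with
  | zero =>
    intro Q hQ hcard
    apply base Q hQ
    have hQS : Q = S := Subgroup.eq_of_le_of_card_ge hQ.1 (by omega)
    apply le_antisymm
    · exact (nK_le Q _).trans ((normalizerIn_le S Q).trans hQS.ge)
    · exact le_nK hQ.1 (Inn_le_pCore_map hS F hQ.1)
  | succ m ih =>
    intro Q hQ hcard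
    by_cases h : nK S Q ((pCore p (F.autGroup Q)).map (F.autGroup Q).subtype) = Q
    · exact base Q hQ h
    · obtain ⟨hfc, hQr, hQa⟩ := fullyNormalized_props hS hF hQ
      have hQS := hQ.1
      haveI : Finite Q := finite_of_le hQS
      have hQQ₁ : Q ≤ nK S Q ((pCore p (F.autGroup Q)).map (F.autGroup Q).subtype) :=
        le_nK hQS (Inn_le_pCore_map hS F hQS)
      have hQ₁S : nK S Q ((pCore p (F.autGroup Q)).map (F.autGroup Q).subtype) ≤ S :=
        (nK_le Q _).trans (normalizerIn_le S Q)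
      haveI : Finite (nK S Q ((pCore p (F.autGroup Q)).map (F.autGroup Q).subtype)) :=
        finite_of_le hQ₁S
      have hlt : Nat.card Q <
          Nat.card (nK S Q ((pCore p (F.autGroup Q)).map (F.autGroup Q).subtype)) := by
        obtain ⟨g, hg, hgQ⟩ := SetLike.exists_of_lt (lt_of_le_of_ne hQQ₁ (Ne.symm h))
        exact card_lt_of_mem_not_mem hQQ₁ hg hgQ
      obtain ⟨Q₁', f₁, hQ₁'n, -, -, hf₁, hi₁⟩ := exists_fn_map hS hF hQ₁S
      have hf₁r : Mor F (nK S Q ((pCore p (F.autGroup Q)).map (F.autGroup Q).subtype)) f₁ :=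
        hf₁.restrict (le_normalizerIn hQ₁S)
      have hc₁ : Nat.card Q₁' =
          Nat.card (nK S Q ((pCore p (F.autGroup Q)).map (F.autGroup Q).subtype)) := by
        rw [← hi₁]; exact hf₁r.card_img
      obtain ⟨R, f₂, hf₂, hRn, hRc, hRr, hf₂R, hf₂N, hext₂⟩ := ih Q₁' hQ₁'n (by omega)
      have hKn : ∀ a ∈ autInducedBy S Q,
          ∀ k ∈ (pCore p (F.autGroup Q)).map (F.autGroup Q).subtype,
          a * k * a⁻¹ ∈ (pCore p (F.autGroup Q)).map (F.autGroup Q).subtype :=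
        fun a ha k hk => pCore_map_conj p _ (autInducedBy_le_autGroup F hQS ha) hk
      have hNN : normalizerIn S Q ≤
          normalizerIn S (nK S Q ((pCore p (F.autGroup Q)).map (F.autGroup Q).subtype)) := by
        intro g hg
        exact ⟨hg.1, mem_normalizer_of_forall (fun y hy => nK_conj_mem hKn hg hy)⟩
      have hf₁N : ∀ x ∈ normalizerIn S
          (nK S Q ((pCore p (F.autGroup Q)).map (F.autGroup Q).subtype)),
          f₁ x ∈ normalizerIn S Q₁' := by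
        intro x hx
        have h1 := hf₁.map_normalizerIn (le_normalizerIn hQ₁S) hx hx
        rwa [hi₁] at h1
      refine ⟨R, f₂ ∘ f₁, (hf₁.restrict hNN).comp hf₂ (fun x hx => hf₁N x (hNN hx)), hRn, hRc,
        hRr, ?_, ?_, ?_⟩
      · intro x hx
        apply hf₂R
        rw [← hi₁]
        exact apply_mem_img (hQQ₁ hx)
      · intro x hx
        exact hf₂N _ (hf₁N x (hNN hx))
      · intro α hα
        obtain ⟨g₁, hg₁, hg₁m, hg₁α⟩ := nK_extend hQr hQa α hα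
        obtain ⟨α₁, hα₁, hα₁g⟩ := exists_aut_of_mor hg₁ hg₁m
        obtain ⟨e₁, he₁⟩ := hf₁r.exists_equiv hi₁
        have hα₁' := congr_mem_autGroup hf₁r hi₁ e₁ he₁ α₁ hα₁
        obtain ⟨g, hg, hgR, hgα⟩ := hext₂ _ hα₁'
        refine ⟨g, hg, hgR, fun x => ?_⟩
        have h1 := hgα (e₁ ⟨x, hQQ₁ x.2⟩)
        have h2 : ((MulAut.congr e₁ α₁) (e₁ ⟨x, hQQ₁ x.2⟩)) = e₁ (α₁ ⟨x, hQQ₁ x.2⟩) := by
          show e₁ (α₁ (e₁.symm (e₁ ⟨x, hQQ₁ x.2⟩))) = _
          rw [MulEquiv.symm_apply_apply]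
        rw [h2, he₁, he₁, hα₁g] at h1
        have h3 := hg₁α x
        show g (f₂ (f₁ x)) = f₂ (f₁ (α x))
        rw [← h3]
        exact h1

/-- a saturated system is `p`-stable as soon as the normalizer systems of its fully normalized
centric radical subgroups are -/
theorem pstable_of_frc [Finite S] {p : ℕ} [Fact p.Prime] (hS : IsPGroup p S)
    {F : FusionSystem S} (hF : F.IsSaturated p)
    (H : ∀ R : Subgroup Ω, F.IsFullyNormalized R → F.IsCentric R → F.IsRadical p R →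
      ∀ N : Cfsg.FusionSystem (Cfsg.FusionSystem.normalizerIn S R), F.IsNormalizerSystem R N →
      (∀ Q : Subgroup Ω, N.IsFullyNormalized Q → ∀ χ : MulAut ↥Q, χ ∈ N.autGroup Q →
        (∀ a : ↥Q, (χ a⁻¹) * a * (χ a⁻¹) * (χ (χ a)) = 1) →
        χ ∈ ((Cfsg.pCore p ↥(N.autGroup Q)).map (N.autGroup Q).subtype : Subgroup (MulAut ↥Q))))
    (Q : Subgroup Ω) (hQ : F.IsFullyNormalized Q) (χ : MulAut Q) (hχ : χ ∈ F.autGroup Q)
    (hq : ∀ a : ↥Q, (χ a⁻¹) * a * (χ a⁻¹) * (χ (χ a)) = 1) :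
    χ ∈ ((Cfsg.pCore p ↥(F.autGroup Q)).map (F.autGroup Q).subtype : Subgroup (MulAut ↥Q)) := by
  have hQS := hQ.1
  haveI : Finite Q := finite_of_le hQS
  obtain ⟨R, f, hf, hRn, hRc, hRr, hfR, hfN, hext⟩ :=
    exists_frc_over hS hF (Nat.card S) Q hQ (by omega)
  have hRS := hRn.1
  haveI : Finite R := finite_of_le hRS
  have hM : F.IsNormalizerSystem R (Cfsg.Agent.Helper26.normalizerSystem F R hRS) := fun P => rfl
  have hfQ : Mor F Q f := hf.restrict (le_normalizerIn hQS)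
  obtain ⟨e, he⟩ := hfQ.exists_equiv rfl
  have hQ'R : img Q f ≤ R := hfQ.img_le_of hfR
  have hQ'N : img Q f ≤ normalizerIn S R := hQ'R.trans (le_normalizerIn hRS)
  haveI : Finite (img Q f) := finite_of_le (hQ'R.trans hRS)
  have hAB := congr_mem_autGroup_iff hfQ rfl e he
  have hFM : ∀ β : MulAut (img Q f), β ∈ F.autGroup (img Q f) →
      β ∈ (Cfsg.Agent.Helper26.normalizerSystem F R hRS).autGroup (img Q f) := by
    intro β hβ
    obtain ⟨α, rfl⟩ := (MulAut.congr e).surjective β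
    have hα : α ∈ F.autGroup Q := (hAB α).mpr hβ
    obtain ⟨g, hg, hgR, hgα⟩ := hext α hα
    refine aut_mem_normalizerSys hRS hM hQ'R _ g hg hgR (fun x => ?_)
    obtain ⟨x₀, rfl⟩ := e.surjective x
    rw [he, hgα, ← he]
    show _ = ((e (α (e.symm (e x₀))) : img Q f) : Ω)
    rw [MulEquiv.symm_apply_apply]
  have hEq : (Cfsg.Agent.Helper26.normalizerSystem F R hRS).autGroup (img Q f) =
      F.autGroup (img Q f) :=
    le_antisymm (autGroup_normalizerSys_le hM hQ'N) hFM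
  have hMfn : (Cfsg.Agent.Helper26.normalizerSystem F R hRS).IsFullyNormalized (img Q f) := by
    refine ⟨hQ'N, fun Q'' hconj => ?_⟩
    obtain ⟨h, hh, rfl⟩ := isConj_iff.mp hconj
    have hhF : Mor F (img Q f) h := ((mor_normalizerSys_iff hM).mp hh).1
    have hconjF : F.IsConj Q (img (img Q f) h) :=
      isConj_iff.mpr ⟨h ∘ f, hfQ.comp hhF (fun x hx => apply_mem_img hx), hfQ.img_comp h⟩
    have h1 := hQ.2 _ hconjF
    haveI : Finite (normalizerIn S (img (img Q f) h)) := finite_of_le (normalizerIn_le S _)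
    have h2 : Nat.card (normalizerIn (normalizerIn S R) (img (img Q f) h)) ≤
        Nat.card (normalizerIn S (img (img Q f) h)) :=
      Subgroup.card_le_of_le (fun x hx => ⟨normalizerIn_le S R hx.1, hx.2⟩)
    have h3 : img (normalizerIn S Q) f ≤ normalizerIn (normalizerIn S R) (img Q f) := by
      apply hf.img_le_of
      intro x hx
      exact ⟨hfN x hx, (hf.map_normalizerIn (le_normalizerIn hQS) hx hx).2⟩
    haveI : Finite (normalizerIn (normalizerIn S R) (img Q f)) :=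
      finite_of_le ((normalizerIn_le _ _).trans (normalizerIn_le S R))
    have h4 : Nat.card (normalizerIn S Q) ≤
        Nat.card (normalizerIn (normalizerIn S R) (img Q f)) := by
      rw [← hf.card_img]
      exact Subgroup.card_le_of_le h3
    omega
  have h1 := H R hRn hRc hRr _ hM (img Q f) hMfn (MulAut.congr e χ) (hFM _ ((hAB χ).mp hχ))
    (quad_congr e χ hq)
  rw [hEq] at h1
  exact (pcore_map_equiv p (MulAut.congr e) _ _ hAB χ).mpr h1

/-- a fusion system is `p`-stable as soon as the normalizer systems of its fully normalized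
non-cyclic subgroups are -/
theorem pstable_of_noncyclic [Finite S] {p : ℕ} [Fact p.Prime] (hS : IsPGroup p S)
    {F : FusionSystem S}
    (H : ∀ R : Subgroup Ω, F.IsFullyNormalized R → ¬ IsCyclic ↥R →
      ∀ N : Cfsg.FusionSystem (Cfsg.FusionSystem.normalizerIn S R), F.IsNormalizerSystem R N →
      (∀ Q : Subgroup Ω, N.IsFullyNormalized Q → ∀ χ : MulAut ↥Q, χ ∈ N.autGroup Q →
        (∀ a : ↥Q, (χ a⁻¹) * a * (χ a⁻¹) * (χ (χ a)) = 1) →
        χ ∈ ((Cfsg.pCore p ↥(N.autGroup Q)).map (N.autGroup Q).subtype : Subgroup (MulAut ↥Q))))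
    (Q : Subgroup Ω) (hQ : F.IsFullyNormalized Q) (χ : MulAut Q) (hχ : χ ∈ F.autGroup Q)
    (hq : ∀ a : ↥Q, (χ a⁻¹) * a * (χ a⁻¹) * (χ (χ a)) = 1) :
    χ ∈ ((Cfsg.pCore p ↥(F.autGroup Q)).map (F.autGroup Q).subtype : Subgroup (MulAut ↥Q)) := by
  have hQS := hQ.1
  haveI : Finite Q := finite_of_le hQS
  by_cases hc : IsCyclic Q
  · rw [mem_pCore_map_iff]
    refine ⟨Subgroup.zpowers χ, ?_, ?_, ?_, Subgroup.mem_zpowers χ⟩
    · rw [Subgroup.zpowers_le]; exact hχ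
    · intro a _ n hn
      rw [mulAut_comm_of_cyclic a n, mul_inv_cancel_right]
      exact hn
    · obtain ⟨k, hk⟩ := (hS.to_le hQS).exists_card_eq
      have h1 : χ ^ p ^ k = 1 := by rw [← hk]; exact quad_pow_card χ hq
      rintro ⟨g, hg⟩
      obtain ⟨z, rfl⟩ := Subgroup.mem_zpowers_iff.mp hg
      refine ⟨k, Subtype.ext ?_⟩
      show (χ ^ z) ^ p ^ k = 1
      rw [← zpow_natCast, ← zpow_mul, mul_comm, zpow_mul, zpow_natCast, h1, one_zpow]
  · have hM : F.IsNormalizerSystem Q (Cfsg.Agent.Helper26.normalizerSystem F Q hQS) :=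
      fun P => rfl
    have hQN : Q ≤ normalizerIn S Q := le_normalizerIn hQS
    have hFM : ∀ β : MulAut Q, β ∈ F.autGroup Q →
        β ∈ (Cfsg.Agent.Helper26.normalizerSystem F Q hQS).autGroup Q := by
      intro β hβ
      have hβm := (mem_autGroup_iff hQS β).mp hβ
      exact aut_mem_normalizerSys hQS hM le_rfl β (autFn β) hβm (fun x hx => autFn_mem β hx)
        (fun x => autFn_apply β x)
    have hEq : (Cfsg.Agent.Helper26.normalizerSystem F Q hQS).autGroup Q = F.autGroup Q :=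
      le_antisymm (autGroup_normalizerSys_le hM hQN) hFM
    have hMfn : (Cfsg.Agent.Helper26.normalizerSystem F Q hQS).IsFullyNormalized Q := by
      refine ⟨hQN, fun Q'' hconj => ?_⟩
      obtain ⟨h, hh, rfl⟩ := isConj_iff.mp hconj
      obtain ⟨-, -, -, f', hf', hf'h, hf'Q, -⟩ := (mor_normalizerSys_iff hM).mp hh
      have h1 : img Q h ≤ Q := by
        apply hh.img_le_of
        intro x hx
        rw [← hf'h x hx]
        exact hf'Q x hx
      have h2 : img Q h = Q := Subgroup.eq_of_le_of_card_ge h1 (le_of_eq hh.card_img.symm)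
      rw [h2]
    have h1 := H Q hQ hc _ hM Q hMfn χ (hFM χ hχ) hq
    rw [hEq] at h1
    exact h1

end Cfsg.Agent.Helper27
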