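import Cfsg.Agent.Helper27.PStable
import Cfsg.Agent.Helper26.GroupFusion
import Cfsg.Prelude.Def_LocalEven

set_option autoImplicit false

namespace Cfsg.Agent.Helper27

open Cfsg Cfsg.FusionSystem
open scoped commutatorElement

/-- the `p`-core of a quotient by the kernel of a homomorphism, seen in the image -/
theorem mk_mem_pCore_iff {G H : Type*} [Group G] [Group H] [Finite G] [Finite H] (p : ℕ)
    (f : G →* H) (K : Subgroup G) [K.Normal] (hK : f.ker = K) (x : G) :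
    (QuotientGroup.mk x : G ⧸ K) ∈ pCore p (G ⧸ K) ↔
      f x ∈ (pCore p f.range).map f.range.subtype := by
  have hker : ∀ n : G, QuotientGroup.mk' K n = 1 ↔ f n = 1 := by
    intro n
    rw [QuotientGroup.mk'_apply, QuotientGroup.eq_one_iff, ← hK, MonoidHom.mem_ker]
  constructor
  · intro hx
    rw [mem_pCore_map_iff]
    refine ⟨((pCore p (G ⧸ K)).comap (QuotientGroup.mk' K)).map f, ?_, ?_, ?_, ⟨x, hx, rfl⟩⟩
    · rintro _ ⟨n, -, rfl⟩
      exact ⟨n, rfl⟩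
    · rintro _ ⟨h, rfl⟩ _ ⟨n, hn, rfl⟩
      refine ⟨h * n * h⁻¹, ?_, by simp⟩
      show QuotientGroup.mk' K (h * n * h⁻¹) ∈ pCore p (G ⧸ K)
      rw [map_mul, map_mul, map_inv]
      exact (pCore_normal' p _).conj_mem _ hn _
    · rintro ⟨_, n, hn, rfl⟩
      obtain ⟨k, hk⟩ := isPGroup_pCore' p (G ⧸ K) ⟨QuotientGroup.mk' K n, hn⟩
      refine ⟨k, Subtype.ext ?_⟩
      show f n ^ p ^ k = 1
      have h1 : (QuotientGroup.mk' K n) ^ p ^ k = 1 := congrArg Subtype.val hk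
      rw [← map_pow, hker, map_pow] at h1
      exact h1
  · intro hx
    rw [mem_pCore_map_iff] at hx
    obtain ⟨N₀, hN₀A, hN₀n, hN₀p, hx⟩ := hx
    have hnorm : (N₀.comap f).Normal := by
      constructor
      intro n hn g
      show f (g * n * g⁻¹) ∈ N₀
      rw [map_mul, map_mul, map_inv]
      exact hN₀n _ ⟨g, rfl⟩ _ hn
    have hnorm' : ((N₀.comap f).map (QuotientGroup.mk' K)).Normal :=
      hnorm.map _ (QuotientGroup.mk'_surjective K)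
    have hp' : IsPGroup p ((N₀.comap f).map (QuotientGroup.mk' K)) := by
      rintro ⟨_, n, hn, rfl⟩
      obtain ⟨k, hk⟩ := hN₀p ⟨f n, hn⟩
      refine ⟨k, Subtype.ext ?_⟩
      show (QuotientGroup.mk' K n) ^ p ^ k = 1
      have h1 : f n ^ p ^ k = 1 := congrArg Subtype.val hk
      rw [← map_pow, hker, map_pow]
      exact h1
    exact le_pCore' hnorm' hp' ⟨x, hx, rfl⟩

theorem quad_fix {Q : Type*} [Group Q] (χ : MulAut Q)
    (hq : ∀ a : Q, χ a⁻¹ * a * χ a⁻¹ * χ (χ a) = 1) (a : Q) :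
    χ (a⁻¹ * χ a) = a⁻¹ * χ a := by
  have h := hq a
  rw [map_inv] at h
  have h2 : χ (χ a) = χ a * a⁻¹ * χ a := by
    have h3 : χ (χ a) = ((χ a)⁻¹ * a * (χ a)⁻¹)⁻¹ := eq_inv_of_mul_eq_one_right h
    rw [h3]
    group
  rw [map_mul, map_inv, h2]
  group

theorem comm_zpow_aux {Ω : Type*} [Group Ω] (d g a : Ω) (hc : Commute d g)
    (h : a * g * a⁻¹ = d * g) (i : ℤ) : a * g ^ i * a⁻¹ * (g ^ i)⁻¹ = d ^ i := by
  rw [← conj_zpow, h, hc.mul_zpow, mul_inv_cancel_right]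

theorem comm_bot_of_rel {Ω : Type*} [Group Ω] (Q : Subgroup Ω) (g : Ω)
    (h : ∀ a ∈ Q, g * (a * g * a⁻¹ * g⁻¹) = (a * g * a⁻¹ * g⁻¹) * g) :
    ⁅⁅Q, Subgroup.zpowers g⁆, Subgroup.zpowers g⁆ = ⊥ := by
  rw [Subgroup.commutator_eq_bot_iff_le_centralizer, Subgroup.commutator_le]
  intro a ha z hz
  obtain ⟨i, rfl⟩ := Subgroup.mem_zpowers_iff.mp hz
  rw [Subgroup.mem_centralizer_iff]
  intro w hw
  obtain ⟨j, rfl⟩ := Subgroup.mem_zpowers_iff.mp hw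
  have hc : Commute (a * g * a⁻¹ * g⁻¹) g := (h a ha).symm
  have h1 : ⁅a, g ^ i⁆ = (a * g * a⁻¹ * g⁻¹) ^ i := by
    rw [commutatorElement_def]
    exact comm_zpow_aux _ g a hc (by group) i
  rw [h1]
  exact (hc.symm.zpow_zpow j i).eq

theorem comm_rel_of_bot {Ω : Type*} [Group Ω] (Q' : Subgroup Ω) (g : Ω)
    (hcomm : ⁅⁅Q', Subgroup.zpowers g⁆, Subgroup.zpowers g⁆ = ⊥) (a : Ω) (ha : a ∈ Q') :
    g * a⁻¹ * g * a * g⁻¹ = a⁻¹ * g * a := by
  have h1 : ⁅a⁻¹, g⁆ ∈ ⁅Q', Subgroup.zpowers g⁆ :=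
    Subgroup.commutator_mem_commutator (Q'.inv_mem ha) (Subgroup.mem_zpowers g)
  have h2 : ⁅⁅a⁻¹, g⁆, g⁆ ∈ ⁅⁅Q', Subgroup.zpowers g⁆, Subgroup.zpowers g⁆ :=
    Subgroup.commutator_mem_commutator h1 (Subgroup.mem_zpowers g)
  rw [hcomm, Subgroup.mem_bot, commutatorElement_def, commutatorElement_def] at h2
  have h3 : g * a⁻¹ * g * a * g⁻¹ =
      (a⁻¹ * g * a⁻¹⁻¹ * g⁻¹ * g * (a⁻¹ * g * a⁻¹⁻¹ * g⁻¹)⁻¹ * g⁻¹)⁻¹ * (a⁻¹ * g * a) := by
    group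
  rw [h3, h2]
  simp

theorem normalizerMonoidHom_range {Ω : Type*} [Group Ω] (Q : Subgroup Ω) :
    Q.normalizerMonoidHom.range = autInducedBy ⊤ Q := by
  apply le_antisymm
  · rintro _ ⟨n, rfl⟩
    exact Subgroup.subset_closure ⟨n, Subgroup.mem_top _, fun _ => rfl⟩
  · intro α hα
    obtain ⟨g, -, hg⟩ := Cfsg.Agent.Helper26.mem_autInducedBy_iff.mp hα
    refine ⟨⟨g, Cfsg.Agent.Helper26.mem_normalizer_of_conj_aut hg⟩, ?_⟩
    apply MulEquiv.ext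
    intro x
    apply Subtype.ext
    exact (hg x).symm

/-- a `p`-stable group (normalizer form) has a `p`-stable fusion system -/
theorem group_pstable_forward {Ω : Type*} [Group Ω] [Finite Ω] {p : ℕ} [Fact p.Prime]
    (P : Sylow p Ω) (hG : Cfsg.IsNormalizerPStable p Ω) (Q : Subgroup Ω) (hQP : Q ≤ P)
    (χ : MulAut Q) (hχ : χ ∈ (Cfsg.groupFusionSystem (P : Subgroup Ω)).autGroup Q)
    (hq : ∀ a : ↥Q, (χ a⁻¹) * a * (χ a⁻¹) * (χ (χ a)) = 1) :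
    χ ∈ ((Cfsg.pCore p ↥((Cfsg.groupFusionSystem (P : Subgroup Ω)).autGroup Q)).map
      ((Cfsg.groupFusionSystem (P : Subgroup Ω)).autGroup Q).subtype : Subgroup (MulAut ↥Q)) := by
  rw [Cfsg.Agent.Helper26.groupFusion_autGroup _ hQP] at hχ ⊢
  obtain ⟨g, -, hg⟩ := Cfsg.Agent.Helper26.mem_autInducedBy_iff.mp hχ
  have hgN : g ∈ Subgroup.normalizer (Q : Set Ω) :=
    Cfsg.Agent.Helper26.mem_normalizer_of_conj_aut hg
  have hQp : IsPGroup p Q := P.isPGroup'.to_le hQP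
  have hcomm : ⁅⁅Q, Subgroup.zpowers g⁆, Subgroup.zpowers g⁆ = ⊥ := by
    apply comm_bot_of_rel
    intro a ha
    have h1 := quad_fix χ hq (⟨a, ha⟩⁻¹ : Q)
    have h2 := congrArg (fun z : Q => (z : Ω)) h1
    simp only [Subgroup.coe_mul, Subgroup.coe_inv, hg, inv_inv] at h2
    have h3 : g * (a * g * a⁻¹ * g⁻¹) = g * (a * (g * a⁻¹ * g⁻¹)) * g⁻¹ * g := by group
    rw [h3, h2]
    group
  have h1 := hG Q hQp g hgN hcomm
  have h2 := (mk_mem_pCore_iff p Q.normalizerMonoidHom _ (Subgroup.normalizerMonoidHom_ker Q)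
    ⟨g, hgN⟩).mp h1
  rw [normalizerMonoidHom_range] at h2
  have h3 : Q.normalizerMonoidHom ⟨g, hgN⟩ = χ := by
    apply MulEquiv.ext
    intro x
    apply Subtype.ext
    exact (hg x).symm
  rw [← h3]
  exact h2

/-- a group whose fusion system is `p`-stable is `p`-stable in the normalizer form -/
theorem group_pstable_backward {Ω : Type*} [Group Ω] [Finite Ω] {p : ℕ} [Fact p.Prime]
    (P : Sylow p Ω)
    (hF : ∀ Q : Subgroup Ω, (Cfsg.groupFusionSystem (P : Subgroup Ω)).IsFullyNormalized Q →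
      ∀ χ : MulAut ↥Q, χ ∈ (Cfsg.groupFusionSystem (P : Subgroup Ω)).autGroup Q →
      (∀ a : ↥Q, (χ a⁻¹) * a * (χ a⁻¹) * (χ (χ a)) = 1) →
      χ ∈ ((Cfsg.pCore p ↥((Cfsg.groupFusionSystem (P : Subgroup Ω)).autGroup Q)).map
        ((Cfsg.groupFusionSystem (P : Subgroup Ω)).autGroup Q).subtype :
          Subgroup (MulAut ↥Q))) :
    Cfsg.IsNormalizerPStable p Ω := by
  intro Q' hQ'p g hg hcomm
  have hS : IsPGroup p (P : Subgroup Ω) := P.isPGroup'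
  have hsat := Cfsg.Agent.Helper26.groupFusion_saturated p P
  obtain ⟨x, hx⟩ := sylow_conj P Q' hQ'p
  have hQ''P : Q'.map (MulAut.conj x).toMonoidHom ≤ P := by
    rintro _ ⟨q, hq, rfl⟩
    exact hx q hq
  obtain ⟨Q, f', hQfn, -, -, hf', hi⟩ := exists_fn_map hS hsat hQ''P
  have hconj : (groupFusionSystem (P : Subgroup Ω)).IsConj
      (Q'.map (MulAut.conj x).toMonoidHom) Q :=
    isConj_iff.mpr ⟨f', hf'.restrict (le_normalizerIn hQ''P), hi⟩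
  obtain ⟨-, hQP, g₂, hg₂⟩ := (Cfsg.Agent.Helper26.groupFusion_isConj_iff _).mp hconj
  have hy1' : ∀ z ∈ Q', (g₂ * x) * z * (g₂ * x)⁻¹ ∈ Q := by
    intro z hz
    rw [← hg₂]
    refine ⟨x * z * x⁻¹, ⟨z, hz, rfl⟩, ?_⟩
    show g₂ * (x * z * x⁻¹) * g₂⁻¹ = _
    group
  have hy2' : ∀ z, (g₂ * x) * z * (g₂ * x)⁻¹ ∈ Q → z ∈ Q' := by
    intro z hz
    rw [← hg₂] at hz
    obtain ⟨_, ⟨q, hq, rfl⟩, hw⟩ := hz
    have h1 : g₂ * (x * q * x⁻¹) * g₂⁻¹ = g₂ * x * z * (g₂ * x)⁻¹ := hw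
    have h2 : q = z := by
      have h3 : g₂ * x * q * (g₂ * x)⁻¹ = g₂ * x * z * (g₂ * x)⁻¹ := by rw [← h1]; group
      exact mul_left_cancel (mul_right_cancel h3)
    rw [← h2]
    exact hq
  obtain ⟨y, hy1, hy2⟩ : ∃ y : Ω, (∀ z ∈ Q', y * z * y⁻¹ ∈ Q) ∧
      ∀ z, y * z * y⁻¹ ∈ Q → z ∈ Q' := ⟨g₂ * x, hy1', hy2'⟩
  have hyQ : ∀ b ∈ Q, y⁻¹ * b * y ∈ Q' := by
    intro b hb
    apply hy2
    have h1 : y * (y⁻¹ * b * y) * y⁻¹ = b := by group
    rw [h1]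
    exact hb
  -- the conjugation map between the normalizers
  have hκ : ∀ n ∈ Subgroup.normalizer (Q' : Set Ω), y * n * y⁻¹ ∈ Subgroup.normalizer (Q : Set Ω) := by
    intro n hn
    apply mem_normalizer_of_forall
    intro b hb
    have h1 := (Subgroup.mem_normalizer_iff.mp hn (y⁻¹ * b * y)).mp (hyQ b hb)
    have h2 := hy1 _ h1
    have h3 : y * (n * (y⁻¹ * b * y) * n⁻¹) * y⁻¹ = y * n * y⁻¹ * b * (y * n * y⁻¹)⁻¹ := by group
    rw [← h3]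
    exact h2
  let κ : ↥(Subgroup.normalizer (Q' : Set Ω)) →* ↥(Subgroup.normalizer (Q : Set Ω)) :=
    ((MulAut.conj y).toMonoidHom.comp (Subgroup.normalizer (Q' : Set Ω)).subtype).codRestrict
      (Subgroup.normalizer (Q : Set Ω)) (fun n => hκ n n.2)
  have e : ∀ (n : Ω) (hn : n ∈ Subgroup.normalizer (Q' : Set Ω)) (b : Q),
      (((Q.normalizerMonoidHom.comp κ) ⟨n, hn⟩ b : Q) : Ω) =
        (y * n * y⁻¹) * b * (y * n * y⁻¹)⁻¹ :=
    fun n hn b => rfl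
  have hker : (Q.normalizerMonoidHom.comp κ).ker =
      (Subgroup.centralizer (Q' : Set Ω)).subgroupOf (Subgroup.normalizer (Q' : Set Ω)) := by
    ext ⟨n, hn⟩
    rw [MonoidHom.mem_ker, Subgroup.mem_subgroupOf, Subgroup.mem_centralizer_iff]
    show (Q.normalizerMonoidHom.comp κ) ⟨n, hn⟩ = 1 ↔ ∀ h ∈ (Q' : Set Ω), h * n = n * h
    constructor
    · intro h a ha
      have h1 := e n hn ⟨y * a * y⁻¹, hy1 a ha⟩
      rw [h] at h1
      have h2 : y * a * y⁻¹ = y * (n * a * n⁻¹) * y⁻¹ := by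
        have h3 : y * n * y⁻¹ * (y * a * y⁻¹) * (y * n * y⁻¹)⁻¹ = y * (n * a * n⁻¹) * y⁻¹ := by
          group
        rw [← h3]
        exact h1
      have h4 : a = n * a * n⁻¹ := mul_left_cancel (mul_right_cancel h2)
      calc a * n = n * a * n⁻¹ * n := by rw [← h4]
        _ = n * a := by group
    · intro h
      apply MulEquiv.ext
      intro b
      apply Subtype.ext
      rw [e]
      have h1 := h _ (hyQ b b.2)
      have h2 : y * n * y⁻¹ * ↑b * (y * n * y⁻¹)⁻¹ = y * (n * (y⁻¹ * b * y)) * n⁻¹ * y⁻¹ := by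
        group
      rw [h2, ← h1]
      show y * (y⁻¹ * ↑b * y * n) * n⁻¹ * y⁻¹ = ↑b
      group
  have hrange : (Q.normalizerMonoidHom.comp κ).range = autInducedBy ⊤ Q := by
    apply le_antisymm
    · rintro _ ⟨⟨n, hn⟩, rfl⟩
      exact Subgroup.subset_closure ⟨y * n * y⁻¹, Subgroup.mem_top _, fun b => e n hn b⟩
    · intro α hα
      obtain ⟨h, -, hh⟩ := Cfsg.Agent.Helper26.mem_autInducedBy_iff.mp hα
      have hhN : h ∈ Subgroup.normalizer (Q : Set Ω) :=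
        Cfsg.Agent.Helper26.mem_normalizer_of_conj_aut hh
      have hn : y⁻¹ * h * y ∈ Subgroup.normalizer (Q' : Set Ω) := by
        haveI : Finite Q' := inferInstance
        apply mem_normalizer_of_forall
        intro a ha
        apply hy2
        have h1 := (Subgroup.mem_normalizer_iff.mp hhN (y * a * y⁻¹)).mp (hy1 a ha)
        have h2 : y * (y⁻¹ * h * y * a * (y⁻¹ * h * y)⁻¹) * y⁻¹ = h * (y * a * y⁻¹) * h⁻¹ := by
          group
        rw [h2]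
        exact h1
      refine ⟨⟨y⁻¹ * h * y, hn⟩, ?_⟩
      apply MulEquiv.ext
      intro b
      apply Subtype.ext
      rw [e, hh]
      show y * (y⁻¹ * h * y) * y⁻¹ * ↑b * (y * (y⁻¹ * h * y) * y⁻¹)⁻¹ = h * ↑b * h⁻¹
      group
  have hχ : (Q.normalizerMonoidHom.comp κ) ⟨g, hg⟩ ∈
      (Cfsg.groupFusionSystem (P : Subgroup Ω)).autGroup Q := by
    rw [Cfsg.Agent.Helper26.groupFusion_autGroup _ hQP, ← hrange]
    exact ⟨⟨g, hg⟩, rfl⟩
  have hquad : ∀ b : ↥Q, ((Q.normalizerMonoidHom.comp κ) ⟨g, hg⟩ b⁻¹) * b *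
      ((Q.normalizerMonoidHom.comp κ) ⟨g, hg⟩ b⁻¹) *
      ((Q.normalizerMonoidHom.comp κ) ⟨g, hg⟩ ((Q.normalizerMonoidHom.comp κ) ⟨g, hg⟩ b)) = 1 := by
    intro b
    apply Subtype.ext
    have hR := comm_rel_of_bot Q' g hcomm (y⁻¹ * b * y) (hyQ b b.2)
    simp only [Subgroup.coe_mul, e, Subgroup.coe_inv, Subgroup.coe_one]
    have h1 : y * g * y⁻¹ * (↑b)⁻¹ * (y * g * y⁻¹)⁻¹ * ↑b * (y * g * y⁻¹ * (↑b)⁻¹ * (y * g * y⁻¹)⁻¹) *
        (y * g * y⁻¹ * (y * g * y⁻¹ * ↑b * (y * g * y⁻¹)⁻¹) * (y * g * y⁻¹)⁻¹) =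
        y * ((g * (y⁻¹ * b * y)⁻¹ * g⁻¹ * (y⁻¹ * b * y)) *
          (g * (y⁻¹ * b * y)⁻¹ * g * (y⁻¹ * b * y) * g⁻¹) * g⁻¹) * y⁻¹ := by
      group
    rw [h1, hR]
    group
  have h1 := hF Q hQfn _ hχ hquad
  rw [Cfsg.Agent.Helper26.groupFusion_autGroup _ hQP, ← hrange] at h1
  exact (mk_mem_pCore_iff p (Q.normalizerMonoidHom.comp κ) _ hker ⟨g, hg⟩).mpr h1

end Cfsg.Agent.Helper27
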