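import Cfsg.Agent.Helper27.UA7

/-!
# Pairs of conjugation automorphisms in a common chain stabilizer; commutator homomorphisms (helper27)
-/

set_option autoImplicit false

namespace Cfsg.Agent.Helper27

open Cfsg Cfsg.FusionSystem

variable {Ω : Type*} [Group Ω] {S : Subgroup Ω}

/-- two automorphisms of a finite `p`-group, each centralizing the commutators of both, lie in a common `p`-group -/
theorem two_fix_pgroup {H : Type*} [Group H] [Finite H] {p : ℕ} [Fact p.Prime] (hH : IsPGroup p H)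
    (u u' : MulAut H)
    (h1 : ∀ y : H, u (y⁻¹ * u y) = y⁻¹ * u y) (h2 : ∀ y : H, u' (y⁻¹ * u y) = y⁻¹ * u y)
    (h3 : ∀ y : H, u (y⁻¹ * u' y) = y⁻¹ * u' y) (h4 : ∀ y : H, u' (y⁻¹ * u' y) = y⁻¹ * u' y) :
    ∃ K : Subgroup (MulAut H), IsPGroup p K ∧ u ∈ K ∧ u' ∈ K := by
  obtain ⟨W, hW⟩ : ∃ W : Subgroup H, ∀ y : H, y ∈ W ↔ u y = y ∧ u' y = y := by
    refine ⟨{ carrier := {y | u y = y ∧ u' y = y}
              one_mem' := ⟨map_one u, map_one u'⟩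
              mul_mem' := ?_
              inv_mem' := ?_ }, fun y => Iff.rfl⟩
    · rintro a b ⟨ha, ha'⟩ ⟨hb, hb'⟩
      exact ⟨by rw [map_mul, ha, hb], by rw [map_mul, ha', hb']⟩
    · rintro a ⟨ha, ha'⟩
      exact ⟨by rw [map_inv, ha], by rw [map_inv, ha']⟩
  refine ⟨stab2 W, stab2_isPGroup W (hH.to_subgroup W), ?_, ?_⟩
  · exact ⟨fun y hy => ((hW y).mp hy).1, fun y => (hW _).mpr ⟨h1 y, h2 y⟩⟩
  · exact ⟨fun y hy => ((hW y).mp hy).2, fun y => (hW _).mpr ⟨h3 y, h4 y⟩⟩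

/-- for an essential subgroup `P`: an automorphism `g` such that some `c_{s₁}` and some `g c_{s₂} g⁻¹`
(`s₁, s₂ ∈ N_S(P) ∖ P`) lie in a common `p`-subgroup of `Aut(P)` lies in the strongly embedded subgroup -/
theorem ess_pair [Finite S] {p : ℕ} [Fact p.Prime] (hS : IsPGroup p S) {F : FusionSystem S}
    (hF : F.IsSaturated p) {P : Subgroup Ω} (hP : F.IsEssential p P) :
    ∃ Mq : Subgroup (MulAut ↥P), ¬ (F.autGroup P ≤ Mq) ∧
      ∀ g ∈ F.autGroup P, ∀ s₁ ∈ S, ∀ (h₁ : s₁ ∈ Subgroup.normalizer (P : Set Ω)), s₁ ∉ P →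
        ∀ s₂ ∈ S, ∀ (h₂ : s₂ ∈ Subgroup.normalizer (P : Set Ω)), s₂ ∉ P →
        ∀ K : Subgroup (MulAut ↥P), IsPGroup p K → conjAut P s₁ h₁ ∈ K →
          g * conjAut P s₂ h₂ * g⁻¹ ∈ K → g ∈ Mq := by
  obtain ⟨-, Mq, hMq, hkey⟩ := ess_key hS hF hP
  have hPS : P ≤ S := hP.2.1.1
  haveI : Finite P := finite_of_le hPS
  obtain ⟨-, -, hfa⟩ := fullyNormalized_props hS hF hP.2.1
  refine ⟨Mq, hMq, ?_⟩
  intro g hg s₁ hs₁ h₁ hs₁P s₂ hs₂ h₂ hs₂P K hK hu₁ hu₂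
  have hu₁G : conjAut P s₁ h₁ ∈ F.autGroup P :=
    autInducedBy_le_autGroup F hPS (conjAut_mem_autInducedBy hs₁ h₁)
  have hu₂G : conjAut P s₂ h₂ ∈ F.autGroup P :=
    autInducedBy_le_autGroup F hPS (conjAut_mem_autInducedBy hs₂ h₂)
  obtain ⟨χ, hχ, hχB⟩ := exists_conj_into_autS hfa (K ⊓ F.autGroup P) (hK.to_le inf_le_left)
    inf_le_right
  have key : ∀ (α : MulAut ↥P), α ∈ F.autGroup P → ∀ s ∈ S,
      ∀ (h : s ∈ Subgroup.normalizer (P : Set Ω)), s ∉ P →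
      α * conjAut P s h * α⁻¹ ∈ autInducedBy S P → α ∈ Mq := by
    intro α hα s hs h hsP hβ
    obtain ⟨w, hw, hβw⟩ := (mem_autInducedBy_iff S P _).mp hβ
    refine hkey α hα s ⟨hs, h⟩ hsP w hw ?_
    intro q hq
    rw [autFn_of_mem α hq]
    have hq' : s * q * s⁻¹ ∈ P := (Subgroup.mem_normalizer_iff.mp h q).mp hq
    rw [autFn_of_mem α hq']
    have h1 := hβw (α ⟨q, hq⟩)
    rw [MulAut.mul_apply, MulAut.mul_apply, MulAut.inv_apply_self] at h1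
    rw [← h1]
    rfl
  have hχM : χ ∈ Mq := key χ hχ s₁ hs₁ h₁ hs₁P (hχB _ ⟨hu₁, hu₁G⟩)
  have hχgM : χ * g ∈ Mq := by
    apply key (χ * g) ((F.autGroup P).mul_mem hχ hg) s₂ hs₂ h₂ hs₂P
    have h2 := hχB _ ⟨hu₂, (F.autGroup P).mul_mem ((F.autGroup P).mul_mem hg hu₂G)
      ((F.autGroup P).inv_mem hg)⟩
    have e : χ * g * conjAut P s₂ h₂ * (χ * g)⁻¹ = χ * (g * conjAut P s₂ h₂ * g⁻¹) * χ⁻¹ := by
      group
    rw [e]; exact h2
  have e : g = χ⁻¹ * (χ * g) := by group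
  rw [e]
  exact Mq.mul_mem (Mq.inv_mem hχM) hχgM

/-- elementwise facts about an extraspecial subgroup -/
theorem extraspecial_facts {p : ℕ} {Q : Subgroup Ω} (hQ : Cfsg.IsExtraspecial p ↥Q) :
    (∀ a ∈ Q, ∀ b ∈ Q, a * b * a⁻¹ * b⁻¹ ∈ Q ⊓ Subgroup.centralizer (Q : Set Ω)) ∧
      Nat.card ↥(Q ⊓ Subgroup.centralizer (Q : Set Ω)) = p := by
  obtain ⟨⟨hpQ, hfr, hcomm⟩, hcard⟩ := hQ
  have hmap : (Subgroup.center ↥Q).map Q.subtype = Q ⊓ Subgroup.centralizer (Q : Set Ω) := by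
    ext z
    rw [Subgroup.mem_map, mem_center_iff]
    constructor
    · rintro ⟨z', hz', rfl⟩
      refine ⟨z'.2, fun s hs => ?_⟩
      have h1 := Subgroup.mem_center_iff.mp hz' ⟨s, hs⟩
      exact congrArg Subtype.val h1
    · rintro ⟨hzQ, hzc⟩
      exact ⟨⟨z, hzQ⟩, Subgroup.mem_center_iff.mpr (fun g => Subtype.ext (hzc g g.2)), rfl⟩
  constructor
  · intro a ha b hb
    rw [← hmap, Subgroup.mem_map]
    refine ⟨⟨a, ha⟩ * ⟨b, hb⟩ * ⟨a, ha⟩⁻¹ * ⟨b, hb⟩⁻¹, ?_, rfl⟩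
    rw [← hcomm, commutator_def]
    have h1 := Subgroup.commutator_mem_commutator (Subgroup.mem_top (⟨a, ha⟩ : ↥Q))
      (Subgroup.mem_top (⟨b, hb⟩ : ↥Q))
    rwa [commutatorElement_def] at h1
  · rw [← hmap, Subgroup.card_map_of_injective (Subgroup.subtype_injective Q)]
    exact hcard

/-- the commutator homomorphism `b ↦ [b, q]` when commutators are central -/
def commHom {K Z₀ B : Subgroup Ω} (hZ₀ : ∀ a ∈ K, ∀ b ∈ K, a * b * a⁻¹ * b⁻¹ ∈ Z₀)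
    (hcen : ∀ z ∈ Z₀, ∀ s ∈ K, s * z = z * s) (hB : B ≤ K) {q : Ω} (hq : q ∈ K) : ↥B →* ↥Z₀ where
  toFun b := ⟨b * q * (b : Ω)⁻¹ * q⁻¹, hZ₀ _ (hB b.2) _ hq⟩
  map_one' := by
    apply Subtype.ext
    simp
  map_mul' := by
    intro b b'
    apply Subtype.ext
    have hb := hB b.2
    have hb' := hB b'.2
    have h1 := hcen _ (hZ₀ _ hb' _ hq) _ hb
    have h2 := hcen _ (hZ₀ _ hb' _ hq) _
      (K.mul_mem (K.mul_mem (K.mul_mem hb hq) (K.inv_mem hb)) (K.inv_mem hq))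
    show (b : Ω) * b' * q * ((b : Ω) * b')⁻¹ * q⁻¹ =
      ((b : Ω) * q * (b : Ω)⁻¹ * q⁻¹) * ((b' : Ω) * q * (b' : Ω)⁻¹ * q⁻¹)
    rw [h2]
    have e : (b : Ω) * b' * q * ((b : Ω) * b')⁻¹ * q⁻¹ =
        ((b : Ω) * ((b' : Ω) * q * (b' : Ω)⁻¹ * q⁻¹)) * (q * (b : Ω)⁻¹ * q⁻¹) := by group
    rw [e, h1]
    group

theorem commHom_ker {K Z₀ B : Subgroup Ω} (hZ₀ : ∀ a ∈ K, ∀ b ∈ K, a * b * a⁻¹ * b⁻¹ ∈ Z₀)
    (hcen : ∀ z ∈ Z₀, ∀ s ∈ K, s * z = z * s) (hB : B ≤ K) {q : Ω} (hq : q ∈ K) (b : ↥B) :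
    b ∈ (commHom hZ₀ hcen hB hq).ker ↔ (b : Ω) * q = q * b := by
  rw [MonoidHom.mem_ker]
  constructor
  · intro h
    have h1 : (b : Ω) * q * (b : Ω)⁻¹ * q⁻¹ = 1 := congrArg Subtype.val h
    exact mul_inv_eq_iff_eq_mul.mp (mul_inv_eq_one.mp h1)
  · intro h
    apply Subtype.ext
    show (b : Ω) * q * (b : Ω)⁻¹ * q⁻¹ = 1
    rw [h, mul_inv_cancel_right, mul_inv_cancel]

/-- a homomorphism into a group of order `p` has kernel of index at most `p` -/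
theorem card_le_ker_mul {G Z : Type*} [Group G] [Group Z] [Finite G] {p : ℕ} [Fact p.Prime]
    (f : G →* Z) (hZ : Nat.card Z = p) : Nat.card G ≤ Nat.card f.ker * p := by
  haveI : Finite Z := Nat.finite_of_card_ne_zero (hZ ▸ (Fact.out : p.Prime).ne_zero)
  have h1 := Subgroup.card_mul_index f.ker
  rw [Subgroup.index_ker] at h1
  have h2 : Nat.card f.range ≤ p := hZ ▸ Subgroup.card_le_card_group f.range
  rw [← h1]
  exact Nat.mul_le_mul_left _ h2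

end Cfsg.Agent.Helper27
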