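import Cfsg.Agent.Helper27.SuperSolB

set_option autoImplicit false

namespace Cfsg.Agent.Helper27

open Cfsg Cfsg.FusionSystem

variable {Ω : Type*} [Group Ω]

theorem autFn_mul_apply {V : Subgroup Ω} (α β : MulAut V) {x : Ω} (hx : x ∈ V) :
    autFn (α * β) x = autFn α (autFn β x) := by
  rw [autFn_of_mem β hx, autFn_apply α, autFn_of_mem (α * β) hx]
  rfl

theorem autFn_inv_apply {V : Subgroup Ω} (α : MulAut V) {x : Ω} (hx : x ∈ V) :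
    autFn α⁻¹ (autFn α x) = x := by
  rw [autFn_of_mem α hx, autFn_apply, MulAut.inv_apply_self]

theorem autFn_apply_inv {V : Subgroup Ω} (α : MulAut V) {x : Ω} (hx : x ∈ V) :
    autFn α (autFn α⁻¹ x) = x := by
  rw [autFn_of_mem α⁻¹ hx, autFn_apply, MulAut.apply_inv_self]

theorem autFn_one_apply {V : Subgroup Ω} {x : Ω} (hx : x ∈ V) : autFn (1 : MulAut V) x = x := by
  rw [autFn_of_mem 1 hx]
  rfl

theorem autFn_map_mul {V : Subgroup Ω} (α : MulAut V) {x y : Ω} (hx : x ∈ V) (hy : y ∈ V) :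
    autFn α (x * y) = autFn α x * autFn α y := by
  rw [autFn_of_mem α hx, autFn_of_mem α hy, autFn_of_mem α (V.mul_mem hx hy)]
  have e : (⟨x * y, V.mul_mem hx hy⟩ : V) = ⟨x, hx⟩ * ⟨y, hy⟩ := rfl
  rw [e, map_mul]
  rfl

theorem autFn_injOn {V : Subgroup Ω} (α : MulAut V) {x y : Ω} (hx : x ∈ V) (hy : y ∈ V)
    (h : autFn α x = autFn α y) : x = y := by
  have h1 := congrArg (autFn α⁻¹) h
  rwa [autFn_inv_apply α hx, autFn_inv_apply α hy] at h1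

theorem autFn_map_one {V : Subgroup Ω} (α : MulAut V) : autFn α 1 = 1 := by
  rw [autFn_of_mem α V.one_mem]
  have e : (⟨1, V.one_mem⟩ : V) = 1 := rfl
  rw [e, map_one]
  rfl

/-- the maps of a pearl system: conjugations by elements of `S`, and maps `c_h ∘ α ∘ c_g` with `α ∈ A` on
subgroups conjugate into `V` -/
def PMor (S V : Subgroup Ω) (A : Subgroup (MulAut V)) (P : Subgroup Ω) (f : Ω → Ω) : Prop :=
  (∃ g ∈ S, ∀ x ∈ P, f x = g * x * g⁻¹) ∨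
  (∃ g ∈ S, ∃ h ∈ S, ∃ α ∈ A, (∀ x ∈ P, g * x * g⁻¹ ∈ V) ∧
    ∀ x ∈ P, f x = h * autFn α (g * x * g⁻¹) * h⁻¹)

variable {S V : Subgroup Ω} {A : Subgroup (MulAut V)} {P Q : Subgroup Ω} {f f₂ : Ω → Ω}

theorem PMor.congr {f' : Ω → Ω} (h : PMor S V A P f) (hff : ∀ x ∈ P, f x = f' x) :
    PMor S V A P f' := by
  rcases h with ⟨g, hg, e⟩ | ⟨g, hg, h, hh, α, hα, hV, e⟩
  · exact Or.inl ⟨g, hg, fun x hx => by rw [← hff x hx]; exact e x hx⟩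
  · exact Or.inr ⟨g, hg, h, hh, α, hα, hV, fun x hx => by rw [← hff x hx]; exact e x hx⟩

theorem PMor.mem (hVS : V ≤ S) (h : PMor S V A P f) (hP : P ≤ S) {x : Ω} (hx : x ∈ P) :
    f x ∈ S := by
  rcases h with ⟨g, hg, e⟩ | ⟨g, hg, h, hh, α, hα, hV, e⟩
  · rw [e x hx]
    exact S.mul_mem (S.mul_mem hg (hP hx)) (S.inv_mem hg)
  · rw [e x hx]
    exact S.mul_mem (S.mul_mem hh (hVS (autFn_mem α (hV x hx)))) (S.inv_mem hh)

theorem PMor.inj (h : PMor S V A P f) {x y : Ω} (hx : x ∈ P) (hy : y ∈ P) (hxy : f x = f y) :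
    x = y := by
  rcases h with ⟨g, hg, e⟩ | ⟨g, hg, h, hh, α, hα, hV, e⟩
  · rw [e x hx, e y hy] at hxy
    exact mul_left_cancel (mul_right_cancel hxy)
  · rw [e x hx, e y hy] at hxy
    have h1 := autFn_injOn α (hV x hx) (hV y hy) (mul_left_cancel (mul_right_cancel hxy))
    exact mul_left_cancel (mul_right_cancel h1)

theorem PMor.map_mul (h : PMor S V A P f) {x y : Ω} (hx : x ∈ P) (hy : y ∈ P) :
    f (x * y) = f x * f y := by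
  rcases h with ⟨g, hg, e⟩ | ⟨g, hg, h', hh, α, hα, hV, e⟩
  · rw [e x hx, e y hy, e _ (P.mul_mem hx hy)]
    group
  · rw [e x hx, e y hy, e _ (P.mul_mem hx hy)]
    have e1 : g * (x * y) * g⁻¹ = (g * x * g⁻¹) * (g * y * g⁻¹) := by group
    rw [e1, autFn_map_mul α (hV x hx) (hV y hy)]
    group

theorem PMor.comp
    (hK : ∀ w ∈ S, ∃ β ∈ A, ∀ v ∈ V, w * v * w⁻¹ ∈ V → autFn β v = w * v * w⁻¹)
    (h₁ : PMor S V A P f) (hPQ : ∀ x ∈ P, f x ∈ Q) (h₂ : PMor S V A Q f₂) :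
    PMor S V A P (f₂ ∘ f) := by
  rcases h₁ with ⟨g₁, hg₁, e₁⟩ | ⟨g₁, hg₁, h₁, hh₁, α₁, hα₁, hV₁, e₁⟩
  · rcases h₂ with ⟨g₂, hg₂, e₂⟩ | ⟨g₂, hg₂, h₂, hh₂, α₂, hα₂, hV₂, e₂⟩
    · refine Or.inl ⟨g₂ * g₁, S.mul_mem hg₂ hg₁, fun x hx => ?_⟩
      show f₂ (f x) = _
      rw [e₂ _ (hPQ x hx), e₁ x hx]
      group
    · have e : ∀ x : Ω, g₂ * g₁ * x * (g₂ * g₁)⁻¹ = g₂ * (g₁ * x * g₁⁻¹) * g₂⁻¹ := by
        intro x; group
      refine Or.inr ⟨g₂ * g₁, S.mul_mem hg₂ hg₁, h₂, hh₂, α₂, hα₂, fun x hx => ?_, fun x hx => ?_⟩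
      · have h3 := hV₂ _ (hPQ x hx)
        rw [e₁ x hx] at h3
        rw [e]
        exact h3
      · show f₂ (f x) = _
        rw [e₂ _ (hPQ x hx), e₁ x hx, e]
  · rcases h₂ with ⟨g₂, hg₂, e₂⟩ | ⟨g₂, hg₂, h₂, hh₂, α₂, hα₂, hV₂, e₂⟩
    · refine Or.inr ⟨g₁, hg₁, g₂ * h₁, S.mul_mem hg₂ hh₁, α₁, hα₁, hV₁, fun x hx => ?_⟩
      show f₂ (f x) = _
      rw [e₂ _ (hPQ x hx), e₁ x hx]
      group
    · obtain ⟨β, hβ, hβe⟩ := hK (g₂ * h₁) (S.mul_mem hg₂ hh₁)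
      refine Or.inr ⟨g₁, hg₁, h₂, hh₂, α₂ * β * α₁, A.mul_mem (A.mul_mem hα₂ hβ) hα₁, hV₁,
        fun x hx => ?_⟩
      show f₂ (f x) = _
      have hu : g₁ * x * g₁⁻¹ ∈ V := hV₁ x hx
      have hv : autFn α₁ (g₁ * x * g₁⁻¹) ∈ V := autFn_mem α₁ hu
      have h3 : g₂ * f x * g₂⁻¹ ∈ V := hV₂ _ (hPQ x hx)
      have e3 : g₂ * f x * g₂⁻¹ = g₂ * h₁ * autFn α₁ (g₁ * x * g₁⁻¹) * (g₂ * h₁)⁻¹ := by
        rw [e₁ x hx]; group
      rw [e3] at h3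
      have h4 := hβe _ hv h3
      rw [e₂ _ (hPQ x hx), e3, ← h4, autFn_mul_apply _ _ hu, autFn_mul_apply _ _ hv]

theorem PMor.exists_inv (h : PMor S V A P f) :
    ∃ f' : Ω → Ω, (∀ R : Subgroup Ω, (∀ y ∈ R, ∃ x ∈ P, f x = y) → PMor S V A R f') ∧
      ∀ x ∈ P, f' (f x) = x := by
  rcases h with ⟨g, hg, e⟩ | ⟨g, hg, h, hh, α, hα, hV, e⟩
  · refine ⟨fun y => g⁻¹ * y * g⁻¹⁻¹, fun R _ => Or.inl ⟨g⁻¹, S.inv_mem hg, fun y _ => rfl⟩,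
      fun x hx => ?_⟩
    show g⁻¹ * f x * g⁻¹⁻¹ = x
    rw [e x hx]
    group
  · have e1 : ∀ u : Ω, h⁻¹ * (h * u * h⁻¹) * h⁻¹⁻¹ = u := by intro u; group
    refine ⟨fun y => g⁻¹ * autFn α⁻¹ (h⁻¹ * y * h⁻¹⁻¹) * g⁻¹⁻¹, fun R hR => Or.inr
      ⟨h⁻¹, S.inv_mem hh, g⁻¹, S.inv_mem hg, α⁻¹, A.inv_mem hα, fun y hy => ?_, fun y _ => rfl⟩,
      fun x hx => ?_⟩
    · obtain ⟨x, hx, rfl⟩ := hR y hy
      rw [e x hx, e1]
      exact autFn_mem α (hV x hx)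
    · show g⁻¹ * autFn α⁻¹ (h⁻¹ * f x * h⁻¹⁻¹) * g⁻¹⁻¹ = x
      rw [e x hx, e1, autFn_inv_apply α (hV x hx)]
      group

/-- the pearl fusion system generated by `Inn(S)` and a group `A` of automorphisms of `V` -/
def pearlSys (S V : Subgroup Ω) (A : Subgroup (MulAut V)) (hVS : V ≤ S)
    (hK : ∀ w ∈ S, ∃ β ∈ A, ∀ v ∈ V, w * v * w⁻¹ ∈ V → autFn β v = w * v * w⁻¹) :
    FusionSystem S where
  Hom P := {φ | P ≤ S ∧ PMor S V A P (fn φ)}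
  le_of_mem := by
    rintro P φ ⟨hP, h⟩
    exact ⟨hP, fun x => by rw [← fn_apply φ x]; exact h.mem hVS hP x.2⟩
  injective_of_mem := by
    rintro P φ ⟨hP, h⟩ a b hab
    rw [← fn_apply φ a, ← fn_apply φ b] at hab
    exact Subtype.ext (h.inj a.2 b.2 hab)
  conj_mem := by
    intro P g hP hg
    exact ⟨hP, Or.inl ⟨g, hg, fun x hx => by rw [fn_of_mem _ hx]; rfl⟩⟩
  comp_mem := by
    rintro P Q φ ψ ⟨hP, h1⟩ ⟨hQ, h2⟩ h
    refine ⟨hP, (h1.comp hK (fun x hx => by rw [fn_of_mem φ hx]; exact h ⟨x, hx⟩) h2).congr ?_⟩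
    intro x hx
    show fn ψ (fn φ x) = fn (ψ.comp (φ.codRestrict Q h)) x
    rw [fn_of_mem φ hx, fn_of_mem ψ (h ⟨x, hx⟩), fn_of_mem _ hx]
    rfl
  inv_mem := by
    rintro P φ ⟨hP, h1⟩
    have hinj : Function.Injective φ := by
      intro a b hab
      rw [← fn_apply φ a, ← fn_apply φ b] at hab
      exact Subtype.ext (h1.inj a.2 b.2 hab)
    obtain ⟨f', hf', hff'⟩ := h1.exists_inv
    obtain ⟨e, he⟩ : ∃ e : P ≃* φ.range, ∀ x : P, ((e x : φ.range) : Ω) = φ x :=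
      ⟨MonoidHom.ofInjective hinj, fun x => rfl⟩
    have hesymm : ∀ x : P, e.symm ⟨φ x, ⟨x, rfl⟩⟩ = x := by
      intro x
      apply e.injective
      rw [MulEquiv.apply_symm_apply]
      exact Subtype.ext (he x).symm
    refine ⟨P.subtype.comp e.symm.toMonoidHom, ⟨?_, ?_⟩, fun x => ?_⟩
    · rintro _ ⟨x, rfl⟩
      rw [← fn_apply φ x]
      exact h1.mem hVS hP x.2
    · apply (hf' φ.range ?_).congr
      · rintro y ⟨x, rfl⟩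
        have hmem : φ x ∈ φ.range := ⟨x, rfl⟩
        rw [fn_of_mem _ hmem]
        show f' (φ x) = ((e.symm ⟨φ x, ⟨x, rfl⟩⟩ : P) : Ω)
        rw [hesymm, ← fn_apply φ x, hff' x x.2]
      · rintro y ⟨x, rfl⟩
        exact ⟨x, x.2, fn_apply φ x⟩
    · show ((e.symm ⟨φ x, ⟨x, rfl⟩⟩ : P) : Ω) = x
      rw [hesymm]

variable {hVS : V ≤ S}
  {hK : ∀ w ∈ S, ∃ β ∈ A, ∀ v ∈ V, w * v * w⁻¹ ∈ V → autFn β v = w * v * w⁻¹}

theorem mor_pearl_iff : Mor (pearlSys S V A hVS hK) P f ↔ P ≤ S ∧ PMor S V A P f := by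
  constructor
  · rintro ⟨φ, ⟨hP, h⟩, hf⟩
    exact ⟨hP, h.congr (fun x hx => by rw [fn_of_mem φ hx]; exact hf ⟨x, hx⟩)⟩
  · rintro ⟨hP, h⟩
    obtain ⟨φ, hφ⟩ : ∃ φ : P →* Ω, ∀ x : P, φ x = f x :=
      ⟨MonoidHom.mk' (fun x : P => f x) (fun a b => h.map_mul a.2 b.2), fun x => rfl⟩
    exact ⟨φ, ⟨hP, h.congr (fun x hx => by rw [fn_of_mem φ hx]; exact (hφ ⟨x, hx⟩).symm)⟩, hφ⟩

end Cfsg.Agent.Helper27
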