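import Cfsg.Agent.Helper27.PearlGen

set_option autoImplicit false

namespace Cfsg.Agent.Helper27

open Cfsg Cfsg.FusionSystem

variable {Ω : Type*} [Group Ω] {S V : Subgroup Ω} {A : Subgroup (MulAut V)} {hVS : V ≤ S}
  {hK : ∀ w ∈ S, ∃ β ∈ A, ∀ v ∈ V, w * v * w⁻¹ ∈ V → autFn β v = w * v * w⁻¹}

theorem pearl_type_one (hSV : ¬ S ≤ V) {f : Ω → Ω} (h : PMor S V A S f) :
    ∃ g ∈ S, ∀ x ∈ S, f x = g * x * g⁻¹ := by
  rcases h with h | ⟨g, hg, h, hh, α, hα, hV, e⟩
  · exact h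
  · exfalso
    apply hSV
    intro s hs
    have h1 := hV (g⁻¹ * s * g) (S.mul_mem (S.mul_mem (S.inv_mem hg) hs) hg)
    have e1 : g * (g⁻¹ * s * g) * g⁻¹ = s := by group
    rwa [e1] at h1

/-- saturation of a pearl system -/
theorem pearl_saturated [Finite S] (p : ℕ) [Fact p.Prime] (hS : IsPGroup p S) (hSV : ¬ S ≤ V)
    (hN : ∀ α ∈ A, ∀ x₀ ∈ S, x₀ ∉ V → (∀ v ∈ V, x₀ * v * x₀⁻¹ ∈ V) → ∀ y ∈ S,
      (∀ v ∈ V, autFn α (x₀ * v * x₀⁻¹) = y * autFn α v * y⁻¹) →
        ∃ w ∈ S, ∀ v ∈ V, autFn α v = w * v * w⁻¹)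
    (hE : ∀ α ∈ A, ∀ Q₀ : Subgroup Ω, Q₀ ≤ V → Q₀ ≠ V →
      (∀ n ∈ S, (∀ v ∈ Q₀, n * v * n⁻¹ ∈ Q₀) → n ∈ V) ∨
      ((∀ n ∈ S, ∀ v ∈ Q₀, n * v * n⁻¹ ∈ Q₀) ∧
        ((∀ n ∈ S, ∀ v ∈ Q₀, ∃ v' ∈ Q₀, autFn α v' = n * autFn α v * n⁻¹) →
          ∃ w ∈ S, ∀ v ∈ Q₀, autFn α v = w * v * w⁻¹))) :
    (pearlSys S V A hVS hK).IsSaturated p := by
  rw [Helper26.saturated_iff_rs p hS]
  refine ⟨⟨le_rfl, ?_⟩, ?_⟩
  · have hle : (pearlSys S V A hVS hK).autGroup S ≤ Inn S := by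
      intro α hα
      rw [mem_autGroup_iff le_rfl, mor_pearl_iff] at hα
      obtain ⟨g, hg, e⟩ := pearl_type_one hSV hα.2
      rw [mem_Inn_iff]
      exact ⟨g, hg, fun x => by rw [← autFn_apply α x]; exact e x x.2⟩
    have htop : (Inn S).subgroupOf ((pearlSys S V A hVS hK).autGroup S) = ⊤ :=
      Subgroup.subgroupOf_eq_top.mpr hle
    have hidx' : ¬ p ∣ ((Inn S).subgroupOf ((pearlSys S V A hVS hK).autGroup S)).index := by
      rw [htop, Subgroup.index_top]
      exact (Fact.out : p.Prime).not_dvd_one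
    have hp : IsPGroup p ((Inn S).subgroupOf ((pearlSys S V A hVS hK).autGroup S)) :=
      (isPGroup_Inn hS).comap_subtype
    refine ⟨hp.toSylow hidx', ?_⟩
    rw [IsPGroup.toSylow_coe, autInducedBy_self]
  · intro P hPn
    rw [receptive_iff]
    refine ⟨hPn.1, ?_⟩
    intro Q f hf himg
    have hfQ := hf
    obtain ⟨hQ, hpm⟩ := mor_pearl_iff.mp hf
    have hextS : ext S Q f ≤ S := fun x hx => (mem_ext.mp hx).1
    have htype1 : ∀ w ∈ S, (∀ x ∈ Q, f x = w * x * w⁻¹) →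
        ∃ f', Mor (pearlSys S V A hVS hK) (ext S Q f) f' ∧ ∀ x ∈ Q, f' x = f x := by
      intro w hw e
      exact ⟨fun x => w * x * w⁻¹, mor_pearl_iff.mpr ⟨hextS, Or.inl ⟨w, hw, fun x _ => rfl⟩⟩,
        fun x hx => (e x hx).symm⟩
    rcases hpm with ⟨g, hg, e⟩ | ⟨g, hg, h, hh, α, hα, hV, e⟩
    · exact htype1 g hg e
    · have econj : ∀ x q : Ω, (g * x * g⁻¹) * (g * q * g⁻¹) * (g * x * g⁻¹)⁻¹ =
          g * (x * q * x⁻¹) * g⁻¹ := by
        intro x q; group
      by_cases hfull : ∀ v ∈ V, ∃ x ∈ Q, g * x * g⁻¹ = v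
      · by_cases hx : ∃ x ∈ ext S Q f, x ∉ Q
        · obtain ⟨x, hxe, hxQ⟩ := hx
          obtain ⟨hxS, hxN, y, hy, hxy⟩ := mem_ext.mp hxe
          have hx₀V : g * x * g⁻¹ ∉ V := by
            intro hin
            obtain ⟨q, hq, hqe⟩ := hfull _ hin
            have hqx : q = x := mul_left_cancel (mul_right_cancel hqe)
            exact hxQ (hqx ▸ hq)
          have hx₀n : ∀ v ∈ V, (g * x * g⁻¹) * v * (g * x * g⁻¹)⁻¹ ∈ V := by
            intro v hv
            obtain ⟨q, hq, rfl⟩ := hfull v hv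
            have h1 : x * q * x⁻¹ ∈ Q := (Subgroup.mem_normalizer_iff.mp hxN q).mp hq
            rw [econj]
            exact hV _ h1
          have hrel : ∀ v ∈ V, autFn α ((g * x * g⁻¹) * v * (g * x * g⁻¹)⁻¹) =
              (h⁻¹ * y * h) * autFn α v * (h⁻¹ * y * h)⁻¹ := by
            intro v hv
            obtain ⟨q, hq, rfl⟩ := hfull v hv
            have h1 : x * q * x⁻¹ ∈ Q := (Subgroup.mem_normalizer_iff.mp hxN q).mp hq
            have h2 := hxy q hq
            rw [e _ h1, e q hq] at h2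
            rw [econj]
            calc autFn α (g * (x * q * x⁻¹) * g⁻¹)
                = h⁻¹ * (h * autFn α (g * (x * q * x⁻¹) * g⁻¹) * h⁻¹) * h := by group
              _ = h⁻¹ * (y * (h * autFn α (g * q * g⁻¹) * h⁻¹) * y⁻¹) * h := by rw [h2]
              _ = _ := by group
          obtain ⟨w, hw, hwe⟩ := hN α hα (g * x * g⁻¹)
            (S.mul_mem (S.mul_mem hg hxS) (S.inv_mem hg)) hx₀V hx₀n (h⁻¹ * y * h)
            (S.mul_mem (S.mul_mem (S.inv_mem hh) hy) hh) hrel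
          apply htype1 (h * w * g) (S.mul_mem (S.mul_mem hh hw) hg)
          intro q hq
          rw [e q hq, hwe _ (hV q hq)]
          group
        · push Not at hx
          exact ⟨f, hfQ.restrict (fun x hx' => hx x hx'), fun x _ => rfl⟩
      · obtain ⟨Q₀, hQ₀⟩ : ∃ Q₀ : Subgroup Ω, Q₀ = Q.map (MulAut.conj g).toMonoidHom := ⟨_, rfl⟩
        have hmemQ₀ : ∀ v, v ∈ Q₀ ↔ ∃ q ∈ Q, g * q * g⁻¹ = v := by
          intro v
          rw [hQ₀]
          constructor
          · rintro ⟨q, hq, rfl⟩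
            exact ⟨q, hq, rfl⟩
          · rintro ⟨q, hq, rfl⟩
            exact ⟨q, hq, rfl⟩
        have hQ₀V : Q₀ ≤ V := by
          intro v hv
          obtain ⟨q, hq, rfl⟩ := (hmemQ₀ v).mp hv
          exact hV q hq
        have hQ₀ne : Q₀ ≠ V := by
          intro heq
          apply hfull
          intro v hv
          rw [← heq] at hv
          exact (hmemQ₀ v).mp hv
        rcases hE α hα Q₀ hQ₀V hQ₀ne with hl | ⟨hnorm, hr⟩
        · have hextV : ∀ x ∈ ext S Q f, g * x * g⁻¹ ∈ V := by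
            intro x hxe
            obtain ⟨hxS, hxN, -⟩ := mem_ext.mp hxe
            apply hl _ (S.mul_mem (S.mul_mem hg hxS) (S.inv_mem hg))
            intro v hv
            obtain ⟨q, hq, rfl⟩ := (hmemQ₀ v).mp hv
            have h1 : x * q * x⁻¹ ∈ Q := (Subgroup.mem_normalizer_iff.mp hxN q).mp hq
            rw [econj]
            exact (hmemQ₀ _).mpr ⟨_, h1, rfl⟩
          exact ⟨fun x => h * autFn α (g * x * g⁻¹) * h⁻¹, mor_pearl_iff.mpr ⟨hextS, Or.inr
            ⟨g, hg, h, hh, α, hα, hextV, fun x _ => rfl⟩⟩, fun x hx => (e x hx).symm⟩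
        · have hQn : ∀ n ∈ S, ∀ q ∈ Q, n * q * n⁻¹ ∈ Q := by
            intro n hn q hq
            have h1 := hnorm (g * n * g⁻¹) (S.mul_mem (S.mul_mem hg hn) (S.inv_mem hg))
              (g * q * g⁻¹) ((hmemQ₀ _).mpr ⟨q, hq, rfl⟩)
            obtain ⟨q', hq', hqe⟩ := (hmemQ₀ _).mp h1
            rw [econj] at hqe
            have hqq : q' = n * q * n⁻¹ := mul_left_cancel (mul_right_cancel hqe)
            rw [← hqq]
            exact hq'
          haveI : Finite Q := finite_of_le hQ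
          have hNQ : normalizerIn S Q = S := by
            apply le_antisymm (normalizerIn_le S Q)
            intro n hn
            exact ⟨hn, mem_normalizer_of_forall (hQn n hn)⟩
          have hconj : (pearlSys S V A hVS hK).IsConj P Q :=
            isConj_symm (isConj_iff.mpr ⟨f, hfQ, himg⟩)
          have hcard := hPn.2 Q hconj
          rw [hNQ] at hcard
          have hNP : normalizerIn S P = S :=
            Subgroup.eq_of_le_of_card_ge (normalizerIn_le S P) hcard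
          have hPn' : ∀ n ∈ S, ∀ y ∈ P, n * y * n⁻¹ ∈ P := by
            intro n hn y hy
            exact conj_mem_of_mem_normalizerIn (by rw [hNP]; exact hn) hy
          have hαn : ∀ n ∈ S, ∀ v ∈ Q₀, ∃ v' ∈ Q₀, autFn α v' = n * autFn α v * n⁻¹ := by
            intro n hn v hv
            obtain ⟨q, hq, rfl⟩ := (hmemQ₀ v).mp hv
            have hfq : f q ∈ P := by rw [← himg]; exact apply_mem_img hq
            have h1 := hPn' (h * n * h⁻¹) (S.mul_mem (S.mul_mem hh hn) (S.inv_mem hh)) (f q) hfq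
            rw [← himg] at h1
            obtain ⟨q', hq', hqe⟩ := (hfQ.mem_img).mp h1
            refine ⟨g * q' * g⁻¹, (hmemQ₀ _).mpr ⟨q', hq', rfl⟩, ?_⟩
            rw [e q' hq', e q hq] at hqe
            calc autFn α (g * q' * g⁻¹)
                = h⁻¹ * (h * autFn α (g * q' * g⁻¹) * h⁻¹) * h := by group
              _ = h⁻¹ * (h * n * h⁻¹ * (h * autFn α (g * q * g⁻¹) * h⁻¹) * (h * n * h⁻¹)⁻¹) * h := by
                  rw [hqe]
              _ = _ := by group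
          obtain ⟨w, hw, hwe⟩ := hr hαn
          apply htype1 (h * w * g) (S.mul_mem (S.mul_mem hh hw) hg)
          intro q hq
          rw [e q hq, hwe _ ((hmemQ₀ _).mpr ⟨q, hq, rfl⟩)]
          group

/-- a pearl system with a twist not induced by `S` does not have `S` normal -/
theorem pearl_not_normal (hSV : ¬ S ≤ V)
    (hX : ∃ α ∈ A, ¬ ∃ w ∈ S, ∀ v ∈ V, autFn α v = w * v * w⁻¹) :
    ¬ (pearlSys S V A hVS hK).IsNormal S := by
  intro hn
  obtain ⟨α, hα, hX⟩ := hX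
  have hmor : Mor (pearlSys S V A hVS hK) V (autFn α) :=
    mor_pearl_iff.mpr ⟨hVS, Or.inr ⟨1, S.one_mem, 1, S.one_mem, α, hα,
      fun x hx => by simpa using hx, fun x hx => by simp⟩⟩
  obtain ⟨f', hf', hf'V, -, -⟩ := normal_extend hn hmor
  have hsup : V ⊔ S = S := sup_eq_right.mpr hVS
  rw [hsup] at hf'
  obtain ⟨g, hg, e⟩ := pearl_type_one hSV (mor_pearl_iff.mp hf').2
  exact hX ⟨g, hg, fun v hv => by rw [← hf'V v hv]; exact e v (hVS hv)⟩

end Cfsg.Agent.Helper27
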