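import Cfsg.Agent.Helper27.PearlSat

set_option autoImplicit false

namespace Cfsg.Agent.Helper27

open Cfsg Cfsg.FusionSystem

/-- a transvection of an abelian group with respect to a subgroup of index two -/
theorem exists_transvection {G : Type*} [Group G] (hcomm : ∀ a b : G, a * b = b * a)
    (H₀ : Subgroup G) (hidx : ∀ a b : G, a ∉ H₀ → b ∉ H₀ → a * b ∈ H₀) (u : G) (hu : u ∈ H₀)
    (hu2 : u * u = 1) : ∃ T : MulAut G, ∀ v : G, v ∉ H₀ → T v = v * u := by
  classical
  obtain ⟨f, hf⟩ : ∃ f : G → G, ∀ v, f v = if v ∈ H₀ then v else v * u := ⟨_, fun _ => rfl⟩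
  have hf1 : ∀ v, v ∈ H₀ → f v = v := fun v hv => by rw [hf, if_pos hv]
  have hf2 : ∀ v, v ∉ H₀ → f v = v * u := fun v hv => by rw [hf, if_neg hv]
  have hout : ∀ v, v ∉ H₀ → v * u ∉ H₀ := by
    intro v hv h
    apply hv
    have e : v = v * u * u⁻¹ := by group
    rw [e]
    exact H₀.mul_mem h (H₀.inv_mem hu)
  have hff : ∀ v, f (f v) = v := by
    intro v
    by_cases hv : v ∈ H₀
    · rw [hf1 v hv, hf1 v hv]
    · rw [hf2 v hv, hf2 _ (hout v hv), mul_assoc, hu2, mul_one]
  have hmul : ∀ a b, f (a * b) = f a * f b := by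
    intro a b
    by_cases ha : a ∈ H₀
    · by_cases hb : b ∈ H₀
      · rw [hf1 a ha, hf1 b hb, hf1 _ (H₀.mul_mem ha hb)]
      · have hab : a * b ∉ H₀ := by
          intro h
          apply hb
          have e : b = a⁻¹ * (a * b) := by group
          rw [e]
          exact H₀.mul_mem (H₀.inv_mem ha) h
        rw [hf1 a ha, hf2 b hb, hf2 _ hab, mul_assoc]
    · by_cases hb : b ∈ H₀
      · have hab : a * b ∉ H₀ := by
          intro h
          apply ha
          have e : a = a * b * b⁻¹ := by group
          rw [e]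
          exact H₀.mul_mem h (H₀.inv_mem hb)
        rw [hf2 a ha, hf1 b hb, hf2 _ hab, mul_assoc, mul_assoc, hcomm b u]
      · rw [hf2 a ha, hf2 b hb, hf1 _ (hidx a b ha hb)]
        calc a * b = a * b * (u * u) := by rw [hu2, mul_one]
          _ = a * (b * u) * u := by simp only [mul_assoc]
          _ = a * (u * b) * u := by rw [hcomm b u]
          _ = a * u * (b * u) := by simp only [mul_assoc]
  refine ⟨{ toFun := f, invFun := f, left_inv := hff, right_inv := hff, map_mul' := hmul }, ?_⟩
  intro v hv
  exact hf2 v hv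

variable {Ω : Type*} [Group Ω]

/-- a `2`-group with a Klein four-subgroup `{1, z, s, zs}`, `z` central, `C_S(s) = V` and `s ~ zs`, has a
saturated fusion system in which it is not normal -/
theorem v4_pearl (S : Subgroup Ω) [Finite S] (hS : IsPGroup 2 S) (z s t : Ω) (hzS : z ∈ S)
    (hsS : s ∈ S) (htS : t ∈ S) (hz2 : z * z = 1) (hs2 : s * s = 1) (hz1 : z ≠ 1) (hs1 : s ≠ 1)
    (hsz : s ≠ z) (hzc : ∀ g ∈ S, g * z = z * g)
    (hcent : ∀ g ∈ S, g * s = s * g → g = 1 ∨ g = z ∨ g = s ∨ g = z * s)
    (ht : t * s * t⁻¹ = z * s) :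
    ∃ F : FusionSystem S, F.IsSaturated 2 ∧ ¬ F.IsNormal S := by
  have hsz' : s * z = z * s := hzc s hsS
  have e1 : z * (z * s) = s := by rw [← mul_assoc, hz2, one_mul]
  have e3 : s * (z * s) = z := by rw [← mul_assoc, hsz', mul_assoc, hs2, mul_one]
  have e4 : z * s * z = s := by rw [mul_assoc, hsz', ← mul_assoc, hz2, one_mul]
  have e5 : z * s * s = z := by rw [mul_assoc, hs2, mul_one]
  have e6 : z * s * (z * s) = 1 := by rw [mul_assoc, e3, hz2]
  have hzs1 : z * s ≠ 1 := by
    intro h
    apply hsz
    have h2 : z * (z * s) = z * 1 := by rw [h]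
    rw [e1, mul_one] at h2
    exact h2
  have hzsz : z * s ≠ z := by
    intro h
    apply hs1
    have h2 : z * (z * s) = z * z := by rw [h]
    rw [e1, hz2] at h2
    exact h2
  have hzss : z * s ≠ s := by
    intro h
    apply hz1
    have h2 : z * s * s = s * s := by rw [h]
    rw [e5, hs2] at h2
    exact h2
  have hzinv : z⁻¹ = z := inv_eq_of_mul_eq_one_left hz2
  have hsinv : s⁻¹ = s := inv_eq_of_mul_eq_one_left hs2
  obtain ⟨V, hmemV⟩ : ∃ V : Subgroup Ω, ∀ x, x ∈ V ↔ x = 1 ∨ x = z ∨ x = s ∨ x = z * s :=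
    ⟨{ carrier := {x | x = 1 ∨ x = z ∨ x = s ∨ x = z * s}
       one_mem' := Or.inl rfl
       mul_mem' := by
         rintro a b ha hb
         rcases ha with rfl | rfl | rfl | rfl
         · rw [one_mul]; exact hb
         · rcases hb with rfl | rfl | rfl | rfl
           · exact Or.inr (Or.inl (mul_one _))
           · exact Or.inl hz2
           · exact Or.inr (Or.inr (Or.inr rfl))
           · exact Or.inr (Or.inr (Or.inl e1))
         · rcases hb with rfl | rfl | rfl | rfl
           · exact Or.inr (Or.inr (Or.inl (mul_one _)))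
           · exact Or.inr (Or.inr (Or.inr hsz'))
           · exact Or.inl hs2
           · exact Or.inr (Or.inl e3)
         · rcases hb with rfl | rfl | rfl | rfl
           · exact Or.inr (Or.inr (Or.inr (mul_one _)))
           · exact Or.inr (Or.inr (Or.inl e4))
           · exact Or.inr (Or.inl e5)
           · exact Or.inl e6
       inv_mem' := by
         rintro a ha
         rcases ha with rfl | rfl | rfl | rfl
         · exact Or.inl inv_one
         · exact Or.inr (Or.inl hzinv)
         · exact Or.inr (Or.inr (Or.inl hsinv))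
         · exact Or.inr (Or.inr (Or.inr (inv_eq_of_mul_eq_one_left e6))) }, fun x => Iff.rfl⟩
  have h1V : (1 : Ω) ∈ V := V.one_mem
  have hzV : z ∈ V := (hmemV z).mpr (Or.inr (Or.inl rfl))
  have hsV : s ∈ V := (hmemV s).mpr (Or.inr (Or.inr (Or.inl rfl)))
  have hzsV : z * s ∈ V := (hmemV _).mpr (Or.inr (Or.inr (Or.inr rfl)))
  have hVS : V ≤ S := by
    intro x hx
    rcases (hmemV x).mp hx with rfl | rfl | rfl | rfl
    · exact S.one_mem
    · exact hzS
    · exact hsS
    · exact S.mul_mem hzS hsS
  haveI : Finite V := finite_of_le hVS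
  have hcz : ∀ g ∈ S, g * z * g⁻¹ = z := by
    intro g hg
    rw [hzc g hg, mul_inv_cancel_right]
  have hczs : ∀ g : Ω, g ∈ S → g * (z * s) * g⁻¹ = z * (g * s * g⁻¹) := by
    intro g hg
    rw [← mul_assoc, hzc g hg]
    group
  have hcentV : ∀ g ∈ S, g * s * g⁻¹ = s → g ∈ V := by
    intro g hg h
    apply (hmemV g).mpr
    apply hcent g hg
    rw [← h, inv_mul_cancel_right, h]
  have hts : t * (z * s) * t⁻¹ = s := by rw [hczs t htS, ht, e1]
  have htV : t ∉ V := by
    intro h
    have hc : t * s * t⁻¹ = s := by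
      rcases (hmemV t).mp h with h' | h' | h' | h'
      · rw [h']; group
      · rw [h', hzinv, e4]
      · rw [h']; group
      · rw [h', inv_eq_of_mul_eq_one_left e6, e5, e1]
    rw [ht] at hc
    exact hzss hc
  have hSV : ¬ S ≤ V := fun h => htV (h htS)
  have hK : ∀ w ∈ S, ∃ β ∈ (⊤ : Subgroup (MulAut V)), ∀ v ∈ V, w * v * w⁻¹ ∈ V →
      autFn β v = w * v * w⁻¹ := by
    intro w hwS
    by_cases hw : w * s * w⁻¹ ∈ V
    · have hwn : ∀ v ∈ V, w * v * w⁻¹ ∈ V := by
        intro v hv
        rcases (hmemV v).mp hv with rfl | rfl | rfl | rfl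
        · rw [mul_one, mul_inv_cancel]; exact h1V
        · rw [hcz w hwS]; exact hzV
        · exact hw
        · rw [hczs w hwS]; exact V.mul_mem hzV hw
      refine ⟨conjAut V w (mem_normalizer_of_forall hwn), Subgroup.mem_top _, fun v hv _ => ?_⟩
      rw [autFn_of_mem _ hv]
      rfl
    · refine ⟨1, Subgroup.mem_top _, ?_⟩
      intro v hv hvw
      rcases (hmemV v).mp hv with rfl | rfl | rfl | rfl
      · rw [autFn_one_apply h1V, mul_one, mul_inv_cancel]
      · rw [autFn_one_apply hzV, hcz w hwS]
      · exact absurd hvw hw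
      · exfalso
        apply hw
        rw [hczs w hwS] at hvw
        have e : w * s * w⁻¹ = z * (z * (w * s * w⁻¹)) := by rw [← mul_assoc, hz2, one_mul]
        rw [e]
        exact V.mul_mem hzV hvw
  have hN : ∀ α ∈ (⊤ : Subgroup (MulAut V)), ∀ x₀ ∈ S, x₀ ∉ V → (∀ v ∈ V, x₀ * v * x₀⁻¹ ∈ V) →
      ∀ y ∈ S, (∀ v ∈ V, autFn α (x₀ * v * x₀⁻¹) = y * autFn α v * y⁻¹) →
        ∃ w ∈ S, ∀ v ∈ V, autFn α v = w * v * w⁻¹ := by
    intro α _ x₀ hx₀S hx₀V hx₀n y hyS hrel
    have hx₀s : x₀ * s * x₀⁻¹ = z * s := by
      rcases (hmemV _).mp (hx₀n s hsV) with h | h | h | h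
      · exfalso
        apply hs1
        have e : s = x₀⁻¹ * (x₀ * s * x₀⁻¹) * x₀ := by group
        rw [e, h]; group
      · exfalso
        apply hsz
        have e : s = x₀⁻¹ * (x₀ * s * x₀⁻¹) * x₀ := by group
        rw [e, h]
        have h2 := hcz x₀⁻¹ (S.inv_mem hx₀S)
        rw [inv_inv] at h2
        exact h2
      · exact absurd (hcentV x₀ hx₀S h) hx₀V
      · exact h
    have hx₀zs : x₀ * (z * s) * x₀⁻¹ = s := by rw [hczs x₀ hx₀S, hx₀s, e1]
    have hαz : autFn α z = z := by
      have huV : autFn α⁻¹ z ∈ V := autFn_mem α⁻¹ hzV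
      have hαu : autFn α (autFn α⁻¹ z) = z := autFn_apply_inv α hzV
      have h1 := hrel _ huV
      rw [hαu, hcz y hyS] at h1
      have h2 : x₀ * autFn α⁻¹ z * x₀⁻¹ = autFn α⁻¹ z :=
        autFn_injOn α (hx₀n _ huV) huV (h1.trans hαu.symm)
      rcases (hmemV _).mp huV with h | h | h | h
      · exfalso
        rw [h, autFn_map_one] at hαu
        exact hz1 hαu.symm
      · rw [h] at hαu; exact hαu
      · exfalso
        rw [h, hx₀s] at h2
        exact hzss h2
      · exfalso
        rw [h, hx₀zs] at h2
        exact hzss h2.symm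
    have hαs : autFn α s = s ∨ autFn α s = z * s := by
      rcases (hmemV _).mp (autFn_mem α hsV) with h | h | h | h
      · exfalso
        apply hs1
        exact autFn_injOn α hsV h1V (h.trans (autFn_map_one α).symm)
      · exfalso
        apply hsz
        exact autFn_injOn α hsV hzV (h.trans hαz.symm)
      · exact Or.inl h
      · exact Or.inr h
    rcases hαs with h | h
    · refine ⟨1, S.one_mem, ?_⟩
      intro v hv
      rcases (hmemV v).mp hv with rfl | rfl | rfl | rfl
      · rw [autFn_map_one]; group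
      · rw [hαz]; group
      · rw [h]; group
      · rw [autFn_map_mul α hzV hsV, hαz, h]; group
    · refine ⟨t, htS, ?_⟩
      intro v hv
      rcases (hmemV v).mp hv with rfl | rfl | rfl | rfl
      · rw [autFn_map_one]; group
      · rw [hαz, hcz t htS]
      · rw [h, ht]
      · rw [autFn_map_mul α hzV hsV, hαz, h, hts, e1]
  have hE : ∀ α ∈ (⊤ : Subgroup (MulAut V)), ∀ Q₀ : Subgroup Ω, Q₀ ≤ V → Q₀ ≠ V →
      (∀ n ∈ S, (∀ v ∈ Q₀, n * v * n⁻¹ ∈ Q₀) → n ∈ V) ∨
      ((∀ n ∈ S, ∀ v ∈ Q₀, n * v * n⁻¹ ∈ Q₀) ∧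
        ((∀ n ∈ S, ∀ v ∈ Q₀, ∃ v' ∈ Q₀, autFn α v' = n * autFn α v * n⁻¹) →
          ∃ w ∈ S, ∀ v ∈ Q₀, autFn α v = w * v * w⁻¹)) := by
    intro α _ Q₀ hQ₀V hQ₀ne
    have hfull : z ∈ Q₀ → s ∈ Q₀ → False := by
      intro h1 h2
      apply hQ₀ne
      apply le_antisymm hQ₀V
      intro x hx
      rcases (hmemV x).mp hx with rfl | rfl | rfl | rfl
      · exact Q₀.one_mem
      · exact h1
      · exact h2
      · exact Q₀.mul_mem h1 h2
    by_cases hsQ : s ∈ Q₀
    · left
      intro n hn hnQ
      have h1 := hnQ s hsQ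
      rcases (hmemV _).mp (hQ₀V h1) with h | h | h | h
      · exfalso
        apply hs1
        have e : s = n⁻¹ * (n * s * n⁻¹) * n := by group
        rw [e, h]; group
      · exfalso
        rw [h] at h1
        exact hfull h1 hsQ
      · exact hcentV n hn h
      · exfalso
        rw [h] at h1
        have h2 : z ∈ Q₀ := by
          have e : z = z * s * s := e5.symm
          rw [e]
          exact Q₀.mul_mem h1 hsQ
        exact hfull h2 hsQ
    · by_cases hzsQ : z * s ∈ Q₀
      · left
        intro n hn hnQ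
        have h1 := hnQ _ hzsQ
        rcases (hmemV _).mp (hQ₀V h1) with h | h | h | h
        · exfalso
          apply hzs1
          have e : z * s = n⁻¹ * (n * (z * s) * n⁻¹) * n := by group
          rw [e, h]; group
        · exfalso
          rw [h] at h1
          apply hsQ
          have e : s = z * (z * s) := e1.symm
          rw [e]
          exact Q₀.mul_mem h1 hzsQ
        · exfalso
          rw [h] at h1
          exact hsQ h1
        · apply hcentV n hn
          rw [hczs n hn] at h
          exact mul_left_cancel h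
      · right
        have hQ₀' : ∀ v ∈ Q₀, v = 1 ∨ v = z := by
          intro v hv
          rcases (hmemV v).mp (hQ₀V hv) with h | h | h | h
          · exact Or.inl h
          · exact Or.inr h
          · rw [h] at hv; exact absurd hv hsQ
          · rw [h] at hv; exact absurd hv hzsQ
        refine ⟨?_, ?_⟩
        · intro n hn v hv
          rcases hQ₀' v hv with h | h
          · rw [h, mul_one, mul_inv_cancel]; exact Q₀.one_mem
          · rw [h, hcz n hn, ← h]; exact hv
        · intro hαn
          refine ⟨1, S.one_mem, ?_⟩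
          intro v hv
          rcases hQ₀' v hv with h | h
          · rw [h, autFn_map_one]; group
          · rw [h] at hv ⊢
            obtain ⟨v', hv', hve⟩ := hαn t htS z hv
            have hαzV : autFn α z ∈ V := autFn_mem α hzV
            have hαz1 : autFn α z ≠ 1 := by
              intro h
              exact hz1 (autFn_injOn α hzV h1V (h.trans (autFn_map_one α).symm))
            have hfix : t * autFn α z * t⁻¹ = autFn α z := by
              rcases hQ₀' v' hv' with h' | h'
              · exfalso
                rw [h', autFn_map_one] at hve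
                apply hαz1
                have e : autFn α z = t⁻¹ * (t * autFn α z * t⁻¹) * t := by group
                rw [e, ← hve]; group
              · rw [h'] at hve
                exact hve.symm
            have hαz : autFn α z = z := by
              rcases (hmemV _).mp hαzV with h | h | h | h
              · exact absurd h hαz1
              · exact h
              · exfalso
                rw [h, ht] at hfix
                exact hzss hfix
              · exfalso
                rw [h, hts] at hfix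
                exact hzss hfix.symm
            rw [hαz]; group
  have hX : ∃ α ∈ (⊤ : Subgroup (MulAut V)), ¬ ∃ w ∈ S, ∀ v ∈ V, autFn α v = w * v * w⁻¹ := by
    have hcommV : ∀ a b : V, a * b = b * a := by
      intro a b
      apply Subtype.ext
      show (a : Ω) * (b : Ω) = (b : Ω) * (a : Ω)
      rcases (hmemV _).mp a.2 with h | h | h | h
      · rw [h, one_mul, mul_one]
      · rw [h]; exact (hzc _ (hVS b.2)).symm
      · rcases (hmemV _).mp b.2 with h' | h' | h' | h'
        · rw [h', one_mul, mul_one]
        · rw [h, h']; exact hsz'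
        · rw [h, h']
        · rw [h, h', e3, e5]
      · rcases (hmemV _).mp b.2 with h' | h' | h' | h'
        · rw [h', one_mul, mul_one]
        · rw [h, h', e4, e1]
        · rw [h, h', e3, e5]
        · rw [h, h']
    obtain ⟨H₀, hH₀⟩ : ∃ H₀ : Subgroup V, ∀ v : V, v ∈ H₀ ↔ (v : Ω) = 1 ∨ (v : Ω) = s :=
      ⟨{ carrier := {v | (v : Ω) = 1 ∨ (v : Ω) = s}
         one_mem' := Or.inl rfl
         mul_mem' := by
           rintro a b ha hb
           show ((a : Ω) * (b : Ω)) = 1 ∨ ((a : Ω) * (b : Ω)) = s
           rcases ha with h | h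
           · rw [h, one_mul]; exact hb
           · rcases hb with h' | h'
             · rw [h', mul_one]; exact Or.inr h
             · rw [h, h']; exact Or.inl hs2
         inv_mem' := by
           rintro a ha
           show ((a : Ω)⁻¹) = 1 ∨ ((a : Ω)⁻¹) = s
           rcases ha with h | h
           · rw [h]; exact Or.inl inv_one
           · rw [h]; exact Or.inr hsinv }, fun v => Iff.rfl⟩
    have hidx : ∀ a b : V, a ∉ H₀ → b ∉ H₀ → a * b ∈ H₀ := by
      intro a b ha hb
      rw [hH₀] at ha hb ⊢
      show ((a : Ω) * (b : Ω)) = 1 ∨ ((a : Ω) * (b : Ω)) = s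
      push Not at ha hb
      have ha' : (a : Ω) = z ∨ (a : Ω) = z * s := by
        rcases (hmemV _).mp a.2 with h | h | h | h
        · exact absurd h ha.1
        · exact Or.inl h
        · exact absurd h ha.2
        · exact Or.inr h
      have hb' : (b : Ω) = z ∨ (b : Ω) = z * s := by
        rcases (hmemV _).mp b.2 with h | h | h | h
        · exact absurd h hb.1
        · exact Or.inl h
        · exact absurd h hb.2
        · exact Or.inr h
      rcases ha' with h | h
      · rcases hb' with h' | h'
        · rw [h, h']; exact Or.inl hz2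
        · rw [h, h']; exact Or.inr e1
      · rcases hb' with h' | h'
        · rw [h, h']; exact Or.inr e4
        · rw [h, h']; exact Or.inl e6
    obtain ⟨T, hT⟩ := exists_transvection hcommV H₀ hidx ⟨s, hsV⟩ ((hH₀ _).mpr (Or.inr rfl))
      (Subtype.ext hs2)
    refine ⟨T, Subgroup.mem_top _, ?_⟩
    rintro ⟨w, hw, hwe⟩
    have h1 := hwe z hzV
    rw [hcz w hw, autFn_of_mem T hzV] at h1
    have hzH : (⟨z, hzV⟩ : V) ∉ H₀ := by
      rw [hH₀]
      push Not
      exact ⟨hz1, fun h => hsz h.symm⟩
    rw [hT _ hzH] at h1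
    exact hzsz h1
  exact ⟨pearlSys S V ⊤ hVS hK, pearl_saturated 2 hS hSV hN hE, pearl_not_normal hSV hX⟩

end Cfsg.Agent.Helper27
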