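import Mathlib
import Cfsg.Agent.S0012
import Cfsg.Agent.Helper27.OrderPCube

set_option autoImplicit false

namespace Cfsg.Agent.Helper27

open Cfsg
open scoped IsMulCommutative

section abelian

variable {G : Type*} [Group G] [IsMulCommutative G] [Finite G]

/-- Burnside: a `p'`-automorphism of an abelian `p`-group acting trivially on the Frattini quotient is trivial -/
theorem burnside_abelian {p : ℕ} [Fact p.Prime] (hG : IsPGroup p G) (α : MulAut G)
    (hα : (orderOf α).Coprime p) (h : ∀ x : G, x⁻¹ * α x ∈ frattini G) : α = 1 := by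
  have hΦinv : ∀ β : MulAut G, ∀ x ∈ frattini G, β x ∈ frattini G := by
    intro β x hx
    have h1 := Subgroup.characteristic_iff_map_le.mp (frattini_characteristic (G := G)) β
    exact h1 (Subgroup.mem_map_of_mem _ hx)
  have hpow : ∀ (i : ℕ) (x : G), x⁻¹ * (α ^ i) x ∈ frattini G := by
    intro i
    induction i with
    | zero => intro x; simp
    | succ i ih =>
      intro x
      have e : x⁻¹ * (α ^ (i + 1)) x = (x⁻¹ * α x) * α (x⁻¹ * (α ^ i) x) := by
        rw [pow_succ', MulAut.mul_apply, map_mul, map_inv]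
        group
      rw [e]
      exact Subgroup.mul_mem _ (h x) (hΦinv α _ (ih x))
  obtain ⟨ν, hν⟩ : ∃ ν : G → G, ∀ x, ν x = ∏ i ∈ Finset.range (orderOf α), (α ^ i) x := ⟨_, fun _ => rfl⟩
  have hνfix : ∀ x, α (ν x) = ν x := by
    intro x
    rw [hν, map_prod]
    have h1 : ∀ i, α ((α ^ i) x) = (α ^ (i + 1)) x := by
      intro i
      rw [pow_succ', MulAut.mul_apply]
    simp only [h1]
    have h2 := Finset.prod_range_succ' (fun i => (α ^ i) x) (orderOf α)
    have h3 := Finset.prod_range_succ (fun i => (α ^ i) x) (orderOf α)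
    rw [h2] at h3
    simp only [pow_orderOf_eq_one, pow_zero] at h3
    exact mul_right_cancel h3
  have hνmem : ∀ x, (x ^ orderOf α)⁻¹ * ν x ∈ frattini G := by
    intro x
    have e : ν x = x ^ orderOf α * ∏ i ∈ Finset.range (orderOf α), (x⁻¹ * (α ^ i) x) := by
      rw [hν, Finset.prod_mul_distrib, Finset.prod_const, Finset.card_range]
      simp
    rw [e, inv_mul_cancel_left]
    exact Subgroup.prod_mem _ (fun i _ => hpow i x)
  have hC : MonoidHom.eqLocus α.toMonoidHom (MonoidHom.id G) ⊔ frattini G = ⊤ := by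
    rw [eq_top_iff]
    intro x _
    obtain ⟨y, rfl⟩ := (hG.powEquiv hα.symm).surjective x
    rw [IsPGroup.powEquiv_apply]
    have h1 : ν y ∈ MonoidHom.eqLocus α.toMonoidHom (MonoidHom.id G) := hνfix y
    have h2 := hνmem y
    have e : y ^ orderOf α = ν y * ((y ^ orderOf α)⁻¹ * ν y)⁻¹ := by group
    rw [e]
    exact Subgroup.mul_mem _ (Subgroup.mem_sup_left h1)
      (Subgroup.mem_sup_right (Subgroup.inv_mem _ h2))
  have hC' := frattini_nongenerating hC
  ext x
  have h1 : x ∈ MonoidHom.eqLocus α.toMonoidHom (MonoidHom.id G) := by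
    rw [hC']; exact Subgroup.mem_top x
  exact h1

/-- a `p'`-automorphism stabilizing a chain from the Frattini subgroup to the top is trivial -/
theorem aut_eq_one_of_frattini_chain {p : ℕ} [Fact p.Prime] (hG : IsPGroup p G) (α : MulAut G)
    (hα : (orderOf α).Coprime p) (n : ℕ) (D : ℕ → Subgroup G) (h0 : D 0 = frattini G)
    (hn : D n = ⊤) (hstab : ∀ i, ∀ x ∈ D (i + 1), x⁻¹ * α x ∈ D i) : α = 1 := by
  have hΦinv : ∀ x ∈ frattini G, α x ∈ frattini G := by
    intro x hx
    have h1 := Subgroup.characteristic_iff_map_le.mp (frattini_characteristic (G := G)) α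
    exact h1 (Subgroup.mem_map_of_mem _ hx)
  have key : ∀ i, ∀ x ∈ D i, x⁻¹ * α x ∈ frattini G := by
    intro i
    induction i with
    | zero =>
      intro x hx
      rw [h0] at hx
      exact Subgroup.mul_mem _ (Subgroup.inv_mem _ hx) (hΦinv x hx)
    | succ i ih =>
      intro x hx
      obtain ⟨c, hc⟩ : ∃ c, c = x⁻¹ * α x := ⟨_, rfl⟩
      have hcD : c ∈ D i := hc ▸ hstab i x hx
      have hc' : c⁻¹ * α c ∈ frattini G := ih c hcD
      have hax : α x = x * c := by rw [hc]; group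
      have hq : ∀ z z' : G, (z : G ⧸ frattini G) = z' →
          ((α z : G) : G ⧸ frattini G) = (α z' : G) := by
        intro z z' hzz
        rw [QuotientGroup.eq] at hzz ⊢
        rw [← map_inv, ← map_mul]
        exact hΦinv _ hzz
      have hqc : ((α c : G) : G ⧸ frattini G) = (c : G) := (QuotientGroup.eq.mpr hc').symm
      have hj : ∀ j : ℕ, (((α ^ j) x : G) : G ⧸ frattini G) =
          (x : G ⧸ frattini G) * (c : G ⧸ frattini G) ^ j := by
        intro j
        induction j with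
        | zero => simp
        | succ j ihj =>
          rw [pow_succ', MulAut.mul_apply]
          have h1 := hq ((α ^ j) x) (x * c ^ j) (by
            rw [ihj, QuotientGroup.mk_mul, QuotientGroup.mk_pow])
          rw [h1, map_mul, map_pow, hax, QuotientGroup.mk_mul, QuotientGroup.mk_mul,
            QuotientGroup.mk_pow, hqc, pow_succ', mul_assoc]
      have h3 : ((c : G) : G ⧸ frattini G) ^ orderOf α = 1 := by
        have h1 := hj (orderOf α)
        rw [pow_orderOf_eq_one, MulAut.one_apply] at h1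
        exact (mul_eq_left.mp h1.symm)
      obtain ⟨e, he⟩ := (hG.to_quotient (frattini G)) ((c : G) : G ⧸ frattini G)
      have h4 : orderOf ((c : G) : G ⧸ frattini G) ∣ Nat.gcd (orderOf α) (p ^ e) :=
        Nat.dvd_gcd (orderOf_dvd_of_pow_eq_one h3) (orderOf_dvd_of_pow_eq_one he)
      have h5 : Nat.gcd (orderOf α) (p ^ e) = 1 := Nat.Coprime.pow_right e hα
      rw [h5, Nat.dvd_one, orderOf_eq_one_iff] at h4
      rw [← hc]
      exact (QuotientGroup.eq_one_iff _).mp h4
  apply burnside_abelian hG α hα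
  intro x
  exact key n x (by rw [hn]; exact Subgroup.mem_top x)

/-- the stabilizer in `A` of a chain -/
def chainStabA (A : Subgroup (MulAut G)) (D : ℕ → Subgroup G)
    (hinv : ∀ i, ∀ α ∈ A, ∀ x ∈ D i, α x ∈ D i) : Subgroup (MulAut G) where
  carrier := {α | α ∈ A ∧ ∀ i, ∀ x ∈ D (i + 1), x⁻¹ * α x ∈ D i}
  one_mem' := by
    refine ⟨one_mem _, fun i x _ => ?_⟩
    show x⁻¹ * x ∈ D i
    rw [inv_mul_cancel]
    exact (D i).one_mem
  mul_mem' := by
    rintro α β ⟨hα, hα'⟩ ⟨hβ, hβ'⟩
    refine ⟨mul_mem hα hβ, fun i x hx => ?_⟩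
    have e : x⁻¹ * (α * β) x = (x⁻¹ * α x) * α (x⁻¹ * β x) := by
      rw [MulAut.mul_apply, map_mul, map_inv]
      group
    rw [e]
    exact (D i).mul_mem (hα' i x hx) (hinv i α hα _ (hβ' i x hx))
  inv_mem' := by
    rintro α ⟨hα, hα'⟩
    refine ⟨inv_mem hα, fun i x hx => ?_⟩
    have e : x⁻¹ * α⁻¹ x = ((α⁻¹ x)⁻¹ * α (α⁻¹ x))⁻¹ := by
      rw [MulAut.apply_inv_self]
      group
    rw [e]
    exact (D i).inv_mem (hα' i _ (hinv (i + 1) α⁻¹ (inv_mem hα) x hx))

/-- in a group of automorphisms without normal `p`-subgroups, an element stabilizing an invariant chain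
from the Frattini subgroup to the top is trivial -/
theorem frattini_chain_stab_trivial {p : ℕ} [Fact p.Prime] (hG : IsPGroup p G)
    (A : Subgroup (MulAut G)) (hA2 : ∀ R : Subgroup A, R.Normal → IsPGroup p R → R = ⊥)
    (n : ℕ) (D : ℕ → Subgroup G) (h0 : D 0 = frattini G) (hn : D n = ⊤)
    (hinv : ∀ i, ∀ α ∈ A, ∀ x ∈ D i, α x ∈ D i) {β : MulAut G} (hβA : β ∈ A)
    (hβ : ∀ i, ∀ x ∈ D (i + 1), x⁻¹ * β x ∈ D i) : β = 1 := by
  obtain ⟨N, hN⟩ : ∃ N, N = chainStabA A D hinv := ⟨_, rfl⟩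
  have hNn : (N.subgroupOf A).Normal := by
    constructor
    intro k hk a
    rw [Subgroup.mem_subgroupOf, hN] at hk ⊢
    obtain ⟨hA, hk'⟩ := hk
    refine ⟨(a * k * a⁻¹).2, fun i x hx => ?_⟩
    have e : x⁻¹ * ((a : MulAut G) ((k : MulAut G) ((a : MulAut G)⁻¹ x))) =
        (a : MulAut G) (((a : MulAut G)⁻¹ x)⁻¹ * (k : MulAut G) ((a : MulAut G)⁻¹ x)) := by
      rw [map_mul, map_inv, MulAut.apply_inv_self]
    show x⁻¹ * ((a : MulAut G) ((k : MulAut G) ((a : MulAut G)⁻¹ x))) ∈ D i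
    rw [e]
    exact hinv i _ a.2 _ (hk' i _ (hinv (i + 1) _ (inv_mem a.2) x hx))
  have hNp : IsPGroup p (N.subgroupOf A) := by
    apply isPGroup_of_coprime_trivial p
    intro g hg
    obtain ⟨γ, hγ⟩ : ∃ γ : MulAut G, γ = ((g : A) : MulAut G) := ⟨_, rfl⟩
    have hγN : γ ∈ N := by rw [hγ]; exact Subgroup.mem_subgroupOf.mp g.2
    rw [hN] at hγN
    obtain ⟨hγA, hγ'⟩ := hγN
    have hord : orderOf γ = orderOf g := by
      rw [hγ, Subgroup.orderOf_coe, Subgroup.orderOf_coe]
    have hcop : Nat.Coprime (orderOf γ) p := by rw [hord]; exact hg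
    have hγ1 : γ = 1 := aut_eq_one_of_frattini_chain hG γ hcop n D h0 hn hγ'
    apply Subtype.ext
    apply Subtype.ext
    rw [← hγ, hγ1]
    rfl
  have h2 : N.subgroupOf A = ⊥ := hA2 _ hNn hNp
  have h3 : (⟨β, hβA⟩ : A) ∈ N.subgroupOf A := by
    rw [Subgroup.mem_subgroupOf, hN]
    exact ⟨hβA, hβ⟩
  rw [h2, Subgroup.mem_bot] at h3
  exact congrArg Subtype.val h3

/-- a group of automorphisms of an abelian `p`-group of order divisible by `p` and without normal
`p`-subgroups preserves no chain from the Frattini subgroup to the top with factors of order dividing `p` -/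
theorem no_frattini_chain {p : ℕ} [Fact p.Prime] (hG : IsPGroup p G) (A : Subgroup (MulAut G))
    (hA1 : p ∣ Nat.card A) (hA2 : ∀ R : Subgroup A, R.Normal → IsPGroup p R → R = ⊥)
    (n : ℕ) (D : ℕ → Subgroup G) (h0 : D 0 = frattini G) (hn : D n = ⊤)
    (hmono : ∀ i, D i ≤ D (i + 1)) (hinv : ∀ i, ∀ α ∈ A, ∀ x ∈ D i, α x ∈ D i)
    (hidx : ∀ i, (D i).relIndex (D (i + 1)) ∣ p) : False := by
  obtain ⟨P⟩ : Nonempty (Sylow p A) := inferInstance
  have h3 : (P : Subgroup A) = ⊥ := by
    rw [Subgroup.eq_bot_iff_forall]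
    intro u hu
    obtain ⟨a, ha⟩ := P.isPGroup' ⟨u, hu⟩
    have ha' : (u : MulAut G) ^ p ^ a = 1 := by
      have h4 := congrArg (fun t : (P : Subgroup A) => ((t : A) : MulAut G)) ha
      simpa using h4
    have h5 := frattini_chain_stab_trivial hG A hA2 n D h0 hn hinv u.2 (fun i x hx =>
      aut_trivial_on_factor (u : MulAut G) ha' (D i) (D (i + 1)) (hmono i)
        (fun l _ k hk => by rw [mul_comm l k, mul_inv_cancel_right]; exact hk)
        (fun y hy => hinv i _ u.2 y hy) (fun y hy => hinv (i + 1) _ u.2 y hy) (hidx i) x hx)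
    exact Subtype.ext h5
  have h4 := P.not_dvd_index
  rw [h3, Subgroup.index_bot] at h4
  exact h4 hA1

/-- adjoining an element whose `p`-th power lies in `K` multiplies the order by a divisor of `p` -/
theorem relIndex_zpowers_sup {p : ℕ} (K : Subgroup G) {x : G} (hx : x ^ p ∈ K) :
    K.relIndex (Subgroup.zpowers x ⊔ K) ∣ p := by
  haveI : K.Normal := inferInstance
  rw [Subgroup.relIndex_sup_right]
  show (K.subgroupOf (Subgroup.zpowers x)).index ∣ p
  rw [Subgroup.index_eq_card]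
  obtain ⟨q, hq⟩ : ∃ q : Subgroup.zpowers x ⧸ K.subgroupOf (Subgroup.zpowers x),
      q = QuotientGroup.mk (⟨x, Subgroup.mem_zpowers x⟩ : Subgroup.zpowers x) := ⟨_, rfl⟩
  have hgen : ∀ r : Subgroup.zpowers x ⧸ K.subgroupOf (Subgroup.zpowers x),
      r ∈ Subgroup.zpowers q := by
    intro r
    induction r using QuotientGroup.induction_on with
    | H z =>
      obtain ⟨k, hk⟩ := Subgroup.mem_zpowers_iff.mp z.2
      rw [Subgroup.mem_zpowers_iff]
      refine ⟨k, ?_⟩
      rw [hq, ← QuotientGroup.mk_zpow]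
      congr 1
      apply Subtype.ext
      simpa using hk
  rw [← orderOf_eq_card_of_forall_mem_zpowers hgen]
  apply orderOf_dvd_of_pow_eq_one
  rw [hq, ← QuotientGroup.mk_pow, QuotientGroup.eq_one_iff, Subgroup.mem_subgroupOf]
  exact hx

/-- a homomorphism from `C_n × C_n` onto the subgroup generated by two elements of order dividing `n` -/
theorem exists_hom_of_two_gens {n : ℕ} [NeZero n] (x y : G) (hx : x ^ n = 1) (hy : y ^ n = 1) :
    ∃ f : Multiplicative (ZMod n × ZMod n) →* G, x ∈ f.range ∧ y ∈ f.range := by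
  have hpm : ∀ (z : G), z ^ n = 1 → ∀ m : ℕ, z ^ (m % n) = z ^ m := by
    intro z hz m
    conv_rhs => rw [← Nat.mod_add_div m n, pow_add, pow_mul, hz, one_pow, mul_one]
  have hadd : ∀ (z : G), z ^ n = 1 → ∀ i j : ZMod n, z ^ (i + j).val = z ^ i.val * z ^ j.val := by
    intro z hz i j
    rw [ZMod.val_add, ← pow_add]
    exact hpm z hz _
  refine ⟨MonoidHom.mk' (fun a : Multiplicative (ZMod n × ZMod n) =>
    x ^ (Multiplicative.toAdd a).1.val * y ^ (Multiplicative.toAdd a).2.val) ?_, ?_, ?_⟩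
  · intro a b
    show x ^ ((Multiplicative.toAdd a).1 + (Multiplicative.toAdd b).1).val *
      y ^ ((Multiplicative.toAdd a).2 + (Multiplicative.toAdd b).2).val = _
    rw [hadd x hx, hadd y hy]
    exact mul_mul_mul_comm _ _ _ _
  · refine ⟨Multiplicative.ofAdd ((1 : ZMod n), (0 : ZMod n)), ?_⟩
    show x ^ (1 : ZMod n).val * y ^ (0 : ZMod n).val = x
    rw [ZMod.val_zero, pow_zero, mul_one, ZMod.val_one_eq_one_mod, hpm x hx, pow_one]
  · refine ⟨Multiplicative.ofAdd ((0 : ZMod n), (1 : ZMod n)), ?_⟩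
    show x ^ (0 : ZMod n).val * y ^ (1 : ZMod n).val = y
    rw [ZMod.val_zero, pow_zero, one_mul, ZMod.val_one_eq_one_mod, hpm y hy, pow_one]

theorem index_p_of_between {p : ℕ} [Fact p.Prime] {Φ M : Subgroup G} (hΦ : Φ.index = p ^ 2)
    (hle : Φ ≤ M) (h1 : M ≠ Φ) (h2 : M ≠ ⊤) : Φ.relIndex M = p ∧ M.index = p := by
  have hp := (Fact.out : p.Prime)
  have hp0 := hp.pos
  have h := Subgroup.relIndex_mul_index hle
  rw [hΦ] at h
  obtain ⟨j, hj2, hj⟩ := (Nat.dvd_prime_pow hp).mp (Dvd.intro _ h)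
  have hj0 : j ≠ 0 := by
    intro h0
    rw [h0, pow_zero] at hj
    exact h1 (le_antisymm (Subgroup.relIndex_eq_one.mp hj) hle)
  have hj2' : j ≠ 2 := by
    intro h0
    rw [h0] at hj
    rw [hj] at h
    have h3 : M.index = 1 := by
      have : p ^ 2 * M.index = p ^ 2 * 1 := by rw [h, mul_one]
      exact Nat.eq_of_mul_eq_mul_left (by positivity) this
    exact h2 (Subgroup.index_eq_one.mp h3)
  have hj1 : j = 1 := by omega
  rw [hj1, pow_one] at hj
  refine ⟨hj, ?_⟩
  rw [hj] at h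
  have : p * M.index = p * p := by rw [h]; ring
  exact Nat.eq_of_mul_eq_mul_left hp0 this

/-- binomial expansion of the powers of `u = 1 + N` -/
theorem binom_aut (u : MulAut G) (N : G →* G) (hN : ∀ x, u x = x * N x) :
    ∀ (n : ℕ) (x : G), (u ^ n) x = ∏ j ∈ Finset.range (n + 1), ((⇑N)^[j] x) ^ (n.choose j) := by
  intro n
  induction n with
  | zero => intro x; simp
  | succ n ih =>
    intro x
    rw [pow_succ', MulAut.mul_apply, hN, ih x, map_prod]
    simp only [map_pow, ← Function.iterate_succ_apply' (⇑N)]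
    rw [Finset.prod_range_succ' (fun j => ((⇑N)^[j] x) ^ ((n + 1).choose j)) (n + 1)]
    simp only [Nat.choose_succ_succ, pow_add, Finset.prod_mul_distrib]
    rw [Finset.prod_range_succ' (fun j => ((⇑N)^[j] x) ^ (n.choose j)) n]
    rw [Finset.prod_range_succ (fun j => ((⇑N)^[j + 1] x) ^ (n.choose (j + 1))) n]
    simp only [Nat.choose_succ_self, pow_zero, mul_one, Nat.choose_zero_right, pow_one,
      Function.iterate_zero, id]
    rw [mul_comm (∏ j ∈ Finset.range (n + 1), ((⇑N)^[j + 1] x) ^ (n.choose j)) _, mul_assoc,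
      mul_assoc]
    congr 1
    rw [mul_comm]

end abelian

end Cfsg.Agent.Helper27
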