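import Mathlib
import Cfsg.Agent.Helper27.RankTwo

set_option autoImplicit false

namespace Cfsg.Agent.Helper27

open Cfsg
open scoped IsMulCommutative

section abelian2

variable {G : Type*} [Group G] [IsMulCommutative G] [Finite G]

theorem frattini_aut_mem (α : MulAut G) {x : G} (hx : x ∈ frattini G) : α x ∈ frattini G := by
  have h1 := Subgroup.characteristic_iff_map_le.mp (frattini_characteristic (G := G)) α
  exact h1 (Subgroup.mem_map_of_mem _ hx)

/-- the two-term chain `Φ < ⊤` -/
def chainTwo (G : Type*) [Group G] : ℕ → Subgroup G := fun i => if i = 0 then frattini G else ⊤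

theorem chainTwo_zero : chainTwo G 0 = frattini G := by simp [chainTwo]

theorem chainTwo_succ (i : ℕ) : chainTwo G (i + 1) = ⊤ := by simp [chainTwo]

theorem chainTwo_inv (i : ℕ) (α : MulAut G) {x : G} (hx : x ∈ chainTwo G i) : α x ∈ chainTwo G i := by
  rcases i with _ | i
  · rw [chainTwo_zero] at hx ⊢
    exact frattini_aut_mem α hx
  · rw [chainTwo_succ]
    exact Subgroup.mem_top _

/-- the three-term chain `Φ < M < ⊤` -/
def chainThree (M : Subgroup G) : ℕ → Subgroup G :=
  fun i => if i = 0 then frattini G else if i = 1 then M else ⊤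

theorem chainThree_zero (M : Subgroup G) : chainThree M 0 = frattini G := by simp [chainThree]

theorem chainThree_one (M : Subgroup G) : chainThree M 1 = M := by simp [chainThree]

theorem chainThree_succ (M : Subgroup G) (i : ℕ) : chainThree M (i + 2) = ⊤ := by simp [chainThree]

theorem frattini_index_sq {p : ℕ} [Fact p.Prime] (hG : IsPGroup p G) (A : Subgroup (MulAut G))
    (hA1 : p ∣ Nat.card A) (hA2 : ∀ R : Subgroup A, R.Normal → IsPGroup p R → R = ⊥)
    (hrk : (frattini G).index ≤ p ^ 2) : (frattini G).index = p ^ 2 := by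
  have hp := (Fact.out : p.Prime)
  obtain ⟨e, he⟩ := hG.index (frattini G)
  rw [he] at hrk ⊢
  have he2 : e ≤ 2 := (Nat.pow_le_pow_iff_right hp.one_lt).mp hrk
  by_contra hne
  have he1 : e ≤ 1 := by
    rcases Nat.lt_or_ge e 2 with h | h
    · omega
    · exfalso
      apply hne
      have : e = 2 := le_antisymm he2 h
      rw [this]
  refine no_frattini_chain hG A hA1 hA2 1 (chainTwo G) chainTwo_zero (chainTwo_succ 0) ?_ ?_ ?_
  · intro i
    rw [chainTwo_succ]
    exact le_top
  · intro i α _ x hx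
    exact chainTwo_inv i α hx
  · intro i
    rcases i with _ | i
    · rw [chainTwo_zero, chainTwo_succ, Subgroup.relIndex_top_right, he]
      exact (pow_dvd_pow p he1).trans (by rw [pow_one])
    · rw [chainTwo_succ, chainTwo_succ, Subgroup.relIndex_self]
      exact one_dvd _

theorem invariant_between {p : ℕ} [Fact p.Prime] (hG : IsPGroup p G) (A : Subgroup (MulAut G))
    (hA1 : p ∣ Nat.card A) (hA2 : ∀ R : Subgroup A, R.Normal → IsPGroup p R → R = ⊥)
    (hΦ : (frattini G).index = p ^ 2) (M : Subgroup G) (hM : frattini G ≤ M)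
    (hMinv : ∀ α ∈ A, ∀ x ∈ M, α x ∈ M) : M = frattini G ∨ M = ⊤ := by
  by_contra hcon
  push Not at hcon
  obtain ⟨h1, h2⟩ := hcon
  obtain ⟨h3, h4⟩ := index_p_of_between hΦ hM h1 h2
  refine no_frattini_chain hG A hA1 hA2 2 (chainThree M) (chainThree_zero M) (chainThree_succ M 0)
    ?_ ?_ ?_
  · intro i
    rcases i with _ | _ | i
    · rw [chainThree_zero, chainThree_one]
      exact hM
    · rw [chainThree_succ]
      exact le_top
    · rw [chainThree_succ]
      exact le_top
  · intro i α hα x hx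
    rcases i with _ | _ | i
    · rw [chainThree_zero] at hx ⊢
      exact frattini_aut_mem α hx
    · rw [chainThree_one] at hx ⊢
      exact hMinv α hα x hx
    · rw [chainThree_succ]
      exact Subgroup.mem_top _
  · intro i
    rcases i with _ | _ | i
    · rw [chainThree_zero, chainThree_one, h3]
    · rw [chainThree_one, chainThree_succ, Subgroup.relIndex_top_right, h4]
    · rw [chainThree_succ, chainThree_succ, Subgroup.relIndex_self]
      exact one_dvd _

theorem binom_split (u : MulAut G) (N : G →* G) (hN : ∀ x, u x = x * N x) (q : ℕ) (x : G) :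
    (u ^ (q + 2)) x = (∏ j ∈ Finset.range q, ((⇑N)^[j + 2] x) ^ ((q + 2).choose (j + 2))) *
      (N x) ^ (q + 2) * x * (⇑N)^[q + 2] x := by
  rw [binom_aut u N hN, Finset.prod_range_succ, Finset.prod_range_succ', Finset.prod_range_succ']
  simp [Nat.choose_self, Nat.choose_zero_right, Nat.choose_one_right]

theorem rank_two_main {p : ℕ} [Fact p.Prime] (hG : IsPGroup p G) (A : Subgroup (MulAut G))
    (hA1 : p ∣ Nat.card A) (hA2 : ∀ R : Subgroup A, R.Normal → IsPGroup p R → R = ⊥)
    (hrk : (frattini G).index ≤ p ^ 2) :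
    ((∀ x : G, x ^ p = 1) ∧ Nat.card G = p ^ 2) ∨
      (p ≤ 3 ∧ ∃ k : ℕ, Nonempty (G ≃* Multiplicative (ZMod (p ^ k) × ZMod (p ^ k)))) := by
  have hp := (Fact.out : p.Prime)
  have hΦ := frattini_index_sq hG A hA1 hA2 hrk
  have hirr := invariant_between hG A hA1 hA2 hΦ
  have hpowΦ : ∀ x : G, x ^ p ∈ frattini G := (Cfsg.Agent.S0012.result p hG).2
  obtain ⟨π, hπ⟩ : ∃ π : ℕ → G →* G, ∀ j x, π j x = x ^ p ^ j :=
    ⟨fun j => powMonoidHom (p ^ j), fun _ _ => rfl⟩
  have hkerinv : ∀ j, ∀ α ∈ A, ∀ x ∈ (π j).ker, α x ∈ (π j).ker := by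
    intro j α _ x hx
    rw [MonoidHom.mem_ker, hπ] at hx ⊢
    rw [← map_pow, hx, map_one]
  have hker : ∀ j, (π j).ker = ⊤ ∨ (π j).ker ≤ frattini G := by
    intro j
    have hinv : ∀ α ∈ A, ∀ x ∈ frattini G ⊔ (π j).ker, α x ∈ frattini G ⊔ (π j).ker := by
      intro α hα x hx
      obtain ⟨a, ha, b, hb, rfl⟩ := Subgroup.mem_sup.mp hx
      rw [map_mul]
      exact Subgroup.mul_mem _ (Subgroup.mem_sup_left (frattini_aut_mem α ha))
        (Subgroup.mem_sup_right (hkerinv j α hα b hb))
    rcases hirr (frattini G ⊔ (π j).ker) le_sup_left hinv with h | h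
    · right
      rw [← h]
      exact le_sup_right
    · left
      rw [sup_comm] at h
      exact frattini_nongenerating h
  have hex : ∃ k, (π k).ker = ⊤ := by
    obtain ⟨n, hn⟩ := IsPGroup.iff_card.mp hG
    refine ⟨n, ?_⟩
    rw [eq_top_iff]
    intro x _
    rw [MonoidHom.mem_ker, hπ, ← hn]
    exact pow_card_eq_one'
  classical
  obtain ⟨k, hk⟩ : ∃ k, k = Nat.find hex := ⟨_, rfl⟩
  have hktop : (π k).ker = ⊤ := hk ▸ Nat.find_spec hex
  have hklt : ∀ j, j < k → (π j).ker ≤ frattini G := by
    intro j hj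
    rcases hker j with h | h
    · exact absurd h (Nat.find_min hex (hk ▸ hj))
    · exact h
  have hΦtop : frattini G ≠ ⊤ := by
    intro h
    rw [h, Subgroup.index_top] at hΦ
    have := hp.one_lt
    nlinarith
  have hk1 : 1 ≤ k := by
    by_contra h
    have h0 : k = 0 := by omega
    rw [h0] at hktop
    apply hΦtop
    rw [eq_top_iff]
    intro x _
    have hx : x ∈ (π 0).ker := by rw [hktop]; trivial
    rw [MonoidHom.mem_ker, hπ, pow_zero, pow_one] at hx
    rw [hx]
    exact one_mem _
  have hpk : ∀ x : G, x ^ p ^ k = 1 := by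
    intro x
    have hx : x ∈ (π k).ker := by rw [hktop]; trivial
    rwa [MonoidHom.mem_ker, hπ] at hx
  -- generators
  obtain ⟨x, hx⟩ : ∃ x : G, x ∉ frattini G := by
    by_contra h
    push Not at h
    exact hΦtop (eq_top_iff.mpr fun x _ => h x)
  obtain ⟨L, hL⟩ : ∃ L, L = Subgroup.zpowers x ⊔ frattini G := ⟨_, rfl⟩
  have hΦL : frattini G ≤ L := hL ▸ le_sup_right
  have hxL : x ∈ L := hL ▸ Subgroup.mem_sup_left (Subgroup.mem_zpowers x)
  have hLrel : (frattini G).relIndex L = p := by
    have h1 : (frattini G).relIndex L ∣ p := hL ▸ relIndex_zpowers_sup (frattini G) (hpowΦ x)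
    rcases (Nat.dvd_prime hp).mp h1 with h | h
    · exact absurd (Subgroup.relIndex_eq_one.mp h hxL) hx
    · exact h
  have hLidx : L.index = p := by
    have h := Subgroup.relIndex_mul_index hΦL
    rw [hLrel, hΦ] at h
    have : p * L.index = p * p := by rw [h]; ring
    exact Nat.eq_of_mul_eq_mul_left hp.pos this
  obtain ⟨y, hy⟩ : ∃ y : G, y ∉ L := by
    by_contra h
    push Not at h
    have h1 : L = ⊤ := eq_top_iff.mpr fun x _ => h x
    rw [h1, Subgroup.index_top] at hLidx
    exact hp.one_lt.ne hLidx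
  have hgen : Subgroup.zpowers y ⊔ Subgroup.zpowers x = ⊤ := by
    have h1 : Subgroup.zpowers y ⊔ L = ⊤ :=
      eq_top_of_prime_index hp (le_sup_right : L ≤ Subgroup.zpowers y ⊔ L) hLidx
        (Subgroup.mem_sup_left (Subgroup.mem_zpowers y)) hy
    rw [hL, ← sup_assoc] at h1
    exact frattini_nongenerating h1
  haveI : NeZero (p ^ k) := ⟨pow_ne_zero _ hp.ne_zero⟩
  obtain ⟨f, hfx, hfy⟩ := exists_hom_of_two_gens (n := p ^ k) x y (hpk x) (hpk y)
  have hfsurj : Function.Surjective f := by
    rw [← MonoidHom.range_eq_top, eq_top_iff, ← hgen]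
    exact sup_le ((Subgroup.zpowers_le).mpr hfy) ((Subgroup.zpowers_le).mpr hfx)
  -- counting
  have hP1 : ∀ j, (π (j + 1)).range ≤ (frattini G).map (π j) := by
    rintro j _ ⟨z, rfl⟩
    refine ⟨z ^ p, hpowΦ z, ?_⟩
    rw [hπ, hπ, ← pow_mul, ← pow_succ']
  have hstep : ∀ j, j < k → p ^ 2 * (π j).range.index ∣ (π (j + 1)).range.index := by
    intro j hj
    have h1 := Subgroup.index_map (frattini G) (π j)
    have h2 : frattini G ⊔ (π j).ker = frattini G := sup_eq_left.mpr (hklt j hj)
    rw [h2, hΦ] at h1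
    rw [← h1]
    exact Subgroup.index_dvd_of_le (hP1 j)
  have hchain : ∀ d i, i + d ≤ k →
      p ^ (2 * d) * (π i).range.index ∣ (π (i + d)).range.index := by
    intro d
    induction d with
    | zero => intro i _; simp
    | succ d ih =>
      intro i hi
      have h1 := ih i (by omega)
      have h2 := hstep (i + d) (by omega)
      have h3 : p ^ (2 * (d + 1)) * (π i).range.index =
          p ^ 2 * (p ^ (2 * d) * (π i).range.index) := by ring
      rw [h3]
      exact (Nat.mul_dvd_mul_left _ h1).trans h2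
  have hPk : (π k).range = ⊥ := by
    rw [eq_bot_iff]
    rintro _ ⟨z, rfl⟩
    rw [hπ, hpk]
    exact Subgroup.mem_bot.mpr rfl
  have hP0 : (π 0).range = ⊤ := by
    rw [eq_top_iff]
    intro z _
    exact ⟨z, by rw [hπ, pow_zero, pow_one]⟩
  have hcard_ge : p ^ (2 * k) ∣ Nat.card G := by
    have h := hchain k 0 (by omega)
    rw [zero_add, hPk, Subgroup.index_bot, hP0, Subgroup.index_top, mul_one] at h
    exact h
  have hcardZ : Nat.card (Multiplicative (ZMod (p ^ k) × ZMod (p ^ k))) = p ^ (2 * k) := by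
    have h1 : Nat.card (Multiplicative (ZMod (p ^ k) × ZMod (p ^ k))) =
        Nat.card (ZMod (p ^ k) × ZMod (p ^ k)) := rfl
    rw [h1, Nat.card_prod, Nat.card_zmod, ← pow_add]
    congr 1
    omega
  have hcard : Nat.card G = p ^ (2 * k) := by
    apply le_antisymm
    · rw [← hcardZ]
      exact Nat.card_le_card_of_surjective f hfsurj
    · exact Nat.le_of_dvd Nat.card_pos hcard_ge
  have hfbij : Function.Bijective f :=
    (Nat.bijective_iff_surjective_and_card f).mpr ⟨hfsurj, by rw [hcardZ, hcard]⟩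
  have hiso : Nonempty (G ≃* Multiplicative (ZMod (p ^ k) × ZMod (p ^ k))) :=
    ⟨(MulEquiv.ofBijective f hfbij).symm⟩
  by_cases hp3 : p ≤ 3
  · exact Or.inr ⟨hp3, k, hiso⟩
  left
  have hk2 : k < 2 := by
    by_contra hk2
    push Not at hk2
    have hp5 : 5 ≤ p := by
      have h4 : p ≠ 4 := by
        intro h
        rw [h] at hp
        norm_num at hp
      omega
    have hP1idx : (π 1).range.index = p ^ 2 := by
      have h1 := hstep 0 (by omega)
      rw [hP0, Subgroup.index_top, mul_one, zero_add] at h1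
      have h2 := hchain (k - 1) 1 (by omega)
      have e1 : 1 + (k - 1) = k := by omega
      rw [e1, hPk, Subgroup.index_bot, hcard] at h2
      have e2 : p ^ (2 * k) = p ^ (2 * (k - 1)) * p ^ 2 := by
        rw [← pow_add]
        congr 1
        omega
      rw [e2] at h2
      have h3 : (π 1).range.index ∣ p ^ 2 :=
        (Nat.mul_dvd_mul_iff_left (by positivity)).mp h2
      exact Nat.dvd_antisymm h3 h1
    have hΦP1 : frattini G ≤ (π 1).range := by
      have hle : (π 1).range ≤ frattini G := by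
        rintro _ ⟨z, rfl⟩
        rw [hπ, pow_one]
        exact hpowΦ z
      have h := Subgroup.relIndex_mul_index hle
      rw [hΦ, hP1idx] at h
      have h1 : (π 1).range.relIndex (frattini G) = 1 := by
        have : (π 1).range.relIndex (frattini G) * p ^ 2 = 1 * p ^ 2 := by rw [h, one_mul]
        exact Nat.eq_of_mul_eq_mul_right (by positivity) this
      exact Subgroup.relIndex_eq_one.mp h1
    have hΦpow : ∀ z ∈ frattini G, ∃ w : G, z = w ^ p := by
      intro z hz
      obtain ⟨w, hw⟩ := hΦP1 hz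
      exact ⟨w, by rw [← hw, hπ, pow_one]⟩
    -- an element of order `p`
    obtain ⟨u0, hu0⟩ := exists_prime_orderOf_dvd_card' p hA1
    obtain ⟨u, hu⟩ : ∃ u : MulAut G, u = (u0 : MulAut G) := ⟨_, rfl⟩
    have huA : u ∈ A := hu ▸ u0.2
    have hup : u ^ p = 1 := by
      have h1 : u0 ^ p = 1 := by rw [← hu0]; exact pow_orderOf_eq_one u0
      rw [hu, ← Subgroup.coe_pow, h1]
      rfl
    have hu1 : u ≠ 1 := by
      intro h
      have h1 : u0 = 1 := Subtype.ext (by rw [← hu, h]; rfl)
      rw [h1, orderOf_one] at hu0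
      exact hp.one_lt.ne hu0
    obtain ⟨N, hN⟩ : ∃ N : G →* G, ∀ z, N z = z⁻¹ * u z :=
      ⟨MonoidHom.mk' (fun z => z⁻¹ * u z) (by
        intro a b
        rw [map_mul, mul_inv]
        exact mul_mul_mul_comm _ _ _ _), fun _ => rfl⟩
    have huN : ∀ z, u z = z * N z := by
      intro z
      rw [hN, mul_inv_cancel_left]
    have hNΦ : ∀ z ∈ frattini G, N z ∈ frattini G := by
      intro z hz
      rw [hN]
      exact Subgroup.mul_mem _ (Subgroup.inv_mem _ hz) (frattini_aut_mem u hz)
    have hNiterΦ : ∀ j, ∀ z ∈ frattini G, (⇑N)^[j] z ∈ frattini G := by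
      intro j
      induction j with
      | zero => intro z hz; exact hz
      | succ j ih =>
        intro z hz
        rw [Function.iterate_succ_apply']
        exact hNΦ _ (ih z hz)
    obtain ⟨q, hq⟩ : ∃ q, p = q + 2 := ⟨p - 2, by omega⟩
    have hbin : ∀ z : G, (∏ j ∈ Finset.range q, ((⇑N)^[j + 2] z) ^ (p.choose (j + 2))) *
        (N z) ^ p * (⇑N)^[p] z = 1 := by
      intro z
      have h1 := binom_split u N huN q z
      rw [← hq, hup, MulAut.one_apply] at h1
      have h2 : z * 1 = z * ((∏ j ∈ Finset.range q, ((⇑N)^[j + 2] z) ^ (p.choose (j + 2))) *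
          (N z) ^ p * (⇑N)^[p] z) := by
        rw [mul_one]
        conv_lhs => rw [h1]
        rw [mul_comm z, mul_assoc _ z, mul_comm z, ← mul_assoc]
      exact (mul_left_cancel h2).symm
    have hMidΦ : ∀ z : G,
        (∏ j ∈ Finset.range q, ((⇑N)^[j + 2] z) ^ (p.choose (j + 2))) ∈ frattini G := by
      intro z
      apply Subgroup.prod_mem
      intro j hj
      have hj' : j + 2 < p := by
        rw [Finset.mem_range] at hj
        omega
      obtain ⟨m, hm⟩ := hp.dvd_choose_self (by omega : j + 2 ≠ 0) hj'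
      rw [hm, mul_comm, pow_mul]
      exact hpowΦ _
    have hNpΦ : ∀ z : G, (⇑N)^[p] z ∈ frattini G := by
      intro z
      have h1 := hbin z
      have h2 : (⇑N)^[p] z = ((∏ j ∈ Finset.range q, ((⇑N)^[j + 2] z) ^ (p.choose (j + 2))) *
          (N z) ^ p)⁻¹ := eq_inv_of_mul_eq_one_right h1
      rw [h2]
      exact Subgroup.inv_mem _ (Subgroup.mul_mem _ (hMidΦ z) (hpowΦ _))
    obtain ⟨M0, hM0⟩ : ∃ M0 : Subgroup G, ∀ z, z ∈ M0 ↔ N z ∈ frattini G :=
      ⟨(frattini G).comap N, fun _ => Iff.rfl⟩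
    have hΦM0 : frattini G ≤ M0 := fun z hz => (hM0 z).mpr (hNΦ z hz)
    have hM0ne : M0 ≠ frattini G := by
      intro h
      have hexj : ∃ j, (⇑N)^[j] x ∈ frattini G := ⟨p, hNpΦ x⟩
      obtain ⟨j, hj⟩ : ∃ j, j = Nat.find hexj := ⟨_, rfl⟩
      have hjs := Nat.find_spec hexj
      rw [← hj] at hjs
      rcases j with _ | j
      · exact hx hjs
      · have h1 : (⇑N)^[j] x ∈ M0 := by
          rw [hM0]
          have e : N ((⇑N)^[j] x) = (⇑N)^[j + 1] x :=
            (Function.iterate_succ_apply' (⇑N) j x).symm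
          rw [e]
          exact hjs
        rw [h] at h1
        exact Nat.find_min hexj (by omega : j < Nat.find hexj) h1
    have hNN : ∀ z : G, N (N z) ∈ frattini G := by
      intro z
      by_cases hM0top : M0 = ⊤
      · have h1 : z ∈ M0 := hM0top ▸ Subgroup.mem_top z
        exact hNΦ _ ((hM0 z).mp h1)
      · obtain ⟨-, h4⟩ := index_p_of_between hΦ hΦM0 hM0ne hM0top
        have huM0 : ∀ w ∈ M0, u w ∈ M0 := by
          intro w hw
          rw [hM0] at hw ⊢
          have e : N (u w) = u (N w) := by rw [hN, hN, map_mul, map_inv]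
          rw [e]
          exact frattini_aut_mem u hw
        have h5 := aut_trivial_on_factor u (a := 1) (by rw [pow_one]; exact hup) M0 ⊤ le_top
          (fun l _ k hk => by rw [mul_comm l k, mul_inv_cancel_right]; exact hk) huM0
          (fun _ _ => Subgroup.mem_top _)
          (by rw [Subgroup.relIndex_top_right, h4]) z (Subgroup.mem_top z)
        rw [← hN] at h5
        exact (hM0 _).mp h5
    have hNiter2 : ∀ j, ∀ z : G, (⇑N)^[j + 2] z ∈ frattini G := by
      intro j z
      rw [Function.iterate_add_apply]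
      exact hNiterΦ j _ (hNN z)
    have hNP2 : ∀ z ∈ (π 2).range, N z ∈ (π 2).range := by
      rintro _ ⟨w, rfl⟩
      exact ⟨N w, by rw [hπ, hπ, map_pow]⟩
    have hNiterP2 : ∀ j, ∀ z ∈ (π 2).range, (⇑N)^[j] z ∈ (π 2).range := by
      intro j
      induction j with
      | zero => intro z hz; exact hz
      | succ j ih =>
        intro z hz
        rw [Function.iterate_succ_apply']
        exact hNP2 _ (ih z hz)
    have hN4 : ∀ z : G, (⇑N)^[4] z ∈ (π 2).range := by
      intro z
      obtain ⟨w, hw⟩ := hΦpow _ (hNN z)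
      obtain ⟨v, hv⟩ := hΦpow _ (hNN w)
      refine ⟨v, ?_⟩
      rw [hπ]
      show v ^ p ^ 2 = N (N (N (N z)))
      rw [hw, map_pow, map_pow, hv, ← pow_mul, pow_two]
    have hNpP2 : ∀ z : G, (⇑N)^[p] z ∈ (π 2).range := by
      intro z
      have e : p = (p - 4) + 4 := by omega
      rw [e, Function.iterate_add_apply]
      exact hNiterP2 _ _ (hN4 z)
    have hMidP2 : ∀ z : G,
        (∏ j ∈ Finset.range q, ((⇑N)^[j + 2] z) ^ (p.choose (j + 2))) ∈ (π 2).range := by
      intro z
      apply Subgroup.prod_mem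
      intro j hj
      have hj' : j + 2 < p := by
        rw [Finset.mem_range] at hj
        omega
      obtain ⟨m, hm⟩ := hp.dvd_choose_self (by omega : j + 2 ≠ 0) hj'
      obtain ⟨w, hw⟩ := hΦpow _ (hNiter2 j z)
      refine ⟨w ^ m, ?_⟩
      rw [hπ, hw, hm, ← pow_mul, ← pow_mul]
      congr 1
      ring
    have hNzp : ∀ z : G, (N z) ^ p ∈ (π 2).range := by
      intro z
      have h1 := hbin z
      have h2 : (N z) ^ p = (∏ j ∈ Finset.range q, ((⇑N)^[j + 2] z) ^ (p.choose (j + 2)))⁻¹ *
          ((⇑N)^[p] z)⁻¹ := by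
        rw [mul_assoc] at h1
        have h3 := eq_inv_of_mul_eq_one_right h1
        exact eq_mul_inv_of_mul_eq h3
      rw [h2]
      exact Subgroup.mul_mem _ (Subgroup.inv_mem _ (hMidP2 z)) (Subgroup.inv_mem _ (hNpP2 z))
    have hNzΦ : ∀ z : G, N z ∈ frattini G := by
      intro z
      obtain ⟨w, hw⟩ := hNzp z
      rw [hπ] at hw
      have h1 : N z * (w ^ p)⁻¹ ∈ (π 1).ker := by
        rw [MonoidHom.mem_ker, hπ, pow_one, mul_pow, inv_pow, ← hw, ← pow_mul, ← pow_two,
          mul_inv_cancel]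
      have h2 := hklt 1 (by omega) h1
      have h3 := Subgroup.mul_mem _ h2 (hpowΦ w)
      rwa [inv_mul_cancel_right] at h3
    apply hu1
    refine frattini_chain_stab_trivial hG A hA2 1 (chainTwo G) chainTwo_zero (chainTwo_succ 0)
      (fun i α _ x hx => chainTwo_inv i α hx) huA ?_
    intro i z hz
    rcases i with _ | i
    · rw [chainTwo_zero, ← hN]
      exact hNzΦ z
    · rw [chainTwo_succ]
      exact Subgroup.mem_top _
  have hk1' : k = 1 := by omega
  rw [hk1'] at hpk hcard
  refine ⟨fun x => ?_, ?_⟩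
  · have := hpk x
    rwa [pow_one] at this
  · rw [hcard]

end abelian2

end Cfsg.Agent.Helper27
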