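import Cfsg.Agent.Helper27.PRes1
import Cfsg.Agent.Helper27.FusMorphHyp
import Cfsg.Prelude.Def_FusionReduction

set_option autoImplicit false

namespace Cfsg.Agent.Helper27

open Cfsg Cfsg.FusionSystem

variable {Ω : Type*} [Group Ω] {S : Subgroup Ω}

/-- two fusion systems (over possibly only propositionally equal groups) with the same maps -/
def SameSys {T₁ T₂ : Subgroup Ω} (E₁ : FusionSystem T₁) (E₂ : FusionSystem T₂) : Prop :=
  T₁ = T₂ ∧ ∀ P : Subgroup Ω, E₁.Hom P = E₂.Hom P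

theorem SameSys.symm {T₁ T₂ : Subgroup Ω} {E₁ : FusionSystem T₁} {E₂ : FusionSystem T₂}
    (h : SameSys E₁ E₂) : SameSys E₂ E₁ := ⟨h.1.symm, fun P => (h.2 P).symm⟩

theorem SameSys.refl {T₁ : Subgroup Ω} (E₁ : FusionSystem T₁) : SameSys E₁ E₁ :=
  ⟨rfl, fun _ => rfl⟩

/-- a saturated subsystem of `F` lies in every system over the same group containing `O^p(Aut_F(P))` -/
theorem ppow_le {T : Subgroup Ω} [Finite T] {p : ℕ} [Fact p.Prime] (hp : IsPGroup p T)
    {F : FusionSystem S} (D₁ D₂ : FusionSystem T) (h₁ : D₁.IsSaturated p)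
    (hs₁ : D₁.IsSubsystemOf F)
    (hi₂ : ∀ P : Subgroup Ω, P ≤ T →
      (pResidual p (F.autGroup P)).map (F.autGroup P).subtype ≤ D₂.autGroup P) :
    D₁.IsSubsystemOf D₂ := by
  have hII : ∀ P : Subgroup Ω, (P = T ∨ D₁.IsEssential p P) →
      D₁.autGroup P ≤ D₂.autGroup P := by
    intro P hPc α hα
    have hPfn : D₁.IsFullyNormalized P := by
      rcases hPc with hPe | hess
      · rw [hPe]
        exact Cfsg.Agent.Helper26.fullyNormalized_top D₁
      · exact hess.2.1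
    have hP : P ≤ T := hPfn.1
    obtain ⟨g, hg, u, hu, hgu⟩ := Cfsg.Agent.Helper26.aut_decomp p hp D₁ h₁ hPfn ⟨α, hα⟩
    have hu' : ((u : D₁.autGroup P) : MulAut P) ∈ D₂.autGroup P := by
      have hle : (pResidual p (D₁.autGroup P)).map (D₁.autGroup P).subtype ≤ D₂.autGroup P := by
        rw [Subgroup.map_le_iff_le_comap]
        have h0 : pResidual p ↥(D₁.autGroup P) =
            Subgroup.closure {g | Nat.Coprime (orderOf g) p} := rfl
        rw [h0, Subgroup.closure_le]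
        intro β hβ
        show ((β : D₁.autGroup P) : MulAut P) ∈ D₂.autGroup P
        have hm : Mor F P (autFn (β : MulAut P)) :=
          ((mem_autGroup_iff hP (β : MulAut P)).mp β.2).of_subsystem hs₁
        have hβF : (β : MulAut P) ∈ F.autGroup P := (mem_autGroup_iff hm.le _).mpr hm
        apply hi₂ P hP
        refine ⟨⟨(β : MulAut P), hβF⟩, Subgroup.subset_closure ?_, rfl⟩
        show Nat.Coprime (orderOf (⟨(β : MulAut P), hβF⟩ : F.autGroup P)) p
        have h3 : orderOf (⟨(β : MulAut P), hβF⟩ : F.autGroup P) = orderOf (β : MulAut P) :=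
          (Subgroup.orderOf_coe (⟨(β : MulAut P), hβF⟩ : F.autGroup P)).symm
        rw [h3, Subgroup.orderOf_coe]
        exact hβ
      exact hle (Subgroup.mem_map_of_mem _ hu)
    rw [mem_autGroup_iff hP α]
    have hm := (mem_autGroup_iff hP _).mp hu'
    have hc : Mor D₂ P (fun x => g * x * g⁻¹) := Mor.conj D₂ hP hg
    have hcomp := hm.comp hc (fun x hx => autFn_mem _ hx)
    refine hcomp.congr (fun x hx => ?_)
    show g * autFn ((u : D₁.autGroup P) : MulAut P) x * g⁻¹ = autFn α x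
    rw [autFn_of_mem _ hx, autFn_of_mem α hx]
    exact (hgu ⟨x, hx⟩).symm
  intro P φ hφ
  exact Cfsg.Agent.Helper26.alperin_goldschmidt p hp D₁ h₁ D₂ hII _ P (D₁.le_of_mem hφ).1 rfl
    φ hφ

/-- uniqueness of saturated subsystems of `p`-power index over a given subgroup -/
theorem ppow_unique {T₁ T₂ : Subgroup Ω} (hT : T₁ = T₂) [Finite T₁] {p : ℕ} [Fact p.Prime]
    (hp : IsPGroup p T₁) {F : FusionSystem S} (D₁ : FusionSystem T₁) (D₂ : FusionSystem T₂)
    (h₁ : D₁.IsSaturated p) (h₂ : D₂.IsSaturated p) (hs₁ : D₁.IsSubsystemOf F)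
    (hs₂ : D₂.IsSubsystemOf F)
    (hi₁ : ∀ P : Subgroup Ω, P ≤ T₁ →
      (pResidual p (F.autGroup P)).map (F.autGroup P).subtype ≤ D₁.autGroup P)
    (hi₂ : ∀ P : Subgroup Ω, P ≤ T₂ →
      (pResidual p (F.autGroup P)).map (F.autGroup P).subtype ≤ D₂.autGroup P) :
    SameSys D₁ D₂ := by
  subst hT
  refine ⟨rfl, fun P => ?_⟩
  ext φ
  exact ⟨fun h => ppow_le hp D₁ D₂ h₁ hs₁ hi₂ P h, fun h => ppow_le hp D₂ D₁ h₂ hs₂ hi₁ P h⟩

theorem ppr_unique {T₁ T₂ : Subgroup Ω} {p : ℕ} {D₁ D₁' : FusionSystem T₁}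
    {D₂ D₂' : FusionSystem T₂} (h : SameSys D₁ D₂) (h1 : D₁.IsPPrimeResidual p D₁')
    (h2 : D₂.IsPPrimeResidual p D₂') : SameSys D₁' D₂' := by
  obtain ⟨hT, hh⟩ := h
  subst hT
  have he : D₁ = D₂ := fusionSystem_ext' hh
  subst he
  refine ⟨rfl, fun P => ?_⟩
  ext φ
  exact ⟨fun hφ => h1.2.2 D₂' h2.1 h2.2.1 P hφ, fun hφ => h2.2.2 D₁' h1.1 h1.2.1 P hφ⟩

theorem hyp_le_of_sub {T : Subgroup Ω} {E : FusionSystem T} {F : FusionSystem S} (hTS : T ≤ S)
    (hsub : E.IsSubsystemOf F) (p : ℕ) :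
    E.hyperfocalSubgroup p ≤ F.hyperfocalSubgroup p := by
  have h0 : E.hyperfocalSubgroup p = Subgroup.closure {y : Ω | ∃ (P : Subgroup Ω)
      (α : E.autGroup P) (x : P), P ≤ T ∧ α ∈ pResidual p (E.autGroup P) ∧
      y = (x : Ω)⁻¹ * ((α : MulAut P) x : P)} := rfl
  rw [h0, Subgroup.closure_le]
  rintro y ⟨P, α, x, hP, hα, rfl⟩
  have hle : E.autGroup P ≤ F.autGroup P := by
    intro β hβ
    have hm := ((mem_autGroup_iff hP β).mp hβ).of_subsystem hsub
    exact (mem_autGroup_iff (le_trans hP hTS) β).mpr hm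
  have h1 := pResidual_map_mem p (Subgroup.inclusion hle) hα
  exact Subgroup.subset_closure ⟨P, Subgroup.inclusion hle α, x, le_trans hP hTS, h1, rfl⟩

theorem hyp_ge_of_ppow [Finite S] {p : ℕ} [Fact p.Prime] (hS : IsPGroup p S)
    {F : FusionSystem S} {T : Subgroup Ω} {E : FusionSystem T} (hsc : F.StronglyClosed T)
    (hidx : E.HasPPowerIndexIn F p) :
    F.hyperfocalSubgroup p ≤ E.hyperfocalSubgroup p := by
  have hTS := hsc.1
  have hHT : F.hyperfocalSubgroup p ≤ T := hidx.2.1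
  have hHET : E.hyperfocalSubgroup p ≤ T := Cfsg.Agent.Helper26.hyperfocal_le E p
  have key : ∀ (P : Subgroup Ω) (hP : P ≤ S) (α : MulAut P), α ∈ F.autGroup P →
      Nat.Coprime (orderOf α) p → ∀ x : P,
      (x : Ω)⁻¹ * ((α x : P) : Ω) ∈ E.hyperfocalSubgroup p := by
    intro P hP α hα hcop x
    have hm : Mor F P (autFn α) := (mem_autGroup_iff hP α).mp hα
    have hstar : ∀ q : P, (q : Ω) ∈ T →
        (q : Ω)⁻¹ * ((α q : P) : Ω) ∈ E.hyperfocalSubgroup p := by
      have hQP : P ⊓ T ≤ P := inf_le_left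
      have hQT : P ⊓ T ≤ T := inf_le_right
      have hmQ : Mor F (P ⊓ T) (autFn α) := hm.restrict hQP
      have hmaps : ∀ z ∈ P ⊓ T, autFn α z ∈ P ⊓ T := by
        intro z hz
        refine Subgroup.mem_inf.mpr ⟨autFn_mem α (hQP hz), ?_⟩
        obtain ⟨φ, hφ, hφf⟩ := hmQ
        rw [← hφf ⟨z, hz⟩]
        exact hsc.2 (P ⊓ T) hQT φ hφ ⟨z, hz⟩
      haveI : Finite ↥(P ⊓ T) := finite_of_le (le_trans hQT hTS)
      obtain ⟨β, hβ, hβf⟩ := exists_aut_of_mor hmQ hmaps
      have hpow : ∀ (k : ℕ) (q : ↥(P ⊓ T)),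
          (((β ^ k) q : ↥(P ⊓ T)) : Ω) = (((α ^ k) ⟨q, hQP q.2⟩ : P) : Ω) := by
        intro k
        induction k with
        | zero => intro q; rfl
        | succ k ih =>
          intro q
          rw [pow_succ', pow_succ']
          show ((β ((β ^ k) q) : ↥(P ⊓ T)) : Ω) = ((α ((α ^ k) ⟨q, hQP q.2⟩) : P) : Ω)
          rw [hβf, autFn_of_mem α (hQP ((β ^ k) q).2)]
          have h5 : (⟨(((β ^ k) q : ↥(P ⊓ T)) : Ω), hQP ((β ^ k) q).2⟩ : P) =
              (α ^ k) ⟨q, hQP q.2⟩ := Subtype.ext (ih q)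
          rw [h5]
      have hβord : Nat.Coprime (orderOf β) p := by
        have hone : β ^ orderOf α = 1 := by
          apply MulEquiv.ext
          intro q
          apply Subtype.ext
          rw [hpow, pow_orderOf_eq_one]
          rfl
        exact Nat.Coprime.coprime_dvd_left (orderOf_dvd_of_pow_eq_one hone) hcop
      have hβF : (⟨β, hβ⟩ : F.autGroup (P ⊓ T)) ∈ pResidual p (F.autGroup (P ⊓ T)) := by
        refine Subgroup.subset_closure ?_
        show Nat.Coprime (orderOf (⟨β, hβ⟩ : F.autGroup (P ⊓ T))) p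
        have h3 : orderOf (⟨β, hβ⟩ : F.autGroup (P ⊓ T)) = orderOf β :=
          (Subgroup.orderOf_coe (⟨β, hβ⟩ : F.autGroup (P ⊓ T))).symm
        rw [h3]
        exact hβord
      have hβE : β ∈ E.autGroup (P ⊓ T) := hidx.2.2 (P ⊓ T) hQT ⟨⟨β, hβ⟩, hβF, rfl⟩
      have hβE' : (⟨β, hβE⟩ : E.autGroup (P ⊓ T)) ∈ pResidual p (E.autGroup (P ⊓ T)) := by
        refine Subgroup.subset_closure ?_
        show Nat.Coprime (orderOf (⟨β, hβE⟩ : E.autGroup (P ⊓ T))) p
        have h3 : orderOf (⟨β, hβE⟩ : E.autGroup (P ⊓ T)) = orderOf β :=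
          (Subgroup.orderOf_coe (⟨β, hβE⟩ : E.autGroup (P ⊓ T))).symm
        rw [h3]
        exact hβord
      intro q hqT
      have hqQ : (q : Ω) ∈ P ⊓ T := Subgroup.mem_inf.mpr ⟨q.2, hqT⟩
      have h1 : ((⟨q, hqQ⟩ : ↥(P ⊓ T)) : Ω)⁻¹ * ((β ⟨q, hqQ⟩ : ↥(P ⊓ T)) : Ω) ∈
          E.hyperfocalSubgroup p :=
        Subgroup.subset_closure ⟨P ⊓ T, ⟨β, hβE⟩, ⟨q, hqQ⟩, hQT, hβE', rfl⟩
      rw [hβf ⟨q, hqQ⟩, autFn_of_mem α q.2] at h1
      exact h1
    have hyH : (x : Ω)⁻¹ * ((α x : P) : Ω) ∈ F.hyperfocalSubgroup p := by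
      have hαF : (⟨α, hα⟩ : F.autGroup P) ∈ pResidual p (F.autGroup P) := by
        refine Subgroup.subset_closure ?_
        show Nat.Coprime (orderOf (⟨α, hα⟩ : F.autGroup P)) p
        have h3 : orderOf (⟨α, hα⟩ : F.autGroup P) = orderOf α :=
          (Subgroup.orderOf_coe (⟨α, hα⟩ : F.autGroup P)).symm
        rw [h3]
        exact hcop
      exact Subgroup.subset_closure ⟨P, ⟨α, hα⟩, x, hP, hαF, rfl⟩
    obtain ⟨y, hy⟩ : ∃ y : Ω, y = (x : Ω)⁻¹ * ((α x : P) : Ω) := ⟨_, rfl⟩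
    rw [← hy] at hyH ⊢
    have hyT : y ∈ T := hHT hyH
    have hind : ∀ k : ℕ, ∃ h ∈ E.hyperfocalSubgroup p,
        (x : Ω)⁻¹ * (((α ^ k) x : P) : Ω) = y ^ k * h := by
      intro k
      induction k with
      | zero =>
        refine ⟨1, Subgroup.one_mem _, ?_⟩
        show (x : Ω)⁻¹ * (x : Ω) = y ^ 0 * 1
        rw [inv_mul_cancel, pow_zero, one_mul]
      | succ k ih =>
        obtain ⟨h, hh, hk⟩ := ih
        obtain ⟨w, hw⟩ : ∃ w : P, w = x⁻¹ * (α ^ k) x := ⟨_, rfl⟩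
        have hwv : (w : Ω) = y ^ k * h := by
          rw [hw]
          exact hk
        have hwT : (w : Ω) ∈ T := by
          rw [hwv]
          exact T.mul_mem (T.pow_mem hyT k) (hHET hh)
        have h2 := hstar w hwT
        refine ⟨h * ((w : Ω)⁻¹ * ((α w : P) : Ω)), Subgroup.mul_mem _ hh h2, ?_⟩
        have h3 : (α ^ (k + 1)) x = α x * α w := by
          rw [pow_succ', ← map_mul, hw]
          show α ((α ^ k) x) = α (x * (x⁻¹ * (α ^ k) x))
          rw [mul_inv_cancel_left]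
        rw [h3]
        show (x : Ω)⁻¹ * (((α x : P) : Ω) * ((α w : P) : Ω)) =
          y ^ (k + 1) * (h * ((w : Ω)⁻¹ * ((α w : P) : Ω)))
        have h6 : y ^ (k + 1) * (h * ((w : Ω)⁻¹ * ((α w : P) : Ω))) =
            y * ((y ^ k * h) * ((w : Ω)⁻¹ * ((α w : P) : Ω))) := by
          rw [pow_succ']
          simp only [mul_assoc]
        rw [h6, ← hwv, hy]
        simp only [mul_assoc, mul_inv_cancel_left]
    obtain ⟨h, hh, hm'⟩ := hind (orderOf α)
    rw [pow_orderOf_eq_one] at hm'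
    have h4 : y ^ orderOf α = h⁻¹ := by
      have h7 : (x : Ω)⁻¹ * (x : Ω) = y ^ orderOf α * h := hm'
      rw [inv_mul_cancel] at h7
      exact eq_inv_of_mul_eq_one_left h7.symm
    have h5 : y ^ orderOf α ∈ E.hyperfocalSubgroup p := by
      rw [h4]
      exact Subgroup.inv_mem _ hh
    have hyS : y ∈ S := hTS hyT
    obtain ⟨j, hj⟩ := (IsPGroup.iff_orderOf.mp hS) ⟨y, hyS⟩
    have hoy : orderOf y = p ^ j := by
      rw [← hj]
      exact (Subgroup.orderOf_coe (⟨y, hyS⟩ : S))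
    have hc2 : Nat.Coprime (orderOf α) (orderOf y) := by
      rw [hoy]
      exact Nat.Coprime.pow_right j hcop
    obtain ⟨n, hn⟩ := exists_pow_eq_self_of_coprime hc2
    rw [← hn]
    exact Subgroup.pow_mem _ h5 n
  have h0 : F.hyperfocalSubgroup p = Subgroup.closure {y : Ω | ∃ (P : Subgroup Ω)
      (α : F.autGroup P) (x : P), P ≤ S ∧ α ∈ pResidual p (F.autGroup P) ∧
      y = (x : Ω)⁻¹ * ((α : MulAut P) x : P)} := rfl
  rw [h0, Subgroup.closure_le]
  rintro y ⟨P, α, x, hP, hα, rfl⟩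
  let K : Subgroup (F.autGroup P) :=
    { carrier := {a | ∀ x : P, (x : Ω)⁻¹ * (((a : MulAut P) x : P) : Ω) ∈
        E.hyperfocalSubgroup p}
      mul_mem' := by
        intro a b ha hb x
        have h1 := hb x
        have h2 := ha ((b : MulAut P) x)
        have h3 : (x : Ω)⁻¹ * ((((a * b : F.autGroup P) : MulAut P) x : P) : Ω) =
            ((x : Ω)⁻¹ * (((b : MulAut P) x : P) : Ω)) *
              ((((b : MulAut P) x : P) : Ω)⁻¹ *
                (((a : MulAut P) ((b : MulAut P) x) : P) : Ω)) := by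
          show (x : Ω)⁻¹ * (((a : MulAut P) ((b : MulAut P) x) : P) : Ω) = _
          simp only [mul_assoc, mul_inv_cancel_left]
        rw [h3]
        exact Subgroup.mul_mem _ h1 h2
      one_mem' := by
        intro x
        show (x : Ω)⁻¹ * (x : Ω) ∈ E.hyperfocalSubgroup p
        rw [inv_mul_cancel]
        exact Subgroup.one_mem _
      inv_mem' := by
        intro a ha x
        have h1 := ha ((a : MulAut P)⁻¹ x)
        rw [MulAut.apply_inv_self] at h1
        have h2 := Subgroup.inv_mem _ h1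
        rw [mul_inv_rev, inv_inv] at h2
        exact h2 }
  have hle : pResidual p (F.autGroup P) ≤ K := by
    have h1 : pResidual p ↥(F.autGroup P) =
        Subgroup.closure {g | Nat.Coprime (orderOf g) p} := rfl
    rw [h1, Subgroup.closure_le]
    intro a ha x
    have hc : Nat.Coprime (orderOf (a : MulAut P)) p := by
      rw [Subgroup.orderOf_coe]
      exact ha
    exact key P hP (a : MulAut P) a.2 hc x
  exact hle hα x

end Cfsg.Agent.Helper27
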