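import Cfsg.Agent.Helper27.ResLim1

set_option autoImplicit false

namespace Cfsg.Agent.Helper27

open Cfsg Cfsg.FusionSystem

universe u

variable {Ω : Type u} [Group Ω] {S : Subgroup Ω}

theorem limit_of_stable {p : ℕ} {V T₁ : Subgroup Ω} {L : FusionSystem V} {F₁ : FusionSystem T₁}
    (h : L.IsResidualLimitOf F₁ p) :
    ∀ [Fact p.Prime], Finite T₁ → IsPGroup p T₁ → ∀ {T₂ : Subgroup Ω} (F₂ : FusionSystem T₂),
      SameSys F₁ F₂ → F₂.hyperfocalSubgroup p = T₂ → F₂.IsPPrimeResidual p F₂ →
      SameSys L F₂ := by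
  induction h with
  | stable F p h1 h2 =>
    intro _ _ _ T₂ F₂ hs _ _
    exact hs
  | step F p D D' hD hD' hL ih =>
    intro _ hfin hp T₂ F₂ hs hst hpp
    obtain ⟨hT, hh⟩ := hs
    subst hT
    have he : F = F₂ := fusionSystem_ext' hh
    subst he
    have hle := Cfsg.Agent.Helper26.hyperfocal_le F p
    haveI := hfin
    haveI : Finite ↥(F.hyperfocalSubgroup p) := finite_of_le hle
    have hpH : IsPGroup p ↥(F.hyperfocalSubgroup p) := hp.to_le hle
    have hDF : SameSys D F := ppow_unique hst hpH (F := F) D F hD.1 hpp.1 hD.2.1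
      (fun P => subset_rfl) hD.2.2.2 (fun P hP => Subgroup.map_subtype_le _)
    have hD'F : SameSys D' F := ppr_unique hDF hD' hpp
    exact ih (by infer_instance) hpH F hD'F hst hpp

theorem limit_unique {p : ℕ} {V₁ T₁ : Subgroup Ω} {L₁ : FusionSystem V₁} {F₁ : FusionSystem T₁}
    (h₁ : L₁.IsResidualLimitOf F₁ p) :
    ∀ [Fact p.Prime], Finite T₁ → IsPGroup p T₁ → ∀ {T₂ V₂ : Subgroup Ω} {F₂ : FusionSystem T₂}
      {L₂ : FusionSystem V₂}, SameSys F₁ F₂ → L₂.IsResidualLimitOf F₂ p → SameSys L₁ L₂ := by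
  induction h₁ with
  | stable F p hst hpp =>
    intro _ hfin hp T₂ V₂ F₂ L₂ hs h₂
    obtain ⟨hT, hh⟩ := hs
    subst hT
    have he : F = F₂ := fusionSystem_ext' hh
    subst he
    exact (limit_of_stable h₂ hfin hp F (SameSys.refl F) hst hpp).symm
  | step F p D D' hD hD' hL ih =>
    intro _ hfin hp T₂ V₂ F₂ L₂ hs h₂
    obtain ⟨hT, hh⟩ := hs
    subst hT
    have he : F = F₂ := fusionSystem_ext' hh
    subst he
    have hle := Cfsg.Agent.Helper26.hyperfocal_le F p
    haveI := hfin
    haveI : Finite ↥(F.hyperfocalSubgroup p) := finite_of_le hle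
    have hpH : IsPGroup p ↥(F.hyperfocalSubgroup p) := hp.to_le hle
    cases h₂ with
    | stable _ _ hst hpp =>
      exact limit_of_stable (IsResidualLimitOf.step F p D D' hD hD' hL) hfin hp F
        (SameSys.refl F) hst hpp
    | step _ _ D₂ D₂' hD₂ hD₂' hL₂ =>
      have hDD : SameSys D D₂ := ppow_unique rfl hpH (F := F) D D₂ hD.1 hD₂.1 hD.2.1 hD₂.2.1
        hD.2.2.2 hD₂.2.2.2
      have hD'D' : SameSys D' D₂' := ppr_unique hDD hD' hD₂'
      exact ih (by infer_instance) hpH hD'D' hL₂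

/-- a normal subsystem of `p`-power index has the same residual limit -/
theorem residual_limit_eq [Finite S] {p : ℕ} [Fact p.Prime] (hS : IsPGroup p S)
    {F : FusionSystem S} (hF : F.IsSaturated p) {T : Subgroup Ω} {E : FusionSystem T}
    (hE : E.IsNormalIn F p) (hidx : E.HasPPowerIndexIn F p) {U V : Subgroup Ω}
    {Finf : FusionSystem U} (hFinf : Finf.IsResidualLimitOf F p) {Einf : FusionSystem V}
    (hEinf : Einf.IsResidualLimitOf E p) : SameSys Finf Einf := by
  have hsc : F.StronglyClosed T := hE.1.2.2.2.1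
  have hTS : T ≤ S := hsc.1
  haveI : Finite T := finite_of_le hTS
  have hpT : IsPGroup p T := hS.to_le hTS
  have hEsat : E.IsSaturated p := hE.1.1
  have hsub : E.IsSubsystemOf F := hidx.1
  have hhyp : E.hyperfocalSubgroup p = F.hyperfocalSubgroup p :=
    le_antisymm (hyp_le_of_sub hTS hsub p) (hyp_ge_of_ppow hS hsc hidx)
  have hleF := Cfsg.Agent.Helper26.hyperfocal_le F p
  have hleE := Cfsg.Agent.Helper26.hyperfocal_le E p
  haveI : Finite ↥(F.hyperfocalSubgroup p) := finite_of_le hleF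
  haveI : Finite ↥(E.hyperfocalSubgroup p) := finite_of_le (le_trans hleE hTS)
  have hpHF : IsPGroup p ↥(F.hyperfocalSubgroup p) := hS.to_le hleF
  have hpHE : IsPGroup p ↥(E.hyperfocalSubgroup p) := hS.to_le (le_trans hleE hTS)
  have haut : ∀ (D_E : FusionSystem (E.hyperfocalSubgroup p)), E.IsPResidual p D_E →
      ∀ P : Subgroup Ω, P ≤ E.hyperfocalSubgroup p →
      (pResidual p (F.autGroup P)).map (F.autGroup P).subtype ≤ D_E.autGroup P := by
    intro D_E hD_E P hP
    have hPT : P ≤ T := le_trans hP hleE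
    refine le_trans ?_ (hD_E.2.2.2 P hP)
    rw [Subgroup.map_le_iff_le_comap]
    have h0 : pResidual p ↥(F.autGroup P) =
        Subgroup.closure {g | Nat.Coprime (orderOf g) p} := rfl
    rw [h0, Subgroup.closure_le]
    intro β hβ
    show ((β : F.autGroup P) : MulAut P) ∈
      (pResidual p (E.autGroup P)).map (E.autGroup P).subtype
    have hβE : (β : MulAut P) ∈ E.autGroup P :=
      hidx.2.2 P hPT ⟨β, Subgroup.subset_closure hβ, rfl⟩
    refine ⟨⟨(β : MulAut P), hβE⟩, Subgroup.subset_closure ?_, rfl⟩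
    show Nat.Coprime (orderOf (⟨(β : MulAut P), hβE⟩ : E.autGroup P)) p
    have h3 : orderOf (⟨(β : MulAut P), hβE⟩ : E.autGroup P) = orderOf (β : MulAut P) :=
      (Subgroup.orderOf_coe (⟨(β : MulAut P), hβE⟩ : E.autGroup P)).symm
    rw [h3, Subgroup.orderOf_coe]
    exact hβ
  cases hFinf with
  | stable _ _ hst hpp =>
    have hTeq : T = S := by
      apply le_antisymm hTS
      rw [← hst]
      exact hidx.2.1
    have hEF : SameSys E F := ppow_unique hTeq hpT (F := F) E F hEsat hF hsub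
      (fun P => subset_rfl) hidx.2.2 (fun P hP => Subgroup.map_subtype_le _)
    exact (limit_unique hEinf (by infer_instance) hpT hEF
      (IsResidualLimitOf.stable F p hst hpp)).symm
  | step _ _ D D' hD hD' hL =>
    cases hEinf with
    | stable _ _ hstE hppE =>
      have hT2 : T = F.hyperfocalSubgroup p := hstE.symm.trans hhyp
      have hED : SameSys E D := ppow_unique hT2 hpT (F := F) E D hEsat hD.1 hsub hD.2.1
        hidx.2.2 hD.2.2.2
      have hD'E : SameSys D' E := ppr_unique hED.symm hD' hppE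
      exact limit_of_stable hL (by infer_instance) hpHF E hD'E hstE hppE
    | step _ _ D_E D_E' hD_E hD_E' hL_E =>
      have hDD : SameSys D_E D := ppow_unique hhyp hpHE (F := F) D_E D hD_E.1 hD.1
        (fun P φ h => hsub P (hD_E.2.1 P h)) hD.2.1 (haut D_E hD_E) hD.2.2.2
      have hD'D' : SameSys D_E' D' := ppr_unique hDD hD_E' hD'
      exact (limit_unique hL_E (by infer_instance) hpHE hD'D' hL).symm

end Cfsg.Agent.Helper27
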