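import Mathlib
import Cfsg.Prelude.Def_Transfer
import Cfsg.Agent.Helper1.NC
import Cfsg.Agent.Lead.S4016D
import Cfsg.Agent.Lead.S4016T
import Cfsg.Agent.Helper12.S4016B

set_option autoImplicit false

namespace Cfsg.Agent.S4016P

open Cfsg.Agent.Helper1

/-- a subgroup without elements of order `p` has order prime to `p` -/
theorem h27_not_dvd_card {G : Type*} [Group G] [Finite G] {p : ℕ} [Fact p.Prime]
    (K : Subgroup G) (h : ∀ y ∈ K, y ^ p = 1 → y = 1) : ¬ p ∣ Nat.card K := by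
  intro hdvd
  obtain ⟨y, hy⟩ := exists_prime_orderOf_dvd_card' p hdvd
  have h1 : (y : G) ^ p = 1 := by
    have h0 : y ^ p = 1 := by rw [← hy]; exact pow_orderOf_eq_one y
    simpa using congrArg Subtype.val h0
  have h2 : (y : G) = 1 := h _ y.2 h1
  have h3 : y = 1 := Subtype.ext h2
  rw [h3, orderOf_one] at hy
  exact (Fact.out : p.Prime).one_lt.ne hy

theorem h27_eq_one_of_pow {G : Type*} [Group G] [Finite G] {p : ℕ} [Fact p.Prime]
    (K : Subgroup G) (hK : ¬ p ∣ Nat.card K) {y : G} (hy : y ∈ K) (k : ℕ)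
    (hyk : y ^ (p ^ k) = 1) : y = 1 := by
  have hp : p.Prime := Fact.out
  have h1 : orderOf y ∣ p ^ k := orderOf_dvd_of_pow_eq_one hyk
  have h2 : orderOf y ∣ Nat.card K := Subgroup.orderOf_dvd_natCard K hy
  have h3 : (Nat.card K).Coprime (p ^ k) :=
    Nat.Coprime.pow_right k ((Nat.Prime.coprime_iff_not_dvd hp).mpr hK).symm
  have h4 := Nat.dvd_gcd h2 h1
  rw [Nat.Coprime.gcd_eq_one h3] at h4
  exact orderOf_eq_one_iff.mp (Nat.dvd_one.mp h4)

theorem h27_pow_card {G : Type*} [Group G] [Finite G] {p : ℕ} [Fact p.Prime] (P : Sylow p G) :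
    ∃ m : ℕ, ∀ u ∈ (P : Subgroup G), u ^ (p ^ m) = 1 := by
  obtain ⟨m, hm⟩ := IsPGroup.iff_card.mp P.isPGroup'
  refine ⟨m, fun u hu => ?_⟩
  have h1 : (⟨u, hu⟩ : (P : Subgroup G)) ^ (Nat.card (P : Subgroup G)) = 1 := pow_card_eq_one'
  rw [hm] at h1
  simpa using congrArg Subtype.val h1

theorem h27_comm_of {G : Type*} [Group G] (K : Subgroup G) (h : IsMulCommutative K) {a b : G}
    (ha : a ∈ K) (hb : b ∈ K) : a * b = b * a :=
  congrArg Subtype.val (h.is_comm.comm ⟨a, ha⟩ ⟨b, hb⟩)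

theorem h27_cyc_all {G : Type*} [Group G] [Finite G] {p : ℕ} [Fact p.Prime] (P : Sylow p G)
    (hcyc : IsCyclic P) (Q : Sylow p G) : IsCyclic Q := by
  obtain ⟨g, rfl⟩ := MulAction.exists_smul_eq G P Q
  exact isCyclic_of_surjective (Sylow.equivSMul P g) (Sylow.equivSMul P g).surjective

theorem h27_cyc_pgroup {G : Type*} [Group G] [Finite G] {p : ℕ} [Fact p.Prime] (P : Sylow p G)
    (hcyc : IsCyclic P) (K : Subgroup G) (hK : IsPGroup p K) : IsCyclic K := by
  obtain ⟨Q, hQ⟩ := hK.exists_le_sylow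
  haveI := h27_cyc_all P hcyc Q
  exact isCyclic_of_injective (Subgroup.inclusion hQ) (Subgroup.inclusion_injective hQ)

theorem h27_cyc_sub {G : Type*} [Group G] [Finite G] {p : ℕ} [Fact p.Prime] (P : Sylow p G)
    (hcyc : IsCyclic P) (H : Subgroup G) (P1 : Sylow p H) : IsCyclic P1 := by
  haveI : IsCyclic ((P1 : Subgroup H).map H.subtype) :=
    h27_cyc_pgroup P hcyc _ (P1.isPGroup'.map H.subtype)
  exact isCyclic_of_injective
    ((P1 : Subgroup H).equivMapOfInjective H.subtype H.subtype_injective).toMonoidHom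
    ((P1 : Subgroup H).equivMapOfInjective H.subtype H.subtype_injective).injective

theorem h27_hab_sub {G : Type*} [Group G] [Finite G] {p : ℕ}
    (hab : ∀ H : Subgroup G, ¬ p ∣ Nat.card H → IsMulCommutative H) (H : Subgroup G)
    (K : Subgroup H) (hK : ¬ p ∣ Nat.card K) : IsMulCommutative K := by
  have h1 : Nat.card (K.map H.subtype) = Nat.card K :=
    Nat.card_congr (K.equivMapOfInjective H.subtype H.subtype_injective).toEquiv.symm
  have h2 := hab (K.map H.subtype) (by rw [h1]; exact hK)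
  refine ⟨⟨fun a b => ?_⟩⟩
  have h4 : ((a : H) : G) * ((b : H) : G) = ((b : H) : G) * ((a : H) : G) :=
    h27_comm_of _ h2 (Subgroup.mem_map_of_mem H.subtype a.2) (Subgroup.mem_map_of_mem H.subtype b.2)
  exact Subtype.ext (Subtype.ext h4)

theorem h27_hab_quot {G : Type*} [Group G] [Finite G] {p : ℕ} [Fact p.Prime]
    (hab : ∀ H : Subgroup G, ¬ p ∣ Nat.card H → IsMulCommutative H) (R : Subgroup G)
    [R.Normal] (hR : ¬ p ∣ Nat.card R) (K : Subgroup (G ⧸ R)) (hK : ¬ p ∣ Nat.card K) :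
    IsMulCommutative K := by
  have h1 : ¬ p ∣ Nat.card (K.comap (QuotientGroup.mk' R)) := by
    apply h27_not_dvd_card
    intro y hy hyp
    have h2 : (QuotientGroup.mk' R y) = 1 := by
      apply h27_eq_one_of_pow K hK (Subgroup.mem_comap.mp hy) 1
      rw [pow_one, ← map_pow, hyp, map_one]
    have h3 : y ∈ R := by
      rw [← QuotientGroup.ker_mk' R]; exact h2
    exact h27_eq_one_of_pow R hR h3 1 (by rw [pow_one]; exact hyp)
  have h4 := hab _ h1
  refine ⟨⟨fun a b => ?_⟩⟩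
  obtain ⟨a', ha'⟩ := QuotientGroup.mk'_surjective R (a : G ⧸ R)
  obtain ⟨b', hb'⟩ := QuotientGroup.mk'_surjective R (b : G ⧸ R)
  have ha'' : a' ∈ K.comap (QuotientGroup.mk' R) := by rw [Subgroup.mem_comap, ha']; exact a.2
  have hb'' : b' ∈ K.comap (QuotientGroup.mk' R) := by rw [Subgroup.mem_comap, hb']; exact b.2
  have h5 := h27_comm_of _ h4 ha'' hb''
  apply Subtype.ext
  show (a : G ⧸ R) * (b : G ⧸ R) = (b : G ⧸ R) * (a : G ⧸ R)
  rw [← ha', ← hb', ← map_mul, ← map_mul, h5]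

theorem h27_npc_sub {G : Type*} [Group G] [Finite G] {p : ℕ} [Fact p.Prime] (N : Subgroup G)
    (hN : N.Normal) (hnpc : Cfsg.HasNormalPComplement p N) :
    ∃ R : Subgroup G, R.Normal ∧ ¬ p ∣ Nat.card R ∧ (R = ⊥ → IsPGroup p N) := by
  have hp : p.Prime := Fact.out
  obtain ⟨K, hK, hKc, hKe⟩ := lead_npc_data hnpc
  have hKp : ¬ p ∣ Nat.card K := (Nat.Prime.coprime_iff_not_dvd hp).mp hKc.symm
  refine ⟨K.map N.subtype, ⟨?_⟩, ?_, ?_⟩
  · rintro r hr g
    obtain ⟨k, hk, rfl⟩ := Subgroup.mem_map.mp hr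
    have hmem : g * (k : G) * g⁻¹ ∈ N := hN.conj_mem _ k.2 g
    refine Subgroup.mem_map.mpr ⟨⟨_, hmem⟩, ?_, rfl⟩
    apply hKe
    have h2 : (k : G) ^ (Nat.card K) = 1 := by
      have h0 : (⟨k, hk⟩ : K) ^ (Nat.card K) = 1 := pow_card_eq_one'
      have h00 := congrArg (fun z : K => ((z : N) : G)) h0
      simp only [SubmonoidClass.coe_pow, OneMemClass.coe_one] at h00
      exact h00
    have h1 : (⟨g * (k : G) * g⁻¹, hmem⟩ : N) ^ (Nat.card K) = 1 := by
      apply Subtype.ext
      simp [conj_pow, h2]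
    exact Nat.Coprime.coprime_dvd_left (orderOf_dvd_of_pow_eq_one h1) hKc
  · rw [Nat.card_congr (K.equivMapOfInjective N.subtype N.subtype_injective).toEquiv.symm]
    exact hKp
  · intro hbot
    have hKbot : K = ⊥ := (Subgroup.map_eq_bot_iff_of_injective K N.subtype_injective).mp hbot
    intro c
    obtain ⟨k, m, hm, hkm⟩ := Nat.exists_eq_pow_mul_and_not_dvd (orderOf_pos c).ne' p hp.ne_one
    refine ⟨k, ?_⟩
    have h1 : (c ^ (p ^ k)) ^ m = 1 := by rw [← pow_mul, ← hkm]; exact pow_orderOf_eq_one c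
    have h2 : c ^ (p ^ k) ∈ K :=
      hKe _ (Nat.Coprime.coprime_dvd_left (orderOf_dvd_of_pow_eq_one h1)
        ((Nat.Prime.coprime_iff_not_dvd hp).mpr hm).symm)
    rw [hKbot] at h2
    exact Subgroup.mem_bot.mp h2

theorem h27_normal_sylow_sub {G : Type*} [Group G] [Finite G] {p : ℕ} [Fact p.Prime]
    (N : Subgroup G) (P1 : Sylow p N) (hP1 : (P1 : Subgroup N).Normal) (g : G) (u : N)
    (hu : u ∈ (P1 : Subgroup N)) (hmem : g * (u : G) * g⁻¹ ∈ N) :
    (⟨g * (u : G) * g⁻¹, hmem⟩ : N) ∈ (P1 : Subgroup N) := by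
  obtain ⟨m, hm⟩ := h27_pow_card P1
  have hnorm : (⟨g * (u : G) * g⁻¹, hmem⟩ : N) ∈
      Subgroup.normalizer ((P1 : Subgroup N) : Set N) := by
    rw [Subgroup.mem_normalizer_iff]
    intro h
    constructor
    · intro hh; exact hP1.conj_mem h hh _
    · intro hh
      have h0 := hP1.conj_mem _ hh (⟨g * (u : G) * g⁻¹, hmem⟩ : N)⁻¹
      simpa [mul_assoc] using h0
  apply mem_sylow_of_mem_normalizer_of_pow_eq_one P1 _ hnorm m
  apply Subtype.ext
  have h2 : (u : G) ^ (p ^ m) = 1 := by simpa using congrArg Subtype.val (hm u hu)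
  simp [conj_pow, h2]

theorem h27_surj {G : Type*} [Group G] [Finite G] {p : ℕ} [Fact p.Prime] (P : Sylow p G)
    {x : G} (hxN : x ∈ Subgroup.normalizer ((P : Subgroup G) : Set G))
    (hF : ∀ u ∈ (P : Subgroup G), x * u = u * x → u = 1) :
    ∀ c ∈ (P : Subgroup G), ∃ u ∈ (P : Subgroup G), c = u⁻¹ * (x * u * x⁻¹) := by
  have hmem : ∀ u ∈ (P : Subgroup G), x * u * x⁻¹ ∈ (P : Subgroup G) :=
    fun u hu => (Subgroup.mem_normalizer_iff.mp hxN u).mp hu
  let f : ↥(P : Subgroup G) → ↥(P : Subgroup G) :=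
    fun u => ⟨(u : G)⁻¹ * (x * u * x⁻¹), mul_mem (inv_mem u.2) (hmem _ u.2)⟩
  have hinj : Function.Injective f := by
    intro u v huv
    have h1 : (u : G)⁻¹ * (x * u * x⁻¹) = (v : G)⁻¹ * (x * v * x⁻¹) := congrArg Subtype.val huv
    have h1' : x * (u : G) * x⁻¹ = (u : G) * ((v : G)⁻¹ * (x * v * x⁻¹)) := by
      rw [← h1, mul_inv_cancel_left]
    have h2 : x * ((u : G) * (v : G)⁻¹) = ((u : G) * (v : G)⁻¹) * x := by
      calc x * ((u : G) * (v : G)⁻¹) = (x * (u : G) * x⁻¹) * (x * (v : G)⁻¹) := by group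
        _ = (u : G) * ((v : G)⁻¹ * (x * v * x⁻¹)) * (x * (v : G)⁻¹) := by rw [h1']
        _ = ((u : G) * (v : G)⁻¹) * x := by group
    have h3 := hF _ (mul_mem u.2 (inv_mem v.2)) h2
    exact Subtype.ext (mul_inv_eq_one.mp h3)
  have hsurj : Function.Surjective f := Finite.injective_iff_surjective.mp hinj
  intro c hc
  obtain ⟨u, hu⟩ := hsurj ⟨c, hc⟩
  exact ⟨u, u.2, (congrArg Subtype.val hu).symm⟩

theorem h27_map_normalizer {G H : Type*} [Group G] [Group H] (f : G →* H) (P : Subgroup G)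
    {x : G} (hx : x ∈ Subgroup.normalizer (P : Set G)) :
    f x ∈ Subgroup.normalizer ((P.map f : Subgroup H) : Set H) := by
  rw [Subgroup.mem_normalizer_iff]
  intro h
  constructor
  · intro hh
    obtain ⟨u, hu, rfl⟩ := Subgroup.mem_map.mp hh
    exact Subgroup.mem_map.mpr ⟨x * u * x⁻¹, (Subgroup.mem_normalizer_iff.mp hx u).mp hu, by simp⟩
  · intro hh
    obtain ⟨v, hv, hvh⟩ := Subgroup.mem_map.mp hh
    refine Subgroup.mem_map.mpr ⟨x⁻¹ * v * x, ?_, ?_⟩
    · have h0 := (Subgroup.mem_normalizer_iff.mp (inv_mem hx) v).mp hv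
      simpa using h0
    · rw [map_mul, map_mul, map_inv, hvh]; group

/-- Step 2: a minimal counterexample has no nontrivial normal subgroup of order prime to `p`. -/
theorem h27_step2.{u} {G : Type u} [Group G] [Finite G] {p : ℕ} [Fact p.Prime] (P : Sylow p G)
    (hcyc : IsCyclic P) (hab : ∀ H : Subgroup G, ¬ p ∣ Nat.card H → IsMulCommutative H)
    (ih : ∀ (G' : Type u) [Group G'] [Finite G'], Nat.card G' < Nat.card G →
      ∀ (P' : Sylow p G'), IsCyclic P' →
      (∀ H : Subgroup G', ¬ p ∣ Nat.card H → IsMulCommutative H) →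
      Cfsg.HasNormalPComplement p G' ∨ (P' : Subgroup G').Normal)
    (hPn : ¬ (P : Subgroup G).Normal)
    {x : G} (hxN : x ∈ Subgroup.normalizer ((P : Subgroup G) : Set G))
    (hxo : (orderOf x).Coprime p)
    (hxC : x ∉ Subgroup.centralizer ((P : Subgroup G) : Set G))
    (hF : ∀ u ∈ (P : Subgroup G), x * u = u * x → u = 1)
    (R : Subgroup G) (hRn : R.Normal) (hR : ¬ p ∣ Nat.card R) : R = ⊥ := by
  by_contra hRne
  haveI := hRn
  have hp : p.Prime := Fact.out
  -- (a) `x` centralizes `R`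
  have hxR : ∀ r ∈ R, r * x = x * r := by
    have hM : ¬ p ∣ Nat.card (R ⊔ Subgroup.zpowers x : Subgroup G) := by
      apply h27_not_dvd_card
      intro y hy hyp
      have hy' : y ∈ ((R ⊔ Subgroup.zpowers x : Subgroup G) : Set G) := hy
      rw [Subgroup.normal_mul] at hy'
      obtain ⟨r, hr, z, hz, rfl⟩ := Set.mem_mul.mp hy'
      have hr' : r ∈ R := hr
      have hz' : z ∈ Subgroup.zpowers x := hz
      have hzR : z ∈ R := by
        have h0 : QuotientGroup.mk' R (r * z) = QuotientGroup.mk' R z := by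
          rw [map_mul]
          have h00 : QuotientGroup.mk' R r = 1 := (QuotientGroup.eq_one_iff r).mpr hr'
          rw [h00, one_mul]
        have h1 : (QuotientGroup.mk' R z) ^ p = 1 := by
          rw [← h0, ← map_pow, hyp, map_one]
        have h2 : (QuotientGroup.mk' R z) ^ (orderOf x) = 1 := by
          obtain ⟨k, rfl⟩ := Subgroup.mem_zpowers_iff.mp hz'
          rw [← map_pow, ← zpow_natCast, ← zpow_mul, mul_comm, zpow_mul, zpow_natCast,
            pow_orderOf_eq_one, one_zpow, map_one]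
        have h3 : orderOf (QuotientGroup.mk' R z) = 1 := by
          have ha := orderOf_dvd_of_pow_eq_one h1
          have hb := orderOf_dvd_of_pow_eq_one h2
          have hc := Nat.dvd_gcd hb ha
          rw [Nat.Coprime.gcd_eq_one hxo] at hc
          exact Nat.dvd_one.mp hc
        exact (QuotientGroup.eq_one_iff z).mp (orderOf_eq_one_iff.mp h3)
      exact h27_eq_one_of_pow R hR (mul_mem hr' hzR) 1 (by rw [pow_one]; exact hyp)
    have hMc := hab _ hM
    intro r hr
    exact h27_comm_of _ hMc (Subgroup.mem_sup_left hr)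
      (Subgroup.mem_sup_right (Subgroup.mem_zpowers x))
  -- (b) `P` centralizes `R`
  have hPR : ∀ c ∈ (P : Subgroup G), ∀ r ∈ R, c * r = r * c := by
    intro c hc r hr
    obtain ⟨u, hu, rfl⟩ := h27_surj P hxN hF c hc
    have h1 := hxR r hr
    have h2 := hxR (u * r * u⁻¹) (hRn.conj_mem r hr u)
    have h1' : x⁻¹ * r = r * x⁻¹ := ((show Commute r x from h1).inv_right).eq.symm
    calc u⁻¹ * (x * u * x⁻¹) * r = u⁻¹ * (x * u) * (x⁻¹ * r) := by group
      _ = u⁻¹ * (x * u) * (r * x⁻¹) := by rw [h1']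
      _ = u⁻¹ * (x * (u * r * u⁻¹)) * (u * x⁻¹) := by group
      _ = u⁻¹ * ((u * r * u⁻¹) * x) * (u * x⁻¹) := by rw [h2]
      _ = r * (u⁻¹ * (x * u * x⁻¹)) := by group
  -- the quotient
  have hcard : Nat.card (G ⧸ R) < Nat.card G := by
    have h1 := Subgroup.card_eq_card_quotient_mul_card_subgroup R
    have h2 := (Subgroup.one_lt_card_iff_ne_bot R).mpr hRne
    have h0 : 0 < Nat.card (G ⧸ R) := Nat.card_pos
    nlinarith
  have hπ : Function.Surjective (QuotientGroup.mk' R) := QuotientGroup.mk'_surjective R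
  obtain ⟨Pb, hPb⟩ : ∃ Pb : Sylow p (G ⧸ R),
      (Pb : Subgroup (G ⧸ R)) = (P : Subgroup G).map (QuotientGroup.mk' R) :=
    ⟨P.mapSurjective hπ, Sylow.coe_mapSurjective hπ P⟩
  have hPbcyc : IsCyclic Pb := by
    let f : ↥(P : Subgroup G) →* ↥(Pb : Subgroup (G ⧸ R)) :=
      ((QuotientGroup.mk' R).comp (P : Subgroup G).subtype).codRestrict (Pb : Subgroup (G ⧸ R))
        (fun u => by rw [hPb]; exact Subgroup.mem_map_of_mem (QuotientGroup.mk' R) u.2)
    refine isCyclic_of_surjective f ?_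
    intro y
    have hy : (y : G ⧸ R) ∈ (P : Subgroup G).map (QuotientGroup.mk' R) := by
      rw [← hPb]; exact y.2
    obtain ⟨u, hu, huy⟩ := Subgroup.mem_map.mp hy
    exact ⟨⟨u, hu⟩, Subtype.ext huy⟩
  have habq := h27_hab_quot hab R hR
  obtain ⟨m, hm⟩ := h27_pow_card P
  rcases ih (G ⧸ R) hcard Pb hPbcyc habq with hq | hq
  · -- the quotient has a normal `p`-complement
    apply hxC
    have h1 := lead_norm_le_cent_of_npc hq Pb (lead_cyc_comm Pb hPbcyc)
    have h2 : QuotientGroup.mk' R x ∈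
        Subgroup.normalizer ((Pb : Subgroup (G ⧸ R)) : Set (G ⧸ R)) := by
      rw [hPb]; exact h27_map_normalizer (QuotientGroup.mk' R) (P : Subgroup G) hxN
    have h3 := h1 h2
    rw [Subgroup.mem_centralizer_iff] at h3 ⊢
    intro u hu
    have hu' : u ∈ (P : Subgroup G) := hu
    have h4 := h3 (QuotientGroup.mk' R u)
      (by rw [SetLike.mem_coe, hPb]; exact Subgroup.mem_map_of_mem (QuotientGroup.mk' R) hu')
    have h5 : (u * x)⁻¹ * (x * u) ∈ R := by
      have h50 : QuotientGroup.mk' R (u * x) = QuotientGroup.mk' R (x * u) := by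
        rw [map_mul, map_mul]; exact h4
      exact QuotientGroup.eq.mp h50
    have h6 : (u * x)⁻¹ * (x * u) ∈ (P : Subgroup G) := by
      have h7 : x⁻¹ * u⁻¹ * x ∈ (P : Subgroup G) := by
        have h70 := (Subgroup.mem_normalizer_iff.mp (inv_mem hxN) u⁻¹).mp (inv_mem hu')
        simpa using h70
      have h8 : (u * x)⁻¹ * (x * u) = x⁻¹ * u⁻¹ * x * u := by group
      rw [h8]; exact mul_mem h7 hu'
    have h9 := h27_eq_one_of_pow R hR h5 m (hm _ h6)
    exact inv_mul_eq_one.mp h9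
  · -- the image of `P` is normal in the quotient
    apply hPn
    refine ⟨fun u hu g => ?_⟩
    have h1 : QuotientGroup.mk' R (g * u * g⁻¹) ∈ (Pb : Subgroup (G ⧸ R)) := by
      have h10 := hq.conj_mem (QuotientGroup.mk' R u)
        (by rw [hPb]; exact Subgroup.mem_map_of_mem (QuotientGroup.mk' R) hu)
        (QuotientGroup.mk' R g)
      rw [map_mul, map_mul, map_inv]; exact h10
    rw [hPb] at h1
    obtain ⟨v, hv, hvg⟩ := Subgroup.mem_map.mp h1
    have hr : v⁻¹ * (g * u * g⁻¹) ∈ R := QuotientGroup.eq.mp hvg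
    have hc : Commute v (v⁻¹ * (g * u * g⁻¹)) := hPR v hv _ hr
    have h3 : (v⁻¹ * (g * u * g⁻¹)) ^ (p ^ m) = 1 := by
      have h := hc.mul_pow (p ^ m)
      rw [mul_inv_cancel_left, conj_pow, hm u hu, hm v hv, mul_one, mul_inv_cancel, one_mul] at h
      exact h.symm
    have h4 := h27_eq_one_of_pow R hR hr m h3
    have h5 : v = g * u * g⁻¹ := inv_mul_eq_one.mp h4
    rw [← h5]; exact hv

/-- Step 3: a minimal counterexample has no nontrivial normal `p`-subgroup. -/
theorem h27_step3 {G : Type*} [Group G] [Finite G] {p : ℕ} [Fact p.Prime] (P : Sylow p G)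
    (hcyc : IsCyclic P)
    (hmin : ∀ H : Subgroup G, H ≠ ⊤ → ∀ P1 : Sylow p H,
      Cfsg.HasNormalPComplement p H ∨ (P1 : Subgroup H).Normal)
    (hPn : ¬ (P : Subgroup G).Normal)
    {x : G} (hF : ∀ u ∈ (P : Subgroup G), x * u = u * x → u = 1)
    (h2 : ∀ R : Subgroup G, R.Normal → ¬ p ∣ Nat.card R → R = ⊥)
    (U : Subgroup G) (hUn : U.Normal) (hU : IsPGroup p U) : U = ⊥ := by
  by_contra hUne
  haveI := hUn
  have hUP : U ≤ (P : Subgroup G) := hU.le_sylow_of_normal P
  have hCn : (Subgroup.centralizer (U : Set G)).Normal := inferInstance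
  have hPC : (P : Subgroup G) ≤ Subgroup.centralizer (U : Set G) := by
    intro v hv
    rw [Subgroup.mem_centralizer_iff]
    intro u hu
    exact lead_cyc_comm P hcyc u (hUP hu) v hv
  by_cases hCtop : Subgroup.centralizer (U : Set G) = ⊤
  · obtain ⟨⟨u, hu⟩, hu1⟩ := (Subgroup.ne_bot_iff_exists_ne_one).mp hUne
    have hx : x ∈ Subgroup.centralizer (U : Set G) := by rw [hCtop]; trivial
    have h1 := (Subgroup.mem_centralizer_iff.mp hx) u hu
    exact hu1 (Subtype.ext (hF u (hUP hu) h1.symm))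
  · rcases hmin _ hCtop (P.subtype hPC) with hq | hq
    · obtain ⟨R, hRn, hRp, hRb⟩ := h27_npc_sub _ hCn hq
      have hCp : IsPGroup p (Subgroup.centralizer (U : Set G)) := hRb (h2 R hRn hRp)
      have hCP : Subgroup.centralizer (U : Set G) = (P : Subgroup G) := P.is_maximal' hCp hPC
      apply hPn; rw [← hCP]; exact hCn
    · apply hPn
      refine ⟨fun u hu g => ?_⟩
      have hmem : g * u * g⁻¹ ∈ Subgroup.centralizer (U : Set G) := hCn.conj_mem u (hPC hu) g
      have hu' : (⟨u, hPC hu⟩ : Subgroup.centralizer (U : Set G)) ∈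
          ((P.subtype hPC : Sylow p (Subgroup.centralizer (U : Set G))) :
            Subgroup (Subgroup.centralizer (U : Set G))) := by
        rw [Sylow.coe_subtype, Subgroup.mem_subgroupOf]; exact hu
      have h1 := h27_normal_sylow_sub _ (P.subtype hPC) hq g ⟨u, hPC hu⟩ hu' hmem
      rw [Sylow.coe_subtype, Subgroup.mem_subgroupOf] at h1
      exact h1

theorem h27_reduce_aux.{u}
    (hsc : ∀ (G : Type u) [Group G] [Finite G] (p : ℕ) [Fact p.Prime] [IsSimpleGroup G],
      (∃ a b : G, a * b ≠ b * a) → (∀ P : Sylow p G, IsCyclic P) →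
      (∀ H : Subgroup G, ¬ p ∣ Nat.card H → IsMulCommutative H) →
      (∀ H : Subgroup G, H ≠ ⊤ → ∀ P1 : Sylow p H,
        Cfsg.HasNormalPComplement p H ∨ (P1 : Subgroup H).Normal) →
      (∀ (q : ℕ) [Fact q.Prime] (Q : Sylow q G), IsMulCommutative Q → ∀ y ∈ Q,
        (∀ n ∈ Subgroup.normalizer ((Q : Subgroup G) : Set G), n * y = y * n) → y = 1) →
      False) (n : ℕ) :
    ∀ (G : Type u) [Group G] [Finite G], Nat.card G = n → ∀ (p : ℕ) [Fact p.Prime]
      (P : Sylow p G), IsCyclic P →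
      (∀ H : Subgroup G, ¬ p ∣ Nat.card H → IsMulCommutative H) →
      Cfsg.HasNormalPComplement p G ∨ (P : Subgroup G).Normal := by
  induction n using Nat.strong_induction_on with
  | _ n ih =>
    intro G _ _ hn p _ P hcyc hab
    by_contra hcon
    rw [not_or] at hcon
    obtain ⟨hnpc, hPn⟩ := hcon
    have hp : p.Prime := Fact.out
    have ih' : ∀ (G' : Type u) [Group G'] [Finite G'], Nat.card G' < Nat.card G →
        ∀ (P' : Sylow p G'), IsCyclic P' →
        (∀ H : Subgroup G', ¬ p ∣ Nat.card H → IsMulCommutative H) →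
        Cfsg.HasNormalPComplement p G' ∨ (P' : Subgroup G').Normal := by
      intro G' _ _ hlt P' hc' hab'
      exact ih (Nat.card G') (hn ▸ hlt) G' rfl p P' hc' hab'
    have hmin : ∀ H : Subgroup G, H ≠ ⊤ → ∀ P1 : Sylow p H,
        Cfsg.HasNormalPComplement p H ∨ (P1 : Subgroup H).Normal := by
      intro H hH P1
      have hlt : Nat.card H < Nat.card G :=
        lt_of_le_of_ne (Subgroup.card_le_card_group H)
          (fun h => hH ((Subgroup.card_eq_iff_eq_top H).mp h))
      exact ih' H hlt P1 (h27_cyc_sub P hcyc H P1) (h27_hab_sub hab H)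
    haveI hPcomm : IsMulCommutative P :=
      ⟨⟨fun a b => Subtype.ext (lead_cyc_comm P hcyc a a.2 b b.2)⟩⟩
    have hNC : ¬ Subgroup.normalizer ((P : Subgroup G) : Set G) ≤
        Subgroup.centralizer ((P : Subgroup G) : Set G) :=
      fun h => hnpc (hasNormalPComplement_of_normalizer_le_centralizer P h)
    obtain ⟨x, hxN, hxo, hxC⟩ := exists_pprime_not_mem_centralizer P hNC
    have hF : ∀ u ∈ (P : Subgroup G), x * u = u * x → u = 1 := by
      intro u hu hxu
      by_contra hu1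
      exact hxC (cyc_fix_cent (P : Subgroup G) P.isPGroup' hcyc hxN hxo hu hu1 hxu)
    have h2 := h27_step2 P hcyc hab ih' hPn hxN hxo hxC hF
    have h3 := h27_step3 P hcyc hmin hPn hF h2
    have hnt : Nontrivial G := by
      by_contra hnt
      rw [not_nontrivial_iff_subsingleton] at hnt
      apply hPn
      refine ⟨fun u hu g => ?_⟩
      have h0 : g * u * g⁻¹ = u := Subsingleton.elim _ _
      rw [h0]; exact hu
    have hsimp : IsSimpleGroup G := by
      refine { toNontrivial := hnt, eq_bot_or_eq_top_of_normal := ?_ }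
      intro N hN
      by_contra hcon
      rw [not_or] at hcon
      obtain ⟨hNb, hNt⟩ := hcon
      obtain ⟨P1⟩ := (inferInstance : Nonempty (Sylow p N))
      rcases hmin N hNt P1 with hq | hq
      · obtain ⟨R, hRn, hRp, hRb⟩ := h27_npc_sub N hN hq
        exact hNb (h3 N hN (hRb (h2 R hRn hRp)))
      · have hUn : ((P1 : Subgroup N).map N.subtype).Normal := by
          refine ⟨fun r hr g => ?_⟩
          obtain ⟨k, hk, rfl⟩ := Subgroup.mem_map.mp hr
          have hmem : g * (k : G) * g⁻¹ ∈ N := hN.conj_mem _ k.2 g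
          exact Subgroup.mem_map.mpr
            ⟨⟨_, hmem⟩, h27_normal_sylow_sub N P1 hq g k hk hmem, rfl⟩
        have hUb := h3 _ hUn (P1.isPGroup'.map N.subtype)
        have hP1b : (P1 : Subgroup N) = ⊥ :=
          (Subgroup.map_eq_bot_iff_of_injective _ N.subtype_injective).mp hUb
        have hNp : ¬ p ∣ Nat.card N := fun hdvd => P1.ne_bot_of_dvd_card hdvd hP1b
        exact hNb (h2 N hN hNp)
    have hna : ∃ a b : G, a * b ≠ b * a := by
      by_contra hcon
      push Not at hcon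
      apply hPn
      refine ⟨fun u hu g => ?_⟩
      rw [hcon g u, mul_inv_cancel_right]; exact hu
    haveI := hsimp
    exact hsc G p hna (h27_cyc_all P hcyc) hab hmin (lead_transfer_T hna)

/-- Reduction of S4016 to the simple case (`hsc`, in the shape of `sc_simple_case`). -/
theorem h27_reduce.{u}
    (hsc : ∀ (G : Type u) [Group G] [Finite G] (p : ℕ) [Fact p.Prime] [IsSimpleGroup G],
      (∃ a b : G, a * b ≠ b * a) → (∀ P : Sylow p G, IsCyclic P) →
      (∀ H : Subgroup G, ¬ p ∣ Nat.card H → IsMulCommutative H) →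
      (∀ H : Subgroup G, H ≠ ⊤ → ∀ P1 : Sylow p H,
        Cfsg.HasNormalPComplement p H ∨ (P1 : Subgroup H).Normal) →
      (∀ (q : ℕ) [Fact q.Prime] (Q : Sylow q G), IsMulCommutative Q → ∀ y ∈ Q,
        (∀ n ∈ Subgroup.normalizer ((Q : Subgroup G) : Set G), n * y = y * n) → y = 1) →
      False)
    {G : Type u} [Group G] [Finite G] {p : ℕ} [Fact p.Prime] (P : Sylow p G)
    (hcyc : IsCyclic P) (hab : ∀ H : Subgroup G, ¬ p ∣ Nat.card H → IsMulCommutative H) :
    Cfsg.HasNormalPComplement p G ∨ (P : Subgroup G).Normal :=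
  h27_reduce_aux hsc (Nat.card G) G rfl p P hcyc hab

end Cfsg.Agent.S4016P
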