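import Mathlib
import Cfsg.Agent.Helper27.FusOmega
import Cfsg.Agent.Helper26.InnerSys
import Cfsg.Agent.Helper26.HypFocal

set_option autoImplicit false

namespace Cfsg.Agent.Helper27

open Cfsg Cfsg.FusionSystem
open scoped commutatorElement

universe u

/-- the `S`-central series of `T` -/
def tser {Ω : Type*} [Group Ω] (S T : Subgroup Ω) : ℕ → Subgroup Ω
  | 0 => T
  | (i + 1) => ⁅tser S T i, S⁆

theorem tser_le_lcs {Ω : Type*} [Group Ω] (S T : Subgroup Ω) (hTS : T ≤ S) (i : ℕ) :
    tser S T i ≤ S.lowerCentralSeries i := by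
  induction i with
  | zero => exact hTS
  | succ i ih =>
    show ⁅tser S T i, S⁆ ≤ ⁅S.lowerCentralSeries i, S⁆
    exact Subgroup.commutator_mono ih le_rfl

theorem exists_tser_eq_bot {Ω : Type*} [Group Ω] (S T : Subgroup Ω) [Finite S] {p : ℕ}
    [Fact p.Prime] (hS : IsPGroup p S) (hTS : T ≤ S) : ∃ n, tser S T n = ⊥ := by
  have hnil : Group.IsNilpotent S := hS.isNilpotent
  obtain ⟨n, hn⟩ := (Subgroup.isNilpotent_iff_lowerCentralSeries (S := S)).mp hnil
  refine ⟨n, ?_⟩
  have := tser_le_lcs S T hTS n
  rw [hn] at this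
  exact le_bot_iff.mp this

/-- a `p'`-automorphism of a `p`-group embedded in `T ≤ S` (with `T` normalized by... only `T ≤ S`
is used) that sends every element of order `p` (of order dividing `4` when `p = 2`) to an
`S`-conjugate is trivial -/
theorem small_conj_trivial_aux {Ω : Type u} [Group Ω] (p : ℕ) [Fact p.Prime] (S T : Subgroup Ω)
    [Finite S] (hS : IsPGroup p S) (hTS : T ≤ S) :
    ∀ (n : ℕ) (G : Type u) [Group G] [Finite G], Nat.card G ≤ n → IsPGroup p G →
      ∀ ι : G →* Ω, Function.Injective ι → (∀ x, ι x ∈ T) →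
      ∀ a : MulAut G, Nat.Coprime (orderOf a) p →
        (∀ x : G, (x ^ p = 1 ∨ (p = 2 ∧ x ^ 4 = 1)) → ∃ s ∈ S, ι (a x) = s * ι x * s⁻¹) →
        a = 1 := by
  intro n
  induction n with
  | zero =>
    intro G _ _ hcard
    exact absurd hcard (by have := Nat.card_pos (α := G); omega)
  | succ n ih =>
    intro G _ _ hcard hG ι hι hιT a ha h
    have hsub : ∀ H : Subgroup G, H ≠ ⊤ → (∀ x ∈ H, a x ∈ H) → ∀ x ∈ H, a x = x := by
      intro H hH hinv x hx
      have hcV : Nat.card H ≤ n := by
        have h1 : Nat.card H ≤ Nat.card G := Subgroup.card_le_card_group H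
        have h2 : Nat.card H ≠ Nat.card G := fun h => hH (Subgroup.eq_top_of_card_eq H h)
        omega
      have h3 := ih (↥H) hcV (hG.to_subgroup H) (ι.comp H.subtype)
        (hι.comp Subtype.val_injective) (fun y => hιT y) (Helper1.restrictAut a H hinv)
        (Helper1.restrictAut_coprime a H hinv ha) (fun y hy => by
          have hy' : ((y : G) ^ p = 1 ∨ (p = 2 ∧ (y : G) ^ 4 = 1)) := by
            rcases hy with hy | ⟨h2, hy⟩
            · left
              have := congrArg Subtype.val hy
              simpa using this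
            · right
              refine ⟨h2, ?_⟩
              have := congrArg Subtype.val hy
              simpa using this
          obtain ⟨s, hs, e⟩ := h y hy'
          exact ⟨s, hs, e⟩)
      have h4 := Helper1.restrictAut_apply a H hinv ⟨x, hx⟩
      rw [h3] at h4
      exact h4.symm
    by_contra hne
    have hsmall_inv : ∀ x : G, (x ^ p = 1 ∨ (p = 2 ∧ x ^ 4 = 1)) →
        (a x ^ p = 1 ∨ (p = 2 ∧ a x ^ 4 = 1)) := by
      intro x hx
      rcases hx with hx | ⟨h2, hx⟩
      · left
        rw [← map_pow, hx, map_one]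
      · right
        exact ⟨h2, by rw [← map_pow, hx, map_one]⟩
    have hgen : Subgroup.closure {x : G | x ^ p = 1 ∨ (p = 2 ∧ x ^ 4 = 1)} = ⊤ := by
      by_contra hgen
      apply hne
      apply aut_trivial_of_omega p hG a ha
      intro x hx
      refine hsub _ hgen ?_ x (Subgroup.subset_closure hx)
      intro y hy
      induction hy using Subgroup.closure_induction with
      | mem y hy => exact Subgroup.subset_closure (hsmall_inv y hy)
      | one => rw [map_one]; exact Subgroup.one_mem _
      | mul y z _ _ hy hz => rw [map_mul]; exact Subgroup.mul_mem _ hy hz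
      | inv y _ hy => rw [map_inv]; exact Subgroup.inv_mem _ hy
    have hser : ∀ i : ℕ, ∀ x : G, ι x ∈ tser S T i := by
      intro i
      induction i with
      | zero => exact hιT
      | succ i ihi =>
        by_contra hD
        have hD' : (tser S T (i + 1)).comap ι ≠ ⊤ := by
          intro htop
          apply hD
          intro x
          have : x ∈ (tser S T (i + 1)).comap ι := by rw [htop]; exact Subgroup.mem_top x
          exact this
        obtain ⟨M, hM, hDM⟩ := (eq_top_or_exists_le_coatom _).resolve_left hD'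
        obtain ⟨h12a, -⟩ := Cfsg.Agent.S0012.result p hG
        have hcomm : ∀ x y : G, ⁅x, y⁆ ∈ M := fun x y =>
          frattini_le_coatom hM (h12a (Subgroup.commutator_mem_commutator
            (Subgroup.mem_top x) (Subgroup.mem_top y)))
        have hMn : ∀ m ∈ M, ∀ g : G, g * m * g⁻¹ ∈ M := by
          intro m hm g
          have : g * m * g⁻¹ = ⁅g, m⁆ * m := by rw [commutatorElement_def]; group
          rw [this]
          exact M.mul_mem (hcomm g m) hm
        have hsm : ∀ x : G, (x ^ p = 1 ∨ (p = 2 ∧ x ^ 4 = 1)) → x⁻¹ * a x ∈ M := by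
          intro x hx
          apply hDM
          show ι (x⁻¹ * a x) ∈ tser S T (i + 1)
          obtain ⟨s, hs, e⟩ := h x hx
          rw [map_mul, map_inv, e]
          have : (ι x)⁻¹ * (s * ι x * s⁻¹) = ⁅(ι x)⁻¹, s⁆ := by
            rw [commutatorElement_def]; group
          rw [this]
          exact Subgroup.commutator_mem_commutator ((tser S T i).inv_mem (ihi x)) hs
        let K : Subgroup G :=
          { carrier := {x | x⁻¹ * a x ∈ M}
            one_mem' := by
              show (1 : G)⁻¹ * a 1 ∈ M
              rw [map_one, inv_one, one_mul]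
              exact M.one_mem
            mul_mem' := by
              intro x y hx hy
              show (x * y)⁻¹ * a (x * y) ∈ M
              have : (x * y)⁻¹ * a (x * y) = (y⁻¹ * (x⁻¹ * a x) * y⁻¹⁻¹) * (y⁻¹ * a y) := by
                rw [map_mul]; group
              rw [this]
              exact M.mul_mem (hMn _ hx _) hy
            inv_mem' := by
              intro x hx
              show x⁻¹⁻¹ * a x⁻¹ ∈ M
              have : x⁻¹⁻¹ * a x⁻¹ = x * (x⁻¹ * a x)⁻¹ * x⁻¹ := by
                rw [map_inv]; group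
              rw [this]
              exact hMn _ (M.inv_mem hx) _ }
        have hK : K = ⊤ := by
          rw [eq_top_iff, ← hgen, Subgroup.closure_le]
          intro x hx
          exact hsm x hx
        have hall : ∀ x : G, x⁻¹ * a x ∈ M := by
          intro x
          have : x ∈ K := by rw [hK]; exact Subgroup.mem_top x
          exact this
        have hMinv : ∀ m ∈ M, a m ∈ M := by
          intro m hm
          have : a m = m * (m⁻¹ * a m) := by group
          rw [this]
          exact M.mul_mem hm (hall m)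
        have hMfix := hsub M hM.1 hMinv
        apply hne
        exact Helper1.aut_eq_one_of_fixes hG a ha (fun x => hMfix _ (hall x))
    obtain ⟨k, hk⟩ := exists_tser_eq_bot S T hS hTS
    apply hne
    have h1 : ∀ y : G, y = 1 := by
      intro y
      have := hser k y
      rw [hk, Subgroup.mem_bot] at this
      exact hι (this.trans (map_one ι).symm)
    ext x
    rw [h1 (a x), h1 x]
    rfl

/-- subgroup version: a `p'`-automorphism `α` of `P ≤ T ≤ S` sending each small element to an
`S`-conjugate is trivial -/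
theorem small_conj_trivial {Ω : Type u} [Group Ω] (p : ℕ) [Fact p.Prime] (S T : Subgroup Ω)
    [Finite S] (hS : IsPGroup p S) (hTS : T ≤ S) (P : Subgroup Ω) (hPT : P ≤ T)
    (α : MulAut P) (hα : Nat.Coprime (orderOf α) p)
    (h : ∀ x : P, (x ^ p = 1 ∨ (p = 2 ∧ x ^ 4 = 1)) →
      ∃ s ∈ S, ((α x : P) : Ω) = s * (x : Ω) * s⁻¹) : α = 1 := by
  have : Finite P := finite_of_le (hPT.trans hTS)
  have hP : IsPGroup p P := hS.to_le (hPT.trans hTS)
  exact small_conj_trivial_aux p S T hS hTS (Nat.card P) P le_rfl hP P.subtype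
    Subtype.val_injective (fun x => hPT x.2) α hα h

end Cfsg.Agent.Helper27

namespace Cfsg.Agent.Helper27

open Cfsg Cfsg.FusionSystem
open scoped commutatorElement

universe u

theorem small_order {G : Type*} [Group G] {p : ℕ} [Fact p.Prime] {x : G}
    (hx : x ^ p = 1 ∨ (p = 2 ∧ x ^ 4 = 1)) (h1 : x ≠ 1) : orderOf x = p ∨ orderOf x = 4 := by
  rcases hx with hx | ⟨h2, hx⟩
  · left
    exact orderOf_eq_prime hx h1
  · have hd : orderOf x ∣ 2 ^ 2 := orderOf_dvd_of_pow_eq_one (by norm_num; exact hx)
    obtain ⟨k, hk, e⟩ := (Nat.dvd_prime_pow Nat.prime_two).mp hd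
    interval_cases k
    · exfalso
      apply h1
      rw [← orderOf_eq_one_iff, e]
      norm_num
    · left
      rw [e, h2]
      norm_num
    · right
      rw [e]
      norm_num

variable {Ω : Type u} [Group Ω] {S : Subgroup Ω}

/-- the restriction of an automorphism of the system to a cyclic subgroup, as a map of `homSet` -/
theorem exists_homSet_zpowers {F : FusionSystem S} {P : Subgroup Ω} (hP : P ≤ S) {α : MulAut P}
    (hα : α ∈ F.autGroup P) (y : P) :
    ∃ φ ∈ F.homSet (Subgroup.zpowers (y : Ω)) (Subgroup.zpowers ((α y : P) : Ω)),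
      φ ⟨(y : Ω), Subgroup.mem_zpowers _⟩ = ((α y : P) : Ω) := by
  have hmor : Mor F P (autFn α) := (mem_autGroup_iff hP α).mp hα
  have hAP : Subgroup.zpowers (y : Ω) ≤ P := by
    rw [Subgroup.zpowers_le]
    exact y.2
  obtain ⟨φ, hφ, hφf⟩ := hmor.restrict hAP
  refine ⟨φ, ⟨hφ, ?_⟩, ?_⟩
  · intro x
    obtain ⟨k, hk⟩ := Subgroup.mem_zpowers_iff.mp x.2
    rw [hφf x, ← hk]
    have e : ((y : Ω) ^ k) = ((y ^ k : P) : Ω) := by simp
    rw [e, autFn_apply, map_zpow]
    rw [Subgroup.mem_zpowers_iff]
    exact ⟨k, by simp⟩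
  · rw [hφf ⟨(y : Ω), Subgroup.mem_zpowers _⟩]
    exact autFn_apply α y

/-- the commutator subgroup `[P, α]` of an automorphism -/
def autComm {G : Type*} [Group G] (α : MulAut G) : Subgroup G :=
  Subgroup.closure {y : G | ∃ x : G, y = x⁻¹ * α x}

theorem autComm_inv {G : Type*} [Group G] (α : MulAut G) : ∀ b ∈ autComm α, α b ∈ autComm α := by
  intro b hb
  unfold autComm at hb ⊢
  induction hb using Subgroup.closure_induction with
  | mem y hy =>
    obtain ⟨x, rfl⟩ := hy
    apply Subgroup.subset_closure
    exact ⟨α x, by rw [map_mul, map_inv]⟩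
  | one => rw [map_one]; exact Subgroup.one_mem _
  | mul y z _ _ hy hz => rw [map_mul]; exact Subgroup.mul_mem _ hy hz
  | inv y _ hy => rw [map_inv]; exact Subgroup.inv_mem _ hy

theorem mem_autComm {G : Type*} [Group G] (α : MulAut G) (x : G) : x⁻¹ * α x ∈ autComm α :=
  Subgroup.subset_closure ⟨x, rfl⟩

/-- a `p'`-automorphism of a `p`-group that is trivial on `[P, α]` is trivial -/
theorem aut_eq_one_of_autComm {G : Type*} [Group G] [Finite G] {p : ℕ} (hG : IsPGroup p G)
    (α : MulAut G) (hα : Nat.Coprime (orderOf α) p)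
    (h : Helper1.restrictAut α (autComm α) (autComm_inv α) = 1) : α = 1 := by
  apply Helper1.aut_eq_one_of_fixes hG α hα
  intro x
  have h4 := Helper1.restrictAut_apply α (autComm α) (autComm_inv α) ⟨_, mem_autComm α x⟩
  rw [h] at h4
  exact h4.symm

/-- `[P, α] ≤ hyp(F)` for a `p'`-automorphism `α` of the system -/
theorem autComm_le_hyperfocal {F : FusionSystem S} {p : ℕ} {P : Subgroup Ω} (hP : P ≤ S)
    {α : MulAut P} (hα : α ∈ F.autGroup P) (hcop : Nat.Coprime (orderOf α) p) :
    ∀ b ∈ autComm α, (b : Ω) ∈ F.hyperfocalSubgroup p := by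
  intro b hb
  unfold autComm at hb
  induction hb using Subgroup.closure_induction with
  | mem y hy =>
    obtain ⟨x, rfl⟩ := hy
    apply Subgroup.subset_closure
    refine ⟨P, ⟨α, hα⟩, x, hP, ?_, rfl⟩
    apply Subgroup.subset_closure
    show Nat.Coprime (orderOf (⟨α, hα⟩ : F.autGroup P)) p
    rw [← Subgroup.orderOf_coe]
    exact hcop
  | one => exact Subgroup.one_mem _
  | mul y z _ _ hy hz => exact Subgroup.mul_mem _ hy hz
  | inv y _ hy => exact Subgroup.inv_mem _ hy

end Cfsg.Agent.Helper27
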