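import Cfsg.Agent.Helper27.ClosedRadical
import Cfsg.Agent.Helper27.FusAutSys
import Cfsg.Agent.Helper27.FusSolv
import Cfsg.Agent.Helper27.FusInner
import Cfsg.Agent.Helper1.AutP
import Cfsg.Agent.S5086
import Cfsg.Agent.S5145
import Cfsg.Prelude.Def_FusionComponents

set_option autoImplicit false

namespace Cfsg.Agent.Helper27

open Cfsg Cfsg.FusionSystem

variable {Ω : Type*} [Group Ω] {S : Subgroup Ω}

/-- a `p'`-automorphism of a `p`-group fixing `x⁻¹ a(x)` fixes `x` -/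
theorem aut_fix_pointwise {G : Type*} [Group G] {p : ℕ} (hG : IsPGroup p G) (a : MulAut G)
    (ha : Nat.Coprime (orderOf a) p) (x : G) (hfix : a (x⁻¹ * a x) = x⁻¹ * a x) : a x = x := by
  have hpow : ∀ n : ℕ, (a ^ n) x = x * (x⁻¹ * a x) ^ n := by
    intro n
    induction n with
    | zero => simp
    | succ n ih =>
      rw [pow_succ', MulAut.mul_apply, ih, map_mul, map_pow, hfix, pow_succ', ← mul_assoc,
        ← mul_assoc, mul_inv_cancel, one_mul]
  have h4 := hpow (orderOf a)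
  rw [pow_orderOf_eq_one, MulAut.one_apply] at h4
  have h5 : (x⁻¹ * a x) ^ orderOf a = 1 := by
    have := congrArg (fun t => x⁻¹ * t) h4
    simpa using this.symm
  obtain ⟨k, hk⟩ := hG (x⁻¹ * a x)
  have h6 : orderOf (x⁻¹ * a x) ∣ Nat.gcd (orderOf a) (p ^ k) :=
    Nat.dvd_gcd (orderOf_dvd_of_pow_eq_one h5) (orderOf_dvd_of_pow_eq_one hk)
  have h7 : Nat.gcd (orderOf a) (p ^ k) = 1 := Nat.Coprime.pow_right k ha
  rw [h7, Nat.dvd_one, orderOf_eq_one_iff] at h6
  have := congrArg (fun t => x * t) h6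
  simpa using this

/-- a strongly closed subgroup whose normalizing elements induce automorphisms in a normal `p`-subgroup of
`Aut_F(P)`, for `P` centric radical, lies in `P` -/
theorem le_of_normal_pSub [Finite S] {p : ℕ} [Fact p.Prime] (hS : IsPGroup p S) {F : FusionSystem S}
    {K : Subgroup Ω} (hK : F.StronglyClosed K) {P : Subgroup Ω} (hPc : F.IsCentric P)
    (hPr : F.IsRadical p P) (N : Subgroup (F.autGroup P)) (hNn : N.Normal) (hNp : IsPGroup p N)
    (h : ∀ x ∈ K, ∀ hx : x ∈ Subgroup.normalizer (P : Set Ω), ∀ hm : conjAut P x hx ∈ F.autGroup P,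
      (⟨conjAut P x hx, hm⟩ : F.autGroup P) ∈ N) : K ≤ P := by
  by_contra hKP
  obtain ⟨x, hxK, hx, -, -, hm, hI, -, -⟩ := exists_outer_closed hS hK hPc.1 hPc hKP
  apply hI
  have h1 := le_pCore' hNn hNp (h x hxK hx hm)
  rw [← hPr.2]
  exact ⟨⟨_, hm⟩, h1, rfl⟩

/-- automorphisms of `P` centralizing `R` and acting trivially on `Q` modulo `R` -/
def qrStab (P Q R : Subgroup Ω) : Subgroup (MulAut P) where
  carrier := {β | (∀ r : P, (r : Ω) ∈ R → β r = r) ∧
    ∀ a : P, (a : Ω) ∈ Q → ((a⁻¹ * β a : P) : Ω) ∈ R}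
  mul_mem' := by
    rintro α β ⟨hα1, hα2⟩ ⟨hβ1, hβ2⟩
    refine ⟨fun r hr => by rw [MulAut.mul_apply, hβ1 r hr, hα1 r hr], fun a ha => ?_⟩
    have h1 := hβ2 a ha
    have h2 := hα1 _ h1
    have e : a⁻¹ * (α * β) a = (a⁻¹ * α a) * (a⁻¹ * β a) := by
      rw [MulAut.mul_apply]
      have e2 : β a = a * (a⁻¹ * β a) := by group
      conv_lhs => rw [e2, map_mul, h2]
      group
    rw [e, Subgroup.coe_mul]
    exact R.mul_mem (hα2 a ha) h1
  one_mem' := by
    refine ⟨fun r _ => rfl, fun a _ => ?_⟩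
    rw [MulAut.one_apply, inv_mul_cancel]
    exact R.one_mem
  inv_mem' := by
    rintro α ⟨hα1, hα2⟩
    have hinv1 : ∀ r : P, (r : Ω) ∈ R → α⁻¹ r = r := by
      intro r hr
      have h := hα1 r hr
      conv_lhs => rw [← h]
      exact MulAut.inv_apply_self _ _ _
    refine ⟨hinv1, fun a ha => ?_⟩
    have h1 := hα2 a ha
    have h2 := hinv1 _ h1
    rw [map_mul, map_inv, MulAut.inv_apply_self] at h2
    have e : a⁻¹ * α⁻¹ a = (a⁻¹ * α a)⁻¹ := by
      rw [← h2]; group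
    rw [e, Subgroup.coe_inv]
    exact R.inv_mem h1

theorem mem_qrStab {P Q R : Subgroup Ω} {β : MulAut P} :
    β ∈ qrStab P Q R ↔ (∀ r : P, (r : Ω) ∈ R → β r = r) ∧
      ∀ a : P, (a : Ω) ∈ Q → ((a⁻¹ * β a : P) : Ω) ∈ R := Iff.rfl

/-- saturated subsystems of a constrained system over strongly closed subgroups are constrained -/
theorem constrained_of_subsystem [Finite S] {p : ℕ} [Fact p.Prime] (hS : IsPGroup p S)
    {F : FusionSystem S} (hF : F.IsConstrained p) {T : Subgroup Ω} (hT : F.StronglyClosed T)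
    {E : FusionSystem T} (hEsat : E.IsSaturated p) (hEF : E.IsSubsystemOf F) :
    E.IsConstrained p := by
  obtain ⟨hFsat, Q₁, hQ₁n, hQ₁c⟩ := hF
  have hTS : T ≤ S := hT.1
  haveI : Finite T := finite_of_le hTS
  have hTp : IsPGroup p T := hS.to_le hTS
  -- the core
  obtain ⟨Q, hQdef⟩ : ∃ Q : Subgroup Ω, Q = F.core := ⟨_, rfl⟩
  have hQn : F.IsNormal Q := by rw [hQdef]; exact Cfsg.Agent.S5145.result F
  have hQS : Q ≤ S := hQn.1
  obtain ⟨hQsc, hQrad⟩ := (Cfsg.Agent.S5086.result p hS F hFsat Q).mp hQn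
  have hQ₁Q : Q₁ ≤ Q := by rw [hQdef]; exact le_sSup hQ₁n
  have hCQ : centralizerIn S Q ≤ Q := by
    intro c hc
    rw [mem_centralizerIn] at hc
    apply hQ₁Q
    apply hQ₁c.2 Q₁ (isConj_refl F hQ₁c.1)
    rw [mem_centralizerIn]
    exact ⟨hc.1, fun y hy => hc.2 y (hQ₁Q hy)⟩
  have hQconj : ∀ s ∈ S, ∀ x ∈ Q, s * x * s⁻¹ ∈ Q :=
    fun s hs x hx => StronglyClosed.conj_mem hQsc hs hx
  have hTconj : ∀ s ∈ S, ∀ x ∈ T, s * x * s⁻¹ ∈ T :=
    fun s hs x hx => StronglyClosed.conj_mem hT hs hx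
  -- R
  obtain ⟨R, hRdef⟩ : ∃ R : Subgroup Ω, R = Q ⊓ T := ⟨_, rfl⟩
  have hRQ : R ≤ Q := by rw [hRdef]; exact inf_le_left
  have hRT : R ≤ T := by rw [hRdef]; exact inf_le_right
  have hRsc : F.StronglyClosed R := by rw [hRdef]; exact stronglyClosed_inf hQsc hT
  have hRS : R ≤ S := hRsc.1
  haveI : Finite R := finite_of_le hRS
  -- X
  obtain ⟨X, hXdef⟩ : ∃ X : Subgroup Ω, X = centralizerIn T R := ⟨_, rfl⟩
  have hXmem : ∀ {x : Ω}, x ∈ X ↔ x ∈ T ∧ ∀ y ∈ R, y * x = x * y := by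
    intro x; rw [hXdef]; exact mem_centralizerIn
  have hXT : X ≤ T := fun x hx => (hXmem.mp hx).1
  have hXS : X ≤ S := hXT.trans hTS
  -- X strongly closed
  have hXsc : F.StronglyClosed X := by
    refine ⟨hXS, fun A hA φ hφ x => ?_⟩
    have hf : Mor F A (fn φ) := mor_of_hom hφ
    obtain ⟨f', hf', hf'A, hf'Q, -⟩ := normal_extend hQn hf
    have hRle : R ≤ A ⊔ Q := hRQ.trans le_sup_right
    have hf'R : ∀ r ∈ R, f' r ∈ R := by
      intro r hr
      rw [hRdef]
      exact ⟨hf'Q r (hRQ hr), StronglyClosed.mor hT (hf'.restrict hRle) hRT hr⟩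
    have hsurj := hf'.surj_on hRle hf'R
    have hxA : (x : Ω) ∈ A ⊔ Q := (le_sup_left : A ≤ A ⊔ Q) x.2
    have e1 : φ x = f' x := by rw [hf'A x x.2, fn_apply]
    rw [hXmem]
    refine ⟨hT.2 A (hA.trans hXT) φ hφ x, fun r hr => ?_⟩
    obtain ⟨r₀, hr₀, rfl⟩ := hsurj r hr
    rw [e1, ← hf'.map_mul (hRle hr₀) hxA, ← hf'.map_mul hxA (hRle hr₀)]
    rw [(hXmem.mp (hA x.2)).2 r₀ hr₀]
  -- X lies in every frc subgroup
  have hXrad : ∀ P : Subgroup Ω, F.IsFullyNormalized P → F.IsCentric P → F.IsRadical p P →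
      X ≤ P := by
    intro P _ hPc hPr
    have hPS := hPc.1
    haveI : Finite P := finite_of_le hPS
    have hPp : IsPGroup p P := hS.to_le hPS
    have hQP : Q ≤ P := hQrad P hPc hPr
    have hinvQ : ∀ γ ∈ F.autGroup P, ∀ a : P, (a : Ω) ∈ Q → ((γ a : P) : Ω) ∈ Q := by
      intro γ hγ a ha
      have hm := (mem_autGroup_iff hPS γ).mp hγ
      rw [← autFn_apply]
      exact StronglyClosed.mor hQsc (hm.restrict hQP) le_rfl ha
    have hinvR : ∀ γ ∈ F.autGroup P, ∀ a : P, (a : Ω) ∈ R → ((γ a : P) : Ω) ∈ R := by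
      intro γ hγ a ha
      have hm := (mem_autGroup_iff hPS γ).mp hγ
      rw [← autFn_apply]
      exact StronglyClosed.mor hRsc (hm.restrict (hRQ.trans hQP)) le_rfl ha
    have hNn : ((qrStab P Q R).subgroupOf (F.autGroup P)).Normal := by
      constructor
      intro β hβ γ
      rw [Subgroup.mem_subgroupOf] at hβ ⊢
      obtain ⟨hβ1, hβ2⟩ := mem_qrStab.mp hβ
      have hγi : (γ : MulAut P)⁻¹ ∈ F.autGroup P := Subgroup.inv_mem _ γ.2
      rw [Subgroup.coe_mul, Subgroup.coe_mul, Subgroup.coe_inv, mem_qrStab]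
      refine ⟨fun r hr => ?_, fun a ha => ?_⟩
      · rw [MulAut.mul_apply, MulAut.mul_apply, hβ1 _ (hinvR _ hγi r hr), MulAut.apply_inv_self]
      · have h1 := hβ2 _ (hinvQ _ hγi a ha)
        have h2 := hinvR _ γ.2 _ h1
        have e : a⁻¹ * ((γ : MulAut P) * (β : MulAut P) * (γ : MulAut P)⁻¹) a =
            (γ : MulAut P) (((γ : MulAut P)⁻¹ a)⁻¹ * (β : MulAut P) ((γ : MulAut P)⁻¹ a)) := by
          rw [map_mul, map_inv, MulAut.apply_inv_self, MulAut.mul_apply, MulAut.mul_apply]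
        rw [e]
        exact h2
    have hNp : IsPGroup p ((qrStab P Q R).subgroupOf (F.autGroup P)) := by
      haveI : Finite (MulAut P) := inferInstance
      apply isPGroup_of_coprime_trivial p
      intro g hg
      have hg' : ((g : F.autGroup P) : MulAut P) ∈ qrStab P Q R := Subgroup.mem_subgroupOf.mp g.2
      obtain ⟨h1, h2⟩ := mem_qrStab.mp hg'
      obtain ⟨α, hα⟩ : ∃ α : MulAut P, α = ((g : F.autGroup P) : MulAut P) := ⟨_, rfl⟩
      rw [← hα] at h1 h2
      have hord : (orderOf α).Coprime p := by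
        rw [hα, Subgroup.orderOf_coe, Subgroup.orderOf_coe]; exact hg
      have hfixQ : ∀ a : P, (a : Ω) ∈ Q → α a = a := by
        intro a ha
        exact aut_fix_pointwise hPp α hord a (h1 _ (h2 a ha))
      have hall : ∀ x : P, α x = x := by
        intro x
        apply aut_fix_pointwise hPp α hord x
        apply hfixQ
        apply hCQ
        rw [mem_centralizerIn]
        refine ⟨hPS (x⁻¹ * α x).2, fun y hy => ?_⟩
        have hyP : y ∈ P := hQP hy
        have h3 : (x : Ω) * y * (x : Ω)⁻¹ ∈ Q := hQconj x (hPS x.2) y hy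
        have h4 := hfixQ (x * ⟨y, hyP⟩ * x⁻¹) (by simpa using h3)
        have h5 := hfixQ ⟨y, hyP⟩ hy
        rw [map_mul, map_mul, map_inv, h5] at h4
        have h6 := congrArg (fun t : P => (t : Ω)) h4
        simp only [Subgroup.coe_mul, Subgroup.coe_inv] at h6
        rw [Subgroup.coe_mul, Subgroup.coe_inv]
        calc y * ((x : Ω)⁻¹ * (α x : Ω))
            = (x : Ω)⁻¹ * ((x : Ω) * y * (x : Ω)⁻¹) * (α x : Ω) := by group
          _ = (x : Ω)⁻¹ * ((α x : Ω) * y * (α x : Ω)⁻¹) * (α x : Ω) := by rw [h6]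
          _ = (x : Ω)⁻¹ * (α x : Ω) * y := by group
      apply Subtype.ext
      apply Subtype.ext
      show ((g : F.autGroup P) : MulAut P) = 1
      rw [← hα]
      ext x
      rw [hall x]; rfl
    refine le_of_normal_pSub hS hXsc hPc hPr _ hNn hNp ?_
    intro x hxX hx hm
    rw [Subgroup.mem_subgroupOf, mem_qrStab]
    obtain ⟨hxT, hxc⟩ := hXmem.mp hxX
    have hxS : x ∈ S := hTS hxT
    refine ⟨fun r hr => ?_, fun a ha => ?_⟩
    · apply Subtype.ext
      show x * (r : Ω) * x⁻¹ = r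
      rw [← hxc r hr, mul_inv_cancel_right]
    · show ((a : Ω)⁻¹ * (x * (a : Ω) * x⁻¹)) ∈ R
      rw [hRdef]
      refine ⟨Q.mul_mem (Q.inv_mem ha) (hQconj x hxS a ha), ?_⟩
      have h3 := hTconj (a : Ω)⁻¹ (S.inv_mem (hPS a.2)) x hxT
      rw [inv_inv] at h3
      have e : (a : Ω)⁻¹ * (x * (a : Ω) * x⁻¹) = ((a : Ω)⁻¹ * x * a) * x⁻¹ := by group
      rw [e]
      exact T.mul_mem h3 (T.inv_mem hxT)
  have hXn : F.IsNormal X := normal_of_le_radicals hS hFsat hXsc hXrad
  have hXQ : X ≤ Q := by rw [hQdef]; exact le_sSup hXn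
  have hXR : X ≤ R := by rw [hRdef]; exact le_inf hXQ hXT
  -- the subsystem
  have hRscE : E.StronglyClosed R :=
    ⟨hRT, fun A hA φ hφ x => hRsc.2 A hA φ (hEF A hφ) x⟩
  have hRradE : ∀ P : Subgroup Ω, E.IsFullyNormalized P → E.IsCentric P → E.IsRadical p P →
      R ≤ P := by
    intro P _ hPc hPr
    have hPT := hPc.1
    have hPS := hPT.trans hTS
    haveI : Finite P := finite_of_le hPS
    have hNn : ((autInducedBy R P).subgroupOf (E.autGroup P)).Normal := by
      constructor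
      intro β hβ γ
      rw [Subgroup.mem_subgroupOf] at hβ ⊢
      rw [mem_autInducedBy_iff] at hβ
      obtain ⟨n, hn, hβn⟩ := hβ
      have hmE := (mem_autGroup_iff hPT (γ : MulAut P)).mp γ.2
      have hmF : Mor F P (autFn (γ : MulAut P)) := by
        obtain ⟨φ, hφ, hφf⟩ := hmE
        exact ⟨φ, hEF P hφ, hφf⟩
      obtain ⟨f', hf', hf'P, hf'Q, -⟩ := normal_extend hQn hmF
      have hnQ : n ∈ Q := hRQ hn
      have hnPQ : n ∈ P ⊔ Q := (le_sup_right : Q ≤ P ⊔ Q) hnQ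
      have hRle : R ≤ P ⊔ Q := hRQ.trans le_sup_right
      have hfn : f' n ∈ R := by
        rw [hRdef]
        exact ⟨hf'Q n hnQ, StronglyClosed.mor hT (hf'.restrict hRle) hRT hn⟩
      rw [Subgroup.coe_mul, Subgroup.coe_mul, Subgroup.coe_inv, mem_autInducedBy_iff]
      refine ⟨f' n, hfn, fun y => ?_⟩
      rw [MulAut.mul_apply, MulAut.mul_apply]
      obtain ⟨z, hz⟩ : ∃ z : P, z = (γ : MulAut P)⁻¹ y := ⟨_, rfl⟩
      have hy : (γ : MulAut P) z = y := by rw [hz, MulAut.apply_inv_self]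
      have hzPQ : (z : Ω) ∈ P ⊔ Q := (le_sup_left : P ≤ P ⊔ Q) z.2
      have h1 : (((γ : MulAut P) ((β : MulAut P) z) : P) : Ω) = f' (n * z * n⁻¹) := by
        rw [← autFn_apply, ← hf'P _ ((β : MulAut P) z).2, hβn z]
      rw [← hz, h1, hf'.map_mul (Subgroup.mul_mem _ hnPQ hzPQ) (Subgroup.inv_mem _ hnPQ),
        hf'.map_mul hnPQ hzPQ, hf'.map_inv hnPQ, hf'P _ z.2, autFn_apply, hy]
    have hNp : IsPGroup p ((autInducedBy R P).subgroupOf (E.autGroup P)) :=
      (isPGroup_autInducedBy (S := R) (hS.to_le hRS) P).comap_subtype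
    refine le_of_normal_pSub hTp hRscE hPc hPr _ hNn hNp ?_
    intro x hxR hx hm
    rw [Subgroup.mem_subgroupOf]
    exact conjAut_mem_autInducedBy hxR hx
  have hRnE : E.IsNormal R := normal_of_le_radicals hTp hEsat hRscE hRradE
  refine ⟨hEsat, R, hRnE, hRT, fun R' hR' => ?_⟩
  obtain ⟨f, hf, hi⟩ := isConj_iff.mp hR'
  have hle : img R f ≤ R := hf.img_le_of (fun x hx => StronglyClosed.mor hRscE hf le_rfl hx)
  have heq : R' = R := by
    rw [← hi]
    exact Subgroup.eq_of_le_of_card_ge hle (le_of_eq hf.card_img.symm)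
  rw [heq]
  intro c hc
  apply hXR
  rw [hXdef]; exact hc

/-- subnormal subsystems of constrained systems are constrained -/
theorem subnormal_constrained {p : ℕ} {T S : Subgroup Ω} {E : FusionSystem T} {F : FusionSystem S}
    (h : E.IsSubnormalIn F p) :
    Fact p.Prime → Finite S → IsPGroup p S → F.IsConstrained p → E.IsConstrained p := by
  induction h with
  | refl F p => intro _ _ _ h; exact h
  | step hED hDF ih =>
    intro hp hfin hS hF
    obtain ⟨⟨hDsat, hFsat, hDsub, hU, -, -⟩, -⟩ := hDF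
    have hUS := hU.1
    haveI := hp
    haveI := hfin
    exact ih hp (finite_of_le hUS) (hS.to_le hUS) (constrained_of_subsystem hS hF hU hDsat hDsub)

end Cfsg.Agent.Helper27
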