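import Cfsg.Agent.Helper27.CycFactor
import Cfsg.Agent.Helper27.ClosedRadical
import Cfsg.Agent.Helper27.FusNormal
import Cfsg.Agent.Helper27.FusFactor
import Cfsg.Agent.Helper27.FusInner

set_option autoImplicit false

namespace Cfsg.Agent.Helper27

open Cfsg Cfsg.FusionSystem

variable {Ω : Type*} [Group Ω] {S : Subgroup Ω}

/-- the data of a strongly closed chain with cyclic steps, restricted to a subgroup `R` of `S` -/
theorem chain_restrict [Finite S] {F : FusionSystem S} (c : ℕ → Subgroup Ω)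
    (hc : ∀ i, F.StronglyClosed (c i))
    (hstep : ∀ i, c i ≤ c (i + 1) ∧ ∃ x ∈ S, c (i + 1) = c i ⊔ Subgroup.zpowers x)
    (R : Subgroup Ω) (hRS : R ≤ S) :
    (∀ i, ∀ α ∈ F.autGroup R, ∀ x ∈ (c i).subgroupOf R, α x ∈ (c i).subgroupOf R) ∧
    ∀ i, ∃ _hN : (((c i).subgroupOf R).subgroupOf ((c (i + 1)).subgroupOf R)).Normal,
      IsCyclic (↥((c (i + 1)).subgroupOf R) ⧸
        ((c i).subgroupOf R).subgroupOf ((c (i + 1)).subgroupOf R)) := by
  refine ⟨?_, ?_⟩
  · intro i α hα x hx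
    have hmor := (mem_autGroup_iff hRS α).mp hα
    have h1 := (Mor.mem_closed_iff (hc i) hmor x.2).mpr (Subgroup.mem_subgroupOf.mp hx)
    rw [autFn_apply] at h1
    exact Subgroup.mem_subgroupOf.mpr h1
  · intro i
    have hN : (((c i).subgroupOf R).subgroupOf ((c (i + 1)).subgroupOf R)).Normal := by
      constructor
      intro k hk l
      have hk' : ((k : R) : Ω) ∈ c i := Subgroup.mem_subgroupOf.mp (Subgroup.mem_subgroupOf.mp hk)
      apply Subgroup.mem_subgroupOf.mpr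
      apply Subgroup.mem_subgroupOf.mpr
      exact StronglyClosed.conj_mem (hc i) (hRS (l : R).2) hk'
    obtain ⟨-, x, -, hx⟩ := hstep i
    exact ⟨hN, isCyclic_factor (c i) (c (i + 1)) R x hx
      (fun l hl k hk => StronglyClosed.conj_mem (hc i) ((hc (i + 1)).1 hl) hk)⟩

/-- a strongly closed chain with cyclic steps forces `S` to be normal -/
theorem normal_of_cyclic_chain [Finite S] {p : ℕ} [Fact p.Prime] (hS : IsPGroup p S)
    {F : FusionSystem S} (hF : F.IsSaturated p) (m : ℕ) (c : ℕ → Subgroup Ω)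
    (h0 : c 0 = ⊥) (hm : c m = S) (hc : ∀ i, F.StronglyClosed (c i))
    (hstep : ∀ i, c i ≤ c (i + 1) ∧ ∃ x ∈ S, c (i + 1) = c i ⊔ Subgroup.zpowers x) :
    F.IsNormal S := by
  apply normal_of_le_radicals hS hF (stronglyClosed_top F)
  intro R hRn hRc hRr
  have hRS : R ≤ S := hRn.1
  have : Finite R := finite_of_le hRS
  have hRp : IsPGroup p R := hS.to_le hRS
  obtain ⟨hinv, hcyc⟩ := chain_restrict c hc hstep R hRS
  let D : ℕ → Subgroup R := fun i => (c i).subgroupOf R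
  have hD0 : D 0 = ⊥ := by
    show (c 0).subgroupOf R = ⊥
    rw [h0, Subgroup.bot_subgroupOf]
  have hDm : D m = ⊤ := by
    show (c m).subgroupOf R = ⊤
    rw [hm]; exact Subgroup.subgroupOf_eq_top.mpr hRS
  obtain ⟨N, hN⟩ : ∃ N, N = chainStab F R D hinv := ⟨_, rfl⟩
  have hNp : IsPGroup p (N.subgroupOf (F.autGroup R)) := by
    apply isPGroup_of_coprime_trivial p
    intro g hg
    obtain ⟨γ, hγ⟩ : ∃ γ : MulAut R, γ = ((g : F.autGroup R) : MulAut R) := ⟨_, rfl⟩
    have hγN : γ ∈ N := by rw [hγ]; exact Subgroup.mem_subgroupOf.mp g.2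
    rw [hN] at hγN
    obtain ⟨hγA, hγ'⟩ := hγN
    have hord : orderOf γ = orderOf g := by
      rw [hγ, Subgroup.orderOf_coe, Subgroup.orderOf_coe]
    have hcop : Nat.Coprime (orderOf γ) p := by rw [hord]; exact hg
    have hγ1 : γ = 1 :=
      aut_eq_one_of_chain hRp γ hcop m D hD0 hDm (fun i x hx => hinv i γ hγA x hx) hγ'
    apply Subtype.ext
    apply Subtype.ext
    rw [← hγ, hγ1]
    rfl
  have hcomm : ∀ a b : F.autGroup R, a * b * a⁻¹ * b⁻¹ ∈ N.subgroupOf (F.autGroup R) := by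
    intro a b
    rw [Subgroup.mem_subgroupOf, hN]
    refine ⟨(a * b * a⁻¹ * b⁻¹).2, fun i x hx => ?_⟩
    obtain ⟨hNi, hcyci⟩ := hcyc i
    exact comm_mem_of_cyclic_factor (F.autGroup R) (D i) (D (i + 1)) (hN := hNi) (hcyc := hcyci)
      (hinv i) (hinv (i + 1)) a.2 b.2 x hx
  obtain ⟨R₀, hR₀⟩ := hNp.exists_le_sylow
  have hR₀n : (R₀ : Subgroup (F.autGroup R)).Normal := by
    constructor
    intro g hg a
    have e : a * g * a⁻¹ = (a * g * a⁻¹ * g⁻¹) * g := by group
    rw [e]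
    exact mul_mem (hR₀ (hcomm a g)) hg
  exact (eq_top_of_normal_sylow hS hF hRn hRc hRr R₀ hR₀n).ge

end Cfsg.Agent.Helper27
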