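import Cfsg.Agent.Helper27.EigenVec
import Cfsg.Agent.Helper27.FusLift

set_option autoImplicit false

namespace Cfsg.Agent.Helper27

/-- a commuting family of operators of order dividing `p - 1` on an elementary abelian `p`-subgroup has a
common eigenvector -/
theorem exists_common_eigen {p : ℕ} [Fact p.Prime] {Γ : Type*} [Group Γ] {P : Type*} [Group P]
    [Finite P] (ρ : Γ →* MulAut P) (hexp : ∀ g : Γ, g ^ (p - 1) = 1)
    (hcomm : ∀ g h : Γ, g * h = h * g) :
    ∀ (n : ℕ) (W : Subgroup P), Nat.card W ≤ n → W ≠ ⊥ → (∀ x ∈ W, ∀ y ∈ W, x * y = y * x) →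
      (∀ x ∈ W, x ^ p = 1) → (∀ g, ∀ x ∈ W, ρ g x ∈ W) →
      ∃ v ∈ W, v ≠ 1 ∧ ∀ g, ρ g v ∈ Subgroup.zpowers v := by
  intro n
  induction n with
  | zero =>
    intro W hW
    exact absurd hW (by have := Nat.card_pos (α := W); omega)
  | succ n ih =>
    intro W hcard hne hab hexpW hinv
    by_cases hsc : ∀ g, ∀ x ∈ W, ρ g x ∈ Subgroup.zpowers x
    · obtain ⟨v, hv1⟩ := (Subgroup.ne_bot_iff_exists_ne_one).mp hne
      exact ⟨v, v.2, fun h => hv1 (Subtype.ext h), fun g => hsc g v v.2⟩
    · push Not at hsc
      obtain ⟨g₀, x₀, hx₀, hx₀'⟩ := hsc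
      have : Nontrivial W := (Subgroup.nontrivial_iff_ne_bot W).mpr hne
      let τ : W →* W :=
        { toFun := fun x => ⟨ρ g₀ x, hinv g₀ x x.2⟩
          map_one' := Subtype.ext (map_one (ρ g₀))
          map_mul' := fun x y => Subtype.ext (map_mul (ρ g₀) (x : P) (y : P)) }
      have hiter : ∀ (m : ℕ) (x : W), ((τ^[m] x : W) : P) = (ρ g₀ ^ m) (x : P) := by
        intro m
        induction m with
        | zero => intro x; rfl
        | succ m ihm =>
          intro x
          rw [Function.iterate_succ_apply', pow_succ', MulAut.mul_apply, ← ihm]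
          rfl
      have hτ : ∀ x, τ^[p - 1] x = x := by
        intro x
        apply Subtype.ext
        rw [hiter, ← map_pow, hexp, map_one]
        rfl
      obtain ⟨v, hv1, k, hk⟩ := exists_eigen_group (p := p)
        (fun a b => Subtype.ext (hab a a.2 b b.2)) (fun x => Subtype.ext (hexpW x x.2)) τ hτ
      have hk' : ρ g₀ (v : P) = (v : P) ^ k := by
        have := congrArg (Subtype.val) hk
        exact this
      let W' : Subgroup P :=
        { carrier := {x | x ∈ W ∧ ρ g₀ x = x ^ k}
          one_mem' := ⟨W.one_mem, by rw [map_one, one_pow]⟩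
          mul_mem' := by
            rintro a b ⟨ha, ha'⟩ ⟨hb, hb'⟩
            refine ⟨W.mul_mem ha hb, ?_⟩
            rw [map_mul, ha', hb', (Commute.mul_pow (hab a ha b hb) k)]
          inv_mem' := by
            rintro a ⟨ha, ha'⟩
            refine ⟨W.inv_mem ha, ?_⟩
            rw [map_inv, ha', inv_pow] }
      have hW'W : W' ≤ W := fun x hx => hx.1
      have hcard' : Nat.card W' ≤ n := by
        by_contra hcon
        have h1 : Nat.card W ≤ Nat.card W' := by omega
        have h2 : W' = W := Subgroup.eq_of_le_of_card_ge hW'W h1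
        have h3 : x₀ ∈ W' := by rw [h2]; exact hx₀
        apply hx₀'
        rw [h3.2]
        exact Subgroup.npow_mem_zpowers x₀ k
      have hne' : W' ≠ ⊥ := by
        intro h
        have h1 : (v : P) ∈ W' := ⟨v.2, hk'⟩
        rw [h, Subgroup.mem_bot] at h1
        exact hv1 (Subtype.ext h1)
      obtain ⟨v', hv', hv'1, hv'e⟩ := ih W' hcard' hne'
        (fun x hx y hy => hab x hx.1 y hy.1) (fun x hx => hexpW x hx.1)
        (fun g x hx => ⟨hinv g x hx.1, by
          have e : ρ g₀ (ρ g x) = ρ g (ρ g₀ x) := by
            rw [← MulAut.mul_apply, ← MulAut.mul_apply, ← map_mul, ← map_mul, hcomm]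
          rw [e, hx.2, map_pow]⟩)
      exact ⟨v', hW'W hv', hv'1, hv'e⟩

end Cfsg.Agent.Helper27

namespace Cfsg.Agent.Helper27

universe u

/-- a `p`-group acted on by an abelian group of exponent dividing `p - 1` has an invariant normal chain with
cyclic steps -/
theorem exists_invariant_chain {p : ℕ} [Fact p.Prime] {Γ : Type*} [Group Γ]
    (hexp : ∀ g : Γ, g ^ (p - 1) = 1) (hcomm : ∀ g h : Γ, g * h = h * g) :
    ∀ (n : ℕ) (P : Type u) [Group P] [Finite P], IsPGroup p P → Nat.card P ≤ n →
      ∀ ρ : Γ →* MulAut P,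
      ∃ (m : ℕ) (C : ℕ → Subgroup P), C 0 = ⊥ ∧ C m = ⊤ ∧ (∀ i, (C i).Normal) ∧
        (∀ i g, ∀ x ∈ C i, ρ g x ∈ C i) ∧
        ∀ i, C i ≤ C (i + 1) ∧ ∃ x, C (i + 1) = C i ⊔ Subgroup.zpowers x := by
  have hp := (Fact.out : p.Prime)
  intro n
  induction n with
  | zero =>
    intro P _ _ _ hcard
    exact absurd hcard (by have := Nat.card_pos (α := P); omega)
  | succ n ih =>
    intro P _ _ hP hcard ρ
    by_cases htriv : Subsingleton P
    · refine ⟨0, fun _ => ⊥, rfl, Subsingleton.elim _ _, fun i => Subgroup.normal_bot,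
        fun i g x hx => ?_, fun i => ⟨le_rfl, 1, ?_⟩⟩
      · rw [Subgroup.mem_bot] at hx ⊢
        rw [hx, map_one]
      · rw [Subgroup.zpowers_one_eq_bot, sup_bot_eq]
    · rw [not_subsingleton_iff_nontrivial] at htriv
      have hZ : Nontrivial (Subgroup.center P) := hP.center_nontrivial
      let W : Subgroup P :=
        { carrier := {x | x ∈ Subgroup.center P ∧ x ^ p = 1}
          one_mem' := ⟨one_mem _, one_pow _⟩
          mul_mem' := by
            rintro a b ⟨ha, ha'⟩ ⟨hb, hb'⟩
            refine ⟨mul_mem ha hb, ?_⟩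
            have hc : Commute a b := Subgroup.mem_center_iff.mp hb a
            rw [hc.mul_pow, ha', hb', one_mul]
          inv_mem' := by
            rintro a ⟨ha, ha'⟩
            exact ⟨inv_mem ha, by rw [inv_pow, ha', inv_one]⟩ }
      have hWne : W ≠ ⊥ := by
        have hdvd : p ∣ Nat.card (Subgroup.center P) := by
          obtain ⟨k, hk⟩ := IsPGroup.iff_card.mp (hP.to_subgroup (Subgroup.center P))
          rw [hk]
          rcases Nat.eq_zero_or_pos k with h0 | h0
          · rw [h0, pow_zero] at hk
            have := Finite.one_lt_card_iff_nontrivial.mpr hZ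
            omega
          · exact dvd_pow_self p h0.ne'
        obtain ⟨z, hz⟩ := exists_prime_orderOf_dvd_card' p hdvd
        intro h
        have h1 : (z : P) ∈ W := by
          refine ⟨z.2, ?_⟩
          have h2 : z ^ p = 1 := by rw [← hz]; exact pow_orderOf_eq_one z
          have h3 := congrArg (Subtype.val) h2
          exact h3
        rw [h, Subgroup.mem_bot] at h1
        have h4 : z = 1 := Subtype.ext h1
        rw [h4, orderOf_one] at hz
        exact hp.one_lt.ne hz
      obtain ⟨v, hvW, hv1, hve⟩ := exists_common_eigen ρ hexp hcomm (Nat.card W) W le_rfl hWne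
        (fun x hx y hy => Subgroup.mem_center_iff.mp hy.1 x) (fun x hx => hx.2)
        (fun g x hx => ⟨by
          rw [Subgroup.mem_center_iff]
          intro y
          have e : y = ρ g ((ρ g)⁻¹ y) := by rw [MulAut.apply_inv_self]
          rw [e, ← map_mul, ← map_mul, Subgroup.mem_center_iff.mp hx.1], by
          rw [← map_pow, hx.2, map_one]⟩)
      obtain ⟨N, hNdef⟩ : ∃ N : Subgroup P, N = Subgroup.zpowers v := ⟨_, rfl⟩
      have hNc : ∀ x ∈ N, ∀ y : P, y * x = x * y := by
        intro x hx y
        rw [hNdef] at hx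
        obtain ⟨j, rfl⟩ := Subgroup.mem_zpowers_iff.mp hx
        exact (Subgroup.mem_center_iff.mp (zpow_mem hvW.1 j) y)
      have hNn : N.Normal := by
        constructor
        intro x hx y
        rw [hNc x hx y, mul_inv_cancel_right]
        exact hx
      have hNinv : ∀ g, ∀ x ∈ N, ρ g x ∈ N := by
        intro g x hx
        rw [hNdef] at hx ⊢
        obtain ⟨j, rfl⟩ := Subgroup.mem_zpowers_iff.mp hx
        rw [map_zpow]
        exact zpow_mem (hve g) j
      have hmap : ∀ g, N.map ((ρ g : MulAut P) : P →* P) = N := by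
        intro g
        apply le_antisymm
        · rintro _ ⟨y, hy, rfl⟩
          exact hNinv g y hy
        · intro y hy
          refine ⟨ρ g⁻¹ y, hNinv g⁻¹ y hy, ?_⟩
          show ρ g (ρ g⁻¹ y) = y
          rw [map_inv, MulAut.apply_inv_self]
      let ρ' : Γ →* MulAut (P ⧸ N) :=
        { toFun := fun g => QuotientGroup.congr N N (ρ g) (hmap g)
          map_one' := by
            ext x
            induction x using QuotientGroup.induction_on with
            | H x =>
              show (QuotientGroup.mk (ρ 1 x) : P ⧸ N) = QuotientGroup.mk x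
              rw [map_one]
              rfl
          map_mul' := by
            intro a b
            ext x
            induction x using QuotientGroup.induction_on with
            | H x =>
              show (QuotientGroup.mk (ρ (a * b) x) : P ⧸ N) = QuotientGroup.mk (ρ a (ρ b x))
              rw [map_mul]
              rfl }
      have hρ' : ∀ g x, ρ' g (QuotientGroup.mk x) = QuotientGroup.mk (ρ g x) := fun g x => rfl
      have hcardQ : Nat.card (P ⧸ N) ≤ n := by
        have h1 : Nat.card P = Nat.card (P ⧸ N) * Nat.card N :=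
          Subgroup.card_eq_card_quotient_mul_card_subgroup N
        have h2 : 1 < Nat.card N := by
          rw [Subgroup.one_lt_card_iff_ne_bot, hNdef]
          intro h
          exact hv1 (Subgroup.zpowers_eq_bot.mp h)
        have h3 := Nat.card_pos (α := P ⧸ N)
        nlinarith
      obtain ⟨m, C, hC0, hCm, hCn, hCi, hCs⟩ := ih (P ⧸ N) (hP.to_quotient N) hcardQ ρ'
      obtain ⟨C', hC'⟩ : ∃ C' : ℕ → Subgroup P,
          C' = fun i => if i = 0 then ⊥ else (C (i - 1)).comap (QuotientGroup.mk' N) := ⟨_, rfl⟩
      have hC'0 : C' 0 = ⊥ := by rw [hC']; exact if_pos rfl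
      have hC'S : ∀ i, C' (i + 1) = (C i).comap (QuotientGroup.mk' N) := by
        intro i
        rw [hC']
        show (if i + 1 = 0 then _ else _) = _
        rw [if_neg (Nat.succ_ne_zero i), Nat.add_sub_cancel]
      refine ⟨m + 1, C', hC'0, ?_, ?_, ?_, ?_⟩
      · rw [hC'S, hCm, Subgroup.comap_top]
      · intro i
        rcases Nat.eq_zero_or_pos i with h0 | h0
        · rw [h0, hC'0]; exact Subgroup.normal_bot
        · obtain ⟨j, rfl⟩ := Nat.exists_eq_succ_of_ne_zero h0.ne'
          rw [hC'S]
          exact Subgroup.Normal.comap (hCn j) _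
      · intro i g x hx
        rcases Nat.eq_zero_or_pos i with h0 | h0
        · rw [h0, hC'0, Subgroup.mem_bot] at hx
          rw [hx, map_one]; exact one_mem _
        · obtain ⟨j, rfl⟩ := Nat.exists_eq_succ_of_ne_zero h0.ne'
          rw [hC'S, Subgroup.mem_comap] at hx ⊢
          exact hCi j g _ hx
      · intro i
        rcases Nat.eq_zero_or_pos i with h0 | h0
        · rw [h0, hC'0]
          refine ⟨bot_le, v, ?_⟩
          rw [hC'S, hC0, bot_sup_eq, ← hNdef]
          rw [MonoidHom.comap_bot, QuotientGroup.ker_mk']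
        · obtain ⟨j, rfl⟩ := Nat.exists_eq_succ_of_ne_zero h0.ne'
          obtain ⟨hle, x, hx⟩ := hCs j
          obtain ⟨x, rfl⟩ := QuotientGroup.mk_surjective x
          refine ⟨?_, x, ?_⟩
          · rw [hC'S, hC'S]
            exact Subgroup.comap_mono hle
          · rw [hC'S (j + 1), hC'S j]
            apply le_antisymm
            · intro y hy
              rw [Subgroup.mem_comap, hx, sup_comm] at hy
              obtain ⟨r, hr, t, ht, e⟩ := exists_mul_of_mem_sup
                (R := Subgroup.zpowers (QuotientGroup.mk x : P ⧸ N)) (T := C j)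
                (fun r _ t ht => (hCn j).conj_mem t ht r) hy
              obtain ⟨k, rfl⟩ := Subgroup.mem_zpowers_iff.mp hr
              have h1 : (x ^ k)⁻¹ * y ∈ (C j).comap (QuotientGroup.mk' N) := by
                rw [Subgroup.mem_comap]
                have e2 : (QuotientGroup.mk' N) ((x ^ k)⁻¹ * y) = t := by
                  rw [map_mul, e, map_inv, map_zpow]
                  show ((QuotientGroup.mk x : P ⧸ N) ^ k)⁻¹ * ((QuotientGroup.mk x : P ⧸ N) ^ k * t) = t
                  rw [inv_mul_cancel_left]
                rw [e2]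
                exact ht
              have e3 : y = (x ^ k)⁻¹⁻¹ * ((x ^ k)⁻¹ * y) := by group
              rw [e3]
              exact mul_mem ((le_sup_right : Subgroup.zpowers x ≤ _)
                (inv_mem (inv_mem (zpow_mem (Subgroup.mem_zpowers x) k))))
                ((le_sup_left : (C j).comap (QuotientGroup.mk' N) ≤ _) h1)
            · apply sup_le (Subgroup.comap_mono hle)
              rw [Subgroup.zpowers_le, Subgroup.mem_comap, hx]
              exact (le_sup_right : Subgroup.zpowers (QuotientGroup.mk x : P ⧸ N) ≤ _)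
                (Subgroup.mem_zpowers _)

end Cfsg.Agent.Helper27
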