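import Cfsg.Agent.Helper27.SuperSolA
import Cfsg.Agent.Helper27.SuperSolC
import Cfsg.Agent.Helper27.FusSolv
import Cfsg.Agent.Helper26.Stancu

set_option autoImplicit false

namespace Cfsg.Agent.Helper27

open Cfsg Cfsg.FusionSystem

variable {Ω : Type*} [Group Ω] {S : Subgroup Ω}

/-- if every saturated fusion system over `S` has a strongly closed chain with cyclic steps, every `p'`-group
of automorphisms of `S` is abelian of exponent dividing `p - 1` -/
theorem pprime_abelian_of_chains [Finite S] {p : ℕ} [Fact p.Prime] (hS : IsPGroup p S)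
    (hall : ∀ F : FusionSystem S, F.IsSaturated p → ∃ (m : ℕ) (c : ℕ → Subgroup Ω), c 0 = ⊥ ∧
      c m = S ∧ (∀ i, F.StronglyClosed (c i)) ∧
      ∀ i, c i ≤ c (i + 1) ∧ ∃ x ∈ S, c (i + 1) = c i ⊔ Subgroup.zpowers x)
    (H : Subgroup (MulAut S)) (hH : (Nat.card H).Coprime p) :
    (∀ a ∈ H, ∀ b ∈ H, a * b = b * a) ∧ ∀ h ∈ H, h ^ (p - 1) = 1 := by
  have hp := (Fact.out : p.Prime)
  have hInn := Inn_normal' S
  have hA : Inn S ≤ H ⊔ Inn S := le_sup_right
  have hidx : ¬ p ∣ (Inn S).relIndex (H ⊔ Inn S) := by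
    rw [Subgroup.relIndex_sup_right]
    intro h
    have h1 : p ∣ Nat.card H := h.trans (Subgroup.relIndex_dvd_card _ _)
    exact (Nat.Prime.coprime_iff_not_dvd hp).mp hH.symm h1
  obtain ⟨m, c, h0, hm, hc, hstep⟩ := hall (autSys S (H ⊔ Inn S) hA) (autSys_saturated p hS hidx)
  obtain ⟨hinv, hcyc⟩ := chain_restrict c hc hstep S le_rfl
  rw [autSys_autGroup] at hinv
  let D : ℕ → Subgroup S := fun i => (c i).subgroupOf S
  have hD0 : D 0 = ⊥ := by
    show (c 0).subgroupOf S = ⊥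
    rw [h0, Subgroup.bot_subgroupOf]
  have hDm : D m = ⊤ := by
    show (c m).subgroupOf S = ⊤
    rw [hm]; exact Subgroup.subgroupOf_eq_top.mpr le_rfl
  have hHA : H ≤ H ⊔ Inn S := le_sup_left
  have hord : ∀ γ ∈ H, (orderOf γ).Coprime p := by
    intro γ hγ
    have h1 : orderOf γ ∣ Nat.card H := by
      have := orderOf_dvd_natCard (⟨γ, hγ⟩ : H)
      rwa [Subgroup.orderOf_mk] at this
    exact Nat.Coprime.coprime_dvd_left h1 hH
  have key : ∀ γ ∈ H, (∀ i, ∀ x ∈ D (i + 1), x⁻¹ * γ x ∈ D i) → γ = 1 := by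
    intro γ hγ hstab
    exact aut_eq_one_of_chain hS γ (hord γ hγ) m D hD0 hDm
      (fun i x hx => hinv i γ (hHA hγ) x hx) hstab
  refine ⟨fun a ha b hb => ?_, fun h hh => ?_⟩
  · have h1 : a * b * a⁻¹ * b⁻¹ = 1 := by
      apply key _ (H.mul_mem (H.mul_mem (H.mul_mem ha hb) (H.inv_mem ha)) (H.inv_mem hb))
      intro i x hx
      obtain ⟨hNi, hcyci⟩ := hcyc i
      exact comm_mem_of_cyclic_factor (H ⊔ Inn S) (D i) (D (i + 1)) (hN := hNi) (hcyc := hcyci)
        (hinv i) (hinv (i + 1)) (hHA ha) (hHA hb) x hx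
    calc a * b = (a * b * a⁻¹ * b⁻¹) * (b * a) := by group
      _ = b * a := by rw [h1, one_mul]
  · apply key _ (H.pow_mem hh _)
    intro i x hx
    obtain ⟨hNi, hcyci⟩ := hcyc i
    exact pow_mem_of_cyclic_factor (H ⊔ Inn S) (D i) (D (i + 1)) (hN := hNi) (hcyc := hcyci)
      (hS.to_subgroup _) (hinv i) (hinv (i + 1)) (hHA hh) (hord h hh) x hx

/-- a saturated fusion system in which `S` is normal and whose `p'`-automorphism groups of `S` are abelian of
exponent dividing `p - 1` has a strongly closed chain with cyclic steps -/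
theorem chain_of_resistant [Finite S] {p : ℕ} [Fact p.Prime] (hS : IsPGroup p S)
    {F : FusionSystem S} (hF : F.IsSaturated p) (hSn : F.IsNormal S)
    (hH : ∀ H : Subgroup (MulAut S), (Nat.card H).Coprime p →
      (∀ a ∈ H, ∀ b ∈ H, a * b = b * a) ∧ ∀ h ∈ H, h ^ (p - 1) = 1) :
    ∃ (m : ℕ) (c : ℕ → Subgroup Ω), c 0 = ⊥ ∧ c m = S ∧ (∀ i, F.StronglyClosed (c i)) ∧
      ∀ i, c i ≤ c (i + 1) ∧ ∃ x ∈ S, c (i + 1) = c i ⊔ Subgroup.zpowers x := by
  have hp := (Fact.out : p.Prime)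
  obtain ⟨-, R₁, hR₁⟩ := ((Helper26.saturated_iff_rs p hS F).mp hF).1
  rw [autInducedBy_self] at hR₁
  have hInn := Inn_normal' S
  have hN₀n : ((Inn S).subgroupOf (F.autGroup S)).Normal := inferInstance
  have hcop : Nat.Coprime (Nat.card ((Inn S).subgroupOf (F.autGroup S)))
      ((Inn S).subgroupOf (F.autGroup S)).index := by
    rw [← hR₁]
    obtain ⟨k, hk⟩ := IsPGroup.iff_card.mp R₁.2
    rw [hk]
    exact Nat.Coprime.pow_left _ ((Nat.Prime.coprime_iff_not_dvd hp).mpr R₁.not_dvd_index)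
  obtain ⟨H₀, hH₀⟩ := Subgroup.exists_left_complement'_of_coprime hcop
  obtain ⟨H, hHdef⟩ : ∃ H : Subgroup (MulAut S), H = H₀.map (F.autGroup S).subtype := ⟨_, rfl⟩
  have hHcard : (Nat.card H).Coprime p := by
    have h1 : Nat.card H = Nat.card H₀ := by
      rw [hHdef]
      exact Subgroup.card_map_of_injective (Subgroup.subtype_injective _)
    have h2 : ((Inn S).subgroupOf (F.autGroup S)).index = Nat.card H₀ := hH₀.index_eq_card
    rw [h1, ← h2, ← hR₁]
    exact ((Nat.Prime.coprime_iff_not_dvd hp).mpr R₁.not_dvd_index).symm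
  obtain ⟨hHab, hHexp⟩ := hH H hHcard
  obtain ⟨m, C, hC0, hCm, hCn, hCi, hCs⟩ := exists_invariant_chain (p := p) (Γ := H)
    (fun g => Subtype.ext (by
      rw [Subgroup.coe_pow]
      exact hHexp g g.2))
    (fun g h => Subtype.ext (hHab g g.2 h h.2)) (Nat.card S) S hS le_rfl H.subtype
  have hAinv : ∀ i, ∀ α ∈ F.autGroup S, ∀ x ∈ C i, α x ∈ C i := by
    intro i α hα x hx
    obtain ⟨⟨h, n⟩, hhn, -⟩ := (Subgroup.isComplement'_def.mp hH₀).existsUnique ⟨α, hα⟩
    have e : α = ((h : F.autGroup S) : MulAut S) * ((n : F.autGroup S) : MulAut S) := by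
      have := congrArg (Subtype.val) hhn
      exact this.symm
    have hn : ((n : F.autGroup S) : MulAut S) ∈ Inn S := Subgroup.mem_subgroupOf.mp n.2
    obtain ⟨g, hg, hgx⟩ := (mem_Inn_iff _).mp hn
    have h1 : ((n : F.autGroup S) : MulAut S) x ∈ C i := by
      have e1 : ((n : F.autGroup S) : MulAut S) x = (⟨g, hg⟩ : S) * x * (⟨g, hg⟩ : S)⁻¹ :=
        Subtype.ext (hgx x)
      rw [e1]
      exact (hCn i).conj_mem x hx _
    have hh : ((h : F.autGroup S) : MulAut S) ∈ H := by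
      rw [hHdef]
      exact ⟨h, h.2, rfl⟩
    rw [e, MulAut.mul_apply]
    exact hCi i ⟨_, hh⟩ _ h1
  refine ⟨m, fun i => (C i).map S.subtype, ?_, ?_, ?_, ?_⟩
  · show (C 0).map S.subtype = ⊥
    rw [hC0, Subgroup.map_bot]
  · show (C m).map S.subtype = S
    rw [hCm, ← MonoidHom.range_eq_map, Subgroup.range_subtype]
  · intro i
    refine ⟨Subgroup.map_subtype_le _, ?_⟩
    intro R hR φ hφ x
    have hRS : R ≤ S := hR.trans (Subgroup.map_subtype_le _)
    have hmor : Mor F R (fn φ) := mor_of_hom hφ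
    obtain ⟨f', hf', hf'R, hf'S, -⟩ := normal_extend hSn hmor
    have hsup : R ⊔ S = S := sup_eq_right.mpr hRS
    rw [hsup] at hf'
    obtain ⟨α, hα, hαf⟩ := exists_aut_of_mor hf' hf'S
    obtain ⟨y, hy, hyx⟩ := hR x.2
    have h1 : α y ∈ C i := hAinv i α hα y hy
    have h2 : φ x = ((α y : S) : Ω) := by
      rw [hαf, ← fn_apply φ x, ← hf'R x x.2]
      congr 1
      exact hyx.symm
    rw [h2]
    exact ⟨α y, h1, rfl⟩
  · intro i
    obtain ⟨hle, x, hx⟩ := hCs i
    refine ⟨Subgroup.map_mono hle, (x : Ω), x.2, ?_⟩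
    show (C (i + 1)).map S.subtype = (C i).map S.subtype ⊔ Subgroup.zpowers (x : Ω)
    rw [hx, Subgroup.map_sup, MonoidHom.map_zpowers]
    rfl

end Cfsg.Agent.Helper27
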