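import Mathlib

/-!
# Index-`p` generation lemmas, counting lemmas and a chain-stabilizer lemma (helper27)
-/

set_option autoImplicit false

namespace Cfsg.Agent.Helper27

/-- a subgroup of index `p` in a finite `p`-group: normal, with cyclic quotient generated by any outside element -/
theorem gen_of_index_prime {G : Type*} [Group G] {p : ℕ} [Fact p.Prime] {H K : Subgroup G} [Finite K]
    (hK : IsPGroup p K) (hidx : (H.subgroupOf K).index = p) {x : G} (hx : x ∈ K) (hxH : x ∉ H) :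
    (∀ s ∈ K, ∃ i : ℕ, ∃ a ∈ H, s = x ^ i * a) ∧ x ^ p ∈ H ∧
      (∀ k ∈ K, ∀ h ∈ H, h ∈ K → k * h * k⁻¹ ∈ H) := by
  obtain ⟨n, hn⟩ := hK.exists_card_eq
  have hn0 : n ≠ 0 := by
    rintro rfl
    have h1 : (H.subgroupOf K).index ∣ Nat.card K := Subgroup.index_dvd_card _
    rw [hidx, hn, pow_zero] at h1
    exact (Fact.out : p.Prime).one_lt.ne' (Nat.dvd_one.mp h1)
  haveI hnorm : (H.subgroupOf K).Normal := by
    apply Subgroup.normal_of_index_eq_minFac_card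
    rw [hidx, hn, (Fact.out : p.Prime).pow_minFac hn0]
  have hcard : Nat.card (K ⧸ H.subgroupOf K) = p := hidx
  have hx1 : ((⟨x, hx⟩ : K) : K ⧸ H.subgroupOf K) ≠ 1 := by
    rw [Ne, QuotientGroup.eq_one_iff]
    exact fun h => hxH (Subgroup.mem_subgroupOf.mp h)
  have htop := zpowers_eq_top_of_prime_card hcard hx1
  refine ⟨?_, ?_, ?_⟩
  · intro s hs
    have h1 : ((⟨s, hs⟩ : K) : K ⧸ H.subgroupOf K) ∈
        Subgroup.zpowers ((⟨x, hx⟩ : K) : K ⧸ H.subgroupOf K) := by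
      rw [htop]; exact Subgroup.mem_top _
    rw [← mem_powers_iff_mem_zpowers] at h1
    obtain ⟨i, hi⟩ := h1
    have h2 : (((⟨x, hx⟩ : K) ^ i : K) : K ⧸ H.subgroupOf K) =
        ((⟨s, hs⟩ : K) : K ⧸ H.subgroupOf K) := by
      rw [QuotientGroup.mk_pow]; exact hi
    rw [QuotientGroup.eq] at h2
    have h3 := Subgroup.mem_subgroupOf.mp h2
    refine ⟨i, (x ^ i)⁻¹ * s, ?_, by group⟩
    simpa using h3
  · have h1 : (((⟨x, hx⟩ : K) : K ⧸ H.subgroupOf K)) ^ p = 1 := by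
      rw [← hcard]; exact pow_card_eq_one'
    rw [← QuotientGroup.mk_pow, QuotientGroup.eq_one_iff] at h1
    have h2 := Subgroup.mem_subgroupOf.mp h1
    simpa using h2
  · intro k hk h hh hhK
    have h1 := hnorm.conj_mem ⟨h, hhK⟩ (Subgroup.mem_subgroupOf.mpr hh) ⟨k, hk⟩
    exact Subgroup.mem_subgroupOf.mp h1

/-- commutators lie in a subgroup of index `p` of a finite `p`-group -/
theorem comm_mem_of_index_prime {G : Type*} [Group G] {p : ℕ} [Fact p.Prime] {H K : Subgroup G}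
    [Finite K] (hK : IsPGroup p K) (hidx : (H.subgroupOf K).index = p) {u v : G} (hu : u ∈ K)
    (hv : v ∈ K) : u * v * u⁻¹ * v⁻¹ ∈ H := by
  obtain ⟨n, hn⟩ := hK.exists_card_eq
  have hn0 : n ≠ 0 := by
    rintro rfl
    have h1 : (H.subgroupOf K).index ∣ Nat.card K := Subgroup.index_dvd_card _
    rw [hidx, hn, pow_zero] at h1
    exact (Fact.out : p.Prime).one_lt.ne' (Nat.dvd_one.mp h1)
  haveI hnorm : (H.subgroupOf K).Normal := by
    apply Subgroup.normal_of_index_eq_minFac_card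
    rw [hidx, hn, (Fact.out : p.Prime).pow_minFac hn0]
  have hcard : Nat.card (K ⧸ H.subgroupOf K) = p := hidx
  haveI := isCyclic_of_prime_card hcard
  obtain ⟨g, hg⟩ := IsCyclic.exists_generator (α := K ⧸ H.subgroupOf K)
  have hc : ∀ a b : K ⧸ H.subgroupOf K, a * b = b * a := by
    intro a b
    obtain ⟨i, rfl⟩ := Subgroup.mem_zpowers_iff.mp (hg a)
    obtain ⟨j, rfl⟩ := Subgroup.mem_zpowers_iff.mp (hg b)
    rw [← zpow_add, ← zpow_add, add_comm]
  have h1 : (((⟨u, hu⟩ * ⟨v, hv⟩ * ⟨u, hu⟩⁻¹ * ⟨v, hv⟩⁻¹ : K)) : K ⧸ H.subgroupOf K) = 1 := by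
    rw [QuotientGroup.mk_mul, QuotientGroup.mk_mul, QuotientGroup.mk_mul, QuotientGroup.mk_inv,
      QuotientGroup.mk_inv, hc (((⟨u, hu⟩ : K) : K ⧸ H.subgroupOf K)) ((⟨v, hv⟩ : K) : K ⧸ H.subgroupOf K)]
    group
  rw [QuotientGroup.eq_one_iff] at h1
  exact Subgroup.mem_subgroupOf.mp h1

/-- a criterion for index `p` -/
theorem index_eq_prime_of_gen {G : Type*} [Group G] {p : ℕ} [Fact p.Prime] {H K : Subgroup G}
    {b : G} (hb : b ∈ K) (hbH : b ∉ H) (hbp : b ^ p ∈ H)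
    (hgen : ∀ s ∈ K, ∃ i : ℕ, ∃ k ∈ H, s = b ^ i * k) : (H.subgroupOf K).index = p := by
  have hp : p.Prime := Fact.out
  have key : ∀ d : ℕ, 0 < d → d < p → b ^ d ∈ H → False := by
    intro d hd0 hdp hd
    have hcop : Nat.Coprime d p :=
      (Nat.Coprime.symm ((Nat.Prime.coprime_iff_not_dvd hp).mpr (Nat.not_dvd_of_pos_of_lt hd0 hdp)))
    have h1 : ((Nat.gcd d p : ℕ) : ℤ) = d * Nat.gcdA d p + p * Nat.gcdB d p := Nat.gcd_eq_gcd_ab d p
    rw [hcop] at h1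
    have h2 : b = (b ^ d) ^ (Nat.gcdA d p) * (b ^ p) ^ (Nat.gcdB d p) := by
      rw [← zpow_natCast b d, ← zpow_natCast b p, ← zpow_mul, ← zpow_mul, ← zpow_add, ← h1]
      simp
    apply hbH
    rw [h2]
    exact H.mul_mem (H.zpow_mem hd _) (H.zpow_mem hbp _)
  let f : Fin p → K ⧸ H.subgroupOf K := fun i => ((⟨b, hb⟩ ^ (i : ℕ) : K) : K ⧸ H.subgroupOf K)
  have hf : Function.Bijective f := by
    constructor
    · intro i j hij
      by_contra hne
      have hij' : (((⟨b, hb⟩ : K) ^ (i : ℕ) : K) : K ⧸ H.subgroupOf K) =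
          (((⟨b, hb⟩ : K) ^ (j : ℕ) : K) : K ⧸ H.subgroupOf K) := hij
      have hji' := hij'.symm
      rw [QuotientGroup.eq] at hij' hji'
      have h1 := Subgroup.mem_subgroupOf.mp hij'
      have h2 := Subgroup.mem_subgroupOf.mp hji'
      simp only [Subgroup.coe_mul, Subgroup.coe_inv, Subgroup.coe_pow] at h1 h2
      rcases lt_or_gt_of_ne (fun h => hne (Fin.ext h) : (i : ℕ) ≠ j) with hlt | hlt
      · refine key (j - i) (by omega) (by omega) ?_
        have e : b ^ ((j : ℕ) - i) = (b ^ (i : ℕ))⁻¹ * b ^ (j : ℕ) := by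
          rw [eq_inv_mul_iff_mul_eq, ← pow_add]
          congr 1
          omega
        rw [e]; exact h1
      · refine key (i - j) (by omega) (by omega) ?_
        have e : b ^ ((i : ℕ) - j) = (b ^ (j : ℕ))⁻¹ * b ^ (i : ℕ) := by
          rw [eq_inv_mul_iff_mul_eq, ← pow_add]
          congr 1
          omega
        rw [e]; exact h2
    · intro q
      induction q using QuotientGroup.induction_on with
      | H s =>
        obtain ⟨i, k, hk, hs⟩ := hgen s s.2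
        refine ⟨⟨i % p, Nat.mod_lt _ hp.pos⟩, ?_⟩
        show (((⟨b, hb⟩ : K) ^ (i % p) : K) : K ⧸ H.subgroupOf K) = (s : K ⧸ H.subgroupOf K)
        rw [QuotientGroup.eq, Subgroup.mem_subgroupOf]
        simp only [Subgroup.coe_mul, Subgroup.coe_inv, Subgroup.coe_pow]
        have e : (b ^ (i % p))⁻¹ * (s : G) = (b ^ p) ^ (i / p) * k := by
          rw [hs, inv_mul_eq_iff_eq_mul, ← mul_assoc, ← pow_mul, ← pow_add, Nat.mod_add_div]
        rw [e]
        exact H.mul_mem (H.pow_mem hbp _) hk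
  have h1 := Nat.card_eq_of_bijective f hf
  rw [Nat.card_fin] at h1
  exact h1.symm

/-- a subgroup all of whose elements are powers of an element of order `p` has order `p` -/
theorem card_eq_prime_of_gen {G : Type*} [Group G] {p : ℕ} [Fact p.Prime] (C : Subgroup G) {z : G}
    (hz : z ∈ C) (hz1 : z ≠ 1) (hzp : z ^ p = 1) (hgen : ∀ y ∈ C, ∃ i : ℕ, y = z ^ i) :
    Nat.card C = p := by
  have h1 : C = Subgroup.zpowers z := by
    apply le_antisymm
    · intro y hy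
      obtain ⟨i, rfl⟩ := hgen y hy
      exact Subgroup.pow_mem _ (Subgroup.mem_zpowers z) i
    · rw [Subgroup.zpowers_le]; exact hz
  rw [h1, Nat.card_zpowers, orderOf_eq_prime hzp hz1]

/-- `|K ∩ ker f| · |f(K)| = |K|` -/
theorem card_ker_inf_mul_card_map {G G' : Type*} [Group G] [Group G'] (f : G →* G') (K : Subgroup G) :
    Nat.card ↥(f.ker ⊓ K) * Nat.card ↥(K.map f) = Nat.card ↥K := by
  have h0 : f.ker.relIndex K = Nat.card ↥(K.map f) := Subgroup.relIndex_ker _ _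
  rw [← h0, ← Subgroup.inf_relIndex_right f.ker K,
    ← Subgroup.relIndex_bot_left (f.ker ⊓ K), ← Subgroup.relIndex_bot_left K]
  exact Subgroup.relIndex_mul_relIndex _ _ _ bot_le inf_le_right

/-- for an endomorphism of a finite abelian group: `|G : ker + im| = |ker ∩ im|` -/
theorem ker_sup_range_index {G : Type*} [Group G] [Finite G] (hc : ∀ a b : G, a * b = b * a)
    (f : G →* G) : (f.ker ⊔ f.range).index = Nat.card ↥(f.ker ⊓ f.range) := by
  have hRn : f.range.Normal := ⟨fun n hn g => by rw [hc g n, mul_inv_cancel_right]; exact hn⟩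
  have h1 : Nat.card ↥f.ker * Nat.card ↥f.range = Nat.card G := by
    rw [← Subgroup.index_ker f]; exact Subgroup.card_mul_index _
  have h2 : Nat.card ↥(f.ker ⊔ f.range) * (f.ker ⊔ f.range).index = Nat.card G :=
    Subgroup.card_mul_index _
  have h3 : f.range.relIndex (f.ker ⊔ f.range) = f.range.relIndex f.ker :=
    Subgroup.relIndex_sup_right _ _
  have h4 : Nat.card ↥f.range * f.range.relIndex (f.ker ⊔ f.range) = Nat.card ↥(f.ker ⊔ f.range) := by
    rw [← Subgroup.relIndex_bot_left f.range, ← Subgroup.relIndex_bot_left (f.ker ⊔ f.range)]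
    exact Subgroup.relIndex_mul_relIndex _ _ _ bot_le le_sup_right
  have h5 : Nat.card ↥(f.range ⊓ f.ker) * f.range.relIndex f.ker = Nat.card ↥f.ker := by
    rw [← Subgroup.inf_relIndex_right f.range f.ker, ← Subgroup.relIndex_bot_left (f.range ⊓ f.ker),
      ← Subgroup.relIndex_bot_left f.ker]
    exact Subgroup.relIndex_mul_relIndex _ _ _ bot_le inf_le_right
  have hr : f.range.relIndex f.ker ≠ 0 := by
    intro h0
    rw [h0, mul_zero] at h5
    exact Nat.card_pos.ne' h5.symm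
  have hR : Nat.card ↥f.range ≠ 0 := Nat.card_pos.ne'
  rw [inf_comm]
  have h6 : (Nat.card ↥f.range * f.range.relIndex f.ker) * (f.ker ⊔ f.range).index =
      (Nat.card ↥f.range * f.range.relIndex f.ker) * Nat.card ↥(f.range ⊓ f.ker) := by
    have h4' : Nat.card ↥f.range * f.range.relIndex f.ker = Nat.card ↥(f.ker ⊔ f.range) := by
      rw [← h3]; exact h4
    calc (Nat.card ↥f.range * f.range.relIndex f.ker) * (f.ker ⊔ f.range).index
        = Nat.card ↥(f.ker ⊔ f.range) * (f.ker ⊔ f.range).index := by rw [h4']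
      _ = Nat.card G := h2
      _ = Nat.card ↥f.ker * Nat.card ↥f.range := h1.symm
      _ = (Nat.card ↥(f.range ⊓ f.ker) * f.range.relIndex f.ker) * Nat.card ↥f.range := by rw [h5]
      _ = (Nat.card ↥f.range * f.range.relIndex f.ker) * Nat.card ↥(f.range ⊓ f.ker) := by ring
  exact Nat.eq_of_mul_eq_mul_left (Nat.pos_of_ne_zero (mul_ne_zero hR hr)) h6

/-- automorphisms of `H` fixing `Q` pointwise and acting trivially on the cosets of `Q` -/
def stab2 {H : Type*} [Group H] (Q : Subgroup H) : Subgroup (MulAut H) where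
  carrier := {α | (∀ y ∈ Q, α y = y) ∧ ∀ y : H, y⁻¹ * α y ∈ Q}
  one_mem' := by
    refine ⟨fun y _ => rfl, fun y => ?_⟩
    show y⁻¹ * y ∈ Q
    rw [inv_mul_cancel]; exact Q.one_mem
  mul_mem' := by
    rintro α β ⟨hα1, hα2⟩ ⟨hβ1, hβ2⟩
    refine ⟨fun y hy => ?_, fun y => ?_⟩
    · rw [MulAut.mul_apply, hβ1 y hy, hα1 y hy]
    · have e : y⁻¹ * (α * β) y = (y⁻¹ * β y) * ((β y)⁻¹ * α (β y)) := by
        rw [MulAut.mul_apply]; group
      rw [e]; exact Q.mul_mem (hβ2 y) (hα2 (β y))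
  inv_mem' := by
    rintro α ⟨hα1, hα2⟩
    refine ⟨fun y hy => ?_, fun y => ?_⟩
    · have h := hα1 y hy
      calc α⁻¹ y = α⁻¹ (α y) := by rw [h]
        _ = y := MulAut.inv_apply_self _ _ _
    · have h := hα2 (α⁻¹ y)
      rw [MulAut.apply_inv_self] at h
      have e : y⁻¹ * α⁻¹ y = ((α⁻¹ y)⁻¹ * y)⁻¹ := by group
      rw [e]; exact Q.inv_mem h

theorem mem_stab2 {H : Type*} [Group H] {Q : Subgroup H} {α : MulAut H} :
    α ∈ stab2 Q ↔ (∀ y ∈ Q, α y = y) ∧ ∀ y : H, y⁻¹ * α y ∈ Q := Iff.rfl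

theorem stab2_isPGroup {H : Type*} [Group H] {p : ℕ} [Fact p.Prime] (Q : Subgroup H) [Finite Q]
    (hQ : IsPGroup p Q) : IsPGroup p (stab2 Q) := by
  obtain ⟨n, hn⟩ := hQ.exists_card_eq
  rintro ⟨α, hα1, hα2⟩
  refine ⟨n, ?_⟩
  have key : ∀ k : ℕ, ∀ y : H, (α ^ k) y = y * (y⁻¹ * α y) ^ k := by
    intro k
    induction k with
    | zero => intro y; simp
    | succ k ih =>
      intro y
      rw [pow_succ', MulAut.mul_apply, ih y, map_mul, map_pow, hα1 _ (hα2 y),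
        pow_succ' (y⁻¹ * α y) k, ← mul_assoc, mul_inv_cancel_left]
  apply Subtype.ext
  apply MulEquiv.ext
  intro y
  show (α ^ (p ^ n)) y = y
  rw [key]
  have h1 : ((⟨y⁻¹ * α y, hα2 y⟩ : Q)) ^ (p ^ n) = 1 := by
    rw [← hn]; exact pow_card_eq_one'
  have h2 : (y⁻¹ * α y) ^ (p ^ n) = 1 := by
    have := congrArg (fun q : Q => (q : H)) h1
    simpa using this
  rw [h2, mul_one]

theorem stab2_conj {H : Type*} [Group H] {Q : Subgroup H} {u α : MulAut H}
    (hu : ∀ y ∈ Q, u y ∈ Q) (hu' : ∀ y ∈ Q, u⁻¹ y ∈ Q) (hα : α ∈ stab2 Q) :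
    u * α * u⁻¹ ∈ stab2 Q := by
  obtain ⟨hα1, hα2⟩ := hα
  refine ⟨fun y hy => ?_, fun y => ?_⟩
  · rw [MulAut.mul_apply, MulAut.mul_apply, hα1 _ (hu' y hy), MulAut.apply_inv_self]
  · have e : y⁻¹ * (u * α * u⁻¹) y = u ((u⁻¹ y)⁻¹ * α (u⁻¹ y)) := by
      rw [MulAut.mul_apply, MulAut.mul_apply, map_mul, map_inv, MulAut.apply_inv_self]
    rw [e]
    exact hu _ (hα2 _)

/-- a `p`-subgroup normalized by a Sylow `p`-subgroup lies in it -/
theorem le_sylow_of_normalized {X : Type*} [Group X] {p : ℕ} [Fact p.Prime] (R : Sylow p X)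
    {Y : Subgroup X} (hY : IsPGroup p Y) (hn : (R : Subgroup X) ≤ Subgroup.normalizer (Y : Set X)) :
    Y ≤ R := by
  have h1 : IsPGroup p ↥((R : Subgroup X) ⊔ Y) := IsPGroup.to_sup_of_normal_right' R.isPGroup' hY hn
  have h2 := R.is_maximal' h1 le_sup_left
  calc Y ≤ (R : Subgroup X) ⊔ Y := le_sup_right
    _ = R := h2

/-- the abstract transvection lemma -/
theorem tv_abstract {H : Type*} [Group H] [Finite H] {p : ℕ} [Fact p.Prime] (hH : IsPGroup p H)
    (X U : Subgroup (MulAut H)) (R : Sylow p X) (hR : (R : Subgroup X) = U.subgroupOf X)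
    (H₀ : Subgroup H) [H₀.Normal]
    (hU : ∀ u ∈ U, ∃ y : H, ∀ h ∈ H₀, u h = y * h * y⁻¹)
    (g : MulAut H) (hg : g ∈ X) (u : MulAut H) (huU : u ∈ U) (huX : u ∈ X)
    (t : H) (ht : ∀ h : H, ∃ i : ℕ, ∃ h₀ ∈ H₀, h = t ^ i * h₀)
    (hu1 : ∀ h ∈ H₀, u h = h)
    (hu2 : u t * t⁻¹ ∈ H₀ ∧ g (u t * t⁻¹) ∈ H₀) :
    g * u * g⁻¹ ∈ U := by
  obtain ⟨H₁, hH₁⟩ : ∃ H₁ : Subgroup H, H₁ = H₀ ⊓ H₀.comap g.toMonoidHom := ⟨_, rfl⟩
  have hH₁n : H₁.Normal := by rw [hH₁]; infer_instance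
  have hmem₁ : ∀ y : H, y ∈ H₁ ↔ y ∈ H₀ ∧ g y ∈ H₀ := by
    intro y; rw [hH₁]; exact Iff.rfl
  obtain ⟨Q, hQ⟩ : ∃ Q : Subgroup H, Q = H₁.comap (g⁻¹).toMonoidHom := ⟨_, rfl⟩
  have hQn : Q.Normal := by rw [hQ]; infer_instance
  have hmemQ : ∀ y : H, y ∈ Q ↔ g⁻¹ y ∈ H₁ := by
    intro y; rw [hQ]; exact Iff.rfl
  have hQ₀ : Q ≤ H₀ := by
    intro y hy
    have h1 := ((hmem₁ _).mp ((hmemQ y).mp hy)).2
    rwa [MulAut.apply_inv_self] at h1
  -- `h⁻¹ u(h) ∈ H₁` for all `h`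
  have hut : t⁻¹ * u t ∈ H₁ := by
    have h1 : u t * t⁻¹ ∈ H₁ := (hmem₁ _).mpr hu2
    have e : t⁻¹ * u t = t⁻¹ * (u t * t⁻¹) * t⁻¹⁻¹ := by group
    rw [e]; exact hH₁n.conj_mem _ h1 _
  have hpow : ∀ i : ℕ, (t ^ i)⁻¹ * (u t) ^ i ∈ H₁ := by
    intro i
    induction i with
    | zero => simp [H₁.one_mem]
    | succ i ih =>
      have e : (t ^ (i + 1))⁻¹ * (u t) ^ (i + 1) =
          (t⁻¹ * ((t ^ i)⁻¹ * (u t) ^ i) * t⁻¹⁻¹) * (t⁻¹ * u t) := by
        rw [pow_succ, pow_succ]; group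
      rw [e]
      exact H₁.mul_mem (hH₁n.conj_mem _ ih _) hut
  have hall : ∀ h : H, h⁻¹ * u h ∈ H₁ := by
    intro h
    obtain ⟨i, h₀, hh₀, rfl⟩ := ht h
    have e : (t ^ i * h₀)⁻¹ * u (t ^ i * h₀) = h₀⁻¹ * ((t ^ i)⁻¹ * (u t) ^ i) * h₀⁻¹⁻¹ := by
      rw [map_mul, map_pow, hu1 h₀ hh₀]; group
    rw [e]
    exact hH₁n.conj_mem _ (hpow i) _
  -- `β = g u g⁻¹` stabilizes the chain `1 ≤ Q ≤ H`
  have hβ : g * u * g⁻¹ ∈ stab2 Q := by
    refine ⟨fun y hy => ?_, fun y => ?_⟩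
    · have h1 := ((hmem₁ _).mp ((hmemQ y).mp hy)).1
      rw [MulAut.mul_apply, MulAut.mul_apply, hu1 _ h1, MulAut.apply_inv_self]
    · have e : y⁻¹ * (g * u * g⁻¹) y = g ((g⁻¹ y)⁻¹ * u (g⁻¹ y)) := by
        rw [MulAut.mul_apply, MulAut.mul_apply, map_mul, map_inv, MulAut.apply_inv_self]
      rw [e, hmemQ, MulAut.inv_apply_self]
      exact hall _
  -- `U` normalizes `stab2 Q`
  have hUQ : ∀ v ∈ U, ∀ y ∈ Q, v y ∈ Q := by
    intro v hv y hy
    obtain ⟨c, hc⟩ := hU v hv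
    rw [hc y (hQ₀ hy)]
    exact hQn.conj_mem y hy c
  haveI : Finite Q := inferInstance
  have hYp : IsPGroup p ((stab2 Q).subgroupOf X) :=
    (stab2_isPGroup Q (hH.to_subgroup Q)).comap_subtype
  have hnorm : (R : Subgroup X) ≤ Subgroup.normalizer (((stab2 Q).subgroupOf X : Subgroup X) : Set X) := by
    intro r hr
    have hrU : (r : MulAut H) ∈ U := by
      rw [hR] at hr
      exact Subgroup.mem_subgroupOf.mp hr
    have hrU' : (r : MulAut H)⁻¹ ∈ U := U.inv_mem hrU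
    rw [Subgroup.mem_normalizer_iff]
    intro a
    constructor
    · intro ha
      rw [Subgroup.mem_subgroupOf] at ha ⊢
      exact stab2_conj (hUQ _ hrU) (hUQ _ hrU') ha
    · intro ha
      rw [Subgroup.mem_subgroupOf] at ha ⊢
      have h1 := stab2_conj (u := (r : MulAut H)⁻¹) (hUQ _ hrU') (by rw [inv_inv]; exact hUQ _ hrU) ha
      have e : (r : MulAut H)⁻¹ * ((r * a * r⁻¹ : X) : MulAut H) * (r : MulAut H)⁻¹⁻¹ = (a : MulAut H) := by
        simp only [Subgroup.coe_mul, Subgroup.coe_inv]; group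
      rwa [e] at h1
  have hle := le_sylow_of_normalized R hYp hnorm
  have hβX : g * u * g⁻¹ ∈ X := X.mul_mem (X.mul_mem hg huX) (X.inv_mem hg)
  have h1 : (⟨g * u * g⁻¹, hβX⟩ : X) ∈ (R : Subgroup X) := hle (Subgroup.mem_subgroupOf.mpr hβ)
  rw [hR] at h1
  exact Subgroup.mem_subgroupOf.mp h1

end Cfsg.Agent.Helper27
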