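import Cfsg.Agent.Helper27.UA1

/-!
# `p`-groups with an abelian subgroup of index `p`: the commutator map (helper27)
-/

set_option autoImplicit false

open scoped commutatorElement

namespace Cfsg.Agent.Helper27

variable {Ω : Type*} [Group Ω]

/-- the standing hypotheses: `A` abelian of index `p` in the finite `p`-group `S`, `x ∈ S ∖ A` -/
structure UAHyp (p : ℕ) (S A : Subgroup Ω) (x : Ω) : Prop where
  pS : IsPGroup p S
  hAS : A ≤ S
  comm : ∀ a ∈ A, ∀ b ∈ A, a * b = b * a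
  idx : (A.subgroupOf S).index = p
  hxS : x ∈ S
  hxA : x ∉ A

/-- the commutator map `a ↦ [a, x]` -/
def psi (x a : Ω) : Ω := a * x * a⁻¹ * x⁻¹

theorem psi_one (x : Ω) : psi x 1 = 1 := by unfold psi; group

theorem mem_ucs2 {S : Subgroup Ω} {y : Ω} :
    y ∈ (Subgroup.upperCentralSeries ↥S 2).map S.subtype ↔
      y ∈ S ∧ ∀ s ∈ S, y * s * y⁻¹ * s⁻¹ ∈ S ⊓ Subgroup.centralizer (S : Set Ω) := by
  rw [Subgroup.mem_map]
  constructor
  · rintro ⟨y', hy', rfl⟩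
    refine ⟨y'.2, fun s hs => ?_⟩
    rw [show (2 : ℕ) = 1 + 1 from rfl, Subgroup.mem_upperCentralSeries_succ_iff] at hy'
    have h1 := hy' ⟨s, hs⟩
    rw [Subgroup.upperCentralSeries_one, Subgroup.mem_center_iff] at h1
    refine Subgroup.mem_inf.mpr ⟨?_, ?_⟩
    · exact S.mul_mem (S.mul_mem (S.mul_mem y'.2 hs) (S.inv_mem y'.2)) (S.inv_mem hs)
    · rw [Subgroup.mem_centralizer_iff]
      intro g hg
      have h2 := congrArg (fun t : ↥S => (t : Ω)) (h1 ⟨g, hg⟩)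
      simpa [commutatorElement_def] using h2
  · rintro ⟨hy, h⟩
    refine ⟨⟨y, hy⟩, ?_, rfl⟩
    rw [show (2 : ℕ) = 1 + 1 from rfl, Subgroup.mem_upperCentralSeries_succ_iff]
    intro s
    rw [Subgroup.upperCentralSeries_one, Subgroup.mem_center_iff]
    intro g
    have h1 := (Subgroup.mem_centralizer_iff.mp (Subgroup.mem_inf.mp (h s s.2)).2) g g.2
    apply Subtype.ext
    simpa [commutatorElement_def] using h1

namespace UAHyp

variable {p : ℕ} [Fact p.Prime] {S A : Subgroup Ω} [Finite S] {x : Ω}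

theorem normal (h : UAHyp p S A x) {s a : Ω} (hs : s ∈ S) (ha : a ∈ A) : s * a * s⁻¹ ∈ A :=
  (gen_of_index_prime h.pS h.idx h.hxS h.hxA).2.2 s hs a ha (h.hAS ha)

theorem gen (h : UAHyp p S A x) {s : Ω} (hs : s ∈ S) : ∃ i : ℕ, ∃ a ∈ A, s = x ^ i * a :=
  (gen_of_index_prime h.pS h.idx h.hxS h.hxA).1 s hs

theorem pow_p (h : UAHyp p S A x) : x ^ p ∈ A :=
  (gen_of_index_prime h.pS h.idx h.hxS h.hxA).2.1

theorem swap (h : UAHyp p S A x) {y : Ω} (hy : y ∈ S) (hyA : y ∉ A) : UAHyp p S A y :=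
  ⟨h.pS, h.hAS, h.comm, h.idx, hy, hyA⟩

theorem pow_mem (h : UAHyp p S A x) (i : ℕ) : x ^ i ∈ S := S.pow_mem h.hxS i

theorem conj_pow_mem (h : UAHyp p S A x) {a : Ω} (ha : a ∈ A) (i : ℕ) : x ^ i * a * (x ^ i)⁻¹ ∈ A :=
  h.normal (h.pow_mem i) ha

theorem psi_mem (h : UAHyp p S A x) {a : Ω} (ha : a ∈ A) : psi x a ∈ A := by
  have h1 : x * a⁻¹ * x⁻¹ ∈ A := h.normal h.hxS (A.inv_mem ha)
  have e : psi x a = a * (x * a⁻¹ * x⁻¹) := by unfold psi; group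
  rw [e]; exact A.mul_mem ha h1

theorem psi_mul (h : UAHyp p S A x) {a b : Ω} (ha : a ∈ A) (hb : b ∈ A) :
    psi x (a * b) = psi x a * psi x b := by
  have hc : psi x b ∈ A := h.psi_mem hb
  have e1 : psi x (a * b) = a * psi x b * (x * a⁻¹ * x⁻¹) := by unfold psi; group
  have e2 : psi x a * psi x b = psi x b * a * (x * a⁻¹ * x⁻¹) := by
    rw [h.comm _ (h.psi_mem ha) _ hc]; unfold psi; group
  rw [e1, e2, h.comm a ha _ hc]

theorem psi_inv (h : UAHyp p S A x) {a : Ω} (ha : a ∈ A) : psi x a⁻¹ = (psi x a)⁻¹ := by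
  have h1 := h.psi_mul ha (A.inv_mem ha)
  rw [mul_inv_cancel, psi_one] at h1
  exact eq_inv_of_mul_eq_one_right h1.symm

theorem psi_pow (h : UAHyp p S A x) {a : Ω} (ha : a ∈ A) (n : ℕ) : psi x (a ^ n) = psi x a ^ n := by
  induction n with
  | zero => simp [psi_one]
  | succ n ih => rw [pow_succ, h.psi_mul (A.pow_mem ha n) ha, ih, pow_succ]

theorem psi_eq_one_iff (h : UAHyp p S A x) {a : Ω} (ha : a ∈ A) :
    psi x a = 1 ↔ a ∈ S ⊓ Subgroup.centralizer (S : Set Ω) := by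
  constructor
  · intro h1
    have hax : a * x = x * a := by
      have e : a * x = psi x a * x * a := by unfold psi; group
      rw [e, h1, one_mul]
    refine Subgroup.mem_inf.mpr ⟨h.hAS ha, ?_⟩
    rw [Subgroup.mem_centralizer_iff]
    intro s hs
    obtain ⟨i, b, hb, rfl⟩ := h.gen hs
    have hc : Commute a (x ^ i) := (show Commute a x from hax).pow_right i
    calc x ^ i * b * a = x ^ i * (a * b) := by rw [mul_assoc, h.comm b hb a ha]
      _ = (x ^ i * a) * b := by rw [mul_assoc]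
      _ = (a * x ^ i) * b := by rw [hc.eq]
      _ = a * (x ^ i * b) := by rw [mul_assoc]
  · intro h1
    have h2 := (Subgroup.mem_centralizer_iff.mp (Subgroup.mem_inf.mp h1).2) x h.hxS
    unfold psi
    rw [← h2]; group

/-- `Z(S) ≤ A` when `S` is not abelian -/
theorem center_le (h : UAHyp p S A x) (hna : ¬ ∀ s ∈ S, ∀ t ∈ S, s * t = t * s) :
    S ⊓ Subgroup.centralizer (S : Set Ω) ≤ A := by
  intro z hz
  by_contra hzA
  apply hna
  have hz' := Subgroup.mem_centralizer_iff.mp (Subgroup.mem_inf.mp hz).2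
  have h' := h.swap (Subgroup.mem_inf.mp hz).1 hzA
  have hzc : ∀ i : ℕ, ∀ g ∈ S, g * z ^ i = z ^ i * g := by
    intro i g hg
    exact ((show Commute g z from hz' g hg).pow_right i).eq
  intro s hs t ht
  obtain ⟨i, a, ha, rfl⟩ := h'.gen hs
  obtain ⟨j, b, hb, rfl⟩ := h'.gen ht
  calc z ^ i * a * (z ^ j * b) = z ^ i * (a * z ^ j) * b := by group
    _ = z ^ i * (z ^ j * a) * b := by rw [hzc j a (h.hAS ha)]
    _ = z ^ j * (z ^ i * (a * b)) := by
        rw [← mul_assoc, ← pow_add, add_comm, pow_add]; group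
    _ = z ^ j * (z ^ i * (b * a)) := by rw [h.comm a ha b hb]
    _ = z ^ j * (z ^ i * b) * a := by group
    _ = z ^ j * (b * z ^ i) * a := by rw [hzc i b (h.hAS hb)]
    _ = z ^ j * b * (z ^ i * a) := by group

/-- the image of the commutator map, as a subgroup -/
def psiSub (h : UAHyp p S A x) : Subgroup Ω where
  carrier := {y | ∃ a ∈ A, y = psi x a}
  one_mem' := ⟨1, A.one_mem, (psi_one x).symm⟩
  mul_mem' := by
    rintro _ _ ⟨a, ha, rfl⟩ ⟨b, hb, rfl⟩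
    exact ⟨a * b, A.mul_mem ha hb, (h.psi_mul ha hb).symm⟩
  inv_mem' := by
    rintro _ ⟨a, ha, rfl⟩
    exact ⟨a⁻¹, A.inv_mem ha, (h.psi_inv ha).symm⟩

theorem mem_psiSub (h : UAHyp p S A x) {y : Ω} : y ∈ h.psiSub ↔ ∃ a ∈ A, y = psi x a := Iff.rfl

theorem psiSub_le (h : UAHyp p S A x) : h.psiSub ≤ A := by
  rintro _ ⟨a, ha, rfl⟩
  exact h.psi_mem ha

theorem psiSub_conj (h : UAHyp p S A x) {s y : Ω} (hs : s ∈ S) (hy : y ∈ h.psiSub) :
    s * y * s⁻¹ ∈ h.psiSub := by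
  have hx1 : ∀ y ∈ h.psiSub, x * y * x⁻¹ ∈ h.psiSub := by
    rintro _ ⟨a, ha, rfl⟩
    refine ⟨x * a * x⁻¹, h.normal h.hxS ha, ?_⟩
    unfold psi; group
  have hxi : ∀ i : ℕ, ∀ y ∈ h.psiSub, x ^ i * y * (x ^ i)⁻¹ ∈ h.psiSub := by
    intro i
    induction i with
    | zero => intro y hy; simpa using hy
    | succ i ih =>
      intro y hy
      have e : x ^ (i + 1) * y * (x ^ (i + 1))⁻¹ = x * (x ^ i * y * (x ^ i)⁻¹) * x⁻¹ := by
        rw [pow_succ']; group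
      rw [e]; exact hx1 _ (ih y hy)
  obtain ⟨i, b, hb, rfl⟩ := h.gen hs
  have hyA := h.psiSub_le hy
  have e : x ^ i * b * y * (x ^ i * b)⁻¹ = x ^ i * (b * y * b⁻¹) * (x ^ i)⁻¹ := by group
  rw [e]
  have e2 : b * y * b⁻¹ = y := by rw [h.comm b hb y hyA]; group
  rw [e2]
  exact hxi i y hy

theorem comm_mem_psiSub (h : UAHyp p S A x) {s t : Ω} (hs : s ∈ S) (ht : t ∈ S) :
    s * t * s⁻¹ * t⁻¹ ∈ h.psiSub := by
  -- (n2)
  have n2 : ∀ t ∈ S, x * t * x⁻¹ * t⁻¹ ∈ h.psiSub := by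
    intro t ht
    obtain ⟨j, b, hb, rfl⟩ := h.gen ht
    have e : x * (x ^ j * b) * x⁻¹ * (x ^ j * b)⁻¹ = x ^ j * (psi x b)⁻¹ * (x ^ j)⁻¹ := by
      unfold psi
      have hc : x * x ^ j = x ^ j * x := by rw [← pow_succ, ← pow_succ']
      calc x * (x ^ j * b) * x⁻¹ * (x ^ j * b)⁻¹ = (x * x ^ j) * b * x⁻¹ * b⁻¹ * (x ^ j)⁻¹ := by group
        _ = (x ^ j * x) * b * x⁻¹ * b⁻¹ * (x ^ j)⁻¹ := by rw [hc]
        _ = x ^ j * (b * x * b⁻¹ * x⁻¹)⁻¹ * (x ^ j)⁻¹ := by group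
    rw [e]
    exact h.psiSub_conj (h.pow_mem j) (h.psiSub.inv_mem ⟨b, hb, rfl⟩)
  have n3 : ∀ i : ℕ, ∀ t ∈ S, x ^ i * t * (x ^ i)⁻¹ * t⁻¹ ∈ h.psiSub := by
    intro i
    induction i with
    | zero => intro t _; simp [h.psiSub.one_mem]
    | succ i ih =>
      intro t ht
      have e : x ^ (i + 1) * t * (x ^ (i + 1))⁻¹ * t⁻¹ =
          (x * (x ^ i * t * (x ^ i)⁻¹ * t⁻¹) * x⁻¹) * (x * t * x⁻¹ * t⁻¹) := by
        rw [pow_succ']; group
      rw [e]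
      exact h.psiSub.mul_mem (h.psiSub_conj h.hxS (ih t ht)) (n2 t ht)
  have n4 : ∀ a ∈ A, ∀ t ∈ S, a * t * a⁻¹ * t⁻¹ ∈ h.psiSub := by
    intro a ha t ht
    obtain ⟨j, b, hb, rfl⟩ := h.gen ht
    have e : a * (x ^ j * b) * a⁻¹ * (x ^ j * b)⁻¹ = (x ^ j * a * (x ^ j)⁻¹ * a⁻¹)⁻¹ := by
      have e1 : a * (x ^ j * b) * a⁻¹ * (x ^ j * b)⁻¹ = a * x ^ j * (b * a⁻¹) * b⁻¹ * (x ^ j)⁻¹ := by
        group
      rw [e1, h.comm b hb a⁻¹ (A.inv_mem ha)]
      group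
    rw [e]
    exact h.psiSub.inv_mem (n3 j a (h.hAS ha))
  obtain ⟨i, a, ha, rfl⟩ := h.gen hs
  have e : x ^ i * a * t * (x ^ i * a)⁻¹ * t⁻¹ =
      (x ^ i * (a * t * a⁻¹ * t⁻¹) * (x ^ i)⁻¹) * (x ^ i * t * (x ^ i)⁻¹ * t⁻¹) := by group
  rw [e]
  exact h.psiSub.mul_mem (h.psiSub_conj (h.pow_mem i) (n4 a ha t ht)) (n3 i t ht)

/-- the commutator subgroup of `S` is the image of the commutator map -/
theorem mem_comm_iff (h : UAHyp p S A x) {y : Ω} :
    y ∈ (commutator ↥S).map S.subtype ↔ ∃ a ∈ A, y = psi x a := by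
  constructor
  · intro hy
    have h1 : commutator ↥S ≤ h.psiSub.comap S.subtype := by
      rw [commutator_def, Subgroup.commutator_le]
      intro g₁ _ g₂ _
      rw [Subgroup.mem_comap]
      have := h.comm_mem_psiSub g₁.2 g₂.2
      simpa [commutatorElement_def] using this
    obtain ⟨y', hy', rfl⟩ := Subgroup.mem_map.mp hy
    exact h1 hy'
  · rintro ⟨a, ha, rfl⟩
    refine Subgroup.mem_map.mpr ⟨⁅(⟨a, h.hAS ha⟩ : ↥S), ⟨x, h.hxS⟩⁆, ?_, ?_⟩
    · rw [commutator_def]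
      exact Subgroup.commutator_mem_commutator (Subgroup.mem_top _) (Subgroup.mem_top _)
    · simp [commutatorElement_def, psi]

theorem ucs2_of_psi (h : UAHyp p S A x) {a : Ω} (ha : a ∈ A)
    (hz : psi x a ∈ S ⊓ Subgroup.centralizer (S : Set Ω)) :
    a ∈ (Subgroup.upperCentralSeries ↥S 2).map S.subtype := by
  rw [mem_ucs2]
  refine ⟨h.hAS ha, fun s hs => ?_⟩
  obtain ⟨j, b, hb, rfl⟩ := h.gen hs
  have hzc := Subgroup.mem_centralizer_iff.mp (Subgroup.mem_inf.mp hz).2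
  have h1 : a * x * a⁻¹ = psi x a * x := by unfold psi; group
  have h2 : a * x ^ j * a⁻¹ = psi x a ^ j * x ^ j := by
    rw [← conj_pow, h1]
    exact (show Commute (psi x a) x from (hzc x h.hxS).symm).mul_pow j
  have e : a * (x ^ j * b) * a⁻¹ * (x ^ j * b)⁻¹ = psi x a ^ j := by
    have e1 : a * (x ^ j * b) * a⁻¹ * (x ^ j * b)⁻¹ = a * x ^ j * (b * a⁻¹) * b⁻¹ * (x ^ j)⁻¹ := by
      group
    rw [e1, h.comm b hb a⁻¹ (A.inv_mem ha)]
    have e2 : a * x ^ j * (a⁻¹ * b) * b⁻¹ * (x ^ j)⁻¹ = (a * x ^ j * a⁻¹) * (x ^ j)⁻¹ := by group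
    rw [e2, h2]; group
  rw [e]
  exact Subgroup.pow_mem _ hz j

theorem psi_central_of_ucs2 (h : UAHyp p S A x) {y : Ω}
    (hy : y ∈ (Subgroup.upperCentralSeries ↥S 2).map S.subtype) (hyA : y ∉ A) {a : Ω} (ha : a ∈ A) :
    psi x a ∈ S ⊓ Subgroup.centralizer (S : Set Ω) := by
  have hyS := (mem_ucs2.mp hy).1
  have h' := h.swap hyS hyA
  obtain ⟨i, b, hb, hxe⟩ := h'.gen h.hxS
  have hyi : y ^ i ∈ (Subgroup.upperCentralSeries ↥S 2).map S.subtype := Subgroup.pow_mem _ hy i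
  have h1 := (mem_ucs2.mp hyi).2 a (h.hAS ha)
  have e : psi x a = (y ^ i * a * (y ^ i)⁻¹ * a⁻¹)⁻¹ := by
    unfold psi
    rw [hxe]
    have e1 : a * (y ^ i * b) * a⁻¹ * (y ^ i * b)⁻¹ = a * y ^ i * (b * a⁻¹) * b⁻¹ * (y ^ i)⁻¹ := by
      group
    rw [e1, h.comm b hb a⁻¹ (A.inv_mem ha)]
    group
  rw [e]
  exact Subgroup.inv_mem _ h1

/-- `S` nonabelian: `Z(S) ∩ [S,S] ≠ 1` -/
theorem exists_central_comm (h : UAHyp p S A x) (hna : ¬ ∀ s ∈ S, ∀ t ∈ S, s * t = t * s) :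
    ∃ a ∈ A, psi x a ≠ 1 ∧ psi x a ∈ S ⊓ Subgroup.centralizer (S : Set Ω) := by
  -- some `a₁ ∈ A` does not commute with `x`
  obtain ⟨a₁, ha₁, hne⟩ : ∃ a₁ ∈ A, psi x a₁ ≠ 1 := by
    by_contra hcon
    push Not at hcon
    apply hna
    have hAZ : ∀ a ∈ A, a ∈ S ⊓ Subgroup.centralizer (S : Set Ω) :=
      fun a ha => (h.psi_eq_one_iff ha).mp (hcon a ha)
    intro s hs t ht
    obtain ⟨i, a, ha, rfl⟩ := h.gen hs
    obtain ⟨j, b, hb, rfl⟩ := h.gen ht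
    have hac := Subgroup.mem_centralizer_iff.mp (Subgroup.mem_inf.mp (hAZ a ha)).2
    have hbc := Subgroup.mem_centralizer_iff.mp (Subgroup.mem_inf.mp (hAZ b hb)).2
    calc x ^ i * a * (x ^ j * b) = x ^ i * (a * x ^ j) * b := by group
      _ = x ^ i * (x ^ j * a) * b := by rw [hac _ (h.pow_mem j)]
      _ = x ^ j * (x ^ i * (a * b)) := by
          rw [← mul_assoc, ← pow_add, add_comm, pow_add]; group
      _ = x ^ j * (x ^ i * (b * a)) := by rw [h.comm a ha b hb]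
      _ = x ^ j * (x ^ i * b) * a := by group
      _ = x ^ j * (b * x ^ i) * a := by rw [hbc _ (h.pow_mem i)]
      _ = x ^ j * b * (x ^ i * a) := by group
  -- iterate
  have hmemA : ∀ k : ℕ, (psi x)^[k] a₁ ∈ A := by
    intro k
    induction k with
    | zero => exact ha₁
    | succ k ih => rw [Function.iterate_succ_apply']; exact h.psi_mem ih
  have hlcs : ∀ k : ℕ, (psi x)^[k] a₁ ∈ Subgroup.lowerCentralSeries S k := by
    intro k
    induction k with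
    | zero => exact h.hAS ha₁
    | succ k ih =>
      rw [Function.iterate_succ_apply', Subgroup.lowerCentralSeries_succ]
      have := Subgroup.commutator_mem_commutator ih h.hxS
      simpa [commutatorElement_def, psi] using this
  obtain ⟨n, hn⟩ : ∃ n, Subgroup.lowerCentralSeries S n = ⊥ := by
    have hnil : Group.IsNilpotent ↥S := h.pS.isNilpotent
    obtain ⟨n, hn⟩ := Subgroup.nilpotent_iff_lowerCentralSeries.mp hnil
    refine ⟨n, ?_⟩
    have h1 := Subgroup.map_lowerCentralSeries (S := (⊤ : Subgroup ↥S)) S.subtype n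
    rw [hn, Subgroup.map_bot, ← MonoidHom.range_eq_map, Subgroup.range_subtype] at h1
    exact h1.symm
  have hex : ∃ k, (psi x)^[k] a₁ = 1 := ⟨n, by
    have := hlcs n
    rw [hn] at this
    exact Subgroup.mem_bot.mp this⟩
  classical
  obtain ⟨k, hk, hmin⟩ : ∃ k, (psi x)^[k] a₁ = 1 ∧ ∀ j < k, (psi x)^[j] a₁ ≠ 1 :=
    ⟨Nat.find hex, Nat.find_spec hex, fun j hj => Nat.find_min hex hj⟩
  have hk2 : 2 ≤ k := by
    by_contra hlt
    have hk' : k = 0 ∨ k = 1 := by omega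
    rcases hk' with rfl | rfl
    · apply hne
      have h0 : a₁ = 1 := hk
      rw [h0, psi_one]
    · exact hne hk
  obtain ⟨m, rfl⟩ : ∃ m, k = m + 2 := ⟨k - 2, by omega⟩
  have e1 : psi x ((psi x)^[m] a₁) = (psi x)^[m + 1] a₁ :=
    (Function.iterate_succ_apply' (psi x) m a₁).symm
  have e2 : psi x ((psi x)^[m + 1] a₁) = (psi x)^[m + 2] a₁ :=
    (Function.iterate_succ_apply' (psi x) (m + 1) a₁).symm
  refine ⟨(psi x)^[m] a₁, hmemA m, ?_, ?_⟩
  · rw [e1]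
    exact hmin (m + 1) (by omega)
  · rw [e1]
    apply (h.psi_eq_one_iff (hmemA (m + 1))).mp
    rw [e2]
    exact hk

end UAHyp

end Cfsg.Agent.Helper27
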