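import Cfsg.Agent.Helper27.UA2
import Cfsg.Agent.Helper27.FusEss

/-!
# Essential subgroups not inside an abelian subgroup of index `p`: the key lemma (helper27)
-/

set_option autoImplicit false

namespace Cfsg.Agent.Helper27

open Cfsg Cfsg.FusionSystem

variable {Ω : Type*} [Group Ω] {S : Subgroup Ω}

theorem ua_key [Finite S] {p : ℕ} [Fact p.Prime] (hS : IsPGroup p S) {F : FusionSystem S}
    (hF : F.IsSaturated p) {A P : Subgroup Ω} {x : Ω} (h : UAHyp p S A x)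
    (hP : F.IsEssential p P) (hxP : x ∈ P) :
    ∃ M : Subgroup Ω, M ≤ P ∧ (∀ u ∈ M, ∀ v ∈ M, u * v = v * u) ∧
      (M.subgroupOf P).index = ((P ⊓ A).subgroupOf P).index ∧
      ∀ a ∈ A, a ∈ Subgroup.normalizer (P : Set Ω) → psi x a ∈ M → a ∈ P := by
  obtain ⟨-, Mq, hMq, hkey⟩ := ess_key hS hF hP
  have hPS : P ≤ S := hP.2.1.1
  haveI : Finite P := finite_of_le hPS
  obtain ⟨-, -, hfa⟩ := fullyNormalized_props hS hF hP.2.1
  obtain ⟨-, R, hR⟩ := hfa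
  obtain ⟨g, hg, hgM⟩ := SetLike.not_le_iff_exists.mp hMq
  obtain ⟨H₀, hH₀⟩ : ∃ H₀ : Subgroup ↥P, H₀ = (P ⊓ A).subgroupOf P := ⟨_, rfl⟩
  have hmem₀ : ∀ y : ↥P, y ∈ H₀ ↔ (y : Ω) ∈ A := by
    intro y
    rw [hH₀, Subgroup.mem_subgroupOf, Subgroup.mem_inf]
    exact ⟨fun h1 => h1.2, fun h1 => ⟨y.2, h1⟩⟩
  haveI hH₀n : H₀.Normal := by
    constructor
    intro n hn k
    rw [hmem₀] at hn ⊢
    exact h.normal (hPS k.2) hn
  obtain ⟨M, hM⟩ : ∃ M : Subgroup Ω, M = (H₀.comap g.toMonoidHom).map P.subtype := ⟨_, rfl⟩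
  have hmemM : ∀ y : Ω, y ∈ M ↔ ∃ y' : ↥P, (g y' : Ω) ∈ A ∧ (y' : Ω) = y := by
    intro y
    rw [hM, Subgroup.mem_map]
    constructor
    · rintro ⟨y', hy', rfl⟩
      exact ⟨y', (hmem₀ _).mp hy', rfl⟩
    · rintro ⟨y', hy', rfl⟩
      exact ⟨y', (hmem₀ _).mpr hy', rfl⟩
  refine ⟨M, ?_, ?_, ?_, ?_⟩
  · intro y hy
    obtain ⟨y', -, rfl⟩ := (hmemM y).mp hy
    exact y'.2
  · intro u hu v hv
    obtain ⟨u', hu', rfl⟩ := (hmemM u).mp hu
    obtain ⟨v', hv', rfl⟩ := (hmemM v).mp hv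
    have h1 : g (u' * v') = g (v' * u') := by
      apply Subtype.ext
      rw [map_mul, map_mul]
      exact h.comm _ hu' _ hv'
    have h2 := g.injective h1
    exact congrArg (fun t : ↥P => (t : Ω)) h2
  · have h1 : M.subgroupOf P = H₀.comap g.toMonoidHom := by
      ext z
      rw [Subgroup.mem_subgroupOf, hM, Subgroup.mem_map]
      constructor
      · rintro ⟨y', hy', hyz⟩
        have : y' = z := Subtype.ext hyz
        rwa [← this]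
      · intro hz
        exact ⟨z, hz, rfl⟩
    rw [h1, Subgroup.index_comap_of_surjective _ g.surjective, hH₀]
  · intro a ha haN hψ
    by_contra haP
    apply hgM
    obtain ⟨u, hu⟩ : ∃ u : MulAut ↥P, u = conjAut P a haN := ⟨_, rfl⟩
    have huU : u ∈ autInducedBy S P := hu ▸ conjAut_mem_autInducedBy (h.hAS ha) haN
    have huX : u ∈ F.autGroup P := autInducedBy_le_autGroup F hPS huU
    have huapp : ∀ z : ↥P, ((u z : ↥P) : Ω) = a * z * a⁻¹ := by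
      intro z; rw [hu]; rfl
    have hU : ∀ v ∈ autInducedBy S P, ∃ y : ↥P, ∀ h' ∈ H₀, v h' = y * h' * y⁻¹ := by
      intro v hv
      obtain ⟨s, hs, -, hvs⟩ := (mem_autInducedBy_iff' S P v).mp hv
      obtain ⟨i, b, hb, rfl⟩ := h.gen hs
      refine ⟨⟨x ^ i, P.pow_mem hxP i⟩, fun h' hh' => ?_⟩
      apply Subtype.ext
      rw [hvs]
      have hh'A := (hmem₀ h').mp hh'
      show x ^ i * b * (h' : Ω) * (x ^ i * b)⁻¹ = x ^ i * (h' : Ω) * (x ^ i)⁻¹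
      have e : x ^ i * b * (h' : Ω) * (x ^ i * b)⁻¹ = x ^ i * (b * (h' : Ω)) * b⁻¹ * (x ^ i)⁻¹ := by
        group
      rw [e, h.comm b hb _ hh'A]
      group
    have ht : ∀ y : ↥P, ∃ i : ℕ, ∃ h₀ ∈ H₀, y = (⟨x, hxP⟩ : ↥P) ^ i * h₀ := by
      intro y
      obtain ⟨i, b, hb, hy⟩ := h.gen (hPS y.2)
      have hbP : b ∈ P := by
        have e : b = (x ^ i)⁻¹ * (y : Ω) := by rw [hy]; group
        rw [e]
        exact P.mul_mem (P.inv_mem (P.pow_mem hxP i)) y.2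
      refine ⟨i, ⟨b, hbP⟩, (hmem₀ _).mpr hb, ?_⟩
      apply Subtype.ext
      simpa using hy
    have hu1 : ∀ h' ∈ H₀, u h' = h' := by
      intro h' hh'
      apply Subtype.ext
      rw [huapp, h.comm a ha _ ((hmem₀ h').mp hh')]
      group
    have hψe : ((u ⟨x, hxP⟩ * (⟨x, hxP⟩ : ↥P)⁻¹ : ↥P) : Ω) = psi x a := by
      rw [Subgroup.coe_mul, huapp]
      rfl
    have hu2 : u ⟨x, hxP⟩ * (⟨x, hxP⟩ : ↥P)⁻¹ ∈ H₀ ∧ g (u ⟨x, hxP⟩ * (⟨x, hxP⟩ : ↥P)⁻¹) ∈ H₀ := by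
      constructor
      · rw [hmem₀, hψe]; exact h.psi_mem ha
      · obtain ⟨y', hy', hy'e⟩ := (hmemM _).mp hψ
        have : y' = u ⟨x, hxP⟩ * (⟨x, hxP⟩ : ↥P)⁻¹ := Subtype.ext (hy'e.trans hψe.symm)
        rw [hmem₀, ← this]
        exact hy'
    have hβ := tv_abstract (hS.to_le hPS) (F.autGroup P) (autInducedBy S P) R hR H₀ hU g hg u huU huX
      ⟨x, hxP⟩ ht hu1 hu2
    obtain ⟨w, hw, hβw⟩ := (mem_autInducedBy_iff S P _).mp hβ
    refine hkey g hg a ⟨h.hAS ha, haN⟩ haP w hw ?_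
    intro q hq
    rw [autFn_of_mem g hq]
    have hq' : a * q * a⁻¹ ∈ P := (Subgroup.mem_normalizer_iff.mp haN q).mp hq
    rw [autFn_of_mem g hq']
    have h1 := hβw (g ⟨q, hq⟩)
    rw [MulAut.mul_apply, MulAut.mul_apply, MulAut.inv_apply_self] at h1
    rw [← h1]
    have e : (⟨a * q * a⁻¹, hq'⟩ : ↥P) = u ⟨q, hq⟩ := Subtype.ext (huapp ⟨q, hq⟩).symm
    rw [e]

end Cfsg.Agent.Helper27
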