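import Cfsg.Agent.Helper27.UA3

/-!
# Essential subgroups of `p`-groups with an abelian subgroup of index `p`: structure (helper27)
-/

set_option autoImplicit false

namespace Cfsg.Agent.Helper27

open Cfsg Cfsg.FusionSystem

variable {Ω : Type*} [Group Ω]

/-- context for the analysis: `P ≰ A` centric, `M` the second abelian maximal subgroup of `P` -/
structure UACtx (p : ℕ) (S A P M : Subgroup Ω) (x : Ω) : Prop where
  h : UAHyp p S A x
  hna : ¬ ∀ s ∈ S, ∀ t ∈ S, s * t = t * s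
  hPS : P ≤ S
  hPne : P ≠ S
  hxP : x ∈ P
  hcent : ∀ z ∈ S ⊓ Subgroup.centralizer (S : Set Ω), z ∈ P
  hMP : M ≤ P
  hMc : ∀ u ∈ M, ∀ v ∈ M, u * v = v * u
  hMidx : (M.subgroupOf P).index = ((P ⊓ A).subgroupOf P).index
  hkey : ∀ a ∈ A, a ∈ Subgroup.normalizer (P : Set Ω) → psi x a ∈ M → a ∈ P

namespace UACtx

variable {p : ℕ} [Fact p.Prime] {S A P M : Subgroup Ω} [Finite S] {x : Ω}

theorem finP (c : UACtx p S A P M x) : Finite P := finite_of_le c.hPS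

theorem pP (c : UACtx p S A P M x) : IsPGroup p P := c.h.pS.to_le c.hPS

theorem genP (c : UACtx p S A P M x) {y : Ω} (hy : y ∈ P) : ∃ i : ℕ, ∃ b ∈ P ⊓ A, y = x ^ i * b := by
  obtain ⟨i, b, hb, hyb⟩ := c.h.gen (c.hPS hy)
  have hbP : b ∈ P := by
    have e : b = (x ^ i)⁻¹ * y := by rw [hyb]; group
    rw [e]
    exact P.mul_mem (P.inv_mem (P.pow_mem c.hxP i)) hy
  exact ⟨i, b, Subgroup.mem_inf.mpr ⟨hbP, hb⟩, hyb⟩

theorem idx₀ (c : UACtx p S A P M x) : ((P ⊓ A).subgroupOf P).index = p := by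
  refine index_eq_prime_of_gen c.hxP (fun hx => c.h.hxA (Subgroup.mem_inf.mp hx).2)
    (Subgroup.mem_inf.mpr ⟨P.pow_mem c.hxP p, c.h.pow_p⟩) (fun s hs => c.genP hs)

theorem idxM (c : UACtx p S A P M x) : (M.subgroupOf P).index = p := by rw [c.hMidx, c.idx₀]

theorem card_of_idx (c : UACtx p S A P M x) {H : Subgroup Ω} (hH : H ≤ P)
    (hidx : (H.subgroupOf P).index = p) : Nat.card ↥H * p = Nat.card ↥P := by
  have h1 := Subgroup.card_mul_index (H.subgroupOf P)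
  rw [hidx, Nat.card_congr (Subgroup.subgroupOfEquivOfLe hH).toEquiv] at h1
  exact h1

theorem zle (c : UACtx p S A P M x) : S ⊓ Subgroup.centralizer (S : Set Ω) ≤ P ⊓ A :=
  fun z hz => Subgroup.mem_inf.mpr ⟨c.hcent z hz, c.h.center_le c.hna hz⟩

theorem norm_of_psi (c : UACtx p S A P M x) {a : Ω} (ha : a ∈ A) (hψ : psi x a ∈ P) :
    a ∈ Subgroup.normalizer (P : Set Ω) := by
  haveI := c.finP
  apply mem_normalizer_of_forall
  intro y hy
  obtain ⟨i, b, hb, rfl⟩ := c.genP hy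
  have hbA := (Subgroup.mem_inf.mp hb).2
  have hbP := (Subgroup.mem_inf.mp hb).1
  have e : a * (x ^ i * b) * a⁻¹ = (psi x a * x) ^ i * b := by
    have e1 : a * (x ^ i * b) * a⁻¹ = (a * x ^ i * a⁻¹) * (a * b) * a⁻¹ := by group
    rw [e1, c.h.comm a ha b hbA, ← conj_pow]
    have e2 : a * x * a⁻¹ = psi x a * x := by unfold psi; group
    rw [e2]; group
  rw [e]
  exact P.mul_mem (P.pow_mem (P.mul_mem hψ c.hxP) i) hbP

theorem psi_mem_of_norm (c : UACtx p S A P M x) {a : Ω} (ha : a ∈ A)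
    (hN : a ∈ Subgroup.normalizer (P : Set Ω)) : psi x a ∈ P ⊓ A := by
  refine Subgroup.mem_inf.mpr ⟨?_, c.h.psi_mem ha⟩
  have h1 : a * x * a⁻¹ ∈ P := (Subgroup.mem_normalizer_iff.mp hN x).mp c.hxP
  have e : psi x a = (a * x * a⁻¹) * x⁻¹ := rfl
  rw [e]
  exact P.mul_mem h1 (P.inv_mem c.hxP)

/-- `K1` -/
theorem k1 (c : UACtx p S A P M x) {a : Ω} (ha : a ∈ A) (hψ : psi x a ∈ M) : a ∈ P ⊓ A :=
  Subgroup.mem_inf.mpr ⟨c.hkey a ha (c.norm_of_psi ha (c.hMP hψ)) hψ, ha⟩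

theorem d1 (c : UACtx p S A P M x) : M ≠ P ⊓ A := by
  intro hM
  obtain ⟨s, hsN, hsP⟩ := exists_mem_normalizerIn_not_mem c.h.pS c.hPS c.hPne
  obtain ⟨i, a, ha, rfl⟩ := c.h.gen hsN.1
  have hxi : x ^ i ∈ P := P.pow_mem c.hxP i
  have haN : a ∈ Subgroup.normalizer (P : Set Ω) := by
    have e : a = (x ^ i)⁻¹ * (x ^ i * a) := by group
    rw [e]
    exact Subgroup.mul_mem _ (Subgroup.inv_mem _ (Subgroup.le_normalizer hxi)) hsN.2
  have h1 := c.psi_mem_of_norm ha haN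
  rw [← hM] at h1
  exact hsP (P.mul_mem hxi (c.hkey a ha haN h1))

theorem exists_u (c : UACtx p S A P M x) : ∃ u ∈ P ⊓ A, u ∉ M := by
  by_contra hcon
  push Not at hcon
  haveI := c.finP
  haveI : Finite M := finite_of_le (c.hMP.trans c.hPS)
  have hp : 0 < p := (Fact.out : p.Prime).pos
  have h1 := c.card_of_idx inf_le_left c.idx₀
  have h2 := c.card_of_idx c.hMP c.idxM
  have h3 : Nat.card ↥M = Nat.card ↥(P ⊓ A) := Nat.eq_of_mul_eq_mul_right hp (h2.trans h1.symm)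
  exact c.d1 (Subgroup.eq_of_le_of_card_ge hcon h3.le).symm

theorem exists_m (c : UACtx p S A P M x) : ∃ m ∈ M, m ∉ A := by
  by_contra hcon
  push Not at hcon
  haveI := c.finP
  haveI : Finite ↥(P ⊓ A) := finite_of_le (inf_le_left.trans c.hPS)
  have hp : 0 < p := (Fact.out : p.Prime).pos
  have h1 := c.card_of_idx inf_le_left c.idx₀
  have h2 := c.card_of_idx c.hMP c.idxM
  have h3 : Nat.card ↥M = Nat.card ↥(P ⊓ A) := Nat.eq_of_mul_eq_mul_right hp (h2.trans h1.symm)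
  have hle : M ≤ P ⊓ A := fun m hm => Subgroup.mem_inf.mpr ⟨c.hMP hm, hcon m hm⟩
  exact c.d1 (Subgroup.eq_of_le_of_card_ge hle h3.ge)

/-- `P₁ = P₀ ∩ M ≤ Z(S)` -/
theorem p1_le_z (c : UACtx p S A P M x) {q : Ω} (hq : q ∈ P ⊓ A) (hqM : q ∈ M) :
    q ∈ S ⊓ Subgroup.centralizer (S : Set Ω) := by
  obtain ⟨m, hm, hmA⟩ := c.exists_m
  have hqA := (Subgroup.mem_inf.mp hq).2
  have h' := c.h.swap (c.hPS (c.hMP hm)) hmA
  refine Subgroup.mem_inf.mpr ⟨c.h.hAS hqA, ?_⟩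
  rw [Subgroup.mem_centralizer_iff]
  intro s hs
  obtain ⟨i, b, hb, rfl⟩ := h'.gen hs
  have hc : Commute q (m ^ i) := (show Commute q m from c.hMc q hqM m hm).pow_right i
  calc m ^ i * b * q = m ^ i * (q * b) := by rw [mul_assoc, c.h.comm b hb q hqA]
    _ = (m ^ i * q) * b := by rw [mul_assoc]
    _ = (q * m ^ i) * b := by rw [hc.eq]
    _ = q * (m ^ i * b) := by rw [mul_assoc]

/-- `D4` -/
theorem d4 (c : UACtx p S A P M x) {u : Ω} (hu : u ∈ P ⊓ A) (huM : u ∉ M) :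
    (∀ v ∈ P ⊓ A, ∃ i : ℕ, ∃ w, w ∈ P ⊓ A ∧ w ∈ M ∧ v = u ^ i * w) ∧ u ^ p ∈ M := by
  haveI := c.finP
  have hg := gen_of_index_prime c.pP c.idxM (Subgroup.mem_inf.mp hu).1 huM
  refine ⟨fun v hv => ?_, hg.2.1⟩
  obtain ⟨i, w, hw, hvw⟩ := hg.1 v (Subgroup.mem_inf.mp hv).1
  refine ⟨i, w, ?_, hw, hvw⟩
  have e : w = (u ^ i)⁻¹ * v := by rw [hvw]; group
  rw [e]
  exact Subgroup.mul_mem _ (Subgroup.inv_mem _ (Subgroup.pow_mem _ hu i)) hv

/-- `D7` -/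
theorem d7 (c : UACtx p S A P M x) :
    (∀ z ∈ S ⊓ Subgroup.centralizer (S : Set Ω), z ∈ M) ∨
      (∀ v ∈ P ⊓ A, v ∈ S ⊓ Subgroup.centralizer (S : Set Ω)) := by
  by_cases hc : ∀ z ∈ S ⊓ Subgroup.centralizer (S : Set Ω), z ∈ M
  · exact Or.inl hc
  · right
    push Not at hc
    obtain ⟨u, hu, huM⟩ := hc
    intro v hv
    obtain ⟨i, w, hw, hwM, rfl⟩ := (c.d4 (c.zle hu) huM).1 v hv
    exact Subgroup.mul_mem _ (Subgroup.pow_mem _ hu i) (c.p1_le_z hw hwM)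

/-- generation of `A ∩ N(P)` modulo `P₀` by one element -/
theorem gen_mod (c : UACtx p S A P M x) {b : Ω} (hb : b ∈ A) (hbψ : psi x b ∈ P ⊓ A)
    (hbM : psi x b ∉ M) :
    b ^ p ∈ P ⊓ A ∧ ∀ a ∈ A, psi x a ∈ P ⊓ A → ∃ i : ℕ, ∃ k ∈ P ⊓ A, a = b ^ i * k := by
  have hd := c.d4 hbψ hbM
  constructor
  · apply c.k1 (A.pow_mem hb p)
    rw [c.h.psi_pow hb]
    exact hd.2
  · intro a ha haψ
    obtain ⟨i, w, hw, hwM, hψe⟩ := hd.1 _ haψ
    refine ⟨i, (b ^ i)⁻¹ * a, ?_, by group⟩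
    apply c.k1 (A.mul_mem (A.inv_mem (A.pow_mem hb i)) ha)
    rw [c.h.psi_mul (A.inv_mem (A.pow_mem hb i)) ha, c.h.psi_inv (A.pow_mem hb i),
      c.h.psi_pow hb, hψe, inv_mul_cancel_left]
    exact hwM

/-- `P` has index `p` in `N_S(P)` -/
theorem normIdx (c : UACtx p S A P M x) :
    (P.subgroupOf (S ⊓ Subgroup.normalizer (P : Set Ω))).index = p := by
  obtain ⟨s, hsN, hsP⟩ := exists_mem_normalizerIn_not_mem c.h.pS c.hPS c.hPne
  obtain ⟨i, b, hb, rfl⟩ := c.h.gen hsN.1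
  have hxi : ∀ j : ℕ, x ^ j ∈ P := fun j => P.pow_mem c.hxP j
  have hbN : b ∈ Subgroup.normalizer (P : Set Ω) := by
    have e : b = (x ^ i)⁻¹ * (x ^ i * b) := by group
    rw [e]
    exact Subgroup.mul_mem _ (Subgroup.inv_mem _ (Subgroup.le_normalizer (hxi i))) hsN.2
  have hbP : b ∉ P := fun hbP => hsP (P.mul_mem (hxi i) hbP)
  have hbψ := c.psi_mem_of_norm hb hbN
  have hbM : psi x b ∉ M := fun hM => hbP (Subgroup.mem_inf.mp (c.k1 hb hM)).1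
  obtain ⟨hbp, hgen⟩ := c.gen_mod hb hbψ hbM
  refine index_eq_prime_of_gen (Subgroup.mem_inf.mpr ⟨c.h.hAS hb, hbN⟩) hbP
    (Subgroup.mem_inf.mp hbp).1 ?_
  intro s' hs'
  obtain ⟨hs'S, hs'N⟩ := Subgroup.mem_inf.mp hs'
  obtain ⟨j, a', ha', rfl⟩ := c.h.gen hs'S
  have ha'N : a' ∈ Subgroup.normalizer (P : Set Ω) := by
    have e : a' = (x ^ j)⁻¹ * (x ^ j * a') := by group
    rw [e]
    exact Subgroup.mul_mem _ (Subgroup.inv_mem _ (Subgroup.le_normalizer (hxi j))) hs'N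
  obtain ⟨i', k, hk, rfl⟩ := hgen a' ha' (c.psi_mem_of_norm ha' ha'N)
  refine ⟨i', (b ^ i')⁻¹ * x ^ j * b ^ i' * k, ?_, by group⟩
  have hbi : (b ^ i')⁻¹ ∈ Subgroup.normalizer (P : Set Ω) :=
    Subgroup.inv_mem _ (Subgroup.pow_mem _ hbN i')
  have h1 : (b ^ i')⁻¹ * x ^ j * (b ^ i')⁻¹⁻¹ ∈ P :=
    (Subgroup.mem_normalizer_iff.mp hbi _).mp (hxi j)
  rw [inv_inv] at h1
  exact P.mul_mem h1 (Subgroup.mem_inf.mp hk).1

theorem eq_sup_zpowers (c : UACtx p S A P M x) {Q : Subgroup Ω} (hQ : Q = P ⊓ A) :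
    P = Q ⊔ Subgroup.zpowers x := by
  apply le_antisymm
  · intro y hy
    obtain ⟨i, b, hb, rfl⟩ := c.genP hy
    exact Subgroup.mul_mem _
      (Subgroup.pow_mem _ (Subgroup.mem_sup_right (Subgroup.mem_zpowers x)) i)
      (Subgroup.mem_sup_left (hQ ▸ hb))
  · refine sup_le ?_ (Subgroup.zpowers_le.mpr c.hxP)
    rw [hQ]; exact inf_le_left

/-- in the case `Z ≤ M`: `Z₂ ≤ A` and `P ∩ A = Z₂` -/
theorem case_z2 (c : UACtx p S A P M x)
    (hz : ∀ z ∈ S ⊓ Subgroup.centralizer (S : Set Ω), z ∈ M) :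
    (Subgroup.upperCentralSeries ↥S 2).map S.subtype ≤ A ∧
      (Subgroup.upperCentralSeries ↥S 2).map S.subtype = P ⊓ A := by
  have h3 : (Subgroup.upperCentralSeries ↥S 2).map S.subtype ≤ A := by
    intro y hy
    by_contra hyA
    apply c.hPne
    apply le_antisymm c.hPS
    intro s hs
    obtain ⟨i, a, ha, rfl⟩ := c.h.gen hs
    have h1 := c.k1 ha (hz _ (c.h.psi_central_of_ucs2 hy hyA ha))
    exact P.mul_mem (P.pow_mem c.hxP i) (Subgroup.mem_inf.mp h1).1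
  refine ⟨h3, le_antisymm ?_ ?_⟩
  · intro y hy
    have hyA := h3 hy
    have h1 := (mem_ucs2.mp hy).2 x c.h.hxS
    exact c.k1 hyA (hz _ h1)
  · intro u hu
    obtain ⟨huP, huA⟩ := Subgroup.mem_inf.mp hu
    haveI := c.finP
    have h1 : psi x u ∈ M := comm_mem_of_index_prime c.pP c.idxM huP c.hxP
    have h2 : psi x u ∈ P ⊓ A :=
      Subgroup.mem_inf.mpr ⟨c.hMP h1, c.h.psi_mem huA⟩
    exact c.h.ucs2_of_psi huA (c.p1_le_z h2 h1)

/-- the shape of `P` -/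
theorem shape (c : UACtx p S A P M x) :
    P = (S ⊓ Subgroup.centralizer (S : Set Ω)) ⊔ Subgroup.zpowers x ∨
      ((Subgroup.upperCentralSeries ↥S 2).map S.subtype ≤ A ∧
        P = (Subgroup.upperCentralSeries ↥S 2).map S.subtype ⊔ Subgroup.zpowers x) := by
  rcases c.d7 with hz | hz
  · right
    obtain ⟨h1, h2⟩ := c.case_z2 hz
    exact ⟨h1, c.eq_sup_zpowers h2⟩
  · left
    exact c.eq_sup_zpowers (le_antisymm c.zle hz)

end UACtx

end Cfsg.Agent.Helper27
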