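import Cfsg.Agent.Helper27.UA4

/-!
# `p`-groups with a unique abelian subgroup of index `p` and an essential subgroup beyond it (helper27)
-/

set_option autoImplicit false

open scoped commutatorElement

namespace Cfsg.Agent.Helper27

open Cfsg Cfsg.FusionSystem

variable {Ω : Type*} [Group Ω]

namespace UAHyp

variable {p : ℕ} [Fact p.Prime] {S A : Subgroup Ω} [Finite S] {x : Ω}

/-- the commutator map as an endomorphism of `A` -/
def psiHom (h : UAHyp p S A x) : ↥A →* ↥A where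
  toFun a := ⟨psi x a, h.psi_mem a.2⟩
  map_one' := Subtype.ext (psi_one x)
  map_mul' a b := Subtype.ext (h.psi_mul a.2 b.2)

theorem psiHom_apply (h : UAHyp p S A x) (a : ↥A) : ((h.psiHom a : ↥A) : Ω) = psi x a := rfl

theorem ker_psiHom (h : UAHyp p S A x) :
    h.psiHom.ker = (S ⊓ Subgroup.centralizer (S : Set Ω)).subgroupOf A := by
  ext a
  rw [MonoidHom.mem_ker, Subgroup.mem_subgroupOf, ← h.psi_eq_one_iff a.2]
  constructor
  · intro h1; exact congrArg Subtype.val h1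
  · intro h1; exact Subtype.ext h1

theorem range_psiHom (h : UAHyp p S A x) :
    h.psiHom.range = ((commutator ↥S).map S.subtype).subgroupOf A := by
  ext y
  rw [MonoidHom.mem_range, Subgroup.mem_subgroupOf, h.mem_comm_iff]
  constructor
  · rintro ⟨a, rfl⟩; exact ⟨a, a.2, rfl⟩
  · rintro ⟨a, ha, hy⟩; exact ⟨⟨a, ha⟩, Subtype.ext hy.symm⟩

theorem comm_le (h : UAHyp p S A x) : (commutator ↥S).map S.subtype ≤ A := by
  intro y hy
  obtain ⟨a, ha, rfl⟩ := h.mem_comm_iff.mp hy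
  exact h.psi_mem ha

end UAHyp

namespace UACtx

variable {p : ℕ} [Fact p.Prime] {S A P M : Subgroup Ω} [Finite S] {x : Ω}

theorem psi_center (c : UACtx p S A P M x) {w : Ω}
    (hw : w ∈ S ⊓ Subgroup.centralizer (S : Set Ω)) : psi x w = 1 :=
  (c.h.psi_eq_one_iff (c.h.center_le c.hna hw)).mpr hw

/-- `Z₂(S) ≤ A` -/
theorem ucs2_le (c : UACtx p S A P M x)
    (huniq : ∀ B : Subgroup Ω, B ≤ S → IsMulCommutative ↥B → (B.subgroupOf S).index = p → B = A) :
    (Subgroup.upperCentralSeries ↥S 2).map S.subtype ≤ A := by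
  rcases c.d7 with hz | hz
  · exact (c.case_z2 hz).1
  · intro y hy
    by_contra hyA
    have hψZ : ∀ a ∈ A, psi x a ∈ S ⊓ Subgroup.centralizer (S : Set Ω) :=
      fun a ha => c.h.psi_central_of_ucs2 hy hyA ha
    have hPc : ∀ u ∈ P, ∀ v ∈ P, u * v = v * u := by
      intro u hu v hv
      obtain ⟨i, b, hb, rfl⟩ := c.genP hu
      obtain ⟨j, b', hb', rfl⟩ := c.genP hv
      have hbz := Subgroup.mem_centralizer_iff.mp (Subgroup.mem_inf.mp (hz b hb)).2
      have hb'z := Subgroup.mem_centralizer_iff.mp (Subgroup.mem_inf.mp (hz b' hb')).2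
      have hbA := (Subgroup.mem_inf.mp hb).2
      have hb'A := (Subgroup.mem_inf.mp hb').2
      have hxx : x ^ i * x ^ j = x ^ j * x ^ i := by rw [← pow_add, ← pow_add, add_comm]
      calc x ^ i * b * (x ^ j * b') = x ^ i * (b * x ^ j) * b' := by group
        _ = x ^ i * (x ^ j * b) * b' := by rw [hbz _ (c.h.pow_mem j)]
        _ = (x ^ i * x ^ j) * (b * b') := by group
        _ = (x ^ j * x ^ i) * (b' * b) := by rw [hxx, c.h.comm b hbA b' hb'A]
        _ = x ^ j * (x ^ i * b') * b := by group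
        _ = x ^ j * (b' * x ^ i) * b := by rw [hb'z _ (c.h.pow_mem i)]
        _ = x ^ j * b' * (x ^ i * b) := by group
    obtain ⟨b₁, hb₁, hb₁P⟩ : ∃ b₁ ∈ A, b₁ ∉ P := by
      by_contra hcon
      push Not at hcon
      apply c.hPne
      apply le_antisymm c.hPS
      intro s hs
      obtain ⟨i, a, ha, rfl⟩ := c.h.gen hs
      exact P.mul_mem (P.pow_mem c.hxP i) (hcon a ha)
    have hψ₁ : psi x b₁ ∈ P ⊓ A := c.zle (hψZ b₁ hb₁)
    have hψ₁M : psi x b₁ ∉ M := fun hM => hb₁P (Subgroup.mem_inf.mp (c.k1 hb₁ hM)).1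
    obtain ⟨hbp, hgen⟩ := c.gen_mod hb₁ hψ₁ hψ₁M
    have hb₁N : b₁ ∈ Subgroup.normalizer (P : Set Ω) :=
      c.norm_of_psi hb₁ (Subgroup.mem_inf.mp hψ₁).1
    have hidx : (P.subgroupOf S).index = p := by
      refine index_eq_prime_of_gen (c.h.hAS hb₁) hb₁P (Subgroup.mem_inf.mp hbp).1 ?_
      intro s hs
      obtain ⟨j, a, ha, rfl⟩ := c.h.gen hs
      obtain ⟨i, k, hk, rfl⟩ := hgen a ha (c.zle (hψZ a ha))
      refine ⟨i, (b₁ ^ i)⁻¹ * x ^ j * b₁ ^ i * k, ?_, by group⟩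
      have hbi : (b₁ ^ i)⁻¹ ∈ Subgroup.normalizer (P : Set Ω) :=
        Subgroup.inv_mem _ (Subgroup.pow_mem _ hb₁N i)
      have h1 : (b₁ ^ i)⁻¹ * x ^ j * (b₁ ^ i)⁻¹⁻¹ ∈ P :=
        (Subgroup.mem_normalizer_iff.mp hbi _).mp (P.pow_mem c.hxP j)
      rw [inv_inv] at h1
      exact P.mul_mem h1 (Subgroup.mem_inf.mp hk).1
    have hPA := huniq P c.hPS ⟨⟨fun u v => Subtype.ext (hPc u u.2 v v.2)⟩⟩ hidx
    exact c.h.hxA (hPA ▸ c.hxP)

/-- a generator of `Z(S) ∩ [S,S]` -/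
theorem exists_gen (c : UACtx p S A P M x) :
    ∃ a₀ ∈ A, psi x a₀ ≠ 1 ∧ psi x a₀ ∈ S ⊓ Subgroup.centralizer (S : Set Ω) ∧ psi x a₀ ^ p = 1 ∧
      ∀ a ∈ A, psi x a ∈ S ⊓ Subgroup.centralizer (S : Set Ω) → ∃ i : ℕ, psi x a = psi x a₀ ^ i := by
  obtain ⟨a₀, ha₀, hne, hz₀⟩ := c.h.exists_central_comm c.hna
  refine ⟨a₀, ha₀, hne, hz₀, ?_⟩
  rcases c.d7 with hz | hz
  · have ha₀P : a₀ ∈ P ⊓ A := c.k1 ha₀ (hz _ hz₀)
    have ha₀M : a₀ ∉ M := fun hM => hne (c.psi_center (c.p1_le_z ha₀P hM))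
    obtain ⟨hgen, hpM⟩ := c.d4 ha₀P ha₀M
    constructor
    · rw [← c.h.psi_pow ha₀]
      exact c.psi_center (c.p1_le_z (Subgroup.pow_mem _ ha₀P p) hpM)
    · intro a ha haz
      obtain ⟨i, w, hw, hwM, rfl⟩ := hgen a (c.k1 ha (hz _ haz))
      refine ⟨i, ?_⟩
      rw [c.h.psi_mul (A.pow_mem ha₀ i) (Subgroup.mem_inf.mp hw).2, c.h.psi_pow ha₀,
        c.psi_center (c.p1_le_z hw hwM), mul_one]
  · have hM1 : ∀ a ∈ A, psi x a ∈ M → psi x a = 1 :=
      fun a ha hM => c.psi_center (hz _ (c.k1 ha hM))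
    have hz₀P : psi x a₀ ∈ P ⊓ A := c.zle hz₀
    have hz₀M : psi x a₀ ∉ M := fun hM => hne (hM1 a₀ ha₀ hM)
    obtain ⟨hgen, hpM⟩ := c.d4 hz₀P hz₀M
    constructor
    · have h1 := hM1 (a₀ ^ p) (A.pow_mem ha₀ p) (by rw [c.h.psi_pow ha₀]; exact hpM)
      rwa [c.h.psi_pow ha₀] at h1
    · intro a ha haz
      obtain ⟨i, w, hw, hwM, hψe⟩ := hgen _ (c.zle haz)
      refine ⟨i, ?_⟩
      have hw1 : w = psi x ((a₀ ^ i)⁻¹ * a) := by
        rw [c.h.psi_mul (A.inv_mem (A.pow_mem ha₀ i)) ha, c.h.psi_inv (A.pow_mem ha₀ i),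
          c.h.psi_pow ha₀, hψe, inv_mul_cancel_left]
      have hw2 : w = 1 := by
        rw [hw1]
        apply hM1 _ (A.mul_mem (A.inv_mem (A.pow_mem ha₀ i)) ha)
        rw [← hw1]; exact hwM
      rw [hψe, hw2, mul_one]

/-- `|Z(S) ∩ [S,S]| = p` -/
theorem card_center_comm (c : UACtx p S A P M x) :
    Nat.card ↥((S ⊓ Subgroup.centralizer (S : Set Ω)) ⊓ (commutator ↥S).map S.subtype) = p := by
  obtain ⟨a₀, ha₀, hne, hz₀, hp0, hgen⟩ := c.exists_gen
  refine card_eq_prime_of_gen _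
    (Subgroup.mem_inf.mpr ⟨hz₀, c.h.mem_comm_iff.mpr ⟨a₀, ha₀, rfl⟩⟩) hne hp0 ?_
  intro y hy
  obtain ⟨hyZ, hyC⟩ := Subgroup.mem_inf.mp hy
  obtain ⟨a, ha, rfl⟩ := c.h.mem_comm_iff.mp hyC
  exact hgen a ha hyZ

/-- `|Z₂(S) : Z(S)| = p` -/
theorem idx_center_ucs2 (c : UACtx p S A P M x)
    (hle : (Subgroup.upperCentralSeries ↥S 2).map S.subtype ≤ A) :
    ((S ⊓ Subgroup.centralizer (S : Set Ω)).subgroupOf
      ((Subgroup.upperCentralSeries ↥S 2).map S.subtype)).index = p := by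
  obtain ⟨a₀, ha₀, hne, hz₀, hp0, hgen⟩ := c.exists_gen
  refine index_eq_prime_of_gen (b := a₀) (c.h.ucs2_of_psi ha₀ hz₀) ?_ ?_ ?_
  · intro h0; exact hne (c.psi_center h0)
  · apply (c.h.psi_eq_one_iff (A.pow_mem ha₀ p)).mp
    rw [c.h.psi_pow ha₀, hp0]
  · intro y hy
    have hyA := hle hy
    have h1 := (mem_ucs2.mp hy).2 x c.h.hxS
    obtain ⟨i, hi⟩ := hgen y hyA h1
    refine ⟨i, (a₀ ^ i)⁻¹ * y, ?_, by group⟩
    apply (c.h.psi_eq_one_iff (A.mul_mem (A.inv_mem (A.pow_mem ha₀ i)) hyA)).mp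
    rw [c.h.psi_mul (A.inv_mem (A.pow_mem ha₀ i)) hyA, c.h.psi_inv (A.pow_mem ha₀ i),
      c.h.psi_pow ha₀, hi, inv_mul_cancel]

theorem card_ker_inf_range (c : UACtx p S A P M x) :
    Nat.card ↥(c.h.psiHom.ker ⊓ c.h.psiHom.range) = p := by
  have hZA := c.h.center_le c.hna
  have h2 : (S ⊓ Subgroup.centralizer (S : Set Ω)).subgroupOf A ⊓
      ((commutator ↥S).map S.subtype).subgroupOf A =
      ((S ⊓ Subgroup.centralizer (S : Set Ω)) ⊓ (commutator ↥S).map S.subtype).subgroupOf A := by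
    ext a
    simp only [Subgroup.mem_inf, Subgroup.mem_subgroupOf]
  rw [c.h.ker_psiHom, c.h.range_psiHom, h2,
    Nat.card_congr (Subgroup.subgroupOfEquivOfLe (inf_le_left.trans hZA)).toEquiv]
  exact c.card_center_comm

/-- `|A : Z(S)[S,S]| = p` -/
theorem idx_sup (c : UACtx p S A P M x) :
    (((S ⊓ Subgroup.centralizer (S : Set Ω)) ⊔ (commutator ↥S).map S.subtype).subgroupOf A).index
      = p := by
  have hZA := c.h.center_le c.hna
  haveI : Finite ↥A := finite_of_le c.h.hAS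
  have hc : ∀ a b : ↥A, a * b = b * a := fun a b => Subtype.ext (c.h.comm a a.2 b b.2)
  have h1 := ker_sup_range_index hc c.h.psiHom
  rw [c.card_ker_inf_range, c.h.ker_psiHom, c.h.range_psiHom,
    ← Subgroup.subgroupOf_sup hZA c.h.comm_le] at h1
  exact h1

/-- `S/Z(S)` has maximal class -/
theorem maxclass (c : UACtx p S A P M x) {m : ℕ}
    (hm : ((S ⊓ Subgroup.centralizer (S : Set Ω)).subgroupOf S).index = p ^ m) (h3 : 3 ≤ m) :
    ¬ Subgroup.lowerCentralSeries S (m - 2) ≤ S ⊓ Subgroup.centralizer (S : Set Ω) := by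
  intro hle
  have hp : p.Prime := Fact.out
  have hZA := c.h.center_le c.hna
  haveI : Finite ↥A := finite_of_le c.h.hAS
  obtain ⟨f, hf⟩ : ∃ f : ↥A →* ↥A, f = c.h.psiHom := ⟨_, rfl⟩
  obtain ⟨B, hB⟩ : ∃ B : ℕ → Subgroup ↥A, B = fun j => (Subgroup.map f)^[j] ⊤ := ⟨_, rfl⟩
  have hB0 : B 0 = ⊤ := by rw [hB]; rfl
  have hBs : ∀ j, B (j + 1) = (B j).map f := by
    intro j; rw [hB]; exact Function.iterate_succ_apply' _ _ _
  have hfapp : ∀ v : ↥A, ((f v : ↥A) : Ω) = psi x v := by intro v; rw [hf]; rfl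
  have hlcs : ∀ j, ∀ u ∈ B j, (u : Ω) ∈ Subgroup.lowerCentralSeries S j := by
    intro j
    induction j with
    | zero => intro u _; exact c.h.hAS u.2
    | succ j ih =>
      intro u hu
      rw [hBs] at hu
      obtain ⟨v, hv, rfl⟩ := Subgroup.mem_map.mp hu
      rw [Subgroup.lowerCentralSeries_succ, hfapp]
      have h1 := Subgroup.commutator_mem_commutator (ih v hv) c.h.hxS
      rw [commutatorElement_def] at h1
      exact h1
  have hrange : ∀ j, B (j + 1) ≤ f.range := fun j => by rw [hBs]; exact Subgroup.map_le_range f _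
  have hK₀ : Nat.card ↥(f.ker ⊓ f.range) = p := by rw [hf]; exact c.card_ker_inf_range
  have hstep : ∀ j, Nat.card ↥(B (j + 1)) ≤ p * Nat.card ↥(B (j + 2)) := by
    intro j
    have h1 := card_ker_inf_mul_card_map f (B (j + 1))
    rw [← hBs (j + 1)] at h1
    have h2 : Nat.card ↥(f.ker ⊓ B (j + 1)) ≤ p := by
      rw [← hK₀]; exact Subgroup.card_le_of_le (inf_le_inf_left _ (hrange j))
    calc Nat.card ↥(B (j + 1)) = Nat.card ↥(f.ker ⊓ B (j + 1)) * Nat.card ↥(B (j + 1 + 1)) := h1.symm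
      _ ≤ p * Nat.card ↥(B (j + 2)) := Nat.mul_le_mul_right _ h2
  have hchain : ∀ i, Nat.card ↥(B 1) ≤ p ^ i * Nat.card ↥(B (i + 1)) := by
    intro i
    induction i with
    | zero => simp
    | succ i ih =>
      calc Nat.card ↥(B 1) ≤ p ^ i * Nat.card ↥(B (i + 1)) := ih
        _ ≤ p ^ i * (p * Nat.card ↥(B (i + 2))) := Nat.mul_le_mul_left _ (hstep i)
        _ = p ^ (i + 1) * Nat.card ↥(B (i + 1 + 1)) := by rw [pow_succ, mul_assoc]
  have hker : B (m - 2) ≤ f.ker := by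
    intro u hu
    rw [MonoidHom.mem_ker]
    apply Subtype.ext
    rw [hfapp]
    exact (c.h.psi_eq_one_iff u.2).mpr (hle (hlcs _ u hu))
  have hbot : B (m - 2 + 1) = ⊥ := by
    rw [hBs, Subgroup.map_eq_bot_iff]; exact hker
  have h1 := hchain (m - 2)
  rw [hbot, Subgroup.card_bot, mul_one] at h1
  have h2 := card_ker_inf_mul_card_map f (B 0)
  rw [← hBs 0, hB0, inf_top_eq, Subgroup.card_top] at h2
  have h3' : Nat.card ↥f.ker = Nat.card ↥(S ⊓ Subgroup.centralizer (S : Set Ω)) := by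
    rw [hf, c.h.ker_psiHom]
    exact Nat.card_congr (Subgroup.subgroupOfEquivOfLe hZA).toEquiv
  have h4 : Nat.card ↥A * p = Nat.card ↥S := by
    have h := Subgroup.card_mul_index (A.subgroupOf S)
    rwa [c.h.idx, Nat.card_congr (Subgroup.subgroupOfEquivOfLe c.h.hAS).toEquiv] at h
  have h5 : Nat.card ↥(S ⊓ Subgroup.centralizer (S : Set Ω)) * p ^ m = Nat.card ↥S := by
    have h := Subgroup.card_mul_index ((S ⊓ Subgroup.centralizer (S : Set Ω)).subgroupOf S)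
    rwa [hm, Nat.card_congr (Subgroup.subgroupOfEquivOfLe inf_le_left).toEquiv] at h
  haveI : Finite ↥(S ⊓ Subgroup.centralizer (S : Set Ω)) := finite_of_le inf_le_left
  have hZpos : 0 < Nat.card ↥(S ⊓ Subgroup.centralizer (S : Set Ω)) := Nat.card_pos
  have h6 : Nat.card ↥(B 1) * p = p ^ m := by
    apply Nat.eq_of_mul_eq_mul_left hZpos
    calc Nat.card ↥(S ⊓ Subgroup.centralizer (S : Set Ω)) * (Nat.card ↥(B 1) * p)
        = (Nat.card ↥f.ker * Nat.card ↥(B 1)) * p := by rw [h3', mul_assoc]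
      _ = Nat.card ↥A * p := by rw [h2]
      _ = Nat.card ↥S := h4
      _ = Nat.card ↥(S ⊓ Subgroup.centralizer (S : Set Ω)) * p ^ m := h5.symm
  have h7 : Nat.card ↥(B 1) = p ^ (m - 1) := by
    apply Nat.eq_of_mul_eq_mul_right hp.pos
    rw [h6, ← pow_succ]
    congr 1
    omega
  rw [h7] at h1
  have h8 : p ^ (m - 2) < p ^ (m - 1) := Nat.pow_lt_pow_right hp.one_lt (by omega)
  omega

end UACtx

end Cfsg.Agent.Helper27
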