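import Cfsg.Agent.Helper27.UA1

/-!
# An inverting automorphism from two transvections, and a chain-stabilizer lemma (helper27)
-/

set_option autoImplicit false

namespace Cfsg.Agent.Helper27

/-- a group of prime order is generated by each nontrivial element (elementwise form for subgroups) -/
theorem pow_of_card_prime {H : Type*} [Group H] {p : ℕ} [Fact p.Prime] {Q : Subgroup H}
    (hQ : Nat.card Q = p) {y : H} (hy : y ∈ Q) (hy1 : y ≠ 1) {z : H} (hz : z ∈ Q) :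
    ∃ i : ℕ, z = y ^ i := by
  have hne : (⟨y, hy⟩ : Q) ≠ 1 := fun h => hy1 (congrArg Subtype.val h)
  have h1 := mem_powers_of_prime_card (g' := (⟨z, hz⟩ : Q)) hQ hne
  obtain ⟨i, hi⟩ := h1
  exact ⟨i, (congrArg Subtype.val hi).symm⟩

/-- two automorphisms inverting `Q` and trivial modulo `Q` differ by an element of the stabilizer of the chain -/
theorem stab2_of_inverting {H : Type*} [Group H] {Q : Subgroup H} {α β : MulAut H}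
    (hα1 : ∀ y ∈ Q, α y = y⁻¹) (hα2 : ∀ y : H, y⁻¹ * α y ∈ Q)
    (hβ1 : ∀ y ∈ Q, β y = y⁻¹) (hβ2 : ∀ y : H, y⁻¹ * β y ∈ Q) : β⁻¹ * α ∈ stab2 Q := by
  have hβi : ∀ q ∈ Q, β⁻¹ q = q⁻¹ := by
    intro q hq
    have h1 := hβ1 q⁻¹ (Q.inv_mem hq)
    rw [inv_inv] at h1
    calc β⁻¹ q = β⁻¹ (β q⁻¹) := by rw [h1]
      _ = q⁻¹ := MulAut.inv_apply_self _ _ _
  refine ⟨fun y hy => ?_, fun y => ?_⟩
  · rw [MulAut.mul_apply, hα1 y hy, hβi _ (Q.inv_mem hy), inv_inv]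
  · have h1 := hα2 y
    have h2 := hβ2 (β⁻¹ y)
    rw [MulAut.apply_inv_self] at h2
    have e : y⁻¹ * (β⁻¹ * α) y = ((β⁻¹ y)⁻¹ * y)⁻¹ * β⁻¹ (y⁻¹ * α y) := by
      rw [MulAut.mul_apply, map_mul, map_inv]; group
    rw [e, hβi _ h1]
    exact Q.mul_mem (Q.inv_mem h2) (Q.inv_mem h1)

/-- in a `p`-group with `p` odd, an element of square one is trivial -/
theorem eq_one_of_sq_eq_one {H : Type*} [Group H] {p : ℕ} [Fact p.Prime] (hH : IsPGroup p H)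
    (hp : p ≠ 2) {z : H} (hz : z ^ 2 = 1) : z = 1 := by
  obtain ⟨k, hk⟩ := hH z
  have hodd : Odd (p ^ k) := ((Fact.out : p.Prime).odd_of_ne_two hp).pow
  obtain ⟨m, hm⟩ := hodd
  rw [hm, pow_succ, pow_mul, hz, one_pow, one_mul] at hk
  exact hk

/-- the inverting automorphism: in an abelian `p`-group `H` with a subgroup `Z` of index `p` and a subgroup `Z₀ ≤ Z`
of order `p`, let `u` be a transvection (fixing `Z` pointwise, with `[H, u] ≤ Z₀`, moving every element outside `Z`)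
and `g` an automorphism with `g(Z₀) ∩ Z = 1 = g(Z) ∩ Z₀`. Then the group generated by `u` and `g` contains an
automorphism fixing `Z ∩ g(Z)` pointwise and inverting `Z₀`, and `Z = Z₀ (Z ∩ g(Z))`. -/
theorem inv_abstract {H : Type*} [Group H] [Finite H] {p : ℕ} [Fact p.Prime] (hH : IsPGroup p H)
    (hc : ∀ a b : H, a * b = b * a) (Z Z₀ : Subgroup H) (hidx : Z.index = p)
    (hZ₀ : Nat.card Z₀ = p) (hZ₀Z : Z₀ ≤ Z) (G : Subgroup (MulAut H)) (u g : MulAut H)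
    (hu : u ∈ G) (hg : g ∈ G)
    (hu1 : ∀ z ∈ Z, u z = z) (hu2 : ∀ y : H, u y * y⁻¹ ∈ Z₀) (hu3 : ∀ y : H, u y = y → y ∈ Z)
    (hg1 : ∀ z ∈ Z₀, g z ∈ Z → z = 1) (hg2 : ∀ z ∈ Z, g z ∈ Z₀ → z = 1) :
    ∃ ι ∈ G, (∀ t ∈ Z, g⁻¹ t ∈ Z → ι t = t) ∧ (∀ z ∈ Z₀, ι z = z⁻¹) ∧
      (∀ z ∈ Z, ∃ t ∈ Z, g⁻¹ t ∈ Z ∧ ∃ z' ∈ Z₀, z = z' * t) := by
  have hp : p.Prime := Fact.out
  obtain ⟨z₁, hz₁, hz₁ne⟩ : ∃ z₁ ∈ Z₀, z₁ ≠ 1 := by
    by_contra hcon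
    push Not at hcon
    have h1 : Z₀ = ⊥ := (Subgroup.eq_bot_iff_forall _).mpr hcon
    rw [h1, Subgroup.card_bot] at hZ₀
    exact hp.one_lt.ne hZ₀
  -- `w₁ = g z₁`, `z₀ = [w₁, u]`
  obtain ⟨w₁, hw₁⟩ : ∃ w₁ : H, w₁ = g z₁ := ⟨_, rfl⟩
  have hw₁Z : w₁ ∉ Z := fun h => hz₁ne (hg1 z₁ hz₁ (hw₁ ▸ h))
  obtain ⟨z₀, hz₀def⟩ : ∃ z₀ : H, z₀ = u w₁ * w₁⁻¹ := ⟨_, rfl⟩
  have hz₀ : z₀ ∈ Z₀ := hz₀def ▸ hu2 w₁
  have huw : u w₁ = z₀ * w₁ := by rw [hz₀def, inv_mul_cancel_right]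
  have hz₀ne : z₀ ≠ 1 := by
    intro h
    rw [h, one_mul] at huw
    exact hw₁Z (hu3 w₁ huw)
  have huz : u z₀ = z₀ := hu1 z₀ (hZ₀Z hz₀)
  -- `y₀ = g⁻¹ z₀`, `z₂ = [y₀, u]`
  obtain ⟨y₀, hy₀⟩ : ∃ y₀ : H, y₀ = g⁻¹ z₀ := ⟨_, rfl⟩
  have hgy₀ : g y₀ = z₀ := by rw [hy₀, MulAut.apply_inv_self]
  have hy₀Z : y₀ ∉ Z := by
    intro h
    have h1 := hg2 y₀ h (hgy₀ ▸ hz₀)
    rw [h1, map_one] at hgy₀
    exact hz₀ne hgy₀.symm
  obtain ⟨z₂, hz₂def⟩ : ∃ z₂ : H, z₂ = u y₀ * y₀⁻¹ := ⟨_, rfl⟩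
  have hz₂ : z₂ ∈ Z₀ := hz₂def ▸ hu2 y₀
  have huy : u y₀ = z₂ * y₀ := by rw [hz₂def, inv_mul_cancel_right]
  have hz₂ne : z₂ ≠ 1 := by
    intro h
    rw [h, one_mul] at huy
    exact hy₀Z (hu3 y₀ huy)
  obtain ⟨t, ht⟩ := pow_of_card_prime hZ₀ hz₂ hz₂ne (Z₀.inv_mem hz₁)
  -- the conjugate transvection
  obtain ⟨u', hu'def⟩ : ∃ u' : MulAut H, u' = g * u * g⁻¹ := ⟨_, rfl⟩
  have hu'G : u' ∈ G := hu'def ▸ G.mul_mem (G.mul_mem hg hu) (G.inv_mem hg)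
  have hu'fix : ∀ y : H, g⁻¹ y ∈ Z → u' y = y := by
    intro y hy
    rw [hu'def, MulAut.mul_apply, MulAut.mul_apply, hu1 _ hy, MulAut.apply_inv_self]
  have hu'z₀ : u' z₀ = g z₂ * z₀ := by
    rw [hu'def, MulAut.mul_apply, MulAut.mul_apply, ← hy₀, huy, map_mul, hgy₀]
  have hv : u' (g z₂) = g z₂ := hu'fix _ (by rw [MulAut.inv_apply_self]; exact hZ₀Z hz₂)
  have hpowfix : ∀ k : ℕ, ∀ y : H, g⁻¹ y ∈ Z → (u' ^ k) y = y := by
    intro k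
    induction k with
    | zero => intro y _; simp
    | succ k ih =>
      intro y hy
      rw [pow_succ', MulAut.mul_apply, ih y hy, hu'fix y hy]
  have hpowz₀ : ∀ k : ℕ, (u' ^ k) z₀ = g z₂ ^ k * z₀ := by
    intro k
    induction k with
    | zero => simp
    | succ k ih =>
      rw [pow_succ', MulAut.mul_apply, ih, map_mul, map_pow, hv, hu'z₀, pow_succ, mul_assoc]
  obtain ⟨b, hbdef⟩ : ∃ b : MulAut H, b = u' ^ t := ⟨_, rfl⟩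
  have hbG : b ∈ G := hbdef ▸ G.pow_mem hu'G t
  have hbz₀ : b z₀ = w₁⁻¹ * z₀ := by
    rw [hbdef, hpowz₀, ← map_pow, ← ht, map_inv, ← hw₁]
  have hbfix : ∀ y : H, g⁻¹ y ∈ Z → b y = y := fun y hy => hbdef ▸ hpowfix t y hy
  have hbw : b w₁ = w₁ := hbfix w₁ (by rw [hw₁, MulAut.inv_apply_self]; exact hZ₀Z hz₁)
  -- the Weyl element and its square
  obtain ⟨c, hcdef⟩ : ∃ c : MulAut H, c = u * b * u := ⟨_, rfl⟩
  have hcG : c ∈ G := hcdef ▸ G.mul_mem (G.mul_mem hu hbG) hu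
  have hcz₀ : c z₀ = w₁⁻¹ := by
    rw [hcdef, MulAut.mul_apply, MulAut.mul_apply, huz, hbz₀, map_mul, map_inv, huw, huz, mul_inv_rev,
      inv_mul_cancel_right]
  have hcw : c w₁ = z₀ := by
    rw [hcdef, MulAut.mul_apply, MulAut.mul_apply, huw, map_mul, hbz₀, hbw, hc w₁⁻¹ z₀,
      inv_mul_cancel_right, huz]
  have hcfix : ∀ y ∈ Z, g⁻¹ y ∈ Z → c y = y := by
    intro y hy hgy
    rw [hcdef, MulAut.mul_apply, MulAut.mul_apply, hu1 y hy, hbfix y hgy, hu1 y hy]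
  refine ⟨c * c, G.mul_mem hcG hcG, ?_, ?_, ?_⟩
  · intro y hy hgy
    rw [MulAut.mul_apply, hcfix y hy hgy, hcfix y hy hgy]
  · intro z hz
    obtain ⟨i, rfl⟩ := pow_of_card_prime hZ₀ hz₀ hz₀ne hz
    rw [map_pow, MulAut.mul_apply, hcz₀, map_inv, hcw, inv_pow]
  · intro z hz
    have hidx' : ((Z.map g.toMonoidHom).subgroupOf ⊤).index = p := by
      have h1 : (Z.map g.toMonoidHom).relIndex ⊤ = p := by
        rw [Subgroup.relIndex_top_right]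
        exact (Subgroup.index_map_equiv (H := Z) g).trans hidx
      exact h1
    have hz₀g : z₀ ∉ Z.map g.toMonoidHom := by
      rintro ⟨y, hy, hyz⟩
      have hyz' : g y = z₀ := hyz
      have h1 := hg2 y hy (hyz'.symm ▸ hz₀)
      rw [h1, map_one] at hyz'
      exact hz₀ne hyz'.symm
    obtain ⟨i, a, ha, hza⟩ := (gen_of_index_prime (hH.to_subgroup ⊤) hidx' (Subgroup.mem_top z₀) hz₀g).1
      z (Subgroup.mem_top z)
    obtain ⟨y, hy, hya⟩ := ha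
    have hya' : g y = a := hya
    refine ⟨a, ?_, ?_, z₀ ^ i, Z₀.pow_mem hz₀ i, hza⟩
    · have e : a = (z₀ ^ i)⁻¹ * z := by rw [hza, inv_mul_cancel_left]
      rw [e]
      exact Z.mul_mem (Z.inv_mem (Z.pow_mem (hZ₀Z hz₀) i)) hz
    · rw [← hya', MulAut.inv_apply_self]; exact hy

/-- a group is generated by the complement of a proper subgroup (elementwise form) -/
theorem compl_gen {X : Type*} [Group X] {G Mq : Subgroup X} {g₀ : X} (hg₀ : g₀ ∈ G) (hg₀M : g₀ ∉ Mq)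
    (C : X → Prop) (hmul : ∀ a b : X, C a → C b → C (a * b))
    (hC : ∀ g ∈ G, g ∉ Mq → C g) : ∀ g ∈ G, C g := by
  intro g hg
  by_cases hgM : g ∈ Mq
  · have h1 : g * g₀ ∉ Mq := by
      intro h
      apply hg₀M
      have e : g₀ = g⁻¹ * (g * g₀) := by group
      rw [e]
      exact Mq.mul_mem (Mq.inv_mem hgM) h
    have h2 : g₀⁻¹ ∉ Mq := fun h => hg₀M (by simpa using Mq.inv_mem h)
    have e : g = (g * g₀) * g₀⁻¹ := by group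
    rw [e]
    exact hmul _ _ (hC _ (G.mul_mem hg hg₀) h1) (hC _ (G.inv_mem hg₀) h2)
  · exact hC g hg hgM

end Cfsg.Agent.Helper27
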