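import Cfsg.Agent.Helper27.UA5
import Cfsg.Agent.Helper27.UA6
import Cfsg.Agent.Helper27.FrattiniCore

/-!
# Unique abelian subgroup of index `p`: the inverting automorphism of the centre (helper27)
-/

set_option autoImplicit false

namespace Cfsg.Agent.Helper27

open Cfsg Cfsg.FusionSystem

variable {Ω : Type*} [Group Ω] {S : Subgroup Ω}

theorem mem_center_iff {z : Ω} :
    z ∈ S ⊓ Subgroup.centralizer (S : Set Ω) ↔ z ∈ S ∧ ∀ s ∈ S, s * z = z * s := by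
  rw [Subgroup.mem_inf, Subgroup.mem_centralizer_iff]
  rfl

/-- the key lemma for every automorphism outside the strongly embedded subgroup -/
theorem ua_key_g [Finite S] {p : ℕ} [Fact p.Prime] (hS : IsPGroup p S) {F : FusionSystem S}
    (hF : F.IsSaturated p) {A P : Subgroup Ω} {x : Ω} (h : UAHyp p S A x)
    (hP : F.IsEssential p P) (hxP : x ∈ P) :
    ∃ Mq : Subgroup (MulAut ↥P), ¬ (F.autGroup P ≤ Mq) ∧
      ∀ g ∈ F.autGroup P, g ∉ Mq → ∀ a ∈ A, a ∈ Subgroup.normalizer (P : Set Ω) →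
        ∀ y : ↥P, (y : Ω) = psi x a → (g y : Ω) ∈ A → a ∈ P := by
  obtain ⟨-, Mq, hMq, hkey⟩ := ess_key hS hF hP
  have hPS : P ≤ S := hP.2.1.1
  haveI : Finite P := finite_of_le hPS
  obtain ⟨-, -, hfa⟩ := fullyNormalized_props hS hF hP.2.1
  obtain ⟨-, R, hR⟩ := hfa
  refine ⟨Mq, hMq, ?_⟩
  intro g hg hgM a ha haN y hy hgy
  obtain ⟨H₀, hH₀⟩ : ∃ H₀ : Subgroup ↥P, H₀ = (P ⊓ A).subgroupOf P := ⟨_, rfl⟩
  have hmem₀ : ∀ y : ↥P, y ∈ H₀ ↔ (y : Ω) ∈ A := by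
    intro y
    rw [hH₀, Subgroup.mem_subgroupOf, Subgroup.mem_inf]
    exact ⟨fun h1 => h1.2, fun h1 => ⟨y.2, h1⟩⟩
  haveI hH₀n : H₀.Normal := by
    constructor
    intro n hn k
    rw [hmem₀] at hn ⊢
    exact h.normal (hPS k.2) hn
  by_contra haP
  apply hgM
  obtain ⟨u, hu⟩ : ∃ u : MulAut ↥P, u = conjAut P a haN := ⟨_, rfl⟩
  have huU : u ∈ autInducedBy S P := hu ▸ conjAut_mem_autInducedBy (h.hAS ha) haN
  have huX : u ∈ F.autGroup P := autInducedBy_le_autGroup F hPS huU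
  have huapp : ∀ z : ↥P, ((u z : ↥P) : Ω) = a * z * a⁻¹ := by
    intro z; rw [hu]; rfl
  have hU : ∀ v ∈ autInducedBy S P, ∃ y : ↥P, ∀ h' ∈ H₀, v h' = y * h' * y⁻¹ := by
    intro v hv
    obtain ⟨s, hs, -, hvs⟩ := (mem_autInducedBy_iff' S P v).mp hv
    obtain ⟨i, b, hb, rfl⟩ := h.gen hs
    refine ⟨⟨x ^ i, P.pow_mem hxP i⟩, fun h' hh' => ?_⟩
    apply Subtype.ext
    rw [hvs]
    have hh'A := (hmem₀ h').mp hh'
    show x ^ i * b * (h' : Ω) * (x ^ i * b)⁻¹ = x ^ i * (h' : Ω) * (x ^ i)⁻¹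
    have e : x ^ i * b * (h' : Ω) * (x ^ i * b)⁻¹ = x ^ i * (b * (h' : Ω)) * b⁻¹ * (x ^ i)⁻¹ := by
      group
    rw [e, h.comm b hb _ hh'A]
    group
  have ht : ∀ y : ↥P, ∃ i : ℕ, ∃ h₀ ∈ H₀, y = (⟨x, hxP⟩ : ↥P) ^ i * h₀ := by
    intro y
    obtain ⟨i, b, hb, hy⟩ := h.gen (hPS y.2)
    have hbP : b ∈ P := by
      have e : b = (x ^ i)⁻¹ * (y : Ω) := by rw [hy]; group
      rw [e]
      exact P.mul_mem (P.inv_mem (P.pow_mem hxP i)) y.2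
    refine ⟨i, ⟨b, hbP⟩, (hmem₀ _).mpr hb, ?_⟩
    apply Subtype.ext
    simpa using hy
  have hu1 : ∀ h' ∈ H₀, u h' = h' := by
    intro h' hh'
    apply Subtype.ext
    rw [huapp, h.comm a ha _ ((hmem₀ h').mp hh')]
    group
  have hψe : ((u ⟨x, hxP⟩ * (⟨x, hxP⟩ : ↥P)⁻¹ : ↥P) : Ω) = psi x a := by
    rw [Subgroup.coe_mul, huapp]
    rfl
  have hu2 : u ⟨x, hxP⟩ * (⟨x, hxP⟩ : ↥P)⁻¹ ∈ H₀ ∧ g (u ⟨x, hxP⟩ * (⟨x, hxP⟩ : ↥P)⁻¹) ∈ H₀ := by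
    constructor
    · rw [hmem₀, hψe]; exact h.psi_mem ha
    · have hye : y = u ⟨x, hxP⟩ * (⟨x, hxP⟩ : ↥P)⁻¹ := Subtype.ext (hy.trans hψe.symm)
      rw [hmem₀, ← hye]
      exact hgy
  have hβ := tv_abstract (hS.to_le hPS) (F.autGroup P) (autInducedBy S P) R hR H₀ hU g hg u huU huX
    ⟨x, hxP⟩ ht hu1 hu2
  obtain ⟨w, hw, hβw⟩ := (mem_autInducedBy_iff S P _).mp hβ
  refine hkey g hg a ⟨h.hAS ha, haN⟩ haP w hw ?_
  intro q hq
  rw [autFn_of_mem g hq]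
  have hq' : a * q * a⁻¹ ∈ P := (Subgroup.mem_normalizer_iff.mp haN q).mp hq
  rw [autFn_of_mem g hq']
  have h1 := hβw (g ⟨q, hq⟩)
  rw [MulAut.mul_apply, MulAut.mul_apply, MulAut.inv_apply_self] at h1
  rw [← h1]
  have e : (⟨a * q * a⁻¹, hq'⟩ : ↥P) = u ⟨q, hq⟩ := Subtype.ext (huapp ⟨q, hq⟩).symm
  rw [e]

/-- a central subgroup of `S` has no nontrivial `p`-automorphisms in a saturated system -/
theorem central_aut_no_p [Finite S] {p : ℕ} [Fact p.Prime] (hS : IsPGroup p S) {F : FusionSystem S}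
    (hF : F.IsSaturated p) {Z : Subgroup Ω} (hZS : Z ≤ S) (hZc : ∀ z ∈ Z, ∀ s ∈ S, s * z = z * s)
    (B : Subgroup (MulAut ↥Z)) (hB : IsPGroup p B) (hBF : B ≤ F.autGroup Z) : ∀ β ∈ B, β = 1 := by
  haveI : Finite Z := finite_of_le hZS
  have hfn : F.IsFullyNormalized Z := fullyNormalized_of_normal F hZS (fun s hs x hx => by
    rw [hZc x hx s hs, mul_inv_cancel_right]; exact hx)
  obtain ⟨-, -, hfa⟩ := fullyNormalized_props hS hF hfn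
  obtain ⟨χ, hχ, hχB⟩ := exists_conj_into_autS hfa B hB hBF
  intro β hβ
  obtain ⟨s, hs, hβs⟩ := (mem_autInducedBy_iff S Z _).mp (hχB β hβ)
  have h1 : χ * β * χ⁻¹ = 1 := by
    apply MulEquiv.ext
    intro z
    apply Subtype.ext
    rw [hβs, hZc z z.2 s hs, mul_inv_cancel_right]
    rfl
  have e : β = χ⁻¹ * (χ * β * χ⁻¹) * χ := by group
  rw [e, h1]
  group

/-- every automorphism of a central subgroup in a saturated system extends to `S` -/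
theorem central_aut_extend [Finite S] {p : ℕ} [Fact p.Prime] (hS : IsPGroup p S) {F : FusionSystem S}
    (hF : F.IsSaturated p) {Z : Subgroup Ω} (hZS : Z ≤ S) (hZc : ∀ z ∈ Z, ∀ s ∈ S, s * z = z * s)
    (ρ : MulAut ↥Z) (hρ : ρ ∈ F.autGroup Z) : ∃ f, Mor F S f ∧ ∀ z : ↥Z, f z = (ρ z : Ω) := by
  haveI : Finite Z := finite_of_le hZS
  have hfn : F.IsFullyNormalized Z := fullyNormalized_of_normal F hZS (fun s hs x hx => by
    rw [hZc x hx s hs, mul_inv_cancel_right]; exact hx)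
  obtain ⟨-, hrec, -⟩ := fullyNormalized_props hS hF hfn
  have hm := (mem_autGroup_iff hZS ρ).mp hρ
  obtain ⟨f', hf', hf'e⟩ := (receptive_iff.mp hrec).2 Z (autFn ρ) hm (img_autFn ρ)
  have hle : S ≤ ext S Z (autFn ρ) := by
    intro s hs
    rw [mem_ext]
    refine ⟨hs, mem_normalizer_of_forall (fun y hy => ?_), 1, S.one_mem, fun y hy => ?_⟩
    · rw [hZc y hy s hs, mul_inv_cancel_right]; exact hy
    · rw [hZc y hy s hs, mul_inv_cancel_right]; simp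
  refine ⟨f', hf'.restrict hle, fun z => ?_⟩
  rw [hf'e z z.2, autFn_apply]

/-- maps of the system defined on `S` preserve the commutator subgroup -/
theorem UAHyp.mor_comm {p : ℕ} [Fact p.Prime] {A : Subgroup Ω} [Finite S] {x : Ω} {F : FusionSystem S}
    (h : UAHyp p S A x) {f : Ω → Ω} (hf : Mor F S f) {y : Ω}
    (hy : y ∈ (commutator ↥S).map S.subtype) : f y ∈ (commutator ↥S).map S.subtype := by
  obtain ⟨a, ha, rfl⟩ := h.mem_comm_iff.mp hy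
  have haS := h.hAS ha
  have hxS := h.hxS
  have e : f (psi x a) = f a * f x * (f a)⁻¹ * (f x)⁻¹ := by
    unfold psi
    rw [hf.map_mul (S.mul_mem (S.mul_mem haS hxS) (S.inv_mem haS)) (S.inv_mem hxS),
      hf.map_mul (S.mul_mem haS hxS) (S.inv_mem haS), hf.map_mul haS hxS, hf.map_inv haS,
      hf.map_inv hxS]
  rw [e]
  exact h.mem_comm_iff.mpr (h.mem_psiSub.mp (h.comm_mem_psiSub (hf.mem haS) (hf.mem hxS)))

/-- an automorphism of `Z` inverting `Z₀` and trivial modulo `Z₀` -/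
def IsInv (Z Z₀ : Subgroup Ω) (ρ : MulAut ↥Z) : Prop :=
  (∀ z : ↥Z, (z : Ω) ∈ Z₀ → ρ z = z⁻¹) ∧ ∀ z : ↥Z, ((z⁻¹ * ρ z : ↥Z) : Ω) ∈ Z₀

theorem inv_unique [Finite S] {p : ℕ} [Fact p.Prime] (hS : IsPGroup p S) {F : FusionSystem S}
    (hF : F.IsSaturated p) {Z Z₀ : Subgroup Ω} (hZS : Z ≤ S) (hZc : ∀ z ∈ Z, ∀ s ∈ S, s * z = z * s)
    {ρ₁ ρ₂ : MulAut ↥Z} (h₁ : ρ₁ ∈ F.autGroup Z) (h₂ : ρ₂ ∈ F.autGroup Z)
    (hi₁ : IsInv Z Z₀ ρ₁) (hi₂ : IsInv Z Z₀ ρ₂) : ρ₁ = ρ₂ := by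
  haveI : Finite Z := finite_of_le hZS
  have hst : ρ₂⁻¹ * ρ₁ ∈ stab2 (Z₀.subgroupOf Z) :=
    stab2_of_inverting (Q := Z₀.subgroupOf Z) (fun y hy => hi₁.1 y hy) (fun y => hi₁.2 y)
      (fun y hy => hi₂.1 y hy) (fun y => hi₂.2 y)
  have hBp : IsPGroup p ↥(stab2 (Z₀.subgroupOf Z) ⊓ F.autGroup Z) :=
    (stab2_isPGroup _ ((hS.to_le hZS).to_subgroup _)).to_le inf_le_left
  have h1 := central_aut_no_p hS hF hZS hZc _ hBp inf_le_right (ρ₂⁻¹ * ρ₁)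
    ⟨hst, (F.autGroup Z).mul_mem ((F.autGroup Z).inv_mem h₂) h₁⟩
  exact (inv_mul_eq_one.mp h1).symm

/-- the fixed points of the inverting automorphism are permuted by every automorphism of `Z` preserving `Z₀` -/
theorem inv_fix_invariant [Finite S] {p : ℕ} [Fact p.Prime] (hS : IsPGroup p S) {F : FusionSystem S}
    (hF : F.IsSaturated p) {Z Z₀ : Subgroup Ω} (hZS : Z ≤ S) (hZc : ∀ z ∈ Z, ∀ s ∈ S, s * z = z * s)
    {ρ σ : MulAut ↥Z} (hρ : ρ ∈ F.autGroup Z) (hσ : σ ∈ F.autGroup Z) (hi : IsInv Z Z₀ ρ)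
    (hσ₀ : ∀ τ ∈ F.autGroup Z, ∀ z : ↥Z, (z : Ω) ∈ Z₀ → (τ z : Ω) ∈ Z₀)
    {t : ↥Z} (ht : ρ t = t) : ρ (σ t) = σ t := by
  have hσi : σ⁻¹ ∈ F.autGroup Z := (F.autGroup Z).inv_mem hσ
  have hi' : IsInv Z Z₀ (σ * ρ * σ⁻¹) := by
    constructor
    · intro z hz
      rw [MulAut.mul_apply, MulAut.mul_apply, hi.1 _ (hσ₀ σ⁻¹ hσi z hz), map_inv,
        MulAut.apply_inv_self]
    · intro z
      have h1 := hi.2 (σ⁻¹ z)
      have h2 := hσ₀ σ hσ _ h1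
      have e : z⁻¹ * (σ * ρ * σ⁻¹) z = σ ((σ⁻¹ z)⁻¹ * ρ (σ⁻¹ z)) := by
        rw [MulAut.mul_apply, MulAut.mul_apply, map_mul, map_inv, MulAut.apply_inv_self]
      rw [e]; exact h2
  have h3 := inv_unique hS hF hZS hZc
    ((F.autGroup Z).mul_mem ((F.autGroup Z).mul_mem hσ hρ) hσi) hρ hi' hi
  have h4 : ρ (σ t) = (σ * ρ * σ⁻¹) (σ t) := by rw [h3]
  rw [h4, MulAut.mul_apply, MulAut.mul_apply, MulAut.inv_apply_self, ht]

/-- automorphisms of `S` preserve the centre -/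
theorem aut_center_top (α : MulAut ↥S) (z : ↥S)
    (hz : (z : Ω) ∈ S ⊓ Subgroup.centralizer (S : Set Ω)) :
    (α z : Ω) ∈ S ⊓ Subgroup.centralizer (S : Set Ω) := by
  refine mem_center_iff.mpr ⟨(α z).2, fun s hs => ?_⟩
  have hzc := (mem_center_iff.mp hz).2
  have h1 : α (α⁻¹ ⟨s, hs⟩ * z) = α (z * α⁻¹ ⟨s, hs⟩) := by
    congr 1
    apply Subtype.ext
    exact hzc _ (α⁻¹ ⟨s, hs⟩).2
  rw [map_mul, map_mul, MulAut.apply_inv_self] at h1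
  exact congrArg Subtype.val h1

/-- restriction of an automorphism to an invariant subgroup -/
theorem restrict_aut {F : FusionSystem S} {P Z : Subgroup Ω} [Finite Z] (hPS : P ≤ S) (hZP : Z ≤ P)
    (ι : MulAut ↥P) (hι : ι ∈ F.autGroup P) (hιZ : ∀ z : ↥P, (z : Ω) ∈ Z → (ι z : Ω) ∈ Z) :
    ∃ ρ ∈ F.autGroup Z, ∀ z : ↥Z, (ρ z : Ω) = (ι ⟨z, hZP z.2⟩ : Ω) := by
  have hm : Mor F Z (autFn ι) := ((mem_autGroup_iff hPS ι).mp hι).restrict hZP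
  have hmem : ∀ z ∈ Z, autFn ι z ∈ Z := by
    intro z hz
    rw [autFn_of_mem ι (hZP hz)]
    exact hιZ ⟨z, hZP hz⟩ hz
  obtain ⟨ρ, hρ, hρe⟩ := exists_aut_of_mor hm hmem
  refine ⟨ρ, hρ, fun z => ?_⟩
  rw [hρe, autFn_of_mem ι (hZP z.2)]

namespace UACtx

variable {p : ℕ} [Fact p.Prime] {A P M : Subgroup Ω} [Finite S] {x : Ω}

/-- when `P ∩ A` is not central, the centre of `P` is the centre of `S`, so automorphisms of `P` preserve it -/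
theorem aut_center (c : UACtx p S A P M x) {v : Ω} (hv : v ∈ P ⊓ A)
    (hvZ : v ∉ S ⊓ Subgroup.centralizer (S : Set Ω)) (α : MulAut ↥P) (z : ↥P)
    (hz : (z : Ω) ∈ S ⊓ Subgroup.centralizer (S : Set Ω)) :
    (α z : Ω) ∈ S ⊓ Subgroup.centralizer (S : Set Ω) := by
  have hzc := (mem_center_iff.mp hz).2
  obtain ⟨hvP, hvA⟩ := Subgroup.mem_inf.mp hv
  -- `α z` is central in `P`
  have hcP : ∀ t : ↥P, ((α z : ↥P) : Ω) * t = t * (α z : ↥P) := by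
    intro t
    have h1 : α (z * α⁻¹ t) = α (α⁻¹ t * z) := by
      congr 1
      apply Subtype.ext
      exact (hzc _ (c.hPS (α⁻¹ t).2)).symm
    rw [map_mul, map_mul, MulAut.apply_inv_self] at h1
    exact congrArg Subtype.val h1
  have hyA : ((α z : ↥P) : Ω) ∈ A := by
    by_contra hyA
    have h' := c.h.swap (c.hPS (α z).2) hyA
    apply hvZ
    apply (h'.psi_eq_one_iff hvA).mp
    have h2 := hcP ⟨v, hvP⟩
    unfold psi
    have h3 : v * ((α z : ↥P) : Ω) = ((α z : ↥P) : Ω) * v := h2.symm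
    rw [h3, mul_inv_cancel_right, mul_inv_cancel]
  apply (c.h.psi_eq_one_iff hyA).mp
  have h2 := hcP ⟨x, c.hxP⟩
  unfold psi
  have h3 : ((α z : ↥P) : Ω) * x = x * ((α z : ↥P) : Ω) := h2
  rw [h3, mul_inv_cancel_right, mul_inv_cancel]

/-- an essential subgroup `P = Z(S)⟨x⟩` yields, for every automorphism `g` outside the strongly embedded subgroup,
an automorphism of `Z(S)` in the system inverting `Z₀ = Z(S) ∩ S'`, trivial modulo `Z₀`, with fixed points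
`Z(S) ∩ g(Z(S))`, a complement to `Z₀` in `Z(S)`. -/
theorem typeH (c : UACtx p S A P M x) (hS : IsPGroup p S) {F : FusionSystem S}
    (hF : F.IsSaturated p) (hp2 : p ≠ 2) (hP : F.IsEssential p P)
    {Z Z₀ : Subgroup Ω} (hZ : Z = S ⊓ Subgroup.centralizer (S : Set Ω))
    (hZ₀ : Z₀ = Z ⊓ (commutator ↥S).map S.subtype)
    (hH : ∀ v ∈ P ⊓ A, v ∈ Z) (hZP : Z ≤ P) :
    ∃ Mq : Subgroup (MulAut ↥P), ¬ (F.autGroup P ≤ Mq) ∧
      ∀ g ∈ F.autGroup P, g ∉ Mq →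
        ∃ ρ ∈ F.autGroup Z, IsInv Z Z₀ ρ ∧
          (∀ z : ↥Z, ρ z = z ↔ ((g⁻¹ ⟨z, hZP z.2⟩ : ↥P) : Ω) ∈ Z) ∧
          (∀ z : ↥Z, ∃ t : ↥Z, ρ t = t ∧ ((z * t⁻¹ : ↥Z) : Ω) ∈ Z₀) := by
  have hPS := c.hPS
  haveI := c.finP
  have hZS : Z ≤ S := hZP.trans hPS
  haveI : Finite Z := finite_of_le hZS
  have hZc : ∀ z ∈ Z, ∀ s ∈ S, s * z = z * s := fun z hz => (mem_center_iff.mp (hZ ▸ hz)).2
  have hZA : Z ≤ A := fun z hz => c.h.center_le c.hna (hZ ▸ hz)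
  have hPA : P ⊓ A = Z := le_antisymm hH (le_inf hZP hZA)
  have hZ₀Z : Z₀ ≤ Z := by rw [hZ₀]; exact inf_le_left
  have hZ₀C : ∀ z ∈ Z₀, z ∈ (commutator ↥S).map S.subtype := by
    intro z hz
    rw [hZ₀] at hz
    exact (Subgroup.mem_inf.mp hz).2
  have hZ₀card : Nat.card ↥Z₀ = p := by
    have h1 := c.card_center_comm
    rw [← hZ, ← hZ₀] at h1
    exact h1
  -- `P` is abelian
  have hPc : ∀ a b : ↥P, a * b = b * a := by
    intro a b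
    obtain ⟨i, u, hu, ha⟩ := c.genP a.2
    obtain ⟨j, v, hv, hb⟩ := c.genP b.2
    have huZ : u ∈ Z := hH u hu
    have hvZ : v ∈ Z := hH v hv
    have hxS := c.h.hxS
    have c1 : Commute (x ^ i) (x ^ j) := (Commute.refl x).pow_pow i j
    have c2 : Commute (x ^ i) v := hZc v hvZ _ (S.pow_mem hxS i)
    have c3 : Commute u (x ^ j) := (hZc u huZ _ (S.pow_mem hxS j)).symm
    have c4 : Commute u v := hZc v hvZ u (hZS huZ)
    apply Subtype.ext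
    show (a : Ω) * b = b * a
    rw [ha, hb]
    exact ((c1.mul_right c2).mul_left (c3.mul_right c4)).eq
  obtain ⟨Mq, hMq, hkey⟩ := ua_key_g hS hF c.h hP c.hxP
  refine ⟨Mq, hMq, ?_⟩
  have key1 : ∀ g' ∈ F.autGroup P, g' ∉ Mq → ∀ z : ↥P, (z : Ω) ∈ Z₀ → (g' z : Ω) ∈ Z → z = 1 := by
    intro g' hg' hg'M z hz hgz
    obtain ⟨a, ha, hza⟩ := c.h.mem_comm_iff.mp (hZ₀C _ hz)
    have haN : a ∈ Subgroup.normalizer (P : Set Ω) := c.norm_of_psi ha (hza ▸ z.2)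
    have haP : a ∈ P := hkey g' hg' hg'M a ha haN z hza (hZA hgz)
    have haZ : a ∈ Z := hH a (Subgroup.mem_inf.mpr ⟨haP, ha⟩)
    apply Subtype.ext
    rw [hza]
    exact c.psi_center (hZ ▸ haZ)
  intro g hg hgM
  have hgi : g⁻¹ ∈ F.autGroup P := (F.autGroup P).inv_mem hg
  have hgiM : g⁻¹ ∉ Mq := fun h => hgM (by simpa using Mq.inv_mem h)
  obtain ⟨a₀, ha₀, hne, hz₀, -, -⟩ := c.exists_gen
  have hz₀Z : psi x a₀ ∈ Z := by rw [hZ]; exact hz₀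
  have haN : a₀ ∈ Subgroup.normalizer (P : Set Ω) := c.norm_of_psi ha₀ (hZP hz₀Z)
  obtain ⟨u, hu⟩ : ∃ u : MulAut ↥P, u = conjAut P a₀ haN := ⟨_, rfl⟩
  have huapp : ∀ z : ↥P, ((u z : ↥P) : Ω) = a₀ * z * a₀⁻¹ := by intro z; rw [hu]; rfl
  have huG : u ∈ F.autGroup P :=
    autInducedBy_le_autGroup F hPS (hu ▸ conjAut_mem_autInducedBy (c.h.hAS ha₀) haN)
  have ha₀2 := (mem_ucs2.mp (c.h.ucs2_of_psi ha₀ hz₀)).2
  have hidx : (Z.subgroupOf P).index = p := by rw [← hPA]; exact c.idx₀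
  have hcard : Nat.card ↥(Z₀.subgroupOf P) = p := by
    rw [Nat.card_congr (Subgroup.subgroupOfEquivOfLe (hZ₀Z.trans hZP)).toEquiv]; exact hZ₀card
  have hle : Z₀.subgroupOf P ≤ Z.subgroupOf P := fun z hz => hZ₀Z (Subgroup.mem_subgroupOf.mp hz)
  have hu1 : ∀ z ∈ Z.subgroupOf P, u z = z := by
    intro z hz
    apply Subtype.ext
    rw [huapp, hZc z (Subgroup.mem_subgroupOf.mp hz) a₀ (c.h.hAS ha₀), mul_inv_cancel_right]
  have hu2 : ∀ y : ↥P, u y * y⁻¹ ∈ Z₀.subgroupOf P := by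
    intro y
    rw [Subgroup.mem_subgroupOf, hZ₀, Subgroup.coe_mul, huapp, Subgroup.coe_inv]
    refine Subgroup.mem_inf.mpr ⟨?_, ?_⟩
    · rw [hZ]; exact ha₀2 y (hPS y.2)
    · exact c.h.mem_comm_iff.mpr (c.h.mem_psiSub.mp (c.h.comm_mem_psiSub (c.h.hAS ha₀) (hPS y.2)))
  have hu3 : ∀ y : ↥P, u y = y → y ∈ Z.subgroupOf P := by
    intro y hy
    rw [Subgroup.mem_subgroupOf]
    by_contra hyZ
    have hyA : (y : Ω) ∉ A := fun hA' => hyZ (hH _ (Subgroup.mem_inf.mpr ⟨y.2, hA'⟩))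
    have h' := c.h.swap (hPS y.2) hyA
    have h1 : psi (y : Ω) a₀ = 1 := by
      have h2 := congrArg Subtype.val hy
      rw [huapp] at h2
      unfold psi
      rw [h2, mul_inv_cancel]
    have h3 := (h'.psi_eq_one_iff ha₀).mp h1
    exact hne (c.psi_center h3)
  have hg1 : ∀ z ∈ Z₀.subgroupOf P, g z ∈ Z.subgroupOf P → z = 1 :=
    fun z hz hgz => key1 g hg hgM z hz hgz
  have hg2 : ∀ z ∈ Z.subgroupOf P, g z ∈ Z₀.subgroupOf P → z = 1 := by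
    intro z hz hgz
    have h1 := key1 g⁻¹ hgi hgiM (g z) hgz (by rw [MulAut.inv_apply_self]; exact hz)
    have h2 : g z = g 1 := by rw [h1, map_one]
    exact g.injective h2
  obtain ⟨ι, hιG, hι1, hι2, hι3⟩ := inv_abstract c.pP hPc (Z.subgroupOf P) (Z₀.subgroupOf P) hidx
    hcard hle (F.autGroup P) u g huG hg hu1 hu2 hu3 hg1 hg2
  have hιZ : ∀ z : ↥P, (z : Ω) ∈ Z → (ι z : Ω) ∈ Z := by
    intro z hz
    obtain ⟨t, ht, htg, z', hz', hzz⟩ := hι3 z hz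
    rw [hzz, map_mul, hι1 t ht htg, hι2 z' hz']
    exact Z.mul_mem (Z.inv_mem (hZ₀Z hz')) ht
  obtain ⟨ρ, hρG, hρ⟩ := restrict_aut (F := F) hPS hZP ι hιG hιZ
  refine ⟨ρ, hρG, ⟨?_, ?_⟩, ?_, ?_⟩
  · intro z hz
    apply Subtype.ext
    rw [hρ, hι2 ⟨z, hZP z.2⟩ hz]
    rfl
  · intro z
    obtain ⟨t, ht, htg, z', hz', hzz⟩ := hι3 ⟨z, hZP z.2⟩ z.2
    have hq : (⟨z, hZP z.2⟩ : ↥P)⁻¹ * ι ⟨z, hZP z.2⟩ = z'⁻¹ * z'⁻¹ := by
      rw [hzz, map_mul, hι1 t ht htg, hι2 z' hz', hPc z' t, mul_inv_rev, hPc z'⁻¹ t]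
      group
    have e : ((z⁻¹ * ρ z : ↥Z) : Ω) = ((z'⁻¹ * z'⁻¹ : ↥P) : Ω) := by
      rw [← hq, Subgroup.coe_mul, hρ]
      rfl
    rw [e]
    exact Z₀.mul_mem (Z₀.inv_mem hz') (Z₀.inv_mem hz')
  · intro z
    constructor
    · intro hfix
      obtain ⟨t, ht, htg, z', hz', hzz⟩ := hι3 ⟨z, hZP z.2⟩ z.2
      have h1 : ι ⟨z, hZP z.2⟩ = ⟨z, hZP z.2⟩ :=
        Subtype.ext ((hρ z).symm.trans (congrArg Subtype.val hfix))
      rw [hzz, map_mul, hι1 t ht htg, hι2 z' hz'] at h1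
      have h3 := mul_right_cancel h1
      have h2 : z' ^ 2 = 1 := by
        rw [pow_two]
        calc z' * z' = z'⁻¹ * z' := by rw [h3]
          _ = 1 := inv_mul_cancel z'
      have h4 := eq_one_of_sq_eq_one c.pP hp2 h2
      rw [hzz, h4, one_mul]
      exact htg
    · intro hgz
      apply Subtype.ext
      rw [hρ, hι1 ⟨z, hZP z.2⟩ z.2 hgz]
  · intro z
    obtain ⟨t, ht, htg, z', hz', hzz⟩ := hι3 ⟨z, hZP z.2⟩ z.2
    refine ⟨⟨t, ht⟩, ?_, ?_⟩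
    · apply Subtype.ext
      rw [hρ]
      exact congrArg Subtype.val (hι1 t ht htg)
    · have e : ((z * (⟨t, ht⟩ : ↥Z)⁻¹ : ↥Z) : Ω) = (z' : Ω) := by
        have h1 := congrArg Subtype.val hzz
        show (z : Ω) * (t : Ω)⁻¹ = z'
        rw [show (z : Ω) = (z' : Ω) * (t : Ω) from h1, mul_inv_cancel_right]
      rw [e]; exact hz'

end UACtx

end Cfsg.Agent.Helper27
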