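import Cfsg.Agent.Helper27.Pair
import Cfsg.Agent.Helper26.NormalSys

/-!
# The centre lies in the commutator subgroup when all essentials are of the two basic types;
essential subgroups in groups with central commutators (helper27)
-/

set_option autoImplicit false

namespace Cfsg.Agent.Helper27

open Cfsg Cfsg.FusionSystem

variable {Ω : Type*} [Group Ω] {S : Subgroup Ω}

/-- if every essential subgroup either is of the form `Z(S)⟨x⟩` over an abelian subgroup of index `p`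
or has all its automorphisms preserving `Z(S)`, and one of the first kind exists, then in a core-free saturated
system (`p` odd) `Z(S) ≤ S'` -/
theorem center_le_comm_of_typeH [Finite S] {p : ℕ} [Fact p.Prime] (hS : IsPGroup p S)
    {F : FusionSystem S} (hF : F.IsSaturated p) (hp : p ≠ 2) (hcore : F.core = ⊥)
    {Z Z₀ : Subgroup Ω} (hZ : Z = S ⊓ Subgroup.centralizer (S : Set Ω))
    (hZ₀ : Z₀ = Z ⊓ (commutator ↥S).map S.subtype)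
    (hall : ∀ P : Subgroup Ω, F.IsEssential p P →
      (∃ (A M : Subgroup Ω) (x : Ω), UACtx p S A P M x ∧ ∀ v ∈ P ⊓ A, v ∈ Z) ∨
      (Z ≤ P ∧ ∀ (α : MulAut ↥P) (z : ↥P), (z : Ω) ∈ Z → (α z : Ω) ∈ Z))
    {P₁ A₁ M₁ : Subgroup Ω} {x₁ : Ω} (hP₁ : F.IsEssential p P₁) (c : UACtx p S A₁ P₁ M₁ x₁)
    (hH₁ : ∀ v ∈ P₁ ⊓ A₁, v ∈ Z) : Z ≤ (commutator ↥S).map S.subtype := by
  have hZS : Z ≤ S := by rw [hZ]; exact inf_le_left
  haveI : Finite Z := finite_of_le hZS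
  have hZc : ∀ z ∈ Z, ∀ s ∈ S, s * z = z * s := fun z hz => (mem_center_iff.mp (hZ ▸ hz)).2
  have hαZ : ∀ β : MulAut ↥S, ∀ z : ↥S, (z : Ω) ∈ Z → (β z : Ω) ∈ Z := by
    intro β z hz
    rw [hZ] at hz ⊢
    exact aut_center_top β z hz
  have hZP₁ : Z ≤ P₁ := fun z hz => c.hcent z (hZ ▸ hz)
  obtain ⟨Mq₁, hMq₁, hty₁⟩ := c.typeH hS hF hp hP₁ hZ hZ₀ hH₁ hZP₁
  obtain ⟨g₁, hg₁, hg₁M⟩ := SetLike.not_le_iff_exists.mp hMq₁
  obtain ⟨ρ₁, hρ₁G, hρ₁inv, hρ₁fix, hρ₁dec⟩ := hty₁ g₁ hg₁ hg₁M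
  have hσ₀ : ∀ τ ∈ F.autGroup Z, ∀ z : ↥Z, (z : Ω) ∈ Z₀ → (τ z : Ω) ∈ Z₀ := by
    intro τ hτ z hz
    obtain ⟨f, hf, hfe⟩ := central_aut_extend hS hF hZS hZc τ hτ
    rw [hZ₀] at hz ⊢
    refine Subgroup.mem_inf.mpr ⟨(τ z).2, ?_⟩
    rw [← hfe]
    exact c.h.mor_comm hf (Subgroup.mem_inf.mp hz).2
  obtain ⟨T, hT⟩ : ∃ T : Subgroup Ω, ∀ t : Ω, t ∈ T ↔ ∃ ht : t ∈ Z, ρ₁ ⟨t, ht⟩ = ⟨t, ht⟩ := by
    refine ⟨{ carrier := {t | ∃ ht : t ∈ Z, ρ₁ ⟨t, ht⟩ = ⟨t, ht⟩}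
              one_mem' := ⟨Z.one_mem, map_one ρ₁⟩
              mul_mem' := ?_
              inv_mem' := ?_ }, fun t => Iff.rfl⟩
    · rintro a b ⟨ha, ha'⟩ ⟨hb, hb'⟩
      refine ⟨Z.mul_mem ha hb, ?_⟩
      have e : (⟨a * b, Z.mul_mem ha hb⟩ : ↥Z) = ⟨a, ha⟩ * ⟨b, hb⟩ := rfl
      rw [e, map_mul, ha', hb']
    · rintro a ⟨ha, ha'⟩
      refine ⟨Z.inv_mem ha, ?_⟩
      have e : (⟨a⁻¹, Z.inv_mem ha⟩ : ↥Z) = (⟨a, ha⟩ : ↥Z)⁻¹ := rfl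
      rw [e, map_inv, ha']
  have hTZ : T ≤ Z := fun t ht => ((hT t).mp ht).1
  have hT_Z : ∀ (P : Subgroup Ω) (hPS : P ≤ S) (hZP : Z ≤ P) (α : MulAut ↥P), α ∈ F.autGroup P →
      (∀ z : ↥P, (z : Ω) ∈ Z → (α z : Ω) ∈ Z) → ∀ t : ↥P, (t : Ω) ∈ T → (α t : Ω) ∈ T := by
    intro P hPS hZP α hα hαZ' t ht
    obtain ⟨σ, hσ, hσe⟩ := restrict_aut (F := F) hPS hZP α hα hαZ'
    obtain ⟨htZ, htfix⟩ := (hT _).mp ht
    have h1 := inv_fix_invariant hS hF hZS hZc hρ₁G hσ hρ₁inv hσ₀ htfix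
    have h2 : ((σ ⟨t, htZ⟩ : ↥Z) : Ω) = (α t : Ω) := hσe ⟨t, htZ⟩
    rw [← h2, hT]
    exact ⟨(σ ⟨t, htZ⟩).2, h1⟩
  have hTn : F.IsNormal T := by
    apply Cfsg.Agent.Helper26.normal_of_invariant p hS F hF T
    intro P hP
    rcases hP with hPS' | hP
    · rw [hPS']
      refine ⟨hTZ.trans hZS, fun α hα => ?_⟩
      rw [Cfsg.Agent.Helper26.map_aut_eq_iff]
      exact ⟨fun t ht => hT_Z S le_rfl hZS α hα (hαZ α) t ht,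
        fun t ht => hT_Z S le_rfl hZS α⁻¹ ((F.autGroup S).inv_mem hα) (hαZ α⁻¹) t ht⟩
    · have hPS : P ≤ S := hP.2.1.1
      have hboth : Z ≤ P ∧ ∀ α ∈ F.autGroup P, ∀ t : ↥P, (t : Ω) ∈ T → (α t : Ω) ∈ T := by
        rcases hall P hP with ⟨A', M', x', c', hH⟩ | ⟨hZP, hαZ'⟩
        · have hZP : Z ≤ P := fun z hz => c'.hcent z (hZ ▸ hz)
          refine ⟨hZP, ?_⟩
          obtain ⟨Mq, hMq, hty⟩ := c'.typeH hS hF hp hP hZ hZ₀ hH hZP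
          obtain ⟨g₀, hg₀, hg₀M⟩ := SetLike.not_le_iff_exists.mp hMq
          have star : ∀ g ∈ F.autGroup P, g ∉ Mq → ∀ t : ↥P, (t : Ω) ∈ Z →
              ((t : Ω) ∈ T ↔ ((g⁻¹ t : ↥P) : Ω) ∈ Z) := by
            intro g hg hgM t htZ
            obtain ⟨ρ, hρG, hρinv, hρfix, -⟩ := hty g hg hgM
            have hρeq : ρ = ρ₁ := inv_unique hS hF hZS hZc hρG hρ₁G hρinv hρ₁inv
            rw [hT]
            have h1 := hρfix ⟨t, htZ⟩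
            rw [hρeq] at h1
            constructor
            · rintro ⟨ht', hfix⟩
              exact h1.mp hfix
            · intro h2
              exact ⟨htZ, h1.mpr h2⟩
          have hC : ∀ g ∈ F.autGroup P, g ∉ Mq → ∀ t : ↥P, (t : Ω) ∈ T → (g t : Ω) ∈ T := by
            intro g hg hgM t ht
            have hgi : g⁻¹ ∈ F.autGroup P := (F.autGroup P).inv_mem hg
            have hgiM : g⁻¹ ∉ Mq := fun h => hgM (by simpa using Mq.inv_mem h)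
            have h1 := (star g⁻¹ hgi hgiM t (hTZ ht)).mp ht
            rw [inv_inv] at h1
            refine (star g hg hgM (g t) h1).mpr ?_
            rw [MulAut.inv_apply_self]
            exact hTZ ht
          intro α hα
          exact compl_gen (G := F.autGroup P) (Mq := Mq) hg₀ hg₀M
            (fun g => ∀ t : ↥P, (t : Ω) ∈ T → (g t : Ω) ∈ T)
            (fun a b ha hb t ht => by rw [MulAut.mul_apply]; exact ha _ (hb t ht)) hC α hα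
        · exact ⟨hZP, fun α hα t ht => hT_Z P hPS hZP α hα (hαZ' α) t ht⟩
      obtain ⟨hZP, hall'⟩ := hboth
      refine ⟨hTZ.trans hZP, fun α hα => ?_⟩
      rw [Cfsg.Agent.Helper26.map_aut_eq_iff]
      exact ⟨fun t ht => hall' α hα t ht,
        fun t ht => hall' α⁻¹ ((F.autGroup P).inv_mem hα) t ht⟩
  have hTbot : T ≤ ⊥ := by rw [← hcore]; exact le_sSup hTn
  intro z hz
  obtain ⟨t, htfix, hzt⟩ := hρ₁dec ⟨z, hz⟩
  have htT : (t : Ω) ∈ T := (hT _).mpr ⟨t.2, htfix⟩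
  have ht1 : (t : Ω) = 1 := Subgroup.mem_bot.mp (hTbot htT)
  have e : (((⟨z, hz⟩ : ↥Z) * t⁻¹ : ↥Z) : Ω) = z := by
    show z * (t : Ω)⁻¹ = z
    rw [ht1, inv_one, mul_one]
  rw [e, hZ₀] at hzt
  exact (Subgroup.mem_inf.mp hzt).2

/-- an essential subgroup `E ≤ K` (commutators of `K` in the central cyclic subgroup `Z₀ ≤ E`) has an automorphism
`g` such that no element of `K ∖ E` centralizes `g(z₀)` -/
theorem ess_central_comm [Finite S] {p : ℕ} [Fact p.Prime] (hS : IsPGroup p S) {F : FusionSystem S}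
    (hF : F.IsSaturated p) {E K Z₀ : Subgroup Ω} (hE : F.IsEssential p E) (hKS : K ≤ S)
    (hEK : E ≤ K)
    (hcomm : ∀ a ∈ K, ∀ b ∈ K, a * b * a⁻¹ * b⁻¹ ∈ Z₀) (hcen : ∀ z ∈ Z₀, ∀ s ∈ K, s * z = z * s)
    (hZ₀E : Z₀ ≤ E) {z₀ : Ω} (hz₀ : z₀ ∈ Z₀) (hgen : ∀ z ∈ Z₀, ∃ i : ℕ, z = z₀ ^ i)
    (C1 : ∀ g : MulAut ↥E, ∃ s ∈ K, s ∉ E ∧
      s * (g ⟨z₀, hZ₀E hz₀⟩ : Ω) = (g ⟨z₀, hZ₀E hz₀⟩ : Ω) * s) : False := by
  have hES : E ≤ S := hE.2.1.1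
  haveI : Finite E := finite_of_le hES
  have hQN : ∀ s ∈ K, s ∈ Subgroup.normalizer (E : Set Ω) := by
    intro s hs
    apply mem_normalizer_of_forall
    intro y hy
    have h1 := hZ₀E (hcomm s hs y (hEK hy))
    have e : s * y * s⁻¹ = (s * y * s⁻¹ * y⁻¹) * y := by group
    rw [e]; exact E.mul_mem h1 hy
  obtain ⟨ζ, hζ⟩ : ∃ ζ : ↥E, ζ = ⟨z₀, hZ₀E hz₀⟩ := ⟨_, rfl⟩
  have hζv : (ζ : Ω) = z₀ := by rw [hζ]
  rw [← hζ] at C1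
  have hfix : ∀ (t : Ω) (ht : t ∈ K) (y : ↥E), t * (y : Ω) = (y : Ω) * t →
      conjAut E t (hQN t ht) y = y := by
    intro t ht y h
    apply Subtype.ext
    show t * (y : Ω) * t⁻¹ = y
    rw [h, mul_inv_cancel_right]
  have hpow : ∀ (t : Ω) (ht : t ∈ K) (y : ↥E), ∃ i : ℕ, y⁻¹ * conjAut E t (hQN t ht) y = ζ ^ i := by
    intro t ht y
    have h1 : (y : Ω)⁻¹ * t * ((y : Ω)⁻¹)⁻¹ * t⁻¹ ∈ Z₀ := hcomm _ (K.inv_mem (hEK y.2)) t ht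
    obtain ⟨i, hi⟩ := hgen _ h1
    refine ⟨i, Subtype.ext ?_⟩
    show (y : Ω)⁻¹ * (t * (y : Ω) * t⁻¹) = (ζ : Ω) ^ i
    rw [hζv, ← hi, inv_inv]
    group
  have hζs : ∀ (t : Ω) (ht : t ∈ K), conjAut E t (hQN t ht) ζ = ζ :=
    fun t ht => hfix t ht ζ (by rw [hζv]; exact hcen z₀ hz₀ t ht)
  obtain ⟨Mq, hMq, hpair⟩ := ess_pair hS hF hE
  apply hMq
  intro g hg
  obtain ⟨s, hsQ, hsE, hsw⟩ := C1 g
  obtain ⟨s', hs'Q, hs'E, hs'w⟩ := C1 g⁻¹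
  obtain ⟨u, hu⟩ : ∃ u : MulAut ↥E, u = conjAut E s (hQN s hsQ) := ⟨_, rfl⟩
  obtain ⟨u₂, hu₂⟩ : ∃ u₂ : MulAut ↥E, u₂ = conjAut E s' (hQN s' hs'Q) := ⟨_, rfl⟩
  have huζ : u ζ = ζ := by rw [hu]; exact hζs s hsQ
  have hu₂ζ : u₂ ζ = ζ := by rw [hu₂]; exact hζs s' hs'Q
  have hugζ : u (g ζ) = g ζ := by rw [hu]; exact hfix s hsQ (g ζ) hsw
  have hu₂gζ : u₂ (g⁻¹ ζ) = g⁻¹ ζ := by rw [hu₂]; exact hfix s' hs'Q (g⁻¹ ζ) hs'w
  have hupow : ∀ y : ↥E, ∃ i : ℕ, y⁻¹ * u y = ζ ^ i := by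
    intro y; rw [hu]; exact hpow s hsQ y
  have hu₂pow : ∀ y : ↥E, ∃ i : ℕ, y⁻¹ * u₂ y = ζ ^ i := by
    intro y; rw [hu₂]; exact hpow s' hs'Q y
  have hu'ζ : (g * u₂ * g⁻¹) ζ = ζ := by
    rw [MulAut.mul_apply, MulAut.mul_apply, hu₂gζ, MulAut.apply_inv_self]
  have hu'gζ : (g * u₂ * g⁻¹) (g ζ) = g ζ := by
    rw [MulAut.mul_apply, MulAut.mul_apply, MulAut.inv_apply_self, hu₂ζ]
  have hu'pow : ∀ y : ↥E, ∃ j : ℕ, y⁻¹ * (g * u₂ * g⁻¹) y = (g ζ) ^ j := by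
    intro y
    obtain ⟨j, hj⟩ := hu₂pow (g⁻¹ y)
    refine ⟨j, ?_⟩
    have e : y⁻¹ * (g * u₂ * g⁻¹) y = g ((g⁻¹ y)⁻¹ * u₂ (g⁻¹ y)) := by
      rw [MulAut.mul_apply, MulAut.mul_apply, map_mul, map_inv, MulAut.apply_inv_self]
    rw [e, hj, map_pow]
  obtain ⟨K', hK, hKu, hKu'⟩ := two_fix_pgroup (hS.to_le hES) u (g * u₂ * g⁻¹)
    (fun y => by obtain ⟨i, hi⟩ := hupow y; rw [hi, map_pow, huζ])
    (fun y => by obtain ⟨i, hi⟩ := hupow y; rw [hi, map_pow, hu'ζ])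
    (fun y => by obtain ⟨j, hj⟩ := hu'pow y; rw [hj, map_pow, hugζ])
    (fun y => by obtain ⟨j, hj⟩ := hu'pow y; rw [hj, map_pow, hu'gζ])
  exact hpair g hg s (hKS hsQ) (hQN s hsQ) hsE s' (hKS hs'Q) (hQN s' hs'Q) hs'E K' hK
    (by rw [← hu]; exact hKu) (by rw [← hu₂]; exact hKu')

/-- commutators are unchanged by central factors -/
theorem comm_central_cancel {c d q q' : Ω}
    (h1 : (q * (d * q') * q⁻¹) * c = c * (q * (d * q') * q⁻¹))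
    (h2 : q * d = d * q) (h3 : (q * q' * q⁻¹ * q'⁻¹) * d = d * (q * q' * q⁻¹ * q'⁻¹)) :
    c * q * (d * q') * (c * q)⁻¹ * (d * q')⁻¹ = q * q' * q⁻¹ * q'⁻¹ := by
  have s1 : c * q * (d * q') * (c * q)⁻¹ * (d * q')⁻¹ = q * (d * q') * q⁻¹ * (d * q')⁻¹ := by
    have e : c * q * (d * q') * (c * q)⁻¹ * (d * q')⁻¹ =
        c * (q * (d * q') * q⁻¹) * c⁻¹ * (d * q')⁻¹ := by group
    rw [e, ← h1]; group
  have s2 : q * (d * q') * q⁻¹ * (d * q')⁻¹ = q * q' * q⁻¹ * q'⁻¹ := by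
    have e : q * (d * q') * q⁻¹ * (d * q')⁻¹ = (q * d) * q' * q⁻¹ * q'⁻¹ * d⁻¹ := by group
    rw [e, h2]
    have e' : d * q * q' * q⁻¹ * q'⁻¹ * d⁻¹ = d * (q * q' * q⁻¹ * q'⁻¹) * d⁻¹ := by group
    rw [e', ← h3]; group
  rw [s1, s2]

end Cfsg.Agent.Helper27
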